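import Mathlib
import Cfsg.Prelude.Def_Transfer

set_option autoImplicit false

/-!
# Elementary abelian subgroups of largest order and the Thompson subgroup

Basic facts on `Cfsg.IsElementaryAbelian`, `Cfsg.maxElementaryAbelianSubgroups`,
`Cfsg.thompsonSubgroup` and `Cfsg.thompsonSubgroupOf`.
-/

namespace Cfsg.Agent.Lib.Helper17

open Subgroup

universe u

section EA

variable {G : Type u} [Group G] {p : ℕ}

/-- A subgroup is commutative as soon as it is contained in its own centralizer. -/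
theorem ea_iff {A : Subgroup G} :
    Cfsg.IsElementaryAbelian p A ↔ A ≤ centralizer (A : Set G) ∧ ∀ a ∈ A, a ^ p = 1 := by
  unfold Cfsg.IsElementaryAbelian
  rw [le_centralizer_iff_isMulCommutative]

theorem ea_comm {A : Subgroup G} (hA : Cfsg.IsElementaryAbelian p A) {a b : G}
    (ha : a ∈ A) (hb : b ∈ A) : a * b = b * a :=
  ((ea_iff.mp hA).1 hb a ha)

theorem ea_bot : Cfsg.IsElementaryAbelian p (⊥ : Subgroup G) := by
  rw [ea_iff]
  refine ⟨bot_le, ?_⟩
  intro a ha
  rw [Subgroup.mem_bot.mp ha, one_pow]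

theorem ea_mono {A B : Subgroup G} (hB : Cfsg.IsElementaryAbelian p B) (h : A ≤ B) :
    Cfsg.IsElementaryAbelian p A := by
  rw [ea_iff] at hB ⊢
  refine ⟨fun a ha b hb => hB.1 (h ha) b (h hb), fun a ha => hB.2 a (h ha)⟩

theorem ea_map {H : Type*} [Group H] (f : G →* H) {A : Subgroup G}
    (hA : Cfsg.IsElementaryAbelian p A) : Cfsg.IsElementaryAbelian p (A.map f) := by
  haveI : IsMulCommutative A := hA.1
  refine ⟨Subgroup.map_isMulCommutative A f, ?_⟩
  intro a ha
  obtain ⟨b, hb, rfl⟩ := Subgroup.mem_map.mp ha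
  rw [← map_pow, hA.2 b hb, map_one]

theorem ea_comap_of_injective {H : Type*} [Group H] (f : H →* G) (hf : Function.Injective f)
    {A : Subgroup G} (hA : Cfsg.IsElementaryAbelian p A) :
    Cfsg.IsElementaryAbelian p (A.comap f) := by
  rw [ea_iff]
  refine ⟨?_, ?_⟩
  · intro a ha b hb
    apply hf
    rw [map_mul, map_mul]
    exact ea_comm hA (Subgroup.mem_comap.mp hb) (Subgroup.mem_comap.mp ha)
  · intro a ha
    apply hf
    rw [map_pow, map_one]
    exact hA.2 _ (Subgroup.mem_comap.mp ha)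

theorem ea_subgroupOf (U : Subgroup G) {A : Subgroup G} (hA : Cfsg.IsElementaryAbelian p A) :
    Cfsg.IsElementaryAbelian p (A.subgroupOf U) :=
  ea_comap_of_injective U.subtype U.subtype_injective hA

theorem ea_zpowers {x : G} (hx : x ^ p = 1) : Cfsg.IsElementaryAbelian p (zpowers x) := by
  refine ⟨inferInstance, ?_⟩
  intro a ha
  obtain ⟨k, rfl⟩ := Subgroup.mem_zpowers_iff.mp ha
  rw [← zpow_natCast, ← zpow_mul, mul_comm, zpow_mul, zpow_natCast, hx, one_zpow]

/-- The join of two elementary abelian subgroups that centralize each other is elementary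
abelian. -/
theorem ea_sup {A B : Subgroup G} (hA : Cfsg.IsElementaryAbelian p A)
    (hB : Cfsg.IsElementaryAbelian p B) (hAB : A ≤ centralizer (B : Set G)) :
    Cfsg.IsElementaryAbelian p (A ⊔ B) := by
  rw [ea_iff] at hA hB ⊢
  have hBA : B ≤ centralizer (A : Set G) := le_centralizer_iff.mp hAB
  have hcomm : A ⊔ B ≤ centralizer ((A ⊔ B : Subgroup G) : Set G) := by
    apply sup_le
    · rw [le_centralizer_iff]
      exact sup_le hA.1 hBA
    · rw [le_centralizer_iff]
      exact sup_le hAB hB.1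
  refine ⟨hcomm, ?_⟩
  intro a ha
  rw [sup_eq_closure] at ha
  induction ha using Subgroup.closure_induction with
  | mem x hx =>
    rcases hx with hx | hx
    · exact hA.2 x hx
    · exact hB.2 x hx
  | one => exact one_pow p
  | mul x y hx hy hxp hyp =>
    rw [← sup_eq_closure] at hx hy
    have hc : Commute x y := (hcomm hy x hx)
    rw [hc.mul_pow, hxp, hyp, one_mul]
  | inv x _ hxp => rw [inv_pow, hxp, inv_one]

theorem ea_isPGroup [Fact p.Prime] {A : Subgroup G} (hA : Cfsg.IsElementaryAbelian p A) :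
    IsPGroup p A := by
  rintro ⟨a, ha⟩
  refine ⟨1, ?_⟩
  apply Subtype.ext
  rw [pow_one]
  exact hA.2 a ha

end EA

section Max

variable {G : Type u} [Group G] {p : ℕ}

theorem mem_maxEA_iff {A : Subgroup G} :
    A ∈ Cfsg.maxElementaryAbelianSubgroups p G ↔
      Cfsg.IsElementaryAbelian p A ∧
        ∀ B : Subgroup G, Cfsg.IsElementaryAbelian p B → Nat.card B ≤ Nat.card A :=
  Iff.rfl

/-- In a finite group there is an elementary abelian subgroup of largest order. -/
theorem exists_mem_maxEA [Finite G] (p : ℕ) :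
    ∃ A : Subgroup G, A ∈ Cfsg.maxElementaryAbelianSubgroups p G := by
  classical
  haveI : Nonempty {A : Subgroup G // Cfsg.IsElementaryAbelian p A} := ⟨⟨⊥, ea_bot⟩⟩
  obtain ⟨⟨A, hA⟩, hAmax⟩ := Finite.exists_max
    (fun A : {A : Subgroup G // Cfsg.IsElementaryAbelian p A} => Nat.card (A : Subgroup G))
  exact ⟨A, hA, fun B hB => hAmax ⟨B, hB⟩⟩

theorem le_thompsonSubgroup {A : Subgroup G} (hA : A ∈ Cfsg.maxElementaryAbelianSubgroups p G) :
    A ≤ Cfsg.thompsonSubgroup p G :=
  le_sSup hA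

theorem thompsonSubgroup_le {K : Subgroup G}
    (h : ∀ A ∈ Cfsg.maxElementaryAbelianSubgroups p G, A ≤ K) :
    Cfsg.thompsonSubgroup p G ≤ K :=
  sSup_le h

/-- Automorphisms permute the elementary abelian subgroups of largest order. -/
theorem map_mem_maxEA (φ : G ≃* G) {A : Subgroup G}
    (hA : A ∈ Cfsg.maxElementaryAbelianSubgroups p G) :
    A.map φ.toMonoidHom ∈ Cfsg.maxElementaryAbelianSubgroups p G := by
  refine ⟨ea_map _ hA.1, ?_⟩
  intro B hB
  rw [Subgroup.card_map_of_injective φ.injective]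
  exact hA.2 B hB

/-- An elementary abelian subgroup of `G` of largest order that lies in `U` is of largest order
in `U`. -/
theorem subgroupOf_mem_maxEA (U : Subgroup G) {A : Subgroup G}
    (hA : A ∈ Cfsg.maxElementaryAbelianSubgroups p G) (hAU : A ≤ U) :
    A.subgroupOf U ∈ Cfsg.maxElementaryAbelianSubgroups p U := by
  refine ⟨ea_subgroupOf U hA.1, ?_⟩
  intro B hB
  have h1 : Nat.card (A.subgroupOf U) = Nat.card A :=
    Nat.card_congr (Subgroup.subgroupOfEquivOfLe hAU).toEquiv
  have h2 : Nat.card (B.map U.subtype) = Nat.card B :=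
    Subgroup.card_map_of_injective U.subtype_injective
  rw [h1, ← h2]
  exact hA.2 _ (ea_map _ hB)

/-- If `U` contains an elementary abelian subgroup of `G` of largest order, then the elementary
abelian subgroups of `U` of largest order are of largest order in `G`. -/
theorem map_subtype_mem_maxEA (U : Subgroup G) {A₀ : Subgroup G}
    (hA₀ : A₀ ∈ Cfsg.maxElementaryAbelianSubgroups p G) (hA₀U : A₀ ≤ U)
    {B : Subgroup U} (hB : B ∈ Cfsg.maxElementaryAbelianSubgroups p U) :
    B.map U.subtype ∈ Cfsg.maxElementaryAbelianSubgroups p G := by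
  refine ⟨ea_map _ hB.1, ?_⟩
  intro C hC
  have h1 : Nat.card (A₀.subgroupOf U) = Nat.card A₀ :=
    Nat.card_congr (Subgroup.subgroupOfEquivOfLe hA₀U).toEquiv
  have h2 : Nat.card (B.map U.subtype) = Nat.card B :=
    Subgroup.card_map_of_injective U.subtype_injective
  rw [h2]
  calc Nat.card C ≤ Nat.card A₀ := hA₀.2 C hC
    _ = Nat.card (A₀.subgroupOf U) := h1.symm
    _ ≤ Nat.card B := hB.2 _ (ea_subgroupOf U hA₀.1)

/-- If `U` contains an elementary abelian subgroup of `G` of largest order, then `J(U) ≤ J(G)`. -/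
theorem thompsonSubgroupOf_le (U : Subgroup G) {A₀ : Subgroup G}
    (hA₀ : A₀ ∈ Cfsg.maxElementaryAbelianSubgroups p G) (hA₀U : A₀ ≤ U) :
    Cfsg.thompsonSubgroupOf p U ≤ Cfsg.thompsonSubgroup p G := by
  unfold Cfsg.thompsonSubgroupOf
  rw [Subgroup.map_le_iff_le_comap]
  apply thompsonSubgroup_le
  intro B hB
  rw [← Subgroup.map_le_iff_le_comap]
  exact le_thompsonSubgroup (map_subtype_mem_maxEA U hA₀ hA₀U hB)

/-- An elementary abelian subgroup of `G` of largest order lying in `U` is contained in `J(U)`. -/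
theorem le_thompsonSubgroupOf (U : Subgroup G) {A : Subgroup G}
    (hA : A ∈ Cfsg.maxElementaryAbelianSubgroups p G) (hAU : A ≤ U) :
    A ≤ Cfsg.thompsonSubgroupOf p U := by
  unfold Cfsg.thompsonSubgroupOf
  have h1 : (A.subgroupOf U).map U.subtype = A := by
    rw [Subgroup.subgroupOf_map_subtype, inf_eq_left.mpr hAU]
  rw [← h1]
  exact Subgroup.map_mono (le_thompsonSubgroup (subgroupOf_mem_maxEA U hA hAU))

end Max

section SylowMax

variable {G : Type u} [Group G] [Finite G] {p : ℕ} [Fact p.Prime]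

open scoped Pointwise in
/-- Every Sylow `p`-subgroup contains an elementary abelian subgroup of largest order. -/
theorem exists_mem_maxEA_le_sylow (S : Sylow p G) :
    ∃ A : Subgroup G, A ∈ Cfsg.maxElementaryAbelianSubgroups p G ∧ A ≤ (S : Subgroup G) := by
  obtain ⟨A₀, hA₀⟩ := exists_mem_maxEA (G := G) p
  obtain ⟨Q, hQ⟩ := (ea_isPGroup hA₀.1).exists_le_sylow
  obtain ⟨g, hg⟩ := MulAction.exists_smul_eq G S Q
  refine ⟨A₀.map (MulAut.conj g⁻¹).toMonoidHom, map_mem_maxEA _ hA₀, ?_⟩
  intro x hx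
  obtain ⟨a, ha, rfl⟩ := Subgroup.mem_map.mp hx
  have h1 : a ∈ ((g • S : Sylow p G) : Subgroup G) := by rw [hg]; exact hQ ha
  rw [Sylow.coe_subgroup_smul, Subgroup.mem_pointwise_smul_iff_inv_smul_mem] at h1
  have h2 : (MulAut.conj g)⁻¹ • a = (MulAut.conj g⁻¹).toMonoidHom a := by
    rw [← map_inv, MulAut.smul_def]
    rfl
  rwa [h2] at h1

end SylowMax

section ProductInequality

variable {G : Type u} [Group G] [Finite G]

/-- Product inequality `|H| |K| ≤ |H ⊓ K| |H ⊔ K|`. -/
theorem card_mul_card_le_inf_sup (H K : Subgroup G) :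
    Nat.card H * Nat.card K ≤ Nat.card (H ⊓ K : Subgroup G) * Nat.card (H ⊔ K : Subgroup G) := by
  have h1 : Nat.card (K.subgroupOf H) * (K.subgroupOf H).index = Nat.card H :=
    Subgroup.card_mul_index (K.subgroupOf H)
  have h2 : Nat.card (K.subgroupOf H) = Nat.card (H ⊓ K : Subgroup G) := by
    rw [← Subgroup.inf_subgroupOf_left K H]
    exact Nat.card_congr (Subgroup.subgroupOfEquivOfLe (inf_le_left : H ⊓ K ≤ H)).toEquiv
  have h3 : Nat.card (K.subgroupOf (H ⊔ K)) * (K.subgroupOf (H ⊔ K)).index =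
      Nat.card (H ⊔ K : Subgroup G) := Subgroup.card_mul_index (K.subgroupOf (H ⊔ K))
  have h4 : Nat.card (K.subgroupOf (H ⊔ K)) = Nat.card K :=
    Nat.card_congr (Subgroup.subgroupOfEquivOfLe (le_sup_right : K ≤ H ⊔ K)).toEquiv
  have h5 : K.relIndex H ≤ K.relIndex (H ⊔ K) :=
    Subgroup.relIndex_le_of_le_right le_sup_left Subgroup.index_ne_zero_of_finite
  have h5' : (K.subgroupOf H).index ≤ (K.subgroupOf (H ⊔ K)).index := h5
  calc Nat.card H * Nat.card K
      = Nat.card (H ⊓ K : Subgroup G) * (K.subgroupOf H).index * Nat.card K := by rw [← h2, h1]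
    _ ≤ Nat.card (H ⊓ K : Subgroup G) * (K.subgroupOf (H ⊔ K)).index * Nat.card K :=
        Nat.mul_le_mul_right _ (Nat.mul_le_mul_left _ h5')
    _ = Nat.card (H ⊓ K : Subgroup G) * Nat.card (H ⊔ K : Subgroup G) := by
        rw [← h3, h4]; ring

end ProductInequality

end Cfsg.Agent.Lib.Helper17
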