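import Mathlib
import Cfsg.Prelude.Def_PLocal
import Cfsg.Prelude.Def_LocalEven

set_option autoImplicit false

namespace Cfsg.Agent.Lib.Helper17

open Cfsg Matrix

section lastrow

variable (R : Type*) [CommRing R]

/-- The subgroup of `SL₃(R)` of matrices with last row `(0, 0, 1)`. -/
def lastRowSubgroup : Subgroup (Matrix.SpecialLinearGroup (Fin 3) R) where
  carrier := {M | (M : Matrix (Fin 3) (Fin 3) R) 2 0 = 0 ∧
    (M : Matrix (Fin 3) (Fin 3) R) 2 1 = 0 ∧ (M : Matrix (Fin 3) (Fin 3) R) 2 2 = 1}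
  one_mem' := by
    refine ⟨?_, ?_, ?_⟩ <;> simp
  mul_mem' := by
    rintro M N ⟨h0, h1, h2⟩ ⟨k0, k1, k2⟩
    refine ⟨?_, ?_, ?_⟩ <;>
      simp [Matrix.SpecialLinearGroup.coe_mul, Matrix.mul_apply, Fin.sum_univ_three, h0, h1, h2, k0,
        k1, k2]
  inv_mem' := by
    rintro M ⟨h0, h1, h2⟩
    have hdet := M.2
    rw [Matrix.det_fin_three] at hdet
    rw [h0, h1, h2] at hdet
    refine ⟨?_, ?_, ?_⟩
    · rw [Matrix.SpecialLinearGroup.coe_inv, Matrix.adjugate_fin_three]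
      simp [h0, h1]
    · rw [Matrix.SpecialLinearGroup.coe_inv, Matrix.adjugate_fin_three]
      simp [h0, h1]
    · rw [Matrix.SpecialLinearGroup.coe_inv, Matrix.adjugate_fin_three]
      simp
      linear_combination hdet

theorem mem_lastRowSubgroup {M : Matrix.SpecialLinearGroup (Fin 3) R} :
    M ∈ lastRowSubgroup R ↔ (M : Matrix (Fin 3) (Fin 3) R) 2 0 = 0 ∧
      (M : Matrix (Fin 3) (Fin 3) R) 2 1 = 0 ∧ (M : Matrix (Fin 3) (Fin 3) R) 2 2 = 1 := Iff.rfl

end lastrow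

theorem qd_eq_lastRowSubgroup (p : ℕ) : qd p = lastRowSubgroup (ZMod p) := by
  unfold qd
  exact Subgroup.closure_eq (lastRowSubgroup (ZMod p))

theorem qdOver_eq_lastRowSubgroup (F : Type*) [Field F] : qdOver F = lastRowSubgroup F := by
  unfold qdOver
  exact Subgroup.closure_eq (lastRowSubgroup F)

end Cfsg.Agent.Lib.Helper17
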