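import Mathlib

set_option autoImplicit false

/-!
# Sylow conjugacy inside a subgroup, and index computations
-/

namespace Cfsg.Agent.Lib.Helper17

open scoped Pointwise

section

variable {G : Type*} [Group G] [Finite G] {p : ℕ} [Fact p.Prime]

/-- For a Sylow `p`-subgroup `P` of a finite group and a normal subgroup `K`, `p` does not
divide `|K : P ∩ K|`. -/
theorem not_dvd_relIndex_of_sylow_of_normal
    (P : Sylow p G) (K : Subgroup G) [K.Normal] : ¬ p ∣ (P : Subgroup G).relIndex K := by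
  obtain ⟨P₀⟩ : Nonempty (Sylow p ↥K) := inferInstance
  obtain ⟨Q, hQ⟩ := P₀.exists_comap_subtype_eq
  obtain ⟨g, hg⟩ := MulAction.exists_smul_eq G P Q
  have h1 : ¬ p ∣ (P₀ : Subgroup ↥K).index := P₀.not_dvd_index
  rw [← hQ] at h1
  have h2 : (Q : Subgroup G).relIndex K = (P : Subgroup G).relIndex K := by
    rw [← hg, Sylow.coe_subgroup_smul]
    conv_lhs => rw [← Subgroup.Normal.conj_smul_eq_self g K]
    exact Subgroup.relIndex_pointwise_smul _ _ _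
  rw [← h2]
  exact h1

/-- Sylow's theorem inside a subgroup `K`: a `p`-subgroup `B ≤ K` is `K`-conjugate into a
`p`-subgroup `A ≤ K` of index prime to `p` in `K`. -/
theorem exists_conj_le_of_not_dvd_relIndex (K A B : Subgroup G) (hA : IsPGroup p A)
    (hidx : ¬ p ∣ A.relIndex K) (hB : IsPGroup p B) (hBK : B ≤ K) :
    ∃ k ∈ K, ∀ b ∈ B, k * b * k⁻¹ ∈ A := by
  have hA' : IsPGroup p (A.subgroupOf K) := hA.comap_subtype
  have hB' : IsPGroup p (B.subgroupOf K) := hB.comap_subtype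
  have hidx' : ¬ p ∣ (A.subgroupOf K).index := hidx
  obtain ⟨SB, hSB⟩ := hB'.exists_le_sylow
  obtain ⟨k, hk⟩ := MulAction.exists_smul_eq K SB (hA'.toSylow hidx')
  refine ⟨k, k.2, ?_⟩
  intro b hb
  have h1 : (⟨b, hBK hb⟩ : K) ∈ (SB : Subgroup K) := hSB (Subgroup.mem_subgroupOf.mpr hb)
  have h2 : MulAut.conj k • (⟨b, hBK hb⟩ : K) ∈ ((k • SB : Sylow p K) : Subgroup K) := by
    rw [Sylow.coe_subgroup_smul]
    exact Subgroup.smul_mem_pointwise_smul _ _ _ h1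
  rw [hk, IsPGroup.toSylow_coe, Subgroup.mem_subgroupOf] at h2
  exact h2

end

/-- If `N ≤ R₁ = (P ⊓ R₁) N` with `N` normal, then `|R₁ : P ⊓ R₁| = |N : P ⊓ N|`. -/
theorem relIndex_inf_eq_of_le_sup {G : Type*} [Group G] [Finite G] (P N R₁ : Subgroup G)
    [N.Normal] (hN : N ≤ R₁) (hR₁ : R₁ ≤ (P ⊓ R₁) ⊔ N) :
    (P ⊓ R₁).relIndex R₁ = (P ⊓ N).relIndex N := by
  have hPN : P ⊓ N ≤ P ⊓ R₁ := inf_le_inf_left P hN
  have e1 := Subgroup.relIndex_mul_relIndex (P ⊓ N) (P ⊓ R₁) R₁ hPN inf_le_right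
  have e2 := Subgroup.relIndex_mul_relIndex (P ⊓ N) N R₁ inf_le_right hN
  have e3 : (P ⊓ N).relIndex (P ⊓ R₁) = N.relIndex R₁ := by
    have h1 : (P ⊓ R₁) ⊔ N = R₁ := le_antisymm (sup_le inf_le_right hN) hR₁
    have h2 : P ⊓ N = N ⊓ (P ⊓ R₁) := by
      rw [inf_comm N, inf_assoc, inf_eq_right.mpr hN]
    rw [h2, Subgroup.inf_relIndex_right, ← Subgroup.relIndex_sup_right (K := N) (H := P ⊓ R₁), h1]
  rw [e3] at e1
  have hne : N.relIndex R₁ ≠ 0 := Subgroup.index_ne_zero_of_finite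
  have h3 : N.relIndex R₁ * (P ⊓ R₁).relIndex R₁ = N.relIndex R₁ * (P ⊓ N).relIndex N := by
    rw [e1, ← e2, mul_comm]
  exact Nat.eq_of_mul_eq_mul_left (Nat.pos_of_ne_zero hne) h3

end Cfsg.Agent.Lib.Helper17
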