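import Mathlib
import Cfsg.Prelude.Def_Transfer
import Cfsg.Agent.Lib.Helper16.SylowNormal

set_option autoImplicit false

/-!
# Normal Hall subgroups: membership by order, quotients that are `p`-groups
-/

namespace Cfsg.Agent.Lib.Helper17

section

variable {G : Type*} [Group G] [Finite G]

/-- An element whose order is prime to the index of a normal subgroup lies in it. -/
theorem mem_of_coprime_index (K : Subgroup G) [K.Normal] {x : G}
    (h : (orderOf x).Coprime K.index) : x ∈ K := by
  have h1 : orderOf (QuotientGroup.mk' K x) ∣ orderOf x := orderOf_map_dvd _ x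
  have h2 : orderOf (QuotientGroup.mk' K x) ∣ K.index := by
    have := orderOf_dvd_natCard (QuotientGroup.mk' K x)
    exact this
  have h3 : orderOf (QuotientGroup.mk' K x) = 1 :=
    Nat.eq_one_of_dvd_coprimes h h1 h2
  rw [orderOf_eq_one_iff] at h3
  exact (QuotientGroup.eq_one_iff x).mp h3

/-- If all elements of order prime to `p` lie in the normal subgroup `K`, then `G ⧸ K` is a
`p`-group. -/
theorem isPGroup_quotient_of_forall_coprime {p : ℕ} [Fact p.Prime] (K : Subgroup G) [K.Normal]
    (h : ∀ g : G, (orderOf g).Coprime p → g ∈ K) : IsPGroup p (G ⧸ K) := by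
  have hp : p.Prime := Fact.out
  intro y
  obtain ⟨g, rfl⟩ := QuotientGroup.mk_surjective y
  have hpos : 0 < orderOf g := orderOf_pos g
  obtain ⟨k, m, hm, hkm⟩ := Nat.exists_eq_pow_mul_and_not_dvd hpos.ne' p hp.ne_one
  refine ⟨k, ?_⟩
  have hdvd : p ^ k ∣ orderOf g := ⟨m, hkm⟩
  have hord : orderOf (g ^ (p ^ k)) = m := by
    rw [orderOf_pow_of_dvd (pow_ne_zero k hp.ne_zero) hdvd, hkm]
    exact Nat.mul_div_cancel_left m (pow_pos hp.pos k)
  have hcop : (orderOf (g ^ (p ^ k))).Coprime p := by
    rw [hord]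
    exact ((Nat.Prime.coprime_iff_not_dvd hp).mpr hm).symm
  have := h _ hcop
  rw [← QuotientGroup.mk_pow]
  exact (QuotientGroup.eq_one_iff _).mpr this

/-- A normal subgroup of order prime to `p` and `p`-power index is a normal `p`-complement. -/
theorem hasNormalPComplement_of_normal_coprime_ppow_index {p : ℕ} [Fact p.Prime]
    (K : Subgroup G) [hKn : K.Normal] (hK : (Nat.card K).Coprime p) (hidx : ∃ n, K.index = p ^ n) :
    Cfsg.HasNormalPComplement p G := by
  have hp : p.Prime := Fact.out
  obtain ⟨n, hn⟩ := hidx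
  obtain ⟨P⟩ : Nonempty (Sylow p G) := inferInstance
  refine ⟨P, K, hKn, ?_⟩
  have hcard : Nat.card K * p ^ n = Nat.card G := by
    rw [← hn]; exact Subgroup.card_mul_index K
  have hKpos : Nat.card K ≠ 0 := Nat.card_pos.ne'
  have hndvd : ¬ p ∣ Nat.card K := by
    intro h
    have := Nat.Coprime.eq_one_of_dvd hK.symm h
    exact hp.one_lt.ne' this
  have hfac : (Nat.card G).factorization p = n := by
    rw [← hcard, Nat.factorization_mul hKpos (pow_ne_zero n hp.ne_zero)]
    simp [Nat.factorization_eq_zero_of_not_dvd hndvd, hp.factorization_self]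
  have hP : Nat.card P = p ^ n := by
    rw [Sylow.card_eq_multiplicity, hfac]
  apply Subgroup.isComplement'_of_coprime
  · rw [hP]; exact hcard
  · rw [hP]; exact Nat.Coprime.pow_right n hK

/-- If `C` is normal in `N` with `N ⧸ C` a `p`-group, and the part of a Sylow `p`-subgroup of `N`
inside `C` is central in `C`, then `N` has a normal `p`-complement. -/
theorem hasNormalPComplement_of_central_sylow_of_normal {p : ℕ} [Fact p.Prime]
    (S : Sylow p G) (C : Subgroup G) [hCn : C.Normal] (hquot : IsPGroup p (G ⧸ C))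
    (hcent : ∀ q ∈ (S : Subgroup G), q ∈ C → ∀ c ∈ C, q * c = c * q) :
    Cfsg.HasNormalPComplement p G := by
  classical
  have hp : p.Prime := Fact.out
  obtain ⟨Q, hQ⟩ := Cfsg.Agent.Lib.Helper16.exists_sylow_subgroupOf_normal S C
  have hQc : Subgroup.normalizer ((Q : Subgroup C) : Set C) ≤
      Subgroup.centralizer ((Q : Subgroup C) : Set C) := by
    intro c _
    rw [Subgroup.mem_centralizer_iff]
    intro q hq
    have hq' : q ∈ (S : Subgroup G).subgroupOf C := by
      have : q ∈ (Q : Subgroup C) := hq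
      rwa [hQ] at this
    have := hcent (q : G) hq' q.2 (c : G) c.2
    exact Subtype.ext this
  set K₀ : Subgroup C := (MonoidHom.transferSylow Q hQc).ker with hK₀
  have hcompl : Subgroup.IsComplement' K₀ (Q : Subgroup C) :=
    MonoidHom.ker_transferSylow_isComplement' Q hQc
  have hcardC : Nat.card K₀ * Nat.card (Q : Subgroup C) = Nat.card C := hcompl.card_mul
  obtain ⟨a, ha⟩ := IsPGroup.iff_card.mp Q.2
  have hK₀idx : K₀.index = p ^ a := by
    have h1 := Subgroup.card_mul_index K₀
    rw [← hcardC, ha] at h1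
    exact Nat.eq_of_mul_eq_mul_left Nat.card_pos h1
  have hK₀cop : (Nat.card K₀).Coprime p := by
    have h1 := Subgroup.card_mul_index (Q : Subgroup C)
    rw [← hcardC, mul_comm] at h1
    have h2 : (Q : Subgroup C).index = Nat.card K₀ :=
      Nat.eq_of_mul_eq_mul_right Nat.card_pos h1
    have h3 : ¬ p ∣ Nat.card K₀ := by rw [← h2]; exact Q.not_dvd_index
    exact ((Nat.Prime.coprime_iff_not_dvd hp).mpr h3).symm
  set K : Subgroup G := K₀.map C.subtype with hK
  have hKcard : Nat.card K = Nat.card K₀ := Subgroup.card_map_of_injective C.subtype_injective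
  haveI hKn : K.Normal := by
    constructor
    intro k hk n
    obtain ⟨k₀, hk₀, rfl⟩ := Subgroup.mem_map.mp hk
    have hmemC : n * (k₀ : G) * n⁻¹ ∈ C := hCn.conj_mem _ k₀.2 n
    refine Subgroup.mem_map.mpr ⟨⟨n * (k₀ : G) * n⁻¹, hmemC⟩, ?_, rfl⟩
    apply mem_of_coprime_index K₀
    rw [hK₀idx]
    apply Nat.Coprime.pow_right
    have h1 : orderOf (⟨n * (k₀ : G) * n⁻¹, hmemC⟩ : C) = orderOf k₀ := by
      rw [← Subgroup.orderOf_coe, ← Subgroup.orderOf_coe]
      exact (MulAut.conj n).orderOf_eq (k₀ : G)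
    rw [h1]
    have h2 : orderOf k₀ ∣ Nat.card K₀ := by
      have := orderOf_dvd_natCard (⟨k₀, hk₀⟩ : K₀)
      rwa [Subgroup.orderOf_mk] at this
    exact Nat.Coprime.coprime_dvd_left h2 hK₀cop
  apply hasNormalPComplement_of_normal_coprime_ppow_index K (by rw [hKcard]; exact hK₀cop)
  obtain ⟨b, hb⟩ := IsPGroup.iff_card.mp hquot
  have hCidx : C.index = p ^ b := hb
  refine ⟨a + b, ?_⟩
  have h1 := Subgroup.card_mul_index K
  have h2 := Subgroup.card_mul_index C
  rw [hCidx, ← hcardC, ha] at h2
  rw [hKcard, ← h2] at h1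
  have : Nat.card K₀ * K.index = Nat.card K₀ * p ^ (a + b) := by rw [h1, pow_add]; ring
  exact Nat.eq_of_mul_eq_mul_left Nat.card_pos this

end

end Cfsg.Agent.Lib.Helper17
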