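import Mathlib
import Cfsg.Prelude.Def_Transfer
import Cfsg.Agent.Lib.Helper2.PGroupFrattini

set_option autoImplicit false

namespace Cfsg.Agent.Lib.Helper17

open Cfsg

/-- A nonabelian group of order `p³` is extraspecial. -/
theorem isExtraspecial_of_card_cube {P : Type*} [Group P] [Finite P] {p : ℕ} [hp : Fact p.Prime]
    (hcard : Nat.card P = p ^ 3) (hnc : ∃ a b : P, a * b ≠ b * a) : IsExtraspecial p P := by
  have hP : IsPGroup p P := IsPGroup.of_card hcard
  obtain ⟨a, b, hab⟩ := hnc
  haveI : Nontrivial P := ⟨⟨a, b, fun h => hab (by rw [h])⟩⟩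
  have hZne : Subgroup.center P ≠ ⊥ := by
    have := hP.center_nontrivial
    exact (Subgroup.nontrivial_iff_ne_bot _).mp this
  have hZtop : Subgroup.center P ≠ ⊤ := by
    intro h
    have : b ∈ Subgroup.center P := by rw [h]; trivial
    exact hab ((Subgroup.mem_center_iff.mp this) a)
  have hZdvd : Nat.card (Subgroup.center P) ∣ p ^ 3 := by
    rw [← hcard]; exact Subgroup.card_subgroup_dvd_card _
  obtain ⟨k, hk3, hk⟩ := (Nat.dvd_prime_pow hp.out).mp hZdvd
  have hidx : Nat.card (Subgroup.center P) * (Subgroup.center P).index = p ^ 3 := by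
    rw [Subgroup.card_mul_index, hcard]
  have hcyc : ¬ IsCyclic (P ⧸ Subgroup.center P) := by
    intro hc
    exact hab (((QuotientGroup.mk' (Subgroup.center P)).isMulCommutative_of_isCyclic_of_ker_le_center
      (by rw [QuotientGroup.ker_mk'])).is_comm.comm a b)
  have hZcard : Nat.card (Subgroup.center P) = p := by
    have h0 : k ≠ 0 := by
      rintro rfl
      rw [pow_zero, Subgroup.card_eq_one] at hk
      exact hZne hk
    have h3 : k ≠ 3 := by
      rintro rfl
      rw [← hcard, Subgroup.card_eq_iff_eq_top] at hk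
      exact hZtop hk
    have h2 : k ≠ 2 := by
      rintro rfl
      rw [hk] at hidx
      have hi : (Subgroup.center P).index = p := by
        have : p ^ 2 * (Subgroup.center P).index = p ^ 2 * p := by rw [hidx]; ring
        exact Nat.eq_of_mul_eq_mul_left (pow_pos hp.out.pos 2) this
      have hq : Nat.card (P ⧸ Subgroup.center P) = p := by
        rw [← Subgroup.index_eq_card, hi]
      exact hcyc (isCyclic_of_prime_card hq)
    have : k = 1 := by omega
    rw [hk, this, pow_one]
  have hqcard : Nat.card (P ⧸ Subgroup.center P) = p ^ 2 := by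
    rw [← Subgroup.index_eq_card]
    rw [hZcard] at hidx
    have : p * (Subgroup.center P).index = p * p ^ 2 := by rw [hidx]; ring
    exact Nat.eq_of_mul_eq_mul_left hp.out.pos this
  have hcomm : commutator P ≤ Subgroup.center P := by
    rw [← Subgroup.Normal.quotient_commutative_iff_commutator_le]
    exact IsPGroup.isMulCommutative_of_card_eq_prime_sq hqcard
  have hcne : commutator P ≠ ⊥ := by
    intro h
    exact hZtop ((commutator_eq_bot_iff_center_eq_top (G := P)).mp h)
  have hceq : commutator P = Subgroup.center P := by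
    apply Subgroup.eq_of_le_of_card_ge hcomm
    have hd : Nat.card (commutator P) ∣ p := by
      rw [← hZcard]; exact Subgroup.card_dvd_of_le hcomm
    rcases (Nat.dvd_prime hp.out).mp hd with h1 | h1
    · rw [Subgroup.card_eq_one] at h1
      exact absurd h1 hcne
    · rw [hZcard, h1]
  have hpow : ∀ x : P, x ^ p ∈ Subgroup.center P := by
    intro x
    rw [← QuotientGroup.eq_one_iff, QuotientGroup.mk_pow]
    have hd : orderOf (x : P ⧸ Subgroup.center P) ∣ p ^ 2 := by
      rw [← hqcard]; exact orderOf_dvd_natCard _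
    obtain ⟨j, hj2, hj⟩ := (Nat.dvd_prime_pow hp.out).mp hd
    have hj2' : j ≠ 2 := by
      rintro rfl
      exact hcyc (isCyclic_of_orderOf_eq_card _ (by rw [hj, hqcard]))
    have hj1 : j ≤ 1 := by omega
    apply orderOf_dvd_iff_pow_eq_one.mp
    rw [hj]
    calc p ^ j ∣ p ^ 1 := pow_dvd_pow p hj1
      _ = p := pow_one p
  have hfr : frattini P = Subgroup.center P := by
    apply le_antisymm
    · exact Helper2.frattini_le_of_elementary_quotient (Subgroup.center P) hcomm hpow
    · rw [← hceq]
      exact Helper2.commutator_le_frattini_of_isPGroup hP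
  exact ⟨⟨hP, hfr, hceq⟩, hZcard⟩

end Cfsg.Agent.Lib.Helper17
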