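import Cfsg.Agent.Lib.Helper17.QdBasic
import Cfsg.Agent.Lib.Helper17.OrderPCube

set_option autoImplicit false

namespace Cfsg.Agent.Lib.Helper17

open Cfsg Matrix

section unitri

variable (R : Type*) [CommRing R]

/-- the upper unitriangular matrix with entries `a, b, c`. -/
def utMat (a b c : R) : Matrix.SpecialLinearGroup (Fin 3) R :=
  ⟨!![1, a, c; 0, 1, b; 0, 0, 1], by rw [Matrix.det_fin_three]; simp⟩

theorem utMat_mul (a b c a' b' c' : R) :
    utMat R a b c * utMat R a' b' c' = utMat R (a + a') (b + b') (c + c' + a * b') := by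
  apply Subtype.ext
  rw [Matrix.SpecialLinearGroup.coe_mul]
  ext i j
  fin_cases i <;> fin_cases j <;> simp [utMat, Matrix.mul_apply, Fin.sum_univ_three] <;> ring

theorem utMat_zero : utMat R 0 0 0 = 1 := by
  apply Subtype.ext
  ext i j
  fin_cases i <;> fin_cases j <;> simp [utMat]

theorem utMat_inv (a b c : R) : (utMat R a b c)⁻¹ = utMat R (-a) (-b) (a * b - c) := by
  apply inv_eq_of_mul_eq_one_right
  rw [utMat_mul]
  have h1 : a + -a = 0 := by ring
  have h2 : b + -b = 0 := by ring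
  have h3 : c + (a * b - c) + a * -b = 0 := by ring
  rw [h1, h2, h3, utMat_zero]

theorem utMat_entries (a b c : R) :
    ((utMat R a b c : Matrix.SpecialLinearGroup (Fin 3) R) : Matrix (Fin 3) (Fin 3) R) 0 1 = a ∧
    ((utMat R a b c : Matrix.SpecialLinearGroup (Fin 3) R) : Matrix (Fin 3) (Fin 3) R) 1 2 = b ∧
    ((utMat R a b c : Matrix.SpecialLinearGroup (Fin 3) R) : Matrix (Fin 3) (Fin 3) R) 0 2 = c := by
  refine ⟨?_, ?_, ?_⟩ <;> simp [utMat]

theorem utMat_injective :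
    Function.Injective (fun t : R × R × R => utMat R t.1 t.2.1 t.2.2) := by
  rintro ⟨a, b, c⟩ ⟨a', b', c'⟩ h
  have h' : utMat R a b c = utMat R a' b' c' := h
  obtain ⟨e1, e2, e3⟩ := utMat_entries R a b c
  obtain ⟨f1, f2, f3⟩ := utMat_entries R a' b' c'
  rw [h'] at e1 e2 e3
  rw [← e1, ← e2, ← e3, f1, f2, f3]

/-- the group of upper unitriangular matrices in `SL₃(R)`. -/
def utSubgroup : Subgroup (Matrix.SpecialLinearGroup (Fin 3) R) where
  carrier := Set.range (fun t : R × R × R => utMat R t.1 t.2.1 t.2.2)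
  one_mem' := ⟨(0, 0, 0), utMat_zero R⟩
  mul_mem' := by
    rintro _ _ ⟨t, rfl⟩ ⟨s, rfl⟩
    exact ⟨(_, _, _), (utMat_mul R _ _ _ _ _ _).symm⟩
  inv_mem' := by
    rintro _ ⟨t, rfl⟩
    exact ⟨(_, _, _), (utMat_inv R _ _ _).symm⟩

theorem utMat_mem (a b c : R) : utMat R a b c ∈ utSubgroup R := ⟨(a, b, c), rfl⟩

theorem card_utSubgroup [Finite R] : Nat.card (utSubgroup R) = Nat.card R ^ 3 := by
  have h1 : Nat.card (utSubgroup R) =
      Nat.card (Set.range (fun t : R × R × R => utMat R t.1 t.2.1 t.2.2)) := rfl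
  rw [h1, Nat.card_congr (Equiv.ofInjective _ (utMat_injective R)).symm, Nat.card_prod,
    Nat.card_prod]
  ring

theorem utSubgroup_le_lastRow : utSubgroup R ≤ lastRowSubgroup R := by
  rintro _ ⟨t, rfl⟩
  refine ⟨?_, ?_, ?_⟩ <;> simp [utMat]

theorem utMat_not_comm (h : (1 : R) ≠ 0) :
    utMat R 1 0 0 * utMat R 0 1 0 ≠ utMat R 0 1 0 * utMat R 1 0 0 := by
  rw [utMat_mul, utMat_mul]
  intro heq
  have e := (utMat_entries R (1 + 0) (0 + 1) (0 + 0 + 1 * 1)).2.2
  rw [heq, (utMat_entries R (0 + 1) (1 + 0) (0 + 0 + 0 * 0)).2.2] at e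
  apply h
  have : (0 : R) + 0 + 0 * 0 = 0 + 0 + 1 * 1 := e
  simpa using this.symm

theorem utMat_pow_char (p : ℕ) [hp : Fact p.Prime] [CharP R p] (h3 : 3 ≤ p) (a b c : R) :
    (utMat R a b c) ^ p = 1 := by
  apply Subtype.ext
  rw [Matrix.SpecialLinearGroup.coe_pow, Matrix.SpecialLinearGroup.coe_one]
  have hN : (((utMat R a b c : Matrix.SpecialLinearGroup (Fin 3) R) :
      Matrix (Fin 3) (Fin 3) R) - 1) ^ 3 = 0 := by
    ext i j
    fin_cases i <;> fin_cases j <;>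
      simp [utMat, pow_succ, Matrix.mul_apply, Fin.sum_univ_three, Matrix.one_apply]
  have hNp : (((utMat R a b c : Matrix.SpecialLinearGroup (Fin 3) R) :
      Matrix (Fin 3) (Fin 3) R) - 1) ^ p = 0 := pow_eq_zero_of_le h3 hN
  have hdec : ((utMat R a b c : Matrix.SpecialLinearGroup (Fin 3) R) :
      Matrix (Fin 3) (Fin 3) R) =
      (((utMat R a b c : Matrix.SpecialLinearGroup (Fin 3) R) :
      Matrix (Fin 3) (Fin 3) R) - 1) + 1 := by
    rw [sub_add_cancel]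
  rw [hdec, add_pow_char_of_commute p (Commute.one_right _), hNp, one_pow, zero_add]

end unitri

section card

theorem not_dvd_pow_sub_one {p : ℕ} (hp : p.Prime) (k : ℕ) (hk : 1 ≤ k) : ¬ p ∣ p ^ k - 1 := by
  intro h
  have h1 : p ∣ p ^ k := dvd_pow_self p (by omega)
  have h2 : 1 ≤ p ^ k := Nat.one_le_pow _ _ hp.pos
  have h3 : p ∣ p ^ k - (p ^ k - 1) := Nat.dvd_sub h1 h
  have h4 : p ^ k - (p ^ k - 1) = 1 := by omega
  rw [h4] at h3
  exact hp.one_lt.ne' (Nat.dvd_one.mp h3)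

theorem not_pow_four_dvd_card_GL (p : ℕ) [hp : Fact p.Prime] :
    ¬ p ^ 4 ∣ Nat.card (GL (Fin 3) (ZMod p)) := by
  rw [Matrix.card_GL_field, ZMod.card, Fin.prod_univ_three]
  simp only [Fin.val_zero, Fin.val_one, Fin.val_two, pow_zero, pow_one]
  have e1 : p ^ 3 - p = p * (p ^ 2 - 1) := by
    rw [Nat.mul_sub]; ring_nf
  have e2 : p ^ 3 - p ^ 2 = p ^ 2 * (p - 1) := by
    rw [Nat.mul_sub]; ring_nf
  rw [e1, e2]
  intro h
  have e3 : (p ^ 3 - 1) * (p * (p ^ 2 - 1)) * (p ^ 2 * (p - 1)) =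
      p ^ 3 * ((p ^ 3 - 1) * (p ^ 2 - 1) * (p - 1)) := by ring
  rw [e3, pow_succ p 3] at h
  have h2 : p ∣ (p ^ 3 - 1) * (p ^ 2 - 1) * (p - 1) :=
    Nat.dvd_of_mul_dvd_mul_left (pow_pos hp.out.pos 3) h
  rcases (Nat.Prime.dvd_mul hp.out).mp h2 with h3 | h3
  · rcases (Nat.Prime.dvd_mul hp.out).mp h3 with h4 | h4
    · exact not_dvd_pow_sub_one hp.out 3 (by norm_num) h4
    · exact not_dvd_pow_sub_one hp.out 2 (by norm_num) h4
  · have := not_dvd_pow_sub_one hp.out 1 (by norm_num)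
    rw [pow_one] at this
    exact this h3

end card

section main

theorem qd_sylow (p : ℕ) [hp : Fact p.Prime] (hp2 : p ≠ 2) (P : Sylow p ↥(qd p)) :
    IsExtraspecial p ↥P ∧ Nat.card P = p ^ 3 ∧ Monoid.exponent ↥P = p := by
  have hUle : utSubgroup (ZMod p) ≤ qd p := by
    rw [qd_eq_lastRowSubgroup]; exact utSubgroup_le_lastRow _
  have hUcard : Nat.card ((utSubgroup (ZMod p)).subgroupOf (qd p)) = p ^ 3 := by
    rw [Nat.card_congr (Subgroup.subgroupOfEquivOfLe hUle).toEquiv, card_utSubgroup,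
      Nat.card_zmod]
  have hUp : IsPGroup p ((utSubgroup (ZMod p)).subgroupOf (qd p)) := IsPGroup.of_card hUcard
  obtain ⟨Q, hQ⟩ := hUp.exists_le_sylow
  obtain ⟨k, hk⟩ := IsPGroup.iff_card.mp Q.2
  have hk3 : 3 ≤ k := by
    have : p ^ 3 ∣ p ^ k := by
      rw [← hUcard, ← hk]; exact Subgroup.card_dvd_of_le hQ
    exact (Nat.pow_dvd_pow_iff_le_right hp.out.one_lt).mp this
  have hk4 : k < 4 := by
    by_contra hcon
    have h1 : p ^ 4 ∣ p ^ k := pow_dvd_pow p (by omega)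
    have h2 : p ^ k ∣ Nat.card ↥(qd p) := by
      rw [← hk]; exact Subgroup.card_subgroup_dvd_card _
    have h3 : Nat.card ↥(qd p) ∣ Nat.card (Matrix.SpecialLinearGroup (Fin 3) (ZMod p)) :=
      Subgroup.card_subgroup_dvd_card _
    have h4 : Nat.card (Matrix.SpecialLinearGroup (Fin 3) (ZMod p)) ∣
        Nat.card (GL (Fin 3) (ZMod p)) :=
      Subgroup.card_dvd_of_injective Matrix.SpecialLinearGroup.toGL
        Matrix.SpecialLinearGroup.toGL_injective
    exact not_pow_four_dvd_card_GL p (h1.trans (h2.trans (h3.trans h4)))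
  have hk' : k = 3 := by omega
  rw [hk'] at hk
  have hQU : (utSubgroup (ZMod p)).subgroupOf (qd p) = (Q : Subgroup ↥(qd p)) :=
    Subgroup.eq_of_le_of_card_ge hQ (by rw [hk, hUcard])
  -- the isomorphism `P ≃* U`
  have e : ↥(P : Subgroup ↥(qd p)) ≃* ↥(utSubgroup (ZMod p)) :=
    ((Sylow.equiv P Q).trans (MulEquiv.subgroupCongr hQU.symm)).trans
      (Subgroup.subgroupOfEquivOfLe hUle)
  have hPcard : Nat.card ↥(P : Subgroup ↥(qd p)) = p ^ 3 := by
    rw [Nat.card_congr e.toEquiv, card_utSubgroup, Nat.card_zmod]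
  have hne : (1 : ZMod p) ≠ 0 := by
    haveI : Nontrivial (ZMod p) := ZMod.nontrivial_iff.mpr hp.out.one_lt.ne'
    exact one_ne_zero
  have hnc : ∃ a b : ↥(P : Subgroup ↥(qd p)), a * b ≠ b * a := by
    refine ⟨e.symm ⟨_, utMat_mem _ 1 0 0⟩, e.symm ⟨_, utMat_mem _ 0 1 0⟩, ?_⟩
    intro h
    rw [← map_mul, ← map_mul] at h
    have h2 := e.symm.injective h
    exact utMat_not_comm (ZMod p) hne (congrArg Subtype.val h2)
  refine ⟨isExtraspecial_of_card_cube (P := ↥(P : Subgroup ↥(qd p))) hPcard hnc, hPcard, ?_⟩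
  show Monoid.exponent ↥(P : Subgroup ↥(qd p)) = p
  rw [Monoid.exponent_eq_of_mulEquiv e]
  have h3 : 3 ≤ p := by
    have := hp.out.two_le
    omega
  have hdvd : Monoid.exponent ↥(utSubgroup (ZMod p)) ∣ p := by
    apply Monoid.exponent_dvd_of_forall_pow_eq_one
    rintro ⟨_, ⟨t, rfl⟩⟩
    apply Subtype.ext
    rw [Subgroup.coe_pow]
    exact utMat_pow_char (ZMod p) p h3 _ _ _
  rcases (Nat.dvd_prime hp.out).mp hdvd with h1 | h1
  · exfalso
    rw [Monoid.exp_eq_one_iff] at h1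
    have := utMat_not_comm (ZMod p) hne
    apply this
    have h5 := h1.elim (⟨_, utMat_mem _ 1 0 0⟩ : ↥(utSubgroup (ZMod p))) 1
    have h6 := h1.elim (⟨_, utMat_mem _ 0 1 0⟩ : ↥(utSubgroup (ZMod p))) 1
    have h7 : utMat (ZMod p) 1 0 0 = 1 := congrArg Subtype.val h5
    have h8 : utMat (ZMod p) 0 1 0 = 1 := congrArg Subtype.val h6
    rw [h7, h8]
  · exact h1

end main

end Cfsg.Agent.Lib.Helper17
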