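import Cfsg.Agent.Lib.Helper17.QdChar
import Cfsg.Agent.Lib.Helper17.QdSylow

set_option autoImplicit false

namespace Cfsg.Agent.Lib.Helper17

open Cfsg Matrix Cfsg.Agent.Lib.Helper29

theorem le_normalizer_of_forall_conj_mem' {G : Type*} [Group G] {A P : Subgroup G}
    (h : ∀ a ∈ A, ∀ x ∈ P, a * x * a⁻¹ ∈ P) : A ≤ Subgroup.normalizer (P : Set G) := by
  intro a ha
  rw [Subgroup.mem_normalizer_iff]
  intro x
  constructor
  · exact h a ha x
  · intro hx
    have := h a⁻¹ (Subgroup.inv_mem _ ha) _ hx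
    have e : a⁻¹ * (a * x * a⁻¹) * a⁻¹⁻¹ = x := by group
    rwa [e] at this

section concrete

variable (R : Type*) [CommRing R]

/-- the underlying matrix of an element of the last-row subgroup -/
def lmat (M : ↥(lastRowSubgroup R)) : Matrix (Fin 3) (Fin 3) R :=
  ((M : Matrix.SpecialLinearGroup (Fin 3) R) : Matrix (Fin 3) (Fin 3) R)

variable {R}

theorem lmat_mul (M N : ↥(lastRowSubgroup R)) : lmat R (M * N) = lmat R M * lmat R N := rfl

theorem lmat_one : lmat R (1 : ↥(lastRowSubgroup R)) = 1 := rfl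

theorem lmat_20 (M : ↥(lastRowSubgroup R)) : lmat R M 2 0 = 0 := M.2.1

theorem lmat_21 (M : ↥(lastRowSubgroup R)) : lmat R M 2 1 = 0 := M.2.2.1

theorem lmat_22 (M : ↥(lastRowSubgroup R)) : lmat R M 2 2 = 1 := M.2.2.2

theorem lmat_injective : Function.Injective (lmat R) := by
  intro M N h
  apply Subtype.ext
  apply Subtype.ext
  exact h

theorem lmat_ext {M N : ↥(lastRowSubgroup R)}
    (h00 : lmat R M 0 0 = lmat R N 0 0) (h01 : lmat R M 0 1 = lmat R N 0 1)
    (h02 : lmat R M 0 2 = lmat R N 0 2) (h10 : lmat R M 1 0 = lmat R N 1 0)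
    (h11 : lmat R M 1 1 = lmat R N 1 1) (h12 : lmat R M 1 2 = lmat R N 1 2) : M = N := by
  apply lmat_injective
  ext i j
  fin_cases i <;> fin_cases j
  · exact h00
  · exact h01
  · exact h02
  · exact h10
  · exact h11
  · exact h12
  · exact (lmat_20 M).trans (lmat_20 N).symm
  · exact (lmat_21 M).trans (lmat_21 N).symm
  · exact (lmat_22 M).trans (lmat_22 N).symm

variable (R)

/-- unitriangular elements of the last-row subgroup -/
def utL (a b c : R) : ↥(lastRowSubgroup R) :=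
  ⟨utMat R a b c, utSubgroup_le_lastRow R (utMat_mem R a b c)⟩

variable {R}

theorem lmat_utL (a b c : R) : lmat R (utL R a b c) = !![1, a, c; 0, 1, b; 0, 0, 1] := rfl

theorem utL_mul (a b c a' b' c' : R) :
    utL R a b c * utL R a' b' c' = utL R (a + a') (b + b') (c + c' + a * b') := by
  apply Subtype.ext
  exact utMat_mul R a b c a' b' c'

theorem utL_congr {a b c a' b' c' : R} (h1 : a = a') (h2 : b = b') (h3 : c = c') :
    utL R a b c = utL R a' b' c' := by rw [h1, h2, h3]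

theorem utL_zero : utL R 0 0 0 = 1 := by
  apply Subtype.ext
  exact utMat_zero R

theorem eq_utL_of_entries (M : ↥(lastRowSubgroup R)) (h00 : lmat R M 0 0 = 1)
    (h10 : lmat R M 1 0 = 0) (h11 : lmat R M 1 1 = 1) :
    M = utL R (lmat R M 0 1) (lmat R M 1 2) (lmat R M 0 2) := by
  apply lmat_ext <;> simp [lmat_utL, h00, h10, h11]

variable (R)

/-- upper-left block as a monoid hom -/
def blockHom : ↥(lastRowSubgroup R) →* Matrix (Fin 2) (Fin 2) R where
  toFun M := !![lmat R M 0 0, lmat R M 0 1; lmat R M 1 0, lmat R M 1 1]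
  map_one' := by
    ext i j
    fin_cases i <;> fin_cases j <;> simp [lmat_one]
  map_mul' M N := by
    have h0 := lmat_20 N
    have h1 := lmat_21 N
    ext i j
    fin_cases i <;> fin_cases j <;>
      simp [lmat_mul, Matrix.mul_apply, Fin.sum_univ_three, Fin.sum_univ_two, h0, h1]

/-- the translation subgroup -/
def transL : Subgroup ↥(lastRowSubgroup R) := (blockHom R).ker

instance transL_normal : (transL R).Normal := by
  unfold transL; infer_instance

variable {R}

theorem mem_transL {M : ↥(lastRowSubgroup R)} :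
    M ∈ transL R ↔ lmat R M 0 0 = 1 ∧ lmat R M 0 1 = 0 ∧ lmat R M 1 0 = 0 ∧ lmat R M 1 1 = 1 := by
  unfold transL
  rw [MonoidHom.mem_ker]
  constructor
  · intro h
    have e00 := congrFun (congrFun h 0) 0
    have e01 := congrFun (congrFun h 0) 1
    have e10 := congrFun (congrFun h 1) 0
    have e11 := congrFun (congrFun h 1) 1
    simp [blockHom] at e00 e01 e10 e11
    exact ⟨e00, e01, e10, e11⟩
  · rintro ⟨e00, e01, e10, e11⟩
    ext i j
    fin_cases i <;> fin_cases j <;> simp [blockHom, e00, e01, e10, e11]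

variable (R)

/-- the unitriangular subgroup inside the last-row subgroup -/
def utLSub : Subgroup ↥(lastRowSubgroup R) := (utSubgroup R).subgroupOf (lastRowSubgroup R)

variable {R}

theorem utL_mem (a b c : R) : utL R a b c ∈ utLSub R := by
  unfold utLSub
  rw [Subgroup.mem_subgroupOf]
  exact utMat_mem R a b c

theorem mem_utLSub {M : ↥(lastRowSubgroup R)} :
    M ∈ utLSub R ↔ ∃ a b c, M = utL R a b c := by
  constructor
  · intro h
    unfold utLSub at h
    rw [Subgroup.mem_subgroupOf] at h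
    obtain ⟨t, ht⟩ := h
    exact ⟨t.1, t.2.1, t.2.2, Subtype.ext ht.symm⟩
  · rintro ⟨a, b, c, rfl⟩
    exact utL_mem a b c

theorem mem_utLSub_of_entries {M : ↥(lastRowSubgroup R)} (h00 : lmat R M 0 0 = 1)
    (h10 : lmat R M 1 0 = 0) (h11 : lmat R M 1 1 = 1) : M ∈ utLSub R := by
  rw [eq_utL_of_entries M h00 h10 h11]
  exact utL_mem _ _ _

theorem transL_le_utLSub : transL R ≤ utLSub R := by
  intro M hM
  obtain ⟨e00, e01, e10, e11⟩ := mem_transL.mp hM
  exact mem_utLSub_of_entries e00 e10 e11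

theorem utL_mem_transL_iff (a b c : R) : utL R a b c ∈ transL R ↔ a = 0 := by
  rw [mem_transL]
  simp [lmat_utL]

variable (R)

/-- the centre of the unitriangular group -/
def zL : Subgroup ↥(lastRowSubgroup R) where
  carrier := Set.range (fun c : R => utL R 0 0 c)
  one_mem' := ⟨0, utL_zero⟩
  mul_mem' := by
    rintro _ _ ⟨c, rfl⟩ ⟨c', rfl⟩
    refine ⟨c + c', ?_⟩
    show utL R 0 0 (c + c') = utL R 0 0 c * utL R 0 0 c'
    rw [utL_mul]
    exact utL_congr (by ring) (by ring) (by ring)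
  inv_mem' := by
    rintro _ ⟨c, rfl⟩
    refine ⟨-c, ?_⟩
    show utL R 0 0 (-c) = (utL R 0 0 c)⁻¹
    symm
    apply inv_eq_of_mul_eq_one_right
    rw [utL_mul, ← utL_zero]
    exact utL_congr (by ring) (by ring) (by ring)

variable {R}

theorem zL_le_transL : zL R ≤ transL R := by
  rintro _ ⟨c, rfl⟩
  exact (utL_mem_transL_iff 0 0 c).mpr rfl

theorem utL_injective : Function.Injective (fun t : R × R × R => utL R t.1 t.2.1 t.2.2) := by
  intro t s h
  apply utMat_injective R
  exact congrArg Subtype.val h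

theorem zL_comm (z : ↥(lastRowSubgroup R)) (hz : z ∈ zL R) (s : ↥(lastRowSubgroup R))
    (hs : s ∈ utLSub R) : z * s = s * z := by
  obtain ⟨c, rfl⟩ := hz
  obtain ⟨a, b, c', rfl⟩ := mem_utLSub.mp hs
  show utL R 0 0 c * utL R a b c' = utL R a b c' * utL R 0 0 c
  rw [utL_mul, utL_mul]
  exact utL_congr (by ring) (by ring) (by ring)

theorem utLSub_le : utSubgroup R ≤ lastRowSubgroup R := utSubgroup_le_lastRow R

theorem card_utLSub [Finite R] : Nat.card (utLSub R) = Nat.card R ^ 3 := by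
  unfold utLSub
  rw [Nat.card_congr (Subgroup.subgroupOfEquivOfLe (utSubgroup_le_lastRow R)).toEquiv,
    card_utSubgroup]

theorem card_zL [Finite R] : Nat.card (zL R) = Nat.card R := by
  have h1 : Nat.card (zL R) = Nat.card (Set.range (fun c : R => utL R 0 0 c)) := rfl
  have hinj : Function.Injective (fun c : R => utL R 0 0 c) := by
    intro c c' h
    have := utL_injective (R := R) (a₁ := (0, 0, c)) (a₂ := (0, 0, c')) h
    exact (Prod.ext_iff.mp (Prod.ext_iff.mp this).2).2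
  rw [h1, Nat.card_congr (Equiv.ofInjective _ hinj).symm]

theorem card_transL [Finite R] : Nat.card (transL R) = Nat.card R ^ 2 := by
  have e : ↥(transL R) ≃ R × R :=
    { toFun := fun M => (lmat R M.1 1 2, lmat R M.1 0 2)
      invFun := fun t => ⟨utL R 0 t.1 t.2, (utL_mem_transL_iff 0 t.1 t.2).mpr rfl⟩
      left_inv := by
        rintro ⟨M, hM⟩
        obtain ⟨e00, e01, e10, e11⟩ := mem_transL.mp hM
        apply Subtype.ext
        show utL R 0 (lmat R M 1 2) (lmat R M 0 2) = M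
        rw [eq_utL_of_entries M e00 e10 e11, e01]
        rfl
      right_inv := by
        rintro ⟨b, c⟩
        simp [lmat_utL] }
  rw [Nat.card_congr e, Nat.card_prod]
  ring

theorem mem_utLSub_entries {M : ↥(lastRowSubgroup R)} (h : M ∈ utLSub R) :
    lmat R M 0 0 = 1 ∧ lmat R M 1 0 = 0 ∧ lmat R M 1 1 = 1 := by
  obtain ⟨a, b, c, rfl⟩ := mem_utLSub.mp h
  simp [lmat_utL]

/-- elements normalizing `zL` have `(1,0)` entry zero -/
theorem entry_of_mem_normalizer_zL {g : ↥(lastRowSubgroup R)}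
    (hg : g ∈ Subgroup.normalizer ((zL R : Subgroup ↥(lastRowSubgroup R)) : Set ↥(lastRowSubgroup R))) :
    lmat R g 1 0 = 0 := by
  have h1 : utL R 0 0 1 ∈ zL R := ⟨1, rfl⟩
  have h2 := (Subgroup.mem_normalizer_iff.mp hg _).mp h1
  obtain ⟨c', hc'⟩ := h2
  have h3 : g * utL R 0 0 1 = utL R 0 0 c' * g := by
    have : utL R 0 0 c' = g * utL R 0 0 1 * g⁻¹ := hc'
    rw [this]; group
  have h4 := congrArg (fun M => lmat R M 1 2) h3
  simp only [lmat_mul, lmat_utL, Matrix.mul_apply, Fin.sum_univ_three] at h4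
  simp at h4
  exact h4

theorem normalizer_zL_le : Subgroup.normalizer ((zL R : Subgroup ↥(lastRowSubgroup R)) : Set ↥(lastRowSubgroup R)) ≤
    Subgroup.normalizer ((utLSub R : Subgroup ↥(lastRowSubgroup R)) : Set ↥(lastRowSubgroup R)) := by
  apply le_normalizer_of_forall_conj_mem'
  intro g hg s hs
  have hg10 := entry_of_mem_normalizer_zL hg
  have hh10 := entry_of_mem_normalizer_zL (Subgroup.inv_mem _ hg)
  obtain ⟨a, b, c, rfl⟩ := mem_utLSub.mp hs
  have hmul : lmat R g * lmat R g⁻¹ = 1 := by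
    rw [← lmat_mul, mul_inv_cancel, lmat_one]
  have e00 := congrFun (congrFun hmul 0) 0
  have e11 := congrFun (congrFun hmul 1) 1
  simp only [Matrix.mul_apply, Fin.sum_univ_three, lmat_20, lmat_21, hh10, hg10] at e00 e11
  simp at e00 e11
  apply mem_utLSub_of_entries
  · simp only [lmat_mul, lmat_utL, Matrix.mul_apply, Fin.sum_univ_three, lmat_20, lmat_21, hh10,
      hg10]
    simp
    exact e00
  · simp only [lmat_mul, lmat_utL, Matrix.mul_apply, Fin.sum_univ_three, lmat_20, lmat_21, hh10,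
      hg10]
    simp
  · simp only [lmat_mul, lmat_utL, Matrix.mul_apply, Fin.sum_univ_three, lmat_20, lmat_21, hh10,
      hg10]
    simp
    exact e11

variable (R)

/-- the lower elementary matrix -/
def lowL : ↥(lastRowSubgroup R) :=
  ⟨⟨!![1, 0, 0; 1, 1, 0; 0, 0, 1], by rw [Matrix.det_fin_three]; simp⟩, by
    refine ⟨?_, ?_, ?_⟩ <;> simp⟩

variable {R}

theorem lmat_lowL : lmat R (lowL R) = !![1, 0, 0; 1, 1, 0; 0, 0, 1] := rfl

theorem normalizer_utLSub_ne_top [Nontrivial R] :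
    Subgroup.normalizer ((utLSub R : Subgroup ↥(lastRowSubgroup R)) : Set ↥(lastRowSubgroup R)) ≠
      ⊤ := by
  intro htop
  have hl : lowL R ∈ Subgroup.normalizer
      ((utLSub R : Subgroup ↥(lastRowSubgroup R)) : Set ↥(lastRowSubgroup R)) := by
    rw [htop]; trivial
  have h2 := (Subgroup.mem_normalizer_iff.mp hl _).mp (utL_mem (R := R) 1 0 0)
  obtain ⟨a, b, c, habc⟩ := mem_utLSub.mp h2
  have h3 : lowL R * utL R 1 0 0 = utL R a b c * lowL R := by
    rw [← habc]; group
  have h4 := congrArg (fun M => lmat R M 1 1) h3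
  simp only [lmat_mul, lmat_utL, lmat_lowL, Matrix.mul_apply, Fin.sum_univ_three] at h4
  simp at h4

theorem utLSub_not_comm [Nontrivial R] :
    ∃ a ∈ utLSub R, ∃ b ∈ utLSub R, a * b ≠ b * a := by
  refine ⟨utL R 1 0 0, utL_mem _ _ _, utL R 0 1 0, utL_mem _ _ _, ?_⟩
  intro h
  exact utMat_not_comm R one_ne_zero (congrArg Subtype.val h)

/-- the automorphism `u(a,b,c) ↦ u(b,-a,c-ab)` of the unitriangular group -/
noncomputable def swapAut : ↥(utLSub R) ≃* ↥(utLSub R) where
  toFun x := ⟨utL R (lmat R x.1 1 2) (-(lmat R x.1 0 1))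
    (lmat R x.1 0 2 - lmat R x.1 0 1 * lmat R x.1 1 2), utL_mem _ _ _⟩
  invFun x := ⟨utL R (-(lmat R x.1 1 2)) (lmat R x.1 0 1)
    (lmat R x.1 0 2 - lmat R x.1 0 1 * lmat R x.1 1 2), utL_mem _ _ _⟩
  left_inv := by
    rintro ⟨x, hx⟩
    obtain ⟨a, b, c, rfl⟩ := mem_utLSub.mp hx
    apply Subtype.ext
    show utL R _ _ _ = utL R a b c
    apply utL_congr <;> simp [lmat_utL] <;> ring
  right_inv := by
    rintro ⟨x, hx⟩
    obtain ⟨a, b, c, rfl⟩ := mem_utLSub.mp hx
    apply Subtype.ext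
    show utL R _ _ _ = utL R a b c
    apply utL_congr <;> simp [lmat_utL] <;> ring
  map_mul' := by
    rintro ⟨x, hx⟩ ⟨y, hy⟩
    obtain ⟨a, b, c, rfl⟩ := mem_utLSub.mp hx
    obtain ⟨a', b', c', rfl⟩ := mem_utLSub.mp hy
    apply Subtype.ext
    show utL R _ _ _ = utL R _ _ _ * utL R _ _ _
    rw [utL_mul]
    simp only [Subgroup.coe_mul, utL_mul]
    apply utL_congr <;> simp [lmat_utL] <;> ring

theorem swapAut_moves [Nontrivial R] :
    ∃ v : ↥(utLSub R), (v : ↥(lastRowSubgroup R)) ∈ transL R ∧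
      ((swapAut v : ↥(utLSub R)) : ↥(lastRowSubgroup R)) ∉ transL R := by
  refine ⟨⟨utL R 0 1 0, utL_mem _ _ _⟩, (utL_mem_transL_iff 0 1 0).mpr rfl, ?_⟩
  show utL R _ _ _ ∉ transL R
  rw [utL_mem_transL_iff]
  simp [lmat_utL]

end concrete

section final

variable (p : ℕ) [hp : Fact p.Prime]

theorem charNormProp_utLSub : CharNormProp (utLSub (ZMod p)) := by
  haveI : Nontrivial (ZMod p) := ZMod.nontrivial_iff.mpr hp.out.one_lt.ne'
  exact charNormProp_of_structure (p := p) (utLSub (ZMod p)) (transL (ZMod p)) (zL (ZMod p))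
    (by rw [card_utLSub, Nat.card_zmod]) (by rw [card_transL, Nat.card_zmod])
    (by rw [card_zL, Nat.card_zmod]) transL_le_utLSub zL_le_transL zL_comm utLSub_not_comm
    normalizer_zL_le normalizer_utLSub_ne_top swapAut swapAut_moves

theorem sylow_lastRow_eq_conj (S : Sylow p ↥(lastRowSubgroup (ZMod p))) :
    ∃ g : ↥(lastRowSubgroup (ZMod p)), (S : Subgroup ↥(lastRowSubgroup (ZMod p))) =
      cj g (utLSub (ZMod p)) := by
  have hUcard : Nat.card (utLSub (ZMod p)) = p ^ 3 := by rw [card_utLSub, Nat.card_zmod]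
  have hUp : IsPGroup p (utLSub (ZMod p)) := IsPGroup.of_card hUcard
  obtain ⟨Q, hQ⟩ := hUp.exists_le_sylow
  obtain ⟨k, hk⟩ := IsPGroup.iff_card.mp Q.2
  have hk3 : 3 ≤ k := by
    have : p ^ 3 ∣ p ^ k := by
      rw [← hUcard, ← hk]; exact Subgroup.card_dvd_of_le hQ
    exact (Nat.pow_dvd_pow_iff_le_right hp.out.one_lt).mp this
  have hk4 : k < 4 := by
    by_contra hcon
    have h1 : p ^ 4 ∣ p ^ k := pow_dvd_pow p (by omega)
    have h2 : p ^ k ∣ Nat.card ↥(lastRowSubgroup (ZMod p)) := by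
      rw [← hk]; exact Subgroup.card_subgroup_dvd_card _
    have h3 : Nat.card ↥(lastRowSubgroup (ZMod p)) ∣
        Nat.card (Matrix.SpecialLinearGroup (Fin 3) (ZMod p)) :=
      Subgroup.card_subgroup_dvd_card _
    have h4 : Nat.card (Matrix.SpecialLinearGroup (Fin 3) (ZMod p)) ∣
        Nat.card (GL (Fin 3) (ZMod p)) :=
      Subgroup.card_dvd_of_injective Matrix.SpecialLinearGroup.toGL
        Matrix.SpecialLinearGroup.toGL_injective
    exact not_pow_four_dvd_card_GL p (h1.trans (h2.trans (h3.trans h4)))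
  have hk' : k = 3 := by omega
  rw [hk'] at hk
  have hQU : utLSub (ZMod p) = (Q : Subgroup ↥(lastRowSubgroup (ZMod p))) :=
    Subgroup.eq_of_le_of_card_ge hQ (by rw [hk, hUcard])
  obtain ⟨g, hg⟩ := MulAction.exists_smul_eq ↥(lastRowSubgroup (ZMod p)) Q S
  refine ⟨g, ?_⟩
  rw [← hg, Sylow.coe_subgroup_smul, hQU]
  ext x
  rw [Subgroup.mem_pointwise_smul_iff_inv_smul_mem, mem_cj]
  simp [MulAut.smul_def]

theorem charNormProp_sylow_of_eq (L : Subgroup (Matrix.SpecialLinearGroup (Fin 3) (ZMod p)))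
    (hL : L = lastRowSubgroup (ZMod p)) (S : Sylow p ↥L) :
    CharNormProp (S : Subgroup ↥L) := by
  subst hL
  obtain ⟨g, hg⟩ := sylow_lastRow_eq_conj p S
  rw [hg]
  exact (charNormProp_utLSub p).conj g

theorem qd_char_normalizer (S : Sylow p ↥(qd p)) (T : Subgroup ↥(S : Subgroup ↥(qd p)))
    (hT : T ≠ ⊥) (hTc : T.Characteristic) :
    Subgroup.normalizer ((T.map (S : Subgroup ↥(qd p)).subtype : Subgroup ↥(qd p)) :
        Set ↥(qd p)) =
      Subgroup.normalizer ((S : Subgroup ↥(qd p)) : Set ↥(qd p)) ∧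
    Subgroup.normalizer ((S : Subgroup ↥(qd p)) : Set ↥(qd p)) ≠ ⊤ :=
  charNormProp_sylow_of_eq p (qd p) (qd_eq_lastRowSubgroup p) S T hT hTc

end final

end Cfsg.Agent.Lib.Helper17
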