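import Mathlib
import Cfsg.Prelude.Def_Transfer
import Cfsg.Prelude.Def_PLocal
import Cfsg.Agent.Lib.Helper17.Thompson

set_option autoImplicit false

/-!
# The Thompson subgroup of a subgroup, intrinsically

`Cfsg.thompsonSubgroupOf p U` is the join of the elementary abelian subgroups of `G` contained in
`U` that have largest order among those; behaviour under automorphisms of `G`, normalizers,
intermediate subgroups; `Cfsg.omegaOne` under automorphisms.
-/

namespace Cfsg.Agent.Lib.Helper17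

open Subgroup

universe u

section MaxIn

variable {G : Type u} [Group G] {p : ℕ}

/-- The elementary abelian subgroups of `G` inside `U` of largest order among those. -/
def maxEAIn (p : ℕ) (U : Subgroup G) : Set (Subgroup G) :=
  {A | A ≤ U ∧ Cfsg.IsElementaryAbelian p A ∧
    ∀ B : Subgroup G, B ≤ U → Cfsg.IsElementaryAbelian p B → Nat.card B ≤ Nat.card A}

theorem map_subtype_mem_maxEAIn (U : Subgroup G) {A : Subgroup U}
    (hA : A ∈ Cfsg.maxElementaryAbelianSubgroups p U) : A.map U.subtype ∈ maxEAIn p U := by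
  refine ⟨Subgroup.map_subtype_le A, ea_map _ hA.1, ?_⟩
  intro B hBU hB
  have h1 : Nat.card (B.subgroupOf U) = Nat.card B :=
    Nat.card_congr (Subgroup.subgroupOfEquivOfLe hBU).toEquiv
  rw [Subgroup.card_map_of_injective U.subtype_injective, ← h1]
  exact hA.2 _ (ea_subgroupOf U hB)

theorem subgroupOf_mem_maxEA_of_mem_maxEAIn (U : Subgroup G) {A : Subgroup G}
    (hA : A ∈ maxEAIn p U) : A.subgroupOf U ∈ Cfsg.maxElementaryAbelianSubgroups p U := by
  refine ⟨ea_subgroupOf U hA.2.1, ?_⟩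
  intro B hB
  have h1 : Nat.card (A.subgroupOf U) = Nat.card A :=
    Nat.card_congr (Subgroup.subgroupOfEquivOfLe hA.1).toEquiv
  rw [h1, ← Subgroup.card_map_of_injective U.subtype_injective]
  exact hA.2.2 _ (Subgroup.map_subtype_le B) (ea_map _ hB)

/-- `J(U)` is the join of the elementary abelian subgroups of largest order inside `U`. -/
theorem thompsonSubgroupOf_eq_sSup (U : Subgroup G) :
    Cfsg.thompsonSubgroupOf p U = sSup (maxEAIn p U) := by
  apply le_antisymm
  · unfold Cfsg.thompsonSubgroupOf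
    rw [Subgroup.map_le_iff_le_comap]
    apply thompsonSubgroup_le
    intro A hA
    rw [← Subgroup.map_le_iff_le_comap]
    exact le_sSup (map_subtype_mem_maxEAIn U hA)
  · apply sSup_le
    intro A hA
    have h1 : (A.subgroupOf U).map U.subtype = A := by
      rw [Subgroup.subgroupOf_map_subtype, inf_eq_left.mpr hA.1]
    rw [← h1]
    exact Subgroup.map_mono (le_thompsonSubgroup (subgroupOf_mem_maxEA_of_mem_maxEAIn U hA))

theorem le_thompsonSubgroupOf_of_mem_maxEAIn {U A : Subgroup G} (hA : A ∈ maxEAIn p U) :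
    A ≤ Cfsg.thompsonSubgroupOf p U := by
  rw [thompsonSubgroupOf_eq_sSup]
  exact le_sSup hA

theorem thompsonSubgroupOf_le_self (U : Subgroup G) : Cfsg.thompsonSubgroupOf p U ≤ U :=
  Subgroup.map_subtype_le _

theorem exists_mem_maxEAIn [Finite G] (p : ℕ) (U : Subgroup G) : ∃ A, A ∈ maxEAIn p U := by
  classical
  haveI : Nonempty {A : Subgroup G // A ≤ U ∧ Cfsg.IsElementaryAbelian p A} :=
    ⟨⟨⊥, bot_le, ea_bot⟩⟩
  obtain ⟨⟨A, hA⟩, hAmax⟩ := Finite.exists_max
    (fun A : {A : Subgroup G // A ≤ U ∧ Cfsg.IsElementaryAbelian p A} =>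
      Nat.card (A : Subgroup G))
  exact ⟨A, hA.1, hA.2, fun B hBU hB => hAmax ⟨B, hBU, hB⟩⟩

/-- Automorphisms of `G` transport the families `maxEAIn`. -/
theorem map_mem_maxEAIn (φ : G ≃* G) {U A : Subgroup G} (hA : A ∈ maxEAIn p U) :
    A.map φ.toMonoidHom ∈ maxEAIn p (U.map φ.toMonoidHom) := by
  refine ⟨Subgroup.map_mono hA.1, ea_map _ hA.2.1, ?_⟩
  intro B hBU hB
  rw [Subgroup.card_map_of_injective φ.injective]
  have h1 : B.map φ.symm.toMonoidHom ≤ U := by
    intro x hx
    obtain ⟨b, hb, rfl⟩ := Subgroup.mem_map.mp hx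
    obtain ⟨u, hu, hub⟩ := Subgroup.mem_map.mp (hBU hb)
    have : φ.symm.toMonoidHom b = u := by
      rw [← hub]
      exact φ.symm_apply_apply u
    rw [this]
    exact hu
  have h2 := hA.2.2 _ h1 (ea_map _ hB)
  rwa [Subgroup.card_map_of_injective φ.symm.injective] at h2

theorem thompsonSubgroupOf_map_le (φ : G ≃* G) (U : Subgroup G) :
    (Cfsg.thompsonSubgroupOf p U).map φ.toMonoidHom ≤
      Cfsg.thompsonSubgroupOf p (U.map φ.toMonoidHom) := by
  rw [thompsonSubgroupOf_eq_sSup U, Subgroup.map_le_iff_le_comap]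
  apply sSup_le
  intro A hA
  rw [← Subgroup.map_le_iff_le_comap]
  exact le_thompsonSubgroupOf_of_mem_maxEAIn (map_mem_maxEAIn φ hA)

/-- `J(φ U) = φ J(U)` for an automorphism `φ` of `G`. -/
theorem thompsonSubgroupOf_map (φ : G ≃* G) (U : Subgroup G) :
    Cfsg.thompsonSubgroupOf p (U.map φ.toMonoidHom) =
      (Cfsg.thompsonSubgroupOf p U).map φ.toMonoidHom := by
  apply le_antisymm _ (thompsonSubgroupOf_map_le φ U)
  have h1 := thompsonSubgroupOf_map_le (p := p) φ.symm (U.map φ.toMonoidHom)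
  have h2 : (U.map φ.toMonoidHom).map φ.symm.toMonoidHom = U := by
    ext x
    simp [Subgroup.mem_map]
  rw [h2] at h1
  intro x hx
  refine Subgroup.mem_map.mpr ⟨φ.symm x, h1 (Subgroup.mem_map_of_mem _ hx), ?_⟩
  exact φ.apply_symm_apply x

/-- Elements normalizing `U` normalize `J(U)`. -/
theorem normalizer_le_normalizer_thompsonSubgroupOf (U : Subgroup G) :
    normalizer (U : Set G) ≤ normalizer (Cfsg.thompsonSubgroupOf p U : Set G) := by
  intro g hg
  have hU : U.map (MulAut.conj g).toMonoidHom = U := by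
    ext x
    rw [Subgroup.mem_map]
    constructor
    · rintro ⟨u, hu, rfl⟩
      exact (Subgroup.mem_normalizer_iff.mp hg u).mp hu
    · intro hx
      refine ⟨g⁻¹ * x * g, ?_, by simp [mul_assoc]⟩
      have := (Subgroup.mem_normalizer_iff.mp hg (g⁻¹ * x * g)).mpr (by simpa [mul_assoc] using hx)
      exact this
  have h := thompsonSubgroupOf_map (p := p) (MulAut.conj g) U
  rw [hU] at h
  rw [Subgroup.mem_normalizer_iff]
  intro x
  constructor
  · intro hx
    rw [h]
    exact Subgroup.mem_map.mpr ⟨x, hx, rfl⟩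
  · intro hx
    rw [h] at hx
    obtain ⟨y, hy, hyx⟩ := Subgroup.mem_map.mp hx
    have : y = x := by
      have h3 : g * y * g⁻¹ = g * x * g⁻¹ := hyx
      exact mul_left_cancel (mul_right_cancel h3)
    rwa [← this]

/-- If `J(W) ≤ U ≤ W` then `J(U) = J(W)`. -/
theorem thompsonSubgroupOf_eq_of_le [Finite G] {U W : Subgroup G} (hUW : U ≤ W)
    (hJ : Cfsg.thompsonSubgroupOf p W ≤ U) :
    Cfsg.thompsonSubgroupOf p U = Cfsg.thompsonSubgroupOf p W := by
  have hfam : maxEAIn p U = maxEAIn p W := by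
    obtain ⟨A₀, hA₀⟩ := exists_mem_maxEAIn p W
    have hA₀U : A₀ ≤ U := (le_thompsonSubgroupOf_of_mem_maxEAIn hA₀).trans hJ
    ext A
    constructor
    · intro hA
      refine ⟨hA.1.trans hUW, hA.2.1, ?_⟩
      intro B hBW hB
      exact (hA₀.2.2 B hBW hB).trans (hA.2.2 A₀ hA₀U hA₀.2.1)
    · intro hA
      refine ⟨(le_thompsonSubgroupOf_of_mem_maxEAIn hA).trans hJ, hA.2.1, ?_⟩
      intro B hBU hB
      exact hA.2.2 B (hBU.trans hUW) hB
  rw [thompsonSubgroupOf_eq_sSup, thompsonSubgroupOf_eq_sSup, hfam]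

end MaxIn

end Cfsg.Agent.Lib.Helper17

namespace Cfsg.Agent.Lib.Helper17

open Subgroup

universe u

section SylowConj

variable {G : Type u} [Group G] {p : ℕ}

open scoped Pointwise in
theorem mem_smul_sylow_iff (g : G) (S : Sylow p G) (x : G) :
    x ∈ ((g • S : Sylow p G) : Subgroup G) ↔ g⁻¹ * x * g ∈ (S : Subgroup G) := by
  rw [Sylow.coe_subgroup_smul, Subgroup.mem_pointwise_smul_iff_inv_smul_mem]
  have h2 : (MulAut.conj g)⁻¹ • x = g⁻¹ * x * g := by
    rw [← map_inv, MulAut.smul_def, MulAut.conj_apply, inv_inv]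
  rw [h2]

theorem conj_mem_smul_sylow (g : G) (S : Sylow p G) {x : G} (hx : x ∈ (S : Subgroup G)) :
    g * x * g⁻¹ ∈ ((g • S : Sylow p G) : Subgroup G) := by
  rw [mem_smul_sylow_iff]
  simpa [mul_assoc] using hx

/-- `Ω₁(Z(S))` in the shape used by the statements. -/
abbrev omegaOneCenter (p : ℕ) (S : Subgroup G) : Subgroup G :=
  Cfsg.omegaOne p (S ⊓ Subgroup.centralizer (S : Set G))

theorem conj_mem_omegaOneCenter_smul (g : G) (S : Sylow p G) {x : G}
    (hx : x ∈ omegaOneCenter p (S : Subgroup G)) :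
    g * x * g⁻¹ ∈ omegaOneCenter p ((g • S : Sylow p G) : Subgroup G) := by
  have hmap : (omegaOneCenter p (S : Subgroup G)).map (MulAut.conj g).toMonoidHom ≤
      omegaOneCenter p ((g • S : Sylow p G) : Subgroup G) := by
    unfold omegaOneCenter Cfsg.omegaOne
    rw [MonoidHom.map_closure, Subgroup.closure_le]
    rintro _ ⟨y, ⟨hyZ, hyp⟩, rfl⟩
    obtain ⟨hyS, hyC⟩ := Subgroup.mem_inf.mp hyZ
    apply Subgroup.subset_closure
    refine ⟨Subgroup.mem_inf.mpr ⟨conj_mem_smul_sylow g S hyS, ?_⟩, ?_⟩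
    · rw [Subgroup.mem_centralizer_iff]
      intro h hh
      rw [SetLike.mem_coe, mem_smul_sylow_iff] at hh
      have h1 := (Subgroup.mem_centralizer_iff.mp hyC) _ hh
      show h * (g * y * g⁻¹) = g * y * g⁻¹ * h
      calc h * (g * y * g⁻¹) = g * ((g⁻¹ * h * g) * y) * g⁻¹ := by group
        _ = g * (y * (g⁻¹ * h * g)) * g⁻¹ := by rw [h1]
        _ = g * y * g⁻¹ * h := by group
    · show (g * y * g⁻¹) ^ p = 1
      rw [conj_pow, hyp, mul_one, mul_inv_cancel]
  exact hmap (Subgroup.mem_map.mpr ⟨x, hx, rfl⟩)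

theorem iSup_omegaOneCenter_normal :
    (⨆ S : Sylow p G, omegaOneCenter p (S : Subgroup G)).Normal := by
  constructor
  intro v hv g
  have hmap : (⨆ S : Sylow p G, omegaOneCenter p (S : Subgroup G)).map
      (MulAut.conj g).toMonoidHom ≤ ⨆ S : Sylow p G, omegaOneCenter p (S : Subgroup G) := by
    rw [Subgroup.map_iSup]
    apply iSup_le
    intro S
    refine le_trans ?_ (le_iSup (fun S : Sylow p G => omegaOneCenter p (S : Subgroup G)) (g • S))
    rintro _ ⟨y, hy, rfl⟩
    exact conj_mem_omegaOneCenter_smul g S hy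
  exact hmap (Subgroup.mem_map.mpr ⟨v, hv, rfl⟩)

end SylowConj

end Cfsg.Agent.Lib.Helper17
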