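import Mathlib
import Cfsg.Prelude.Def_Transfer
import Cfsg.Prelude.Def_PLocal
import Cfsg.Agent.Lib.Helper17.ThompsonOf

set_option autoImplicit false

/-!
# Transport of `J(U)` and `Ω₁(Z(U))` along homomorphisms injective on `U`
-/

namespace Cfsg.Agent.Lib.Helper17

open Subgroup

universe u

section InjOn

variable {G H : Type u} [Group G] [Group H] {p : ℕ}

/-- A homomorphism with trivial kernel on `U` is injective on `U`. -/
theorem eq_of_map_eq_of_injOn (f : G →* H) {U : Subgroup G}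
    (hinj : ∀ x ∈ U, f x = 1 → x = 1) {a b : G} (ha : a ∈ U) (hb : b ∈ U) (h : f a = f b) :
    a = b := by
  have h1 : f (a * b⁻¹) = 1 := by rw [map_mul, map_inv, h, mul_inv_cancel]
  have h2 := hinj _ (U.mul_mem ha (U.inv_mem hb)) h1
  exact mul_inv_eq_one.mp h2

/-- Pull back an elementary abelian subgroup of `f U` to `U`. -/
theorem ea_comap_inf_of_injOn (f : G →* H) {U : Subgroup G}
    (hinj : ∀ x ∈ U, f x = 1 → x = 1) {B : Subgroup H} (hB : Cfsg.IsElementaryAbelian p B) :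
    Cfsg.IsElementaryAbelian p (B.comap f ⊓ U) := by
  rw [ea_iff]
  refine ⟨?_, ?_⟩
  · intro a ha
    rw [Subgroup.mem_centralizer_iff]
    intro b hb
    obtain ⟨haB, haU⟩ := Subgroup.mem_inf.mp ha
    obtain ⟨hbB, hbU⟩ := Subgroup.mem_inf.mp hb
    apply eq_of_map_eq_of_injOn f hinj (U.mul_mem hbU haU) (U.mul_mem haU hbU)
    rw [map_mul, map_mul]
    exact ea_comm hB (Subgroup.mem_comap.mp hbB) (Subgroup.mem_comap.mp haB)
  · intro a ha
    obtain ⟨haB, haU⟩ := Subgroup.mem_inf.mp ha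
    apply hinj _ (U.pow_mem haU p)
    rw [map_pow]
    exact hB.2 _ (Subgroup.mem_comap.mp haB)

theorem map_comap_inf_of_le_map (f : G →* H) {U : Subgroup G} {B : Subgroup H}
    (hBU : B ≤ U.map f) : (B.comap f ⊓ U).map f = B := by
  apply le_antisymm
  · rintro _ ⟨x, hx, rfl⟩
    exact Subgroup.mem_comap.mp (Subgroup.mem_inf.mp hx).1
  · intro b hb
    obtain ⟨u, hu, rfl⟩ := Subgroup.mem_map.mp (hBU hb)
    exact Subgroup.mem_map.mpr ⟨u, Subgroup.mem_inf.mpr ⟨Subgroup.mem_comap.mpr hb, hu⟩, rfl⟩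

theorem card_map_of_injOn [Finite G] (f : G →* H) {U A : Subgroup G}
    (hinj : ∀ x ∈ U, f x = 1 → x = 1) (hAU : A ≤ U) : Nat.card (A.map f) = Nat.card A := by
  have e : A ≃ A.map f := by
    refine Equiv.ofBijective (fun a => ⟨f a, Subgroup.mem_map_of_mem f a.2⟩) ⟨?_, ?_⟩
    · intro a b hab
      have : f a = f b := congrArg Subtype.val hab
      exact Subtype.ext (eq_of_map_eq_of_injOn f hinj (hAU a.2) (hAU b.2) this)
    · rintro ⟨_, x, hx, rfl⟩
      exact ⟨⟨x, hx⟩, rfl⟩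
  exact (Nat.card_congr e).symm

theorem map_mem_maxEAIn_of_injOn [Finite G] (f : G →* H) {U A : Subgroup G}
    (hinj : ∀ x ∈ U, f x = 1 → x = 1) (hA : A ∈ maxEAIn p U) :
    A.map f ∈ maxEAIn p (U.map f) := by
  refine ⟨Subgroup.map_mono hA.1, ea_map _ hA.2.1, ?_⟩
  intro B hBU hB
  rw [card_map_of_injOn f hinj hA.1, ← map_comap_inf_of_le_map f hBU,
    card_map_of_injOn f hinj (inf_le_right : B.comap f ⊓ U ≤ U)]
  exact hA.2.2 _ inf_le_right (ea_comap_inf_of_injOn f hinj hB)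

theorem comap_inf_mem_maxEAIn_of_injOn [Finite G] (f : G →* H) {U : Subgroup G} {B : Subgroup H}
    (hinj : ∀ x ∈ U, f x = 1 → x = 1) (hB : B ∈ maxEAIn p (U.map f)) :
    B.comap f ⊓ U ∈ maxEAIn p U := by
  refine ⟨inf_le_right, ea_comap_inf_of_injOn f hinj hB.2.1, ?_⟩
  intro C hCU hC
  rw [← card_map_of_injOn f hinj hCU,
    ← card_map_of_injOn f hinj (inf_le_right : B.comap f ⊓ U ≤ U), map_comap_inf_of_le_map f hB.1]
  exact hB.2.2 _ (Subgroup.map_mono hCU) (ea_map _ hC)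

/-- `J(f U) = f J(U)` for a homomorphism `f` injective on `U`. -/
theorem thompsonSubgroupOf_map_of_injOn [Finite G] (f : G →* H) {U : Subgroup G}
    (hinj : ∀ x ∈ U, f x = 1 → x = 1) :
    Cfsg.thompsonSubgroupOf p (U.map f) = (Cfsg.thompsonSubgroupOf p U).map f := by
  apply le_antisymm
  · rw [thompsonSubgroupOf_eq_sSup (U.map f)]
    apply sSup_le
    intro B hB
    rw [← map_comap_inf_of_le_map f hB.1]
    exact Subgroup.map_mono
      (le_thompsonSubgroupOf_of_mem_maxEAIn (comap_inf_mem_maxEAIn_of_injOn f hinj hB))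
  · rw [thompsonSubgroupOf_eq_sSup U, Subgroup.map_le_iff_le_comap]
    apply sSup_le
    intro A hA
    rw [← Subgroup.map_le_iff_le_comap]
    exact le_thompsonSubgroupOf_of_mem_maxEAIn (map_mem_maxEAIn_of_injOn f hinj hA)

/-- `Ω₁(Z(f U)) = f Ω₁(Z(U))` for a homomorphism `f` injective on `U`. -/
theorem omegaOneCenter_map_of_injOn (f : G →* H) {U : Subgroup G}
    (hinj : ∀ x ∈ U, f x = 1 → x = 1) :
    omegaOneCenter p (U.map f) = (omegaOneCenter p U).map f := by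
  unfold omegaOneCenter Cfsg.omegaOne
  rw [MonoidHom.map_closure]
  congr 1
  ext y
  constructor
  · rintro ⟨hy, hyp⟩
    obtain ⟨hyU, hyC⟩ := Subgroup.mem_inf.mp hy
    obtain ⟨x, hx, rfl⟩ := Subgroup.mem_map.mp hyU
    refine ⟨x, ⟨Subgroup.mem_inf.mpr ⟨hx, ?_⟩, ?_⟩, rfl⟩
    · rw [Subgroup.mem_centralizer_iff]
      intro s hs
      apply eq_of_map_eq_of_injOn f hinj (U.mul_mem hs hx) (U.mul_mem hx hs)
      rw [map_mul, map_mul]
      exact (Subgroup.mem_centralizer_iff.mp hyC) _ (Subgroup.mem_map_of_mem f hs)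
    · apply hinj _ (U.pow_mem hx p)
      rw [map_pow]
      exact hyp
  · rintro ⟨x, ⟨hx, hxp⟩, rfl⟩
    obtain ⟨hxU, hxC⟩ := Subgroup.mem_inf.mp hx
    refine ⟨Subgroup.mem_inf.mpr ⟨Subgroup.mem_map_of_mem f hxU, ?_⟩, ?_⟩
    · rw [Subgroup.mem_centralizer_iff]
      rintro _ ⟨s, hs, rfl⟩
      rw [← map_mul, ← map_mul, (Subgroup.mem_centralizer_iff.mp hxC) s hs]
    · rw [← map_pow, hxp, map_one]

end InjOn

end Cfsg.Agent.Lib.Helper17
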