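import Mathlib
import Cfsg.Prelude.Def_Transfer
import Cfsg.Prelude.Def_PLocal
import Cfsg.Agent.Lib.Helper17.ThompsonOf

set_option autoImplicit false

/-!
# `J(P)` is weakly closed among Sylow subgroups
-/

namespace Cfsg.Agent.Lib.Helper17

open Subgroup

universe u

section WeaklyClosed

variable {G : Type u} [Group G] [Finite G] {p : ℕ} [Fact p.Prime]

theorem coe_smul_sylow_eq_map (h : G) (P : Sylow p G) :
    ((h • P : Sylow p G) : Subgroup G) = (P : Subgroup G).map (MulAut.conj h).toMonoidHom := by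
  ext x
  rw [mem_smul_sylow_iff, Subgroup.mem_map]
  constructor
  · intro hx
    exact ⟨h⁻¹ * x * h, hx, by simp [mul_assoc]⟩
  · rintro ⟨y, hy, rfl⟩
    simpa [mul_assoc] using hy

/-- For a Sylow subgroup `P`, the members of `maxEAIn p P` are of largest order in `G`. -/
theorem mem_maxEA_of_mem_maxEAIn_sylow (P : Sylow p G) {A : Subgroup G}
    (hA : A ∈ maxEAIn p (P : Subgroup G)) : A ∈ Cfsg.maxElementaryAbelianSubgroups p G := by
  obtain ⟨A₀, hA₀, hA₀P⟩ := exists_mem_maxEA_le_sylow (p := p) P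
  refine ⟨hA.2.1, ?_⟩
  intro B hB
  exact (hA₀.2 B hB).trans (hA.2.2 A₀ hA₀P hA₀.1)

/-- `J(P)` is weakly closed: if `J(P)` lies in the Sylow subgroup `P'` then `J(P') = J(P)`. -/
theorem thompsonSubgroupOf_sylow_eq_of_le (P P' : Sylow p G)
    (h : Cfsg.thompsonSubgroupOf p (P : Subgroup G) ≤ (P' : Subgroup G)) :
    Cfsg.thompsonSubgroupOf p (P' : Subgroup G) = Cfsg.thompsonSubgroupOf p (P : Subgroup G) := by
  obtain ⟨g, hg⟩ := MulAction.exists_smul_eq G P P'
  have hle : Cfsg.thompsonSubgroupOf p (P : Subgroup G) ≤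
      Cfsg.thompsonSubgroupOf p (P' : Subgroup G) := by
    rw [thompsonSubgroupOf_eq_sSup (P : Subgroup G)]
    apply sSup_le
    intro A hA
    exact le_thompsonSubgroupOf _ (mem_maxEA_of_mem_maxEAIn_sylow P hA)
      ((le_thompsonSubgroupOf_of_mem_maxEAIn hA).trans h)
  have hcard : Nat.card (Cfsg.thompsonSubgroupOf p (P' : Subgroup G)) =
      Nat.card (Cfsg.thompsonSubgroupOf p (P : Subgroup G)) := by
    rw [← hg, coe_smul_sylow_eq_map, thompsonSubgroupOf_map,
      Subgroup.card_map_of_injective (MulAut.conj g).injective]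
  exact (Subgroup.eq_of_le_of_card_ge hle hcard.le).symm

end WeaklyClosed

end Cfsg.Agent.Lib.Helper17
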