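import Mathlib
import Cfsg.Agent.Lib.Helper15.ProdFormula

set_option autoImplicit false

namespace Cfsg.Agent.Lib.Helper17

open Subgroup
open scoped Pointwise

section
variable {G : Type*} [Group G]

theorem relIndex_mul_card_of_le {B C : Subgroup G} (h : B ≤ C) :
    B.relIndex C * Nat.card B = Nat.card C := by
  have h1 := Subgroup.card_mul_index (B.subgroupOf C)
  have h2 : Nat.card (B.subgroupOf C) = Nat.card B :=
    Nat.card_congr (Subgroup.subgroupOfEquivOfLe h).toEquiv
  rw [h2] at h1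
  rw [← h1, mul_comm]
  rfl

/-- Product formula when `B` normalizes `A`. -/
theorem card_sup_mul_card_inf_of_le_normalizer (A B : Subgroup G)
    (hB : B ≤ normalizer (A : Set G)) :
    Nat.card (A ⊔ B : Subgroup G) * Nat.card (A ⊓ B : Subgroup G) = Nat.card A * Nat.card B := by
  rw [← Cfsg.Agent.Lib.Helper15.card_mul_set_mul_card_inf A B]
  congr 1
  have : ((A ⊔ B : Subgroup G) : Set G) = (A : Set G) * (B : Set G) :=
    coe_mul_of_right_le_normalizer_left A B hB
  rw [← this]
  rfl

/-- `[AB : B] = [A : A ∩ B]` when `B` normalizes `A`. -/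
theorem relIndex_sup_of_le_normalizer [Finite G] (A B : Subgroup G)
    (hB : B ≤ normalizer (A : Set G)) : B.relIndex (A ⊔ B) = B.relIndex A := by
  have h1 := relIndex_mul_card_of_le (le_sup_right : B ≤ A ⊔ B)
  have h2 := relIndex_mul_card_of_le (inf_le_left : A ⊓ B ≤ A)
  rw [inf_relIndex_left] at h2
  have h3 := card_sup_mul_card_inf_of_le_normalizer A B hB
  have hBpos : 0 < Nat.card B := Nat.card_pos
  have hIpos : 0 < Nat.card (A ⊓ B : Subgroup G) := Nat.card_pos
  apply Nat.eq_of_mul_eq_mul_right (Nat.mul_pos hBpos hIpos)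
  calc B.relIndex (A ⊔ B) * (Nat.card B * Nat.card (A ⊓ B : Subgroup G))
      = (B.relIndex (A ⊔ B) * Nat.card B) * Nat.card (A ⊓ B : Subgroup G) := by ring
    _ = Nat.card A * Nat.card B := by rw [h1, h3]
    _ = B.relIndex A * (Nat.card B * Nat.card (A ⊓ B : Subgroup G)) := by rw [← h2]; ring

/-- If `K ≤ H` is normalized by `H`, then `[K : K ∩ S]` divides `[H : H ∩ S]`. -/
theorem relIndex_dvd_relIndex_of_normalized [Finite G] (S K H : Subgroup G) (hKH : K ≤ H)
    (hH : H ≤ normalizer (K : Set G)) : S.relIndex K ∣ S.relIndex H := by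
  have h1 : (S ⊓ H).relIndex H = S.relIndex H := inf_relIndex_right S H
  have hT : K ⊔ (S ⊓ H) ≤ H := sup_le hKH inf_le_right
  have h2 := relIndex_mul_relIndex (S ⊓ H) (K ⊔ (S ⊓ H)) H le_sup_right hT
  have h3 : (S ⊓ H).relIndex (K ⊔ (S ⊓ H)) = (S ⊓ H).relIndex K :=
    relIndex_sup_of_le_normalizer K (S ⊓ H) (inf_le_right.trans hH)
  have h4 : (S ⊓ H).relIndex K = S.relIndex K := by
    rw [← inf_relIndex_right (S ⊓ H) K, inf_assoc, inf_eq_right.2 hKH, inf_relIndex_right]
  rw [← h1, ← h2, h3, h4]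
  exact dvd_mul_right _ _

/-- If `N` is normalized by `H`, then `[NH : NH ∩ S]` divides `|N| · [H : H ∩ S]`. -/
theorem relIndex_sup_dvd_of_normalized [Finite G] (S N H : Subgroup G)
    (hH : H ≤ normalizer (N : Set G)) : S.relIndex (N ⊔ H) ∣ Nat.card N * S.relIndex H := by
  have h1 : S.relIndex (N ⊔ H) ∣ (H ⊓ S).relIndex (N ⊔ H) :=
    relIndex_dvd_of_le_left (N ⊔ H) inf_le_right
  have h2 := relIndex_mul_relIndex (H ⊓ S) H (N ⊔ H) inf_le_left le_sup_right
  have h3 : (H ⊓ S).relIndex H = S.relIndex H := inf_relIndex_left H S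
  have h4 : H.relIndex (N ⊔ H) = H.relIndex N := relIndex_sup_of_le_normalizer N H hH
  have h5 : H.relIndex N ∣ Nat.card N := relIndex_dvd_card H N
  rw [← h2, h3, h4] at h1
  refine h1.trans ?_
  rw [mul_comm]
  exact Nat.mul_dvd_mul_right h5 _

end

section action
variable {X α : Type*} [Group X] [MulAction X α]

theorem card_orbitSet_eq_relIndex (K : Subgroup X) (v : α) :
    Nat.card {u : α | ∃ k ∈ K, k • v = u} = (MulAction.stabilizer X v).relIndex K := by
  have h1 : (MulAction.stabilizer K v).index = (MulAction.orbit K v).ncard :=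
    MulAction.index_stabilizer K v
  have h2 : MulAction.stabilizer K v = (MulAction.stabilizer X v).subgroupOf K := by
    ext k
    simp [MulAction.mem_stabilizer_iff, Subgroup.mem_subgroupOf, Subgroup.smul_def]
  have h3 : MulAction.orbit K v = {u : α | ∃ k ∈ K, k • v = u} := by
    ext u
    simp only [MulAction.mem_orbit_iff, Set.mem_setOf_eq, Subgroup.smul_def]
    constructor
    · rintro ⟨k, hk⟩
      exact ⟨k, k.2, hk⟩
    · rintro ⟨k, hk, hku⟩
      exact ⟨⟨k, hk⟩, hku⟩
  rw [Nat.card_coe_set_eq, ← h3, ← h1, h2]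
  rfl

end action

end Cfsg.Agent.Lib.Helper17
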