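import Cfsg.Agent.Lib.Helper17.ClassTwo

set_option autoImplicit false

/-!
# Groups with central commutators and centre of prime order `p`: centralizer orders
(general `p` version of `ClassTwo.lean`)
-/

namespace Cfsg.Agent.Lib.Helper17

open scoped commutatorElement

section

variable {E : Type*} [Group E]

theorem p_mul_card_inf_centralizer [Finite E] {p : ℕ} [hp : Fact p.Prime]
    (hZ : Nat.card (Subgroup.center E) = p) (hcomm : ∀ a b : E, ⁅a, b⁆ ∈ Subgroup.center E)
    (H : Subgroup E) (q : E) [Decidable (H ≤ Subgroup.centralizer {q})] :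
    p * Nat.card ↥(H ⊓ Subgroup.centralizer {q}) =
      Nat.card H + (if H ≤ Subgroup.centralizer {q} then (p - 1) * Nat.card H else 0) := by
  have hp1 : 1 ≤ p := hp.out.one_lt.le
  by_cases hle : H ≤ Subgroup.centralizer {q}
  · rw [if_pos hle, inf_eq_left.mpr hle]
    obtain ⟨k, rfl⟩ := Nat.exists_eq_add_of_le hp1
    rw [Nat.add_sub_cancel_left]
    ring
  · rw [if_neg hle, add_zero]
    set f := commHom hcomm H q with hf
    have hker : f.ker = (H ⊓ Subgroup.centralizer {q}).subgroupOf H := by
      ext h
      rw [MonoidHom.mem_ker, Subgroup.mem_subgroupOf, Subgroup.mem_inf,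
        Subgroup.mem_centralizer_singleton_iff]
      constructor
      · intro h1
        have h2 : ⁅(h : E), q⁆ = 1 := congrArg Subtype.val h1
        rw [commutatorElement_eq_one_iff_mul_comm] at h2
        exact ⟨h.2, h2⟩
      · rintro ⟨-, h2⟩
        apply Subtype.ext
        show ⁅(h : E), q⁆ = 1
        rw [commutatorElement_eq_one_iff_mul_comm]
        exact h2
    have : Fact (Nat.card (Subgroup.center E)).Prime := ⟨by rw [hZ]; exact hp.out⟩
    have hrange : f.range = ⊤ := by
      rcases Subgroup.eq_bot_or_eq_top_of_prime_card f.range with h | h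
      · exfalso
        apply hle
        intro h' hh'
        rw [Subgroup.mem_centralizer_singleton_iff]
        have h1 : f ⟨h', hh'⟩ ∈ f.range := ⟨_, rfl⟩
        rw [h, Subgroup.mem_bot] at h1
        have h2 : ⁅h', q⁆ = 1 := congrArg Subtype.val h1
        rw [commutatorElement_eq_one_iff_mul_comm] at h2
        exact h2
      · exact h
    have h1 := Subgroup.card_mul_index f.ker
    rw [Subgroup.index_ker, hrange, Subgroup.card_top, hZ, hker] at h1
    have h2 : Nat.card ↥((H ⊓ Subgroup.centralizer {q}).subgroupOf H) =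
        Nat.card ↥(H ⊓ Subgroup.centralizer {q}) :=
      Nat.card_congr (Subgroup.subgroupOfEquivOfLe inf_le_left).toEquiv
    rw [h2] at h1
    rw [mul_comm]
    exact h1

end

section Count

variable {E : Type*} [Group E] [Fintype E] [DecidableEq E]

/-- Double counting of commuting pairs: `|C_E(H)| · |H| = p |E|` when commutators are central,
the centre has prime order `p` and lies in `H`. -/
theorem card_centralizer_mul_card_prime {p : ℕ} [hp : Fact p.Prime]
    (hZ : Nat.card (Subgroup.center E) = p) (hcomm : ∀ a b : E, ⁅a, b⁆ ∈ Subgroup.center E)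
    (H : Subgroup E) (hZH : Subgroup.center E ≤ H) :
    Nat.card (Subgroup.centralizer (H : Set E)) * Nat.card H = p * Nat.card E := by
  classical
  have key : ∑ a ∈ Finset.univ.filter (· ∈ H), (Finset.univ.filter (fun b : E => a * b = b * a)).card
      = ∑ b : E, ((Finset.univ.filter (· ∈ H)).filter (fun a => a * b = b * a)).card := by
    simp_rw [Finset.card_filter]
    exact Finset.sum_comm
  have hA : ∀ a : E, p * (Finset.univ.filter (fun b : E => a * b = b * a)).card
      = Nat.card E + (if a ∈ Subgroup.center E then (p - 1) * Nat.card E else 0) := by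
    intro a
    have h1 := p_mul_card_inf_centralizer hZ hcomm (⊤ : Subgroup E) a
    rw [top_inf_eq, Subgroup.card_top] at h1
    have h2 : (Finset.univ.filter (fun b : E => a * b = b * a)) =
        Finset.univ.filter (· ∈ Subgroup.centralizer {a}) := by
      apply Finset.filter_congr
      intro b _
      rw [Subgroup.mem_centralizer_singleton_iff]
      exact eq_comm
    rw [h2, card_filter_mem_subgroup, h1]
    congr 1
    have h3 : (⊤ : Subgroup E) ≤ Subgroup.centralizer {a} ↔ a ∈ Subgroup.center E := by
      rw [Subgroup.mem_center_iff]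
      constructor
      · intro h g
        have := h (Subgroup.mem_top g)
        rw [Subgroup.mem_centralizer_singleton_iff] at this
        exact this
      · intro h g _
        rw [Subgroup.mem_centralizer_singleton_iff]
        exact h g
    simp only [h3]
  have hB : ∀ b : E, p * ((Finset.univ.filter (· ∈ H)).filter (fun a => a * b = b * a)).card
      = Nat.card H + (if b ∈ Subgroup.centralizer (H : Set E) then (p - 1) * Nat.card H else 0) := by
    intro b
    have h1 := p_mul_card_inf_centralizer hZ hcomm H b
    have h2 : ((Finset.univ.filter (· ∈ H)).filter (fun a => a * b = b * a)) =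
        Finset.univ.filter (· ∈ H ⊓ Subgroup.centralizer {b}) := by
      rw [Finset.filter_filter]
      apply Finset.filter_congr
      intro a _
      rw [Subgroup.mem_inf, Subgroup.mem_centralizer_singleton_iff]
    rw [h2, card_filter_mem_subgroup, h1]
    congr 1
    have h3 : H ≤ Subgroup.centralizer {b} ↔ b ∈ Subgroup.centralizer (H : Set E) := by
      rw [Subgroup.mem_centralizer_iff]
      constructor
      · intro h g hg
        have := h hg
        rw [Subgroup.mem_centralizer_singleton_iff] at this
        exact this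
      · intro h g hg
        rw [Subgroup.mem_centralizer_singleton_iff]
        exact h g hg
    simp only [h3]
  have hL : p * ∑ a ∈ Finset.univ.filter (· ∈ H),
      (Finset.univ.filter (fun b : E => a * b = b * a)).card
      = Nat.card H * Nat.card E + p * ((p - 1) * Nat.card E) := by
    rw [Finset.mul_sum]
    simp_rw [hA]
    rw [Finset.sum_add_distrib, Finset.sum_const, smul_eq_mul, card_filter_mem_subgroup,
      Finset.sum_ite, Finset.sum_const_zero, add_zero, Finset.sum_const, smul_eq_mul,
      Finset.filter_filter]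
    have h4 : (Finset.univ.filter (fun a : E => a ∈ H ∧ a ∈ Subgroup.center E)) =
        Finset.univ.filter (· ∈ Subgroup.center E) := by
      apply Finset.filter_congr
      intro a _
      exact ⟨fun h => h.2, fun h => ⟨hZH h, h⟩⟩
    rw [h4, card_filter_mem_subgroup, hZ]
  have hR : p * ∑ b : E, ((Finset.univ.filter (· ∈ H)).filter (fun a => a * b = b * a)).card
      = Nat.card E * Nat.card H +
        Nat.card (Subgroup.centralizer (H : Set E)) * ((p - 1) * Nat.card H) := by
    rw [Finset.mul_sum]
    simp_rw [hB]
    rw [Finset.sum_add_distrib, Finset.sum_const, smul_eq_mul, Finset.card_univ,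
      Finset.sum_ite, Finset.sum_const_zero, add_zero, Finset.sum_const, smul_eq_mul,
      card_filter_mem_subgroup, Nat.card_eq_fintype_card (α := E)]
  rw [key, hR] at hL
  have e : Nat.card E * Nat.card H = Nat.card H * Nat.card E := mul_comm _ _
  have h5 : Nat.card (Subgroup.centralizer (H : Set E)) * ((p - 1) * Nat.card H) =
      p * ((p - 1) * Nat.card E) := by omega
  have hp1 : 0 < p - 1 := Nat.sub_pos_of_lt hp.out.one_lt
  have h6 : (p - 1) * (Nat.card (Subgroup.centralizer (H : Set E)) * Nat.card H) =
      (p - 1) * (p * Nat.card E) := by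
    calc (p - 1) * (Nat.card (Subgroup.centralizer (H : Set E)) * Nat.card H)
        = Nat.card (Subgroup.centralizer (H : Set E)) * ((p - 1) * Nat.card H) := by ring
      _ = p * ((p - 1) * Nat.card E) := h5
      _ = (p - 1) * (p * Nat.card E) := by ring
  exact Nat.eq_of_mul_eq_mul_left hp1 h6

end Count

section Inner

variable {E : Type*} [Group E]

/-- In a group with central commutators, `c ↦ ⁅a, c⁆` is multiplicative. -/
theorem commutatorElement_mul_right_of_central (hcomm : ∀ a b : E, ⁅a, b⁆ ∈ Subgroup.center E)
    (a b c : E) : ⁅a, b * c⁆ = ⁅a, b⁆ * ⁅a, c⁆ := by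
  have h1 := commutatorElement_mul_left_of_central hcomm b c a
  have h2 : ⁅a, b * c⁆ = ⁅b * c, a⁆⁻¹ := (commutatorElement_inv _ _).symm
  rw [h2, h1, mul_inv_rev, commutatorElement_inv, commutatorElement_inv]
  exact (Subgroup.mem_center_iff.mp (hcomm a c) ⁅a, b⁆).symm

theorem commutatorElement_pow_left_of_central (hcomm : ∀ a b : E, ⁅a, b⁆ ∈ Subgroup.center E)
    (u e : E) (j : ℕ) : ⁅u ^ j, e⁆ = ⁅u, e⁆ ^ j := by
  induction j with
  | zero => rw [pow_zero, pow_zero, commutatorElement_one_left]
  | succ n ih => rw [pow_succ, pow_succ, commutatorElement_mul_left_of_central hcomm, ih]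

/-- The homomorphism `E → Z(E)`, `e ↦ ⁅u, e⁆`. -/
noncomputable def commHomRight (hcomm : ∀ a b : E, ⁅a, b⁆ ∈ Subgroup.center E) (u : E) :
    E →* Subgroup.center E where
  toFun e := ⟨⁅u, e⁆, hcomm _ _⟩
  map_one' := by
    apply Subtype.ext
    show ⁅u, (1 : E)⁆ = 1
    rw [commutatorElement_one_right]
  map_mul' a b := by
    apply Subtype.ext
    show ⁅u, a * b⁆ = ⁅u, a⁆ * ⁅u, b⁆
    exact commutatorElement_mul_right_of_central hcomm _ _ _

theorem isCoatom_of_index_prime' {p : ℕ} (hp : p.Prime) {H : Subgroup E} (hH : H.index = p) :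
    IsCoatom H := by
  constructor
  · intro h
    rw [h, Subgroup.index_top] at hH
    exact hp.one_lt.ne hH
  · intro K hK
    have h1 : K.index ∣ p := hH ▸ Subgroup.index_dvd_of_le hK.le
    rcases (Nat.dvd_prime hp).mp h1 with h | h
    · exact Subgroup.index_eq_one.mp h
    · exfalso
      have h2 := Subgroup.relIndex_mul_index hK.le
      rw [hH, h] at h2
      have h3 : H.relIndex K = 1 := by
        have h4 : H.relIndex K * p = 1 * p := by rw [h2, one_mul]
        exact Nat.eq_of_mul_eq_mul_right hp.pos h4
      exact hK.not_ge (Subgroup.relIndex_eq_one.mp h3)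

/-- Every homomorphism `E → Z(E)` killing the centre is of the form `e ↦ ⁅u, e⁆`, when commutators
are central and the centre has prime order. -/
theorem exists_commutator_eq_of_hom [Fintype E] [DecidableEq E] {p : ℕ} [hp : Fact p.Prime]
    (hZ : Nat.card (Subgroup.center E) = p) (hcomm : ∀ a b : E, ⁅a, b⁆ ∈ Subgroup.center E)
    (lam : E →* Subgroup.center E) (hlam : ∀ z ∈ Subgroup.center E, lam z = 1) :
    ∃ u : E, ∀ e : E, ((lam e : Subgroup.center E) : E) = ⁅u, e⁆ := by
  classical
  by_cases htriv : ∀ e, lam e = 1
  · refine ⟨1, fun e => ?_⟩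
    rw [htriv e, commutatorElement_one_left]
    rfl
  push_neg at htriv
  obtain ⟨x, hx⟩ := htriv
  have : Fact (Nat.card (Subgroup.center E)).Prime := ⟨by rw [hZ]; exact hp.out⟩
  have hrange : lam.range = ⊤ := by
    rcases Subgroup.eq_bot_or_eq_top_of_prime_card lam.range with h | h
    · exfalso
      apply hx
      have h1 : lam x ∈ lam.range := ⟨_, rfl⟩
      rwa [h, Subgroup.mem_bot] at h1
    · exact h
  have hidx : lam.ker.index = p := by
    rw [Subgroup.index_ker, hrange, Subgroup.card_top, hZ]
  have hZK : Subgroup.center E ≤ lam.ker := fun z hz => MonoidHom.mem_ker.mpr (hlam z hz)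
  have hcount := card_centralizer_mul_card_prime hZ hcomm lam.ker hZK
  have hcardE : Nat.card lam.ker * p = Nat.card E := by
    rw [← hidx]
    exact Subgroup.card_mul_index _
  have hKpos : 0 < Nat.card lam.ker := Nat.card_pos
  have hCK : Nat.card (Subgroup.centralizer (lam.ker : Set E)) = p * p := by
    rw [← hcardE] at hcount
    have h1 : Nat.card (Subgroup.centralizer (lam.ker : Set E)) * Nat.card lam.ker =
        (p * p) * Nat.card lam.ker := by
      rw [hcount]; ring
    exact Nat.eq_of_mul_eq_mul_right hKpos h1
  obtain ⟨u₀, hu₀K, hu₀Z⟩ : ∃ u₀ : E, u₀ ∈ Subgroup.centralizer (lam.ker : Set E) ∧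
      u₀ ∉ Subgroup.center E := by
    by_contra hcon
    push_neg at hcon
    have hle : Subgroup.centralizer (lam.ker : Set E) ≤ Subgroup.center E := fun u hu => hcon u hu
    have h1 := Subgroup.card_le_of_le hle
    rw [hCK, hZ] at h1
    have h2 : 1 < p := hp.out.one_lt
    nlinarith
  have hcoatom : IsCoatom lam.ker := isCoatom_of_index_prime' hp.out hidx
  have hxK : x ∉ lam.ker := fun h => hx (MonoidHom.mem_ker.mp h)
  -- u₀ does not commute with x
  have hu₀x : ⁅u₀, x⁆ ≠ 1 := by
    intro h
    rw [commutatorElement_eq_one_iff_mul_comm] at h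
    apply hu₀Z
    have hKle : lam.ker ≤ Subgroup.centralizer {u₀} := by
      intro k hk
      rw [Subgroup.mem_centralizer_singleton_iff]
      exact Subgroup.mem_centralizer_iff.mp hu₀K k hk
    have hxc : x ∈ Subgroup.centralizer {u₀} := by
      rw [Subgroup.mem_centralizer_singleton_iff]
      exact h.symm
    have htop : Subgroup.centralizer {u₀} = ⊤ := by
      by_contra hne
      have := hcoatom.2 (Subgroup.centralizer {u₀}) (lt_of_le_of_ne hKle ?_)
      · exact hne this
      · intro heq
        exact hxK (heq ▸ hxc)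
    rw [Subgroup.mem_center_iff]
    intro g
    have hg : g ∈ Subgroup.centralizer {u₀} := htop ▸ Subgroup.mem_top g
    rw [Subgroup.mem_centralizer_singleton_iff] at hg
    exact hg
  have hνx : commHomRight hcomm u₀ x ≠ 1 := fun h => hu₀x (congrArg Subtype.val h)
  obtain ⟨j, hj⟩ := (mem_powers_of_prime_card hZ hνx : lam x ∈ Submonoid.powers _)
  refine ⟨u₀ ^ j, ?_⟩
  have hloc : MonoidHom.eqLocus lam (commHomRight hcomm (u₀ ^ j)) = ⊤ := by
    have hKle : lam.ker ≤ MonoidHom.eqLocus lam (commHomRight hcomm (u₀ ^ j)) := by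
      intro k hk
      show lam k = commHomRight hcomm (u₀ ^ j) k
      rw [MonoidHom.mem_ker.mp hk]
      apply Subtype.ext
      show (1 : E) = ⁅u₀ ^ j, k⁆
      have h1 : ⁅u₀, k⁆ = 1 := by
        rw [commutatorElement_eq_one_iff_mul_comm]
        exact (Subgroup.mem_centralizer_iff.mp hu₀K k hk).symm
      rw [commutatorElement_pow_left_of_central hcomm, h1, one_pow]
    have hxl : x ∈ MonoidHom.eqLocus lam (commHomRight hcomm (u₀ ^ j)) := by
      show lam x = commHomRight hcomm (u₀ ^ j) x
      rw [← hj]
      apply Subtype.ext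
      show ((commHomRight hcomm u₀ x ^ j : Subgroup.center E) : E) = ⁅u₀ ^ j, x⁆
      rw [commutatorElement_pow_left_of_central hcomm, Subgroup.coe_pow]
      rfl
    by_contra hne
    have := hcoatom.2 _ (lt_of_le_of_ne hKle ?_)
    · exact hne this
    · intro heq
      exact hxK (heq ▸ hxl)
  intro e
  have he : e ∈ MonoidHom.eqLocus lam (commHomRight hcomm (u₀ ^ j)) := hloc ▸ Subgroup.mem_top e
  have he' : lam e = commHomRight hcomm (u₀ ^ j) e := he
  rw [he']
  rfl

end Inner

end Cfsg.Agent.Lib.Helper17
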