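import Cfsg.Agent.Lib.Helper17.SupersolvableMore

set_option autoImplicit false

namespace Cfsg.Agent.Lib.Helper17

open Subgroup

universe u

/-- A group of order `p * q` with primes `q < p` has a characteristic subgroup of order `p`. -/
theorem exists_characteristic_card_of_card_mul {K : Type*} [Group K] [Finite K] (p q : ℕ)
    (hp : p.Prime) (hq : q.Prime) (hqp : q < p) (hK : Nat.card K = p * q) :
    ∃ P : Subgroup K, P.Characteristic ∧ Nat.card P = p := by
  have : Fact p.Prime := ⟨hp⟩
  let P : Sylow p K := default
  have hPcard : Nat.card P = p := by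
    rw [Sylow.card_eq_multiplicity P, hK, Nat.factorization_mul hp.ne_zero hq.ne_zero]
    have h1 : p.factorization p = 1 := hp.factorization_self
    have h2 : q.factorization p = 0 := by
      apply Nat.factorization_eq_zero_of_not_dvd
      rw [Nat.prime_dvd_prime_iff_eq hp hq]
      omega
    rw [Finsupp.add_apply, h1, h2, pow_one]
  have hidx : (P : Subgroup K).index = q := by
    have := (P : Subgroup K).card_mul_index
    rw [hPcard, hK] at this
    exact Nat.eq_of_mul_eq_mul_left hp.pos this
  have hmod : Nat.card (Sylow p K) ≡ 1 [MOD p] := card_sylow_modEq_one p K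
  have hdvd : Nat.card (Sylow p K) ∣ q := hidx ▸ Sylow.card_dvd_index P
  have hone : Nat.card (Sylow p K) = 1 := by
    rcases (Nat.dvd_prime hq).mp hdvd with h | h
    · exact h
    · exfalso
      rw [h] at hmod
      have h1 : q % p = q := Nat.mod_eq_of_lt hqp
      have h2 : 1 % p = 1 := Nat.mod_eq_of_lt (lt_of_le_of_lt hq.one_lt.le hqp)
      have : q = 1 := by
        have := hmod
        unfold Nat.ModEq at this
        rw [h1, h2] at this
        exact this
      exact hq.ne_one this
  have : Subsingleton (Sylow p K) := (Nat.card_eq_one_iff_unique.mp hone).1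
  have hn : (P : Subgroup K).Normal := Sylow.normal_of_subsingleton P
  exact ⟨P, Sylow.characteristic_of_normal P hn, hPcard⟩

/-- In a nontrivial finite supersolvable group, if `p` is the largest prime divisor of the order then there is a
normal subgroup of order `p`. -/
theorem exists_normal_card_largest_prime_aux (n : ℕ) : ∀ (G : Type u) [Group G] [Finite G],
    Nat.card G = n → Cfsg.IsSupersolvable G → ∀ p : ℕ, p.Prime → p ∣ n →
    (∀ q : ℕ, q.Prime → q ∣ n → q ≤ p) → ∃ N : Subgroup G, N.Normal ∧ Nat.card N = p := by
  induction n using Nat.strong_induction_on with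
  | _ n ih =>
    intro G _ _ hn hG p hp hpn hmax
    rcases subsingleton_or_nontrivial G with hs | hnt
    · exfalso
      have : n = 1 := by rw [← hn]; exact Nat.card_unique
      rw [this] at hpn
      exact hp.ne_one (Nat.dvd_one.mp hpn)
    · obtain ⟨N0, hN0, hq, -⟩ := exists_normal_prime_card hG
      obtain ⟨q, hqdef⟩ : ∃ q, q = Nat.card N0 := ⟨_, rfl⟩
      rw [← hqdef] at hq
      have hcard : Nat.card G = Nat.card (G ⧸ N0) * q := by
        rw [hqdef]; exact N0.card_eq_card_quotient_mul_card_subgroup
      have hqn : q ∣ n := by rw [← hn, hcard]; exact dvd_mul_left _ _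
      have hqp : q ≤ p := hmax q hq hqn
      rcases hqp.lt_or_eq with hlt | heq
      · have hQ : Cfsg.IsSupersolvable (G ⧸ N0) := isSupersolvable_quotient hG N0
        have hQlt : Nat.card (G ⧸ N0) < n := by
          rw [← hn, hcard]
          have : 0 < Nat.card (G ⧸ N0) := Nat.card_pos
          nlinarith [hq.two_le]
        have hpQ : p ∣ Nat.card (G ⧸ N0) := by
          rw [← hn, hcard] at hpn
          rcases (Nat.Prime.dvd_mul hp).mp hpn with h | h
          · exact h
          · exfalso
            rw [Nat.prime_dvd_prime_iff_eq hp hq] at h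
            omega
        have hmaxQ : ∀ r : ℕ, r.Prime → r ∣ Nat.card (G ⧸ N0) → r ≤ p := by
          intro r hr hrd
          apply hmax r hr
          rw [← hn, hcard]
          exact dvd_mul_of_dvd_left hrd _
        obtain ⟨K', hK'n, hK'c⟩ := ih _ hQlt (G ⧸ N0) rfl hQ p hp hpQ hmaxQ
        -- pull back to K of order p * q
        obtain ⟨K, hKdef⟩ : ∃ K : Subgroup G, K = K'.comap (QuotientGroup.mk' N0) := ⟨_, rfl⟩
        have hKn : K.Normal := hKdef ▸ hK'n.comap _
        have hKcard : Nat.card K = p * q := by
          rw [hKdef, card_comap_mk', hK'c, hqdef]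
        obtain ⟨P, hPchar, hPcard⟩ := exists_characteristic_card_of_card_mul p q hp hq hlt hKcard
        refine ⟨P.map K.subtype, ConjAct.normal_of_characteristic_of_normal, ?_⟩
        rw [Subgroup.card_subtype, hPcard]
      · exact ⟨N0, hN0, by rw [← hqdef, heq]⟩

theorem exists_prime_chain_aux (n : ℕ) : ∀ (G : Type u) [Group G] [Finite G],
    Nat.card G = n → Cfsg.IsSupersolvable G →
    ∃ (m : ℕ) (H : Fin (m + 1) → Subgroup G), H 0 = ⊥ ∧ H (Fin.last m) = ⊤ ∧ (∀ i, (H i).Normal) ∧
      (∀ i : Fin m, H i.castSucc ≤ H i.succ ∧ ((H i.castSucc).relIndex (H i.succ)).Prime) ∧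
      ∀ i j : Fin m, i ≤ j →
        (H j.castSucc).relIndex (H j.succ) ≤ (H i.castSucc).relIndex (H i.succ) := by
  induction n using Nat.strong_induction_on with
  | _ n ih =>
    intro G _ _ hn hG
    rcases subsingleton_or_nontrivial G with hs | hnt
    · refine ⟨0, fun _ => ⊥, rfl, Subsingleton.elim _ _, fun _ => inferInstance,
        fun i => i.elim0, fun i => i.elim0⟩
    · -- the largest prime divisor of the order
      have hone : 1 < Nat.card G := Finite.one_lt_card
      have hne : (Nat.card G).primeFactors.Nonempty := Nat.nonempty_primeFactors.mpr hone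
      obtain ⟨p, hpdef⟩ : ∃ p, p = (Nat.card G).primeFactors.max' hne := ⟨_, rfl⟩
      have hpmem : p ∈ (Nat.card G).primeFactors := hpdef ▸ Finset.max'_mem _ hne
      have hp : p.Prime := (Nat.mem_primeFactors.mp hpmem).1
      have hpd : p ∣ Nat.card G := (Nat.mem_primeFactors.mp hpmem).2.1
      have hmax : ∀ q : ℕ, q.Prime → q ∣ Nat.card G → q ≤ p := by
        intro q hq hqd
        rw [hpdef]
        apply Finset.le_max'
        exact Nat.mem_primeFactors.mpr ⟨hq, hqd, by omega⟩
      obtain ⟨N, hN, hNc⟩ :=
        exists_normal_card_largest_prime_aux (Nat.card G) G rfl hG p hp hpd hmax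
      have hQ : Cfsg.IsSupersolvable (G ⧸ N) := isSupersolvable_quotient hG N
      have hcard : Nat.card G = Nat.card (G ⧸ N) * p := by
        rw [← hNc]; exact N.card_eq_card_quotient_mul_card_subgroup
      have hQlt : Nat.card (G ⧸ N) < n := by
        rw [← hn, hcard]
        have : 0 < Nat.card (G ⧸ N) := Nat.card_pos
        nlinarith [hp.two_le]
      obtain ⟨m, K, hK0, hKl, hKn, hKs, hKm⟩ := ih _ hQlt (G ⧸ N) rfl hQ
      have hsurj := QuotientGroup.mk'_surjective N
      obtain ⟨H, hHdef⟩ : ∃ H : Fin (m + 1 + 1) → Subgroup G,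
          H = Fin.cons (α := fun _ => Subgroup G) ⊥ (fun i => (K i).comap (QuotientGroup.mk' N)) :=
        ⟨_, rfl⟩
      have hH0 : H 0 = ⊥ := by rw [hHdef, Fin.cons_zero]
      have hHs : ∀ i : Fin (m + 1), H i.succ = (K i).comap (QuotientGroup.mk' N) := by
        intro i; rw [hHdef, Fin.cons_succ]
      have hrel : ∀ A B : Subgroup (G ⧸ N),
          (A.comap (QuotientGroup.mk' N)).relIndex (B.comap (QuotientGroup.mk' N)) = A.relIndex B := by
        intro A B
        rw [Subgroup.relIndex_comap, Subgroup.map_comap_eq_self_of_surjective hsurj]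
      -- the relative indices
      have hr0 : (H (0 : Fin (m + 1)).castSucc).relIndex (H (0 : Fin (m + 1)).succ) = p := by
        rw [Fin.castSucc_zero, hH0, hHs, Subgroup.relIndex_bot_left, hK0, MonoidHom.comap_bot,
          QuotientGroup.ker_mk', hNc]
      have hrs : ∀ j : Fin m, (H j.succ.castSucc).relIndex (H j.succ.succ) =
          (K j.castSucc).relIndex (K j.succ) := by
        intro j
        rw [← Fin.succ_castSucc, hHs, hHs, hrel]
      have hle : ∀ j : Fin m, (K j.castSucc).relIndex (K j.succ) ≤ p := by
        intro j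
        apply hmax _ (hKs j).2
        rw [hcard]
        exact dvd_mul_of_dvd_left
          ((Subgroup.relIndex_dvd_card _ _).trans (Subgroup.card_subgroup_dvd_card _)) _
      refine ⟨m + 1, H, hH0, ?_, ?_, ?_, ?_⟩
      · rw [← Fin.succ_last, hHs, hKl, Subgroup.comap_top]
      · intro i
        induction i using Fin.cases with
        | zero => rw [hH0]; infer_instance
        | succ i => rw [hHs]; exact (hKn i).comap _
      · intro i
        induction i using Fin.cases with
        | zero =>
          refine ⟨?_, ?_⟩
          · rw [Fin.castSucc_zero, hH0]; exact bot_le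
          · rw [hr0]; exact hp
        | succ j =>
          refine ⟨?_, ?_⟩
          · rw [← Fin.succ_castSucc, hHs, hHs]
            exact Subgroup.comap_mono (hKs j).1
          · rw [hrs]; exact (hKs j).2
      · intro i j hij
        induction i using Fin.cases with
        | zero =>
          induction j using Fin.cases with
          | zero => exact le_rfl
          | succ j => rw [hr0, hrs]; exact hle j
        | succ i =>
          induction j using Fin.cases with
          | zero => exact absurd hij (by simp [Fin.succ_ne_zero])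
          | succ j =>
            rw [hrs, hrs]
            exact hKm i j (Fin.succ_le_succ_iff.mp hij)


theorem exists_prime_chain {G : Type u} [Group G] [Finite G] (hG : Cfsg.IsSupersolvable G) :
    ∃ (m : ℕ) (H : Fin (m + 1) → Subgroup G), H 0 = ⊥ ∧ H (Fin.last m) = ⊤ ∧ (∀ i, (H i).Normal) ∧
      (∀ i : Fin m, H i.castSucc ≤ H i.succ ∧ ((H i.castSucc).relIndex (H i.succ)).Prime) ∧
      ∀ i j : Fin m, i ≤ j →
        (H j.castSucc).relIndex (H j.succ) ≤ (H i.castSucc).relIndex (H i.succ) :=
  exists_prime_chain_aux (Nat.card G) G rfl hG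

end Cfsg.Agent.Lib.Helper17
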