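import Mathlib
import Cfsg.Prelude.Def_Local
import Cfsg.Agent.Lib.Helper2.Cores

set_option autoImplicit false

/-!
Copy (helper17) of the first part of `Lib/Helper3/PSolvable.lean` (helper3), so that S4601 does not
import two modules that each generate the equation lemmas of `upperPSeries`.

* `IsPOrP'`                        : a number is a power of `p` or prime to `p`
* `isPSolvable_quotient`           : quotients of `p`-soluble groups are `p`-soluble
* `exists_normal_between`          : in a finite `p`-soluble group, between normal subgroups `Z < C`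
                                     there is a normal `M`, `Z < M ≤ C`, with `|M : Z|` a `p`-power or
                                     prime to `p`
* `centralizer_pCore_le`           : Hall–Higman Lemma 1.2.3: if `O_{p'}(G) = 1` then
                                     `C_G(O_p(G)) ≤ O_p(G)`
-/

namespace Cfsg.Agent.Lib.Helper17.PSolvBasic

open Cfsg Subgroup

/-- a power of `p` or prime to `p` -/
def IsPOrP' (p n : ℕ) : Prop := (∃ m : ℕ, n = p ^ m) ∨ n.Coprime p

theorem IsPOrP'.of_dvd {p a b : ℕ} (hp : p.Prime) (h : IsPOrP' p b) (hab : a ∣ b) : IsPOrP' p a := by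
  rcases h with ⟨m, rfl⟩ | h
  · left
    obtain ⟨k, _, rfl⟩ := (Nat.dvd_prime_pow hp).mp hab
    exact ⟨k, rfl⟩
  · right
    exact Nat.Coprime.coprime_dvd_left hab h

section
variable {G : Type*} [Group G]

theorem sup_relIndex_sup_dvd {A B Z : Subgroup G} (hA : A.Normal) (hZ : Z.Normal) (hAB : A ≤ B) :
    (A ⊔ Z).relIndex (B ⊔ Z) ∣ A.relIndex B := by
  have : (A ⊔ Z).Normal := Subgroup.sup_normal A Z
  have h1 : (A ⊔ Z).relIndex (B ⊔ (A ⊔ Z)) = (A ⊔ Z).relIndex B := relIndex_sup_right B (A ⊔ Z)
  have h2 : B ⊔ (A ⊔ Z) = B ⊔ Z := by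
    rw [← sup_assoc, sup_eq_left.mpr hAB]
  rw [h2] at h1
  rw [h1]
  exact relIndex_dvd_of_le_left B le_sup_left

theorem inf_relIndex_inf_dvd {A B C : Subgroup G} (hA : A.Normal) (hAB : A ≤ B) :
    (A ⊓ C).relIndex (B ⊓ C) ∣ A.relIndex B := by
  have h1 : A ⊓ C = A ⊓ (B ⊓ C) := by
    rw [← inf_assoc, inf_eq_left.mpr hAB]
  rw [h1, inf_relIndex_right]
  have := hA
  have e1 : A.relIndex (B ⊓ C) = Nat.card ((B ⊓ C).map (QuotientGroup.mk' A)) := by
    have := relIndex_ker (B ⊓ C) (QuotientGroup.mk' A)
    rwa [QuotientGroup.ker_mk'] at this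
  have e2 : A.relIndex B = Nat.card (B.map (QuotientGroup.mk' A)) := by
    have := relIndex_ker B (QuotientGroup.mk' A)
    rwa [QuotientGroup.ker_mk'] at this
  rw [e1, e2]
  exact Subgroup.card_dvd_of_le (Subgroup.map_mono inf_le_left)

theorem isPSolvable_quotient {p : ℕ} (hp : p.Prime) (hsol : IsPSolvable p G) (N : Subgroup G)
    [N.Normal] : IsPSolvable p (G ⧸ N) := by
  obtain ⟨n, H, h0, hlast, hmono, hnorm, hstep⟩ := hsol
  refine ⟨n, fun i => (H i).map (QuotientGroup.mk' N), ?_, ?_, ?_, ?_, ?_⟩
  · simp only [h0, Subgroup.map_bot]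
  · simp only [hlast]
    rw [← MonoidHom.range_eq_map, MonoidHom.range_eq_top]
    exact QuotientGroup.mk'_surjective N
  · intro i j hij
    exact Subgroup.map_mono (hmono hij)
  · intro i
    exact (hnorm i).map _ (QuotientGroup.mk'_surjective N)
  · intro i
    have hd : ((H i.castSucc).map (QuotientGroup.mk' N)).relIndex
        ((H i.succ).map (QuotientGroup.mk' N)) ∣ (H i.castSucc).relIndex (H i.succ) := by
      rw [relIndex_map_map, QuotientGroup.ker_mk']
      exact sup_relIndex_sup_dvd (hnorm _) inferInstance (hmono (Fin.castSucc_le_succ i))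
    have : IsPOrP' p ((H i.castSucc).relIndex (H i.succ)) := by
      rcases hstep i with ⟨m, hm⟩ | h
      · exact Or.inl ⟨m, hm⟩
      · exact Or.inr h
    rcases this.of_dvd hp hd with ⟨m, hm⟩ | h
    · exact Or.inl ⟨m, hm⟩
    · exact Or.inr h

theorem exists_normal_between {p : ℕ} (hp : p.Prime) (hsol : IsPSolvable p G)
    {Z C : Subgroup G} (hZ : Z.Normal) (hC : C.Normal) (hZC : Z < C) :
    ∃ M : Subgroup G, M.Normal ∧ Z < M ∧ M ≤ C ∧ IsPOrP' p (Z.relIndex M) := by
  obtain ⟨n, H, h0, hlast, hmono, hnorm, hstep⟩ := hsol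
  have key : ∀ i : Fin (n + 1), Z ⊔ (H i ⊓ C) ≠ Z →
      ∃ M : Subgroup G, M.Normal ∧ Z < M ∧ M ≤ C ∧ IsPOrP' p (Z.relIndex M) := by
    intro i
    induction i using Fin.induction with
    | zero =>
      intro h
      exfalso
      apply h
      rw [h0, bot_inf_eq, sup_bot_eq]
    | succ i ih =>
      intro h
      by_cases hprev : Z ⊔ (H i.castSucc ⊓ C) ≠ Z
      · exact ih hprev
      · push Not at hprev
        have := hnorm i.succ
        have := hnorm i.castSucc
        have := hZ
        have := hC
        refine ⟨Z ⊔ (H i.succ ⊓ C), ?_, ?_, ?_, ?_⟩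
        · have : (H i.succ ⊓ C).Normal := Subgroup.normal_inf_normal _ _
          exact Subgroup.sup_normal _ _
        · exact lt_of_le_of_ne le_sup_left (Ne.symm h)
        · exact sup_le hZC.le inf_le_right
        · have hstep' : IsPOrP' p ((H i.castSucc).relIndex (H i.succ)) := by
            rcases hstep i with ⟨m, hm⟩ | h
            · exact Or.inl ⟨m, hm⟩
            · exact Or.inr h
          apply hstep'.of_dvd hp
          have hle : H i.castSucc ≤ H i.succ := hmono (Fin.castSucc_le_succ i)
          have d1 : (H i.castSucc ⊓ C).relIndex (H i.succ ⊓ C) ∣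
              (H i.castSucc).relIndex (H i.succ) := inf_relIndex_inf_dvd (hnorm _) hle
          have : (H i.castSucc ⊓ C).Normal := Subgroup.normal_inf_normal _ _
          have d2 : ((H i.castSucc ⊓ C) ⊔ Z).relIndex ((H i.succ ⊓ C) ⊔ Z) ∣
              (H i.castSucc ⊓ C).relIndex (H i.succ ⊓ C) :=
            sup_relIndex_sup_dvd inferInstance hZ (inf_le_inf_right C hle)
          rw [sup_comm _ Z, sup_comm _ Z, hprev] at d2
          exact d2.trans d1
  apply key (Fin.last n)
  rw [hlast, top_inf_eq, sup_eq_right.mpr hZC.le]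
  exact hZC.ne'

end


end Cfsg.Agent.Lib.Helper17.PSolvBasic
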