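import Mathlib
import Cfsg.Prelude.Def_SolvableStructure

set_option autoImplicit false

namespace Cfsg.Agent.Lib.Helper17

open Subgroup

/-- `SSChain A B`: there is a finite chain of normal subgroups of `G` from `A` up to `B`, each obtained
from the previous by adjoining a single element. -/
inductive SSChain {G : Type*} [Group G] : Subgroup G → Subgroup G → Prop
  | refl (A : Subgroup G) : A.Normal → SSChain A A
  | step {A B : Subgroup G} (g : G) : SSChain A B → (B ⊔ zpowers g).Normal → SSChain A (B ⊔ zpowers g)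

variable {G : Type*} [Group G]

theorem SSChain.normal_left {A B : Subgroup G} (h : SSChain A B) : A.Normal := by
  induction h with
  | refl hA => exact hA
  | step g _ _ ih => exact ih

theorem SSChain.normal_right {A B : Subgroup G} (h : SSChain A B) : B.Normal := by
  induction h with
  | refl hA => exact hA
  | step g _ hn _ => exact hn

theorem SSChain.le {A B : Subgroup G} (h : SSChain A B) : A ≤ B := by
  induction h with
  | refl hA => exact le_rfl
  | step g _ _ ih => exact ih.trans le_sup_left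

theorem SSChain.trans {A B C : Subgroup G} (h₁ : SSChain A B) (h₂ : SSChain B C) : SSChain A C := by
  induction h₂ with
  | refl _ => exact h₁
  | step g _ hn ih => exact SSChain.step g ih hn

/-- A chain indexed by `Fin (n+1)` gives an `SSChain`. -/
theorem ssChain_of_fin {n : ℕ} (H : Fin (n + 1) → Subgroup G) (hN : ∀ i, (H i).Normal)
    (hs : ∀ i : Fin n, ∃ g : G, H i.succ = H i.castSucc ⊔ zpowers g) (i : Fin (n + 1)) :
    SSChain (H 0) (H i) := by
  induction i using Fin.induction with
  | zero => exact SSChain.refl _ (hN 0)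
  | succ i ih =>
    obtain ⟨g, hg⟩ := hs i
    rw [hg]
    refine SSChain.step g ih ?_
    rw [← hg]
    exact hN _

/-- An `SSChain` gives a chain indexed by `Fin (n+1)`. -/
theorem fin_of_ssChain {A B : Subgroup G} (h : SSChain A B) :
    ∃ (n : ℕ) (H : Fin (n + 1) → Subgroup G),
      H 0 = A ∧ H (Fin.last n) = B ∧ (∀ i, (H i).Normal) ∧
        ∀ i : Fin n, ∃ g : G, H i.succ = H i.castSucc ⊔ zpowers g := by
  induction h with
  | refl hA =>
    exact ⟨0, fun _ => _, rfl, rfl, fun _ => hA, fun i => i.elim0⟩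
  | @step B g hAB hn ih =>
    obtain ⟨n, H, h0, hl, hN, hs⟩ := ih
    refine ⟨n + 1, Fin.snoc (α := fun _ => Subgroup G) H (B ⊔ zpowers g), ?_, ?_, ?_, ?_⟩
    · have : (0 : Fin (n + 1 + 1)) = Fin.castSucc (0 : Fin (n + 1)) := rfl
      rw [this, Fin.snoc_castSucc]
      exact h0
    · rw [Fin.snoc_last]
    · intro i
      induction i using Fin.lastCases with
      | last => rw [Fin.snoc_last]; exact hn
      | cast j => rw [Fin.snoc_castSucc]; exact hN j
    · intro i
      induction i using Fin.lastCases with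
      | last =>
        refine ⟨g, ?_⟩
        rw [Fin.succ_last, Fin.snoc_last, Fin.snoc_castSucc, hl]
      | cast j =>
        obtain ⟨g', hg'⟩ := hs j
        refine ⟨g', ?_⟩
        rw [Fin.succ_castSucc, Fin.snoc_castSucc, Fin.snoc_castSucc, hg']

theorem isSupersolvable_iff_ssChain : Cfsg.IsSupersolvable G ↔ SSChain (⊥ : Subgroup G) ⊤ := by
  constructor
  · rintro ⟨n, H, h0, hl, hN, hs⟩
    have := ssChain_of_fin H hN hs (Fin.last n)
    rwa [h0, hl] at this
  · intro h
    obtain ⟨n, H, h0, hl, hN, hs⟩ := fin_of_ssChain h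
    exact ⟨n, H, h0, hl, hN, hs⟩

/-- Image of a chain under a homomorphism preserving normality. -/
theorem SSChain.map {Q : Type*} [Group Q] (f : G →* Q)
    (hf : ∀ C : Subgroup G, C.Normal → (C.map f).Normal) {A B : Subgroup G} (h : SSChain A B) :
    SSChain (A.map f) (B.map f) := by
  induction h with
  | refl hA => exact SSChain.refl _ (hf _ hA)
  | @step B g hAB hn ih =>
    have h1 : (B ⊔ zpowers g).map f = B.map f ⊔ zpowers (f g) := by
      rw [Subgroup.map_sup, MonoidHom.map_zpowers]
    rw [h1]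
    refine SSChain.step (f g) ih ?_
    rw [← h1]
    exact hf _ hn

theorem SSChain.map_of_surjective {Q : Type*} [Group Q] (f : G →* Q) (hf : Function.Surjective f)
    {A B : Subgroup G} (h : SSChain A B) : SSChain (A.map f) (B.map f) :=
  h.map f (fun _ hC => hC.map f hf)

/-- Preimage of a chain under a surjective homomorphism. -/
theorem SSChain.comap {Q : Type*} [Group Q] (f : G →* Q) (hf : Function.Surjective f)
    {A B : Subgroup Q} (h : SSChain A B) : SSChain (A.comap f) (B.comap f) := by
  induction h with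
  | refl hA => exact SSChain.refl _ (hA.comap f)
  | @step B q hAB hn ih =>
    obtain ⟨g, rfl⟩ := hf q
    have h1 : (B ⊔ zpowers (f g)).comap f = B.comap f ⊔ zpowers g := by
      rw [← MonoidHom.map_zpowers, ← Subgroup.comap_sup_eq _ _ _ hf, Subgroup.comap_map_eq]
      have hk : f.ker ≤ B.comap f := fun x hx => by
        rw [Subgroup.mem_comap, MonoidHom.mem_ker.mp hx]; exact B.one_mem
      rw [sup_comm (zpowers g) f.ker, ← sup_assoc, sup_eq_left.mpr hk]
    rw [h1]
    refine SSChain.step g ih ?_
    rw [← h1]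
    exact hn.comap f

/-- Key step for subgroups: intersecting a cyclic step with a subgroup gives a cyclic step. -/
theorem exists_subgroupOf_sup_zpowers (B : Subgroup G) [hB : B.Normal] (g : G) (K : Subgroup G) :
    ∃ k : K, (B ⊔ zpowers g).subgroupOf K = B.subgroupOf K ⊔ zpowers k := by
  classical
  let π := QuotientGroup.mk' B
  let D : Subgroup (G ⧸ B) := ((B ⊔ zpowers g) ⊓ K).map π
  have hBπ : B.map π = ⊥ := by
    rw [Subgroup.map_eq_bot_iff, QuotientGroup.ker_mk']
  have hD : D ≤ zpowers (π g) := by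
    have : ((B ⊔ zpowers g)).map π = zpowers (π g) := by
      rw [Subgroup.map_sup, MonoidHom.map_zpowers, hBπ, bot_sup_eq]
    exact this ▸ Subgroup.map_mono inf_le_left
  have hcyc : IsCyclic D :=
    isCyclic_of_injective (Subgroup.inclusion hD) (Subgroup.inclusion_injective hD)
  obtain ⟨d, hd⟩ := hcyc.exists_generator
  obtain ⟨k, hk, hkd⟩ := (Subgroup.mem_map).mp d.2
  refine ⟨⟨k, hk.2⟩, ?_⟩
  apply le_antisymm
  · intro x hx
    rw [Subgroup.mem_subgroupOf] at hx
    have hxD : π x ∈ D := Subgroup.mem_map_of_mem π ⟨hx, x.2⟩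
    obtain ⟨m, hm⟩ := Subgroup.mem_zpowers_iff.mp (hd ⟨π x, hxD⟩)
    have hm' : π k ^ m = π x := by
      have := congrArg Subtype.val hm
      simpa [hkd] using this
    have hxk : (x : G) * ((k : G) ^ m)⁻¹ ∈ B := by
      rw [← QuotientGroup.eq_one_iff, ← QuotientGroup.mk'_apply, map_mul, map_inv, map_zpow, hm']
      exact mul_inv_cancel _
    have hx1 : x * (⟨k, hk.2⟩ ^ m)⁻¹ ∈ B.subgroupOf K := by
      rw [Subgroup.mem_subgroupOf]
      simpa using hxk
    have hx2 : (⟨k, hk.2⟩ : K) ^ m ∈ zpowers (⟨k, hk.2⟩ : K) := Subgroup.zpow_mem_zpowers _ m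
    have : x = (x * (⟨k, hk.2⟩ ^ m)⁻¹) * (⟨k, hk.2⟩ : K) ^ m := by group
    rw [this]
    exact Subgroup.mul_mem_sup hx1 hx2
  · rw [sup_le_iff]
    constructor
    · intro x hx
      rw [Subgroup.mem_subgroupOf] at hx ⊢
      exact Subgroup.mem_sup_left hx
    · rw [Subgroup.zpowers_le, Subgroup.mem_subgroupOf]
      exact hk.1

theorem SSChain.subgroupOf {A B : Subgroup G} (h : SSChain A B) (K : Subgroup G) :
    SSChain (A.subgroupOf K) (B.subgroupOf K) := by
  induction h with
  | refl hA => exact SSChain.refl _ (hA.subgroupOf K)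
  | @step B g hAB hn ih =>
    have := hAB.normal_right
    obtain ⟨k, hk⟩ := exists_subgroupOf_sup_zpowers B g K
    rw [hk]
    refine SSChain.step k ih ?_
    rw [← hk]
    exact hn.subgroupOf K

/-! ### Closure properties of `Cfsg.IsSupersolvable` -/

theorem isSupersolvable_subgroup (hG : Cfsg.IsSupersolvable G) (K : Subgroup G) :
    Cfsg.IsSupersolvable K := by
  rw [isSupersolvable_iff_ssChain] at hG ⊢
  have := hG.subgroupOf K
  simpa using this

theorem isSupersolvable_of_surjective {Q : Type*} [Group Q] (f : G →* Q)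
    (hf : Function.Surjective f) (hG : Cfsg.IsSupersolvable G) : Cfsg.IsSupersolvable Q := by
  rw [isSupersolvable_iff_ssChain] at hG ⊢
  have := hG.map_of_surjective f hf
  rwa [Subgroup.map_bot, Subgroup.map_top_of_surjective f hf] at this

theorem isSupersolvable_quotient (hG : Cfsg.IsSupersolvable G) (N : Subgroup G) [N.Normal] :
    Cfsg.IsSupersolvable (G ⧸ N) :=
  isSupersolvable_of_surjective (QuotientGroup.mk' N) (QuotientGroup.mk'_surjective N) hG

theorem isSupersolvable_of_mulEquiv {Q : Type*} [Group Q] (e : G ≃* Q)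
    (hG : Cfsg.IsSupersolvable G) : Cfsg.IsSupersolvable Q :=
  isSupersolvable_of_surjective e.toMonoidHom e.surjective hG

/-- Extension: a normal subgroup carrying a `G`-chain, with supersolvable quotient. -/
theorem isSupersolvable_of_ssChain_of_quotient (N : Subgroup G) [N.Normal]
    (hN : SSChain (⊥ : Subgroup G) N) (hQ : Cfsg.IsSupersolvable (G ⧸ N)) :
    Cfsg.IsSupersolvable G := by
  rw [isSupersolvable_iff_ssChain] at hQ ⊢
  have := hQ.comap (QuotientGroup.mk' N) (QuotientGroup.mk'_surjective N)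
  rw [Subgroup.comap_top, MonoidHom.comap_bot, QuotientGroup.ker_mk'] at this
  exact hN.trans this

/-- A cyclic normal subgroup carries a chain of length one. -/
theorem ssChain_bot_of_isCyclic (N : Subgroup G) [hN : N.Normal] [hc : IsCyclic N] :
    SSChain (⊥ : Subgroup G) N := by
  obtain ⟨g, hg⟩ := hc.exists_generator
  have hNg : N = ⊥ ⊔ zpowers (g : G) := by
    rw [bot_sup_eq]
    apply le_antisymm
    · intro x hx
      obtain ⟨m, hm⟩ := Subgroup.mem_zpowers_iff.mp (hg ⟨x, hx⟩)
      have := congrArg Subtype.val hm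
      rw [Subgroup.mem_zpowers_iff]
      exact ⟨m, by simpa using this⟩
    · rw [Subgroup.zpowers_le]; exact g.2
  have h := SSChain.step (g : G) (SSChain.refl (⊥ : Subgroup G) inferInstance) (hNg ▸ hN)
  rwa [← hNg] at h

theorem isSupersolvable_of_cyclic_normal_of_quotient (N : Subgroup G) [N.Normal] [IsCyclic N]
    (hQ : Cfsg.IsSupersolvable (G ⧸ N)) : Cfsg.IsSupersolvable G :=
  isSupersolvable_of_ssChain_of_quotient N (ssChain_bot_of_isCyclic N) hQ

theorem subgroup_map_inl_eq_prod_bot {H : Type*} [Group H] (C : Subgroup G) :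
    C.map (MonoidHom.inl G H) = C.prod ⊥ := by
  ext ⟨a, b⟩
  simp only [Subgroup.mem_map, MonoidHom.inl_apply, Prod.mk.injEq, Subgroup.mem_prod,
    Subgroup.mem_bot]
  constructor
  · rintro ⟨x, hx, rfl, rfl⟩; exact ⟨hx, rfl⟩
  · rintro ⟨ha, rfl⟩; exact ⟨a, ha, rfl, rfl⟩

theorem isSupersolvable_prod {H : Type*} [Group H] (hG : Cfsg.IsSupersolvable G)
    (hH : Cfsg.IsSupersolvable H) : Cfsg.IsSupersolvable (G × H) := by
  rw [isSupersolvable_iff_ssChain] at hG hH ⊢
  have h1 : SSChain ((⊥ : Subgroup G).map (MonoidHom.inl G H)) ((⊤ : Subgroup G).map (MonoidHom.inl G H)) := by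
    refine hG.map (MonoidHom.inl G H) ?_
    intro C hC
    rw [subgroup_map_inl_eq_prod_bot]
    exact Subgroup.prod_normal C ⊥
  have h2 := hH.comap (MonoidHom.snd G H) (fun h => ⟨(1, h), rfl⟩)
  rw [Subgroup.map_bot] at h1
  rw [Subgroup.comap_top] at h2
  have h3 : (⊤ : Subgroup G).map (MonoidHom.inl G H) = (⊥ : Subgroup H).comap (MonoidHom.snd G H) := by
    rw [subgroup_map_inl_eq_prod_bot, Subgroup.top_prod]
  rw [h3] at h1
  exact h1.trans h2

end Cfsg.Agent.Lib.Helper17
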