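import Cfsg.Agent.Lib.Helper17.Supersolvable

set_option autoImplicit false

namespace Cfsg.Agent.Lib.Helper17

open Subgroup
open scoped commutatorElement

universe u

/-- The commutator subgroup centralizes every cyclic normal subgroup. -/
theorem commutator_le_centralizer_zpowers {Q : Type*} [Group Q] {c : Q} (hc : (zpowers c).Normal) :
    commutator Q ≤ Subgroup.centralizer (zpowers c : Set Q) := by
  have hconj : ∀ g : Q, ∃ i : ℤ, g * c * g⁻¹ = c ^ i := by
    intro g
    obtain ⟨i, hi⟩ := Subgroup.mem_zpowers_iff.mp (hc.conj_mem c (Subgroup.mem_zpowers c) g)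
    exact ⟨i, hi.symm⟩
  have hswap : ∀ a b : Q, (a * b) * c * (a * b)⁻¹ = (b * a) * c * (b * a)⁻¹ := by
    intro a b
    obtain ⟨i, hi⟩ := hconj a
    obtain ⟨j, hj⟩ := hconj b
    have h1 : (a * b) * c * (a * b)⁻¹ = c ^ (i * j) := by
      calc (a * b) * c * (a * b)⁻¹ = a * (b * c * b⁻¹) * a⁻¹ := by group
        _ = a * c ^ j * a⁻¹ := by rw [hj]
        _ = (a * c * a⁻¹) ^ j := by rw [conj_zpow]
        _ = c ^ (i * j) := by rw [hi, zpow_mul]
    have h2 : (b * a) * c * (b * a)⁻¹ = c ^ (j * i) := by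
      calc (b * a) * c * (b * a)⁻¹ = b * (a * c * a⁻¹) * b⁻¹ := by group
        _ = b * c ^ i * b⁻¹ := by rw [hi]
        _ = (b * c * b⁻¹) ^ i := by rw [conj_zpow]
        _ = c ^ (j * i) := by rw [hj, zpow_mul]
    rw [h1, h2, mul_comm]
  have hcomm : ∀ a b : Q, ⁅a, b⁆ * c = c * ⁅a, b⁆ := by
    intro a b
    have h := hswap a⁻¹ b⁻¹
    have h3 : ⁅a, b⁆ = (b⁻¹ * a⁻¹)⁻¹ * (a⁻¹ * b⁻¹) := by
      rw [commutatorElement_def]; group
    rw [h3]
    -- from h : x c x⁻¹ = y c y⁻¹ deduce (y⁻¹ x) c = c (y⁻¹ x)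
    have h4 : (b⁻¹ * a⁻¹)⁻¹ * ((a⁻¹ * b⁻¹) * c * (a⁻¹ * b⁻¹)⁻¹) * (b⁻¹ * a⁻¹) = c := by
      rw [h]; group
    calc (b⁻¹ * a⁻¹)⁻¹ * (a⁻¹ * b⁻¹) * c
        = ((b⁻¹ * a⁻¹)⁻¹ * ((a⁻¹ * b⁻¹) * c * (a⁻¹ * b⁻¹)⁻¹) * (b⁻¹ * a⁻¹)) *
            ((b⁻¹ * a⁻¹)⁻¹ * (a⁻¹ * b⁻¹)) := by group
      _ = c * ((b⁻¹ * a⁻¹)⁻¹ * (a⁻¹ * b⁻¹)) := by rw [h4]
  rw [_root_.commutator_def, Subgroup.commutator_le]
  intro a _ b _
  rw [Subgroup.mem_centralizer_iff]
  intro h hh
  obtain ⟨k, rfl⟩ := Subgroup.mem_zpowers_iff.mp hh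
  exact ((show Commute ⁅a, b⁆ c from hcomm a b).zpow_right k).eq.symm

/-- Key step: the commutator subgroup acts trivially on a cyclic normal section. -/
theorem commutatorElement_mem_of_step {G : Type*} [Group G] (A : Subgroup G) [hA : A.Normal] (y : G)
    (hB : (A ⊔ zpowers y).Normal) {x g : G} (hx : x ∈ A ⊔ zpowers y) (hg : g ∈ commutator G) :
    ⁅x, g⁆ ∈ A := by
  let π := QuotientGroup.mk' A
  have hsurj := QuotientGroup.mk'_surjective A
  have hAπ : A.map π = ⊥ := by
    rw [Subgroup.map_eq_bot_iff, QuotientGroup.ker_mk']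
  have hmap : (A ⊔ zpowers y).map π = zpowers (π y) := by
    rw [Subgroup.map_sup, MonoidHom.map_zpowers, hAπ, bot_sup_eq]
  have hC : (zpowers (π y)).Normal := hmap ▸ hB.map π hsurj
  have hgq : π g ∈ commutator (G ⧸ A) := by
    rw [_root_.commutator_def] at hg ⊢
    have h1 : π g ∈ Subgroup.map π ⁅(⊤ : Subgroup G), (⊤ : Subgroup G)⁆ := Subgroup.mem_map_of_mem π hg
    rw [Subgroup.map_commutator] at h1
    exact Subgroup.commutator_mono le_top le_top h1
  have hxq : π x ∈ zpowers (π y) := hmap ▸ Subgroup.mem_map_of_mem π hx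
  have hcent := commutator_le_centralizer_zpowers hC hgq
  rw [Subgroup.mem_centralizer_iff] at hcent
  have h2 : π x * π g = π g * π x := hcent _ hxq
  rw [← QuotientGroup.eq_one_iff, ← QuotientGroup.mk'_apply, commutatorElement_def]
  change π (x * g * x⁻¹ * g⁻¹) = 1
  rw [map_mul, map_mul, map_mul, map_inv, map_inv, h2]
  group

/-- Along a chain from `⊥` the commutator subgroup has an ascending central series. -/
theorem SSChain.exists_central_series {G : Type*} [Group G] {A B : Subgroup G} (h : SSChain A B)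
    (hA : A = ⊥) :
    ∃ (n : ℕ) (L : ℕ → Subgroup (commutator G)), Subgroup.IsAscendingCentralSeries L ∧
      L n = B.subgroupOf (commutator G) := by
  induction h with
  | refl hAn =>
    refine ⟨0, fun _ => ⊥, ⟨rfl, ?_⟩, ?_⟩
    · intro x n hx g
      rw [Subgroup.mem_bot] at hx
      rw [hx, commutatorElement_one_left]
      exact Subgroup.one_mem _
    · rw [hA, Subgroup.bot_subgroupOf]
  | @step B y hAB hn ih =>
    obtain ⟨n, L, ⟨hL0, hLs⟩, hLn⟩ := ih
    have hBn : B.Normal := hAB.normal_right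
    refine ⟨n + 1, fun i => if i ≤ n then L i else (B ⊔ zpowers y).subgroupOf (commutator G),
      ⟨?_, ?_⟩, ?_⟩
    · simp [hL0]
    · intro x i hx g
      by_cases hi : i + 1 ≤ n
      · have hi' : i ≤ n := by omega
        simp only [hi, hi', if_true] at hx ⊢
        exact hLs x i hx g
      · simp only [hi, if_false] at hx
        have hmem : ⁅x, g⁆ ∈ B.subgroupOf (commutator G) := by
          rw [Subgroup.mem_subgroupOf] at hx ⊢
          have := commutatorElement_mem_of_step B y hn hx g.2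
          simpa [commutatorElement_def] using this
        by_cases hi' : i ≤ n
        · have : i = n := by omega
          subst this
          simp only [le_refl, if_true]
          rw [hLn]; exact hmem
        · simp only [hi', if_false]
          rw [Subgroup.mem_subgroupOf] at hmem ⊢
          exact Subgroup.mem_sup_left hmem
    · simp

theorem isNilpotent_commutator_of_isSupersolvable {G : Type*} [Group G]
    (hG : Cfsg.IsSupersolvable G) : Group.IsNilpotent (commutator G) := by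
  rw [isSupersolvable_iff_ssChain] at hG
  obtain ⟨n, L, hL, hLn⟩ := hG.exists_central_series rfl
  rw [Subgroup.nilpotent_iff_finite_ascending_central_series]
  refine ⟨n, L, hL, ?_⟩
  rw [hLn]
  simp

end Cfsg.Agent.Lib.Helper17
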