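import Cfsg.Agent.Lib.Helper17.SupersolvableMore

set_option autoImplicit false

namespace Cfsg.Agent.Lib.Helper17

open Subgroup

universe u

/-- If all conjugates of `z` lie in `zpowers z`, then `zpowers z` is normal. -/
theorem normal_zpowers_of_conj_mem {G : Type*} [Group G] {z : G}
    (h : ∀ g : G, g * z * g⁻¹ ∈ zpowers z) : (zpowers z).Normal := by
  constructor
  intro x hx g
  obtain ⟨k, rfl⟩ := Subgroup.mem_zpowers_iff.mp hx
  have : g * z ^ k * g⁻¹ = (g * z * g⁻¹) ^ k := by
    rw [← MulAut.conj_apply, map_zpow, MulAut.conj_apply]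
  rw [this]
  exact Subgroup.zpow_mem _ (h g) k

/-- A nontrivial finite `p`-group has a central element of order `p`. -/
theorem exists_center_orderOf_eq_prime {G : Type*} [Group G] [Finite G] [Nontrivial G]
    (p : ℕ) [hp : Fact p.Prime] (hG : IsPGroup p G) :
    ∃ z : G, z ∈ Subgroup.center G ∧ orderOf z = p := by
  have hnt : Nontrivial (Subgroup.center G) := hG.center_nontrivial
  have hZ : IsPGroup p (Subgroup.center G) := hG.to_subgroup _
  obtain ⟨k, hk⟩ := IsPGroup.iff_card.mp hZ
  have hk0 : k ≠ 0 := by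
    rintro rfl
    rw [pow_zero] at hk
    have := (Nat.card_eq_one_iff_unique.mp hk).1
    exact not_subsingleton _ this
  have hdvd : p ∣ Nat.card (Subgroup.center G) := by rw [hk]; exact dvd_pow_self p hk0
  obtain ⟨z, hz⟩ := exists_prime_orderOf_dvd_card' p hdvd
  exact ⟨z, z.2, by rw [Subgroup.orderOf_coe, hz]⟩

/-- A nontrivial finite `p`-group has a normal subgroup of order `p`. -/
theorem exists_normal_card_prime_of_pgroup {G : Type*} [Group G] [Finite G] [Nontrivial G]
    (p : ℕ) [hp : Fact p.Prime] (hG : IsPGroup p G) :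
    ∃ N : Subgroup G, N.Normal ∧ Nat.card N = p ∧ IsCyclic N := by
  obtain ⟨z, hzc, hz⟩ := exists_center_orderOf_eq_prime p hG
  refine ⟨zpowers (z : G), ?_, ?_, inferInstance⟩
  · apply normal_zpowers_of_conj_mem
    intro g
    have : g * (z : G) * g⁻¹ = z := by
      have := Subgroup.mem_center_iff.mp hzc g
      rw [this, mul_inv_cancel_right]
    rw [this]; exact Subgroup.mem_zpowers _
  · rw [Nat.card_zpowers, hz]

/-- A group of order `2 p^k` with `p` odd and `k ≥ 1` has a normal subgroup of order `p`. -/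
theorem exists_normal_card_prime_of_two_mul {G : Type*} [Group G] [Finite G]
    (p : ℕ) [hp : Fact p.Prime] (k : ℕ) (hk : k ≠ 0) (hG : Nat.card G = 2 * p ^ k) :
    ∃ N : Subgroup G, N.Normal ∧ Nat.card N = p ∧ IsCyclic N := by
  -- the Sylow p-subgroup
  obtain ⟨P, hP⟩ := Sylow.exists_subgroup_card_pow_prime (G := G) p (n := k) (by rw [hG]; exact dvd_mul_left _ _)
  have hPidx : P.index = 2 := by
    have := P.card_mul_index
    rw [hP, hG, mul_comm] at this
    exact Nat.eq_of_mul_eq_mul_right (pow_pos hp.out.pos k) this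
  have hPn : P.Normal := Subgroup.normal_of_index_eq_two hPidx
  have hPp : IsPGroup p P := IsPGroup.of_card hP
  have hPnt : Nontrivial P := by
    rw [← Finite.one_lt_card_iff_nontrivial, hP]
    exact Nat.one_lt_pow hk hp.out.one_lt
  -- a central element of order p in P
  obtain ⟨z0, hz0c, hz0⟩ := exists_center_orderOf_eq_prime (G := P) p hPp
  obtain ⟨z, hzdef⟩ : ∃ z : G, z = (z0 : G) := ⟨_, rfl⟩
  have hzP : z ∈ P := hzdef ▸ z0.2
  have hzo : orderOf z = p := by rw [hzdef, Subgroup.orderOf_coe, hz0]
  have hzc : ∀ x ∈ P, x * z = z * x := by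
    intro x hx
    have := Subgroup.mem_center_iff.mp hz0c ⟨x, hx⟩
    rw [hzdef]
    exact congrArg Subtype.val this
  -- an element outside P
  obtain ⟨t, htP⟩ : ∃ t : G, t ∉ P := by
    by_contra h
    push Not at h
    have : P = ⊤ := (Subgroup.eq_top_iff' P).mpr h
    rw [this, Subgroup.index_top] at hPidx
    exact absurd hPidx (by norm_num)
  have ht2 : t ^ 2 ∈ P := Subgroup.sq_mem_of_index_two hPidx t
  have hcoset : ∀ g : G, g ∈ P ∨ ∃ x ∈ P, g = t * x := by
    intro g
    by_cases hg : g ∈ P
    · exact Or.inl hg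
    · right
      refine ⟨t⁻¹ * g, ?_, by group⟩
      rw [Subgroup.mul_mem_iff_of_index_two hPidx, Subgroup.inv_mem_iff]
      exact ⟨fun h => absurd h htP, fun h => absurd h hg⟩
  -- the conjugate of z by t
  obtain ⟨c, hcdef⟩ : ∃ c : G, c = t * z * t⁻¹ := ⟨_, rfl⟩
  have hcP : c ∈ P := hcdef ▸ hPn.conj_mem z hzP t
  -- c is also central in P
  have hcc : ∀ x ∈ P, x * c = c * x := by
    intro x hx
    have hx' : t⁻¹ * x * t ∈ P := by
      have := hPn.conj_mem x hx t⁻¹
      simpa using this
    have h1 := hzc _ hx'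
    -- x * (t z t⁻¹) = t (t⁻¹ x t) z t⁻¹ = t z (t⁻¹ x t) t⁻¹ = (t z t⁻¹) x
    calc x * c = t * ((t⁻¹ * x * t) * z) * t⁻¹ := by rw [hcdef]; group
      _ = t * (z * (t⁻¹ * x * t)) * t⁻¹ := by rw [h1]
      _ = c * x := by rw [hcdef]; group
  have hzc' : z * c = c * z := (hcc z hzP)
  have htc : t * c * t⁻¹ = z := by
    have h1 := hzc _ ht2
    calc t * c * t⁻¹ = t ^ 2 * z * (t ^ 2)⁻¹ := by
          rw [hcdef, pow_two, mul_inv_rev]; simp only [mul_assoc]
      _ = z * t ^ 2 * (t ^ 2)⁻¹ := by rw [h1]
      _ = z := by group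
  by_cases hw : z * c = 1
  · -- then t inverts z and ⟨z⟩ is normal
    have hcz : c = z⁻¹ := (eq_inv_of_mul_eq_one_right hw)
    refine ⟨zpowers z, ?_, by rw [Nat.card_zpowers, hzo], inferInstance⟩
    apply normal_zpowers_of_conj_mem
    intro g
    rcases hcoset g with hg | ⟨x, hx, rfl⟩
    · have : g * z * g⁻¹ = z := by rw [hzc g hg, mul_inv_cancel_right]
      rw [this]; exact Subgroup.mem_zpowers _
    · have : t * x * z * (t * x)⁻¹ = z⁻¹ := by
        rw [← hcz, hcdef, mul_assoc t x z, hzc x hx]; group
      rw [this]; exact Subgroup.inv_mem _ (Subgroup.mem_zpowers _)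
  · -- then w = z * c is central of order p
    obtain ⟨w, hwdef⟩ : ∃ w : G, w = z * c := ⟨_, rfl⟩
    rw [← hwdef] at hw
    have hwp : w ^ p = 1 := by
      have hcp : c ^ p = 1 := by
        have : c ^ p = t * z ^ p * t⁻¹ := by
          rw [hcdef, conj_pow]
        rw [this, ← hzo, pow_orderOf_eq_one]; group
      rw [hwdef, (show Commute z c from hzc').mul_pow, ← hzo, pow_orderOf_eq_one, one_mul, hzo, hcp]
    have hwo : orderOf w = p := orderOf_eq_prime hwp hw
    have hwcP : ∀ x ∈ P, x * w = w * x := by
      intro x hx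
      rw [hwdef, ← mul_assoc, hzc x hx, mul_assoc, hcc x hx, mul_assoc]
    have hwt : t * w * t⁻¹ = w := by
      calc t * w * t⁻¹ = (t * z * t⁻¹) * (t * c * t⁻¹) := by rw [hwdef]; group
        _ = c * z := by rw [htc, ← hcdef]
        _ = w := by rw [hwdef, hzc']
    refine ⟨zpowers w, ?_, by rw [Nat.card_zpowers, hwo], inferInstance⟩
    apply normal_zpowers_of_conj_mem
    intro g
    have : g * w * g⁻¹ = w := by
      rcases hcoset g with hg | ⟨x, hx, rfl⟩
      · rw [hwcP g hg, mul_inv_cancel_right]
      · calc t * x * w * (t * x)⁻¹ = t * (x * w) * x⁻¹ * t⁻¹ := by group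
          _ = t * (w * x) * x⁻¹ * t⁻¹ := by rw [hwcP x hx]
          _ = t * w * t⁻¹ := by group
          _ = w := hwt
    rw [this]; exact Subgroup.mem_zpowers _

theorem isSupersolvable_of_subsingleton {G : Type*} [Group G] [Subsingleton G] :
    Cfsg.IsSupersolvable G := by
  rw [isSupersolvable_iff_ssChain]
  have : (⊥ : Subgroup G) = ⊤ := Subsingleton.elim _ _
  rw [← this]
  exact SSChain.refl _ inferInstance

theorem isSupersolvable_of_isCyclic {G : Type*} [Group G] [hc : IsCyclic G] :
    Cfsg.IsSupersolvable G := by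
  rw [isSupersolvable_iff_ssChain]
  obtain ⟨g, hg⟩ := hc.exists_generator
  have htop : (⊤ : Subgroup G) = ⊥ ⊔ zpowers g := by
    rw [bot_sup_eq, eq_comm, Subgroup.eq_top_iff']
    exact hg
  have h := SSChain.step g (SSChain.refl (⊥ : Subgroup G) inferInstance) (htop ▸ inferInstance)
  rwa [← htop] at h


theorem isSupersolvable_of_card_aux (p : ℕ) [hp : Fact p.Prime] (m : ℕ) :
    ∀ (G : Type u) [Group G] [Finite G], Nat.card G = m →
      (∃ k : ℕ, m = p ^ k ∨ m = 2 * p ^ k) → Cfsg.IsSupersolvable G := by
  induction m using Nat.strong_induction_on with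
  | _ m ih =>
    intro G _ _ hm hshape
    rcases subsingleton_or_nontrivial G with hs | hnt
    · exact isSupersolvable_of_subsingleton
    · -- find a normal cyclic subgroup with quotient of the same shape
      have key : ∃ N : Subgroup G, N.Normal ∧ IsCyclic N ∧ 1 < Nat.card N ∧
          ∃ k' : ℕ, Nat.card (G ⧸ N) = p ^ k' ∨ Nat.card (G ⧸ N) = 2 * p ^ k' := by
        have hone : 1 < Nat.card G := Finite.one_lt_card
        -- p-group case
        have pcase : ∀ k : ℕ, Nat.card G = p ^ k → ∃ N : Subgroup G, N.Normal ∧ IsCyclic N ∧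
            1 < Nat.card N ∧
            ∃ k' : ℕ, Nat.card (G ⧸ N) = p ^ k' ∨ Nat.card (G ⧸ N) = 2 * p ^ k' := by
          intro k hk
          have hk0 : k ≠ 0 := by
            rintro rfl
            rw [pow_zero] at hk
            omega
          obtain ⟨N, hN, hNc, hNcyc⟩ := exists_normal_card_prime_of_pgroup p (IsPGroup.of_card hk)
          refine ⟨N, hN, hNcyc, by rw [hNc]; exact hp.out.one_lt, k - 1, Or.inl ?_⟩
          have h1 := N.card_eq_card_quotient_mul_card_subgroup
          rw [hNc, hk] at h1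
          have : p ^ k = p ^ (k - 1) * p := by
            rw [← pow_succ]; congr 1; omega
          rw [this] at h1
          exact (Nat.eq_of_mul_eq_mul_right hp.out.pos h1).symm
        obtain ⟨k, hk | hk⟩ := hshape
        · exact pcase k (hm.trans hk)
        · by_cases hp2 : p = 2
          · refine pcase (k + 1) ?_
            rw [hm, hk, pow_succ, mul_comm, hp2]
          · by_cases hk0 : k = 0
            · subst hk0
              rw [pow_zero, mul_one] at hk
              have hG2 : Nat.card G = 2 := hm.trans hk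
              have : Fact (Nat.Prime 2) := ⟨Nat.prime_two⟩
              have hcyc : IsCyclic G := isCyclic_of_prime_card hG2
              have hcyc' : IsCyclic (⊤ : Subgroup G) :=
                isCyclic_of_surjective (Subgroup.topEquiv (G := G)).symm.toMonoidHom
                  (Subgroup.topEquiv (G := G)).symm.surjective
              refine ⟨⊤, inferInstance, hcyc', ?_, 0, Or.inl ?_⟩
              · rw [Subgroup.card_top]; exact hone
              · rw [pow_zero]
                have := (⊤ : Subgroup G).card_eq_card_quotient_mul_card_subgroup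
                rw [Subgroup.card_top] at this
                have hpos : 0 < Nat.card G := Nat.card_pos
                exact (Nat.eq_of_mul_eq_mul_right hpos (by rw [one_mul]; exact this)).symm
            · obtain ⟨N, hN, hNc, hNcyc⟩ :=
                exists_normal_card_prime_of_two_mul p k hk0 (hm.trans hk)
              refine ⟨N, hN, hNcyc, by rw [hNc]; exact hp.out.one_lt, k - 1, Or.inr ?_⟩
              have h1 := N.card_eq_card_quotient_mul_card_subgroup
              rw [hNc, hm, hk] at h1
              have : 2 * p ^ k = 2 * p ^ (k - 1) * p := by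
                rw [mul_assoc, ← pow_succ]; congr 2; omega
              rw [this] at h1
              exact (Nat.eq_of_mul_eq_mul_right hp.out.pos h1).symm
      obtain ⟨N, hN, hNcyc, hN1, hk'⟩ := key
      have hlt : Nat.card (G ⧸ N) < m := by
        have h1 := N.card_eq_card_quotient_mul_card_subgroup
        rw [← hm, h1]
        have : 0 < Nat.card (G ⧸ N) := Nat.card_pos
        nlinarith
      exact isSupersolvable_of_cyclic_normal_of_quotient N (ih _ hlt (G ⧸ N) rfl hk')

theorem isSupersolvable_of_card_two_mul_prime_pow {G : Type u} [Group G] [Finite G] (p n : ℕ)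
    (hp : p.Prime) (hG : Nat.card G = 2 * p ^ n) : Cfsg.IsSupersolvable G := by
  have : Fact p.Prime := ⟨hp⟩
  exact isSupersolvable_of_card_aux p (Nat.card G) G rfl ⟨n, Or.inr hG⟩

theorem isSupersolvable_of_card_prime_pow {G : Type u} [Group G] [Finite G] (p n : ℕ)
    (hp : p.Prime) (hG : Nat.card G = p ^ n) : Cfsg.IsSupersolvable G := by
  have : Fact p.Prime := ⟨hp⟩
  exact isSupersolvable_of_card_aux p (Nat.card G) G rfl ⟨n, Or.inl hG⟩

end Cfsg.Agent.Lib.Helper17
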