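import Mathlib
import Cfsg.Prelude.Def_Transfer
import Cfsg.Prelude.Def_PLocal
import Cfsg.Agent.Lib.Helper17.ThompsonMap

set_option autoImplicit false

/-!
# Transport along isomorphisms: `J`, `Ω₁(Z(J))`, `Ω₁(Z)`, stable embeddings
-/

namespace Cfsg.Agent.Lib.Helper17

open Subgroup

universe u

section Equiv

variable {G H : Type u} [Group G] [Group H] {p : ℕ}

theorem map_equiv_mem_maxEA (e : G ≃* H) {A : Subgroup G}
    (hA : A ∈ Cfsg.maxElementaryAbelianSubgroups p G) :
    A.map e.toMonoidHom ∈ Cfsg.maxElementaryAbelianSubgroups p H := by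
  refine ⟨ea_map _ hA.1, ?_⟩
  intro B hB
  rw [Subgroup.card_map_of_injective e.injective]
  have h2 := hA.2 _ (ea_map e.symm.toMonoidHom hB)
  rwa [Subgroup.card_map_of_injective e.symm.injective] at h2

theorem map_symm_map_equiv (e : G ≃* H) (B : Subgroup H) :
    (B.map e.symm.toMonoidHom).map e.toMonoidHom = B := by
  ext x
  simp [Subgroup.mem_map]

theorem thompsonSubgroup_map_equiv (e : G ≃* H) :
    (Cfsg.thompsonSubgroup p G).map e.toMonoidHom = Cfsg.thompsonSubgroup p H := by
  apply le_antisymm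
  · rw [Subgroup.map_le_iff_le_comap]
    apply thompsonSubgroup_le
    intro A hA
    rw [← Subgroup.map_le_iff_le_comap]
    exact le_thompsonSubgroup (map_equiv_mem_maxEA e hA)
  · apply thompsonSubgroup_le
    intro B hB
    rw [← map_symm_map_equiv e B]
    exact Subgroup.map_mono (le_thompsonSubgroup (map_equiv_mem_maxEA e.symm hB))

theorem omegaCenterThompson_eq (p : ℕ) (G : Type u) [Group G] :
    Cfsg.omegaCenterThompson p G = omegaOneCenter p (Cfsg.thompsonSubgroup p G) := rfl

theorem omegaCenterThompson_map_equiv (e : G ≃* H) :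
    (Cfsg.omegaCenterThompson p G).map e.toMonoidHom = Cfsg.omegaCenterThompson p H := by
  rw [omegaCenterThompson_eq, omegaCenterThompson_eq, ← thompsonSubgroup_map_equiv e]
  symm
  apply omegaOneCenter_map_of_injOn
  intro x _ hx
  exact e.injective (by rw [map_one]; exact hx)

theorem omegaOne_center_map_equiv (e : G ≃* H) :
    (Cfsg.omegaOne p (Subgroup.center G)).map e.toMonoidHom =
      Cfsg.omegaOne p (Subgroup.center H) := by
  unfold Cfsg.omegaOne
  rw [MonoidHom.map_closure]
  congr 1
  ext y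
  constructor
  · rintro ⟨x, ⟨hx, hxp⟩, rfl⟩
    refine ⟨?_, ?_⟩
    · rw [Subgroup.mem_center_iff] at hx ⊢
      intro h
      obtain ⟨g, rfl⟩ := e.surjective h
      show e g * e x = e x * e g
      rw [← map_mul, ← map_mul, hx g]
    · show (e x) ^ p = 1
      rw [← map_pow, hxp, map_one]
  · rintro ⟨hy, hyp⟩
    refine ⟨e.symm y, ⟨?_, ?_⟩, e.apply_symm_apply y⟩
    · rw [Subgroup.mem_center_iff] at hy ⊢
      intro g
      apply e.injective
      rw [map_mul, map_mul, e.apply_symm_apply]
      exact hy (e g)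
    · apply e.injective
      rw [map_pow, e.apply_symm_apply, map_one]
      exact hyp

end Equiv

section Stable

variable {p : ℕ}

/-- Stable embeddings can be precomposed with isomorphisms. -/
theorem isStableEmbedding_comp_equiv {S S' K : Type u} [Group S] [Group S'] [Group K]
    (τ : S →* K) (e : S' ≃* S) (h : Cfsg.IsStableEmbedding p τ) :
    Cfsg.IsStableEmbedding p (τ.comp e.toMonoidHom) := by
  obtain ⟨hinj, hfin, ⟨P, hP⟩, hchar, hJ, hst⟩ := h
  refine ⟨hinj.comp e.injective, hfin, ⟨P, ?_⟩, hchar, ?_, ?_⟩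
  · rw [hP]
    ext x
    constructor
    · rintro ⟨s, rfl⟩
      exact ⟨e.symm s, by simp⟩
    · rintro ⟨s', rfl⟩
      exact ⟨e s', rfl⟩
  · rw [← Subgroup.map_map, thompsonSubgroup_map_equiv e]
    exact hJ
  · intro V hVn hV
    rw [← Subgroup.map_map, omegaCenterThompson_map_equiv e] at hV
    exact hst V hV

end Stable

end Cfsg.Agent.Lib.Helper17
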