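import Mathlib

set_option autoImplicit false
open scoped commutatorElement

namespace Cfsg.Agent.Lib.Helper17

section
variable {P : Type*} [Group P] (N : Subgroup P) [N.Normal]

/-- the hom `n ↦ Ab(x n x⁻¹) Ab(n)⁻¹` from `N` to its abelianization. -/
noncomputable def commHomAb (x : P) : N →* Abelianization N :=
  (Abelianization.of.comp (MulAut.conjNormal x : MulAut N).toMonoidHom) / Abelianization.of

lemma commHomAb_apply (x : P) (n : N) :
    commHomAb N x n = Abelianization.of ((MulAut.conjNormal x : MulAut N) n * n⁻¹) := by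
  simp [commHomAb, div_eq_mul_inv]

lemma of_eq_one_iff {G : Type*} [Group G] (g : G) :
    Abelianization.of g = 1 ↔ g ∈ commutator G := by
  rw [← MonoidHom.mem_ker, Abelianization.ker_of]

lemma mem_ker_commHomAb (x : P) (n : N) :
    n ∈ (commHomAb N x).ker ↔
      x * n * x⁻¹ * (n : P)⁻¹ ∈ (commutator N).map N.subtype := by
  rw [MonoidHom.mem_ker, commHomAb_apply, of_eq_one_iff, Subgroup.mem_map]
  constructor
  · intro h
    exact ⟨_, h, by simp [MulAut.conjNormal_apply]⟩
  · rintro ⟨c, hc, hcx⟩
    have : c = (MulAut.conjNormal x : MulAut N) n * n⁻¹ := by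
      apply Subtype.ext
      rw [← Subgroup.subtype_apply, hcx]
      simp [MulAut.conjNormal_apply]
    rwa [← this]

/-- The candidate for the derived subgroup of `P`. -/
noncomputable def derivedCandidate (x : P) : Subgroup P :=
  (Subgroup.comap Abelianization.of (commHomAb N x).range).map N.subtype

lemma derivedCandidate_le (x : P) : derivedCandidate N x ≤ N := by
  rintro _ ⟨n, -, rfl⟩
  exact n.2

lemma mem_derivedCandidate_iff (x : P) (n : N) :
    (n : P) ∈ derivedCandidate N x ↔ Abelianization.of n ∈ (commHomAb N x).range := by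
  unfold derivedCandidate
  rw [Subgroup.mem_map]
  constructor
  · rintro ⟨m, hm, hmn⟩
    have : m = n := Subtype.ext hmn
    subst this
    exact hm
  · intro h
    exact ⟨n, h, rfl⟩

lemma commutator_map_le_derivedCandidate (x : P) :
    (commutator N).map N.subtype ≤ derivedCandidate N x := by
  apply Subgroup.map_mono
  intro c hc
  rw [Subgroup.mem_comap, (of_eq_one_iff c).2 hc]
  exact one_mem _

lemma comm_mem_derivedCandidate (x : P) (n : N) :
    x * n * x⁻¹ * (n : P)⁻¹ ∈ derivedCandidate N x := by
  have h : x * n * x⁻¹ * (n : P)⁻¹ = (((MulAut.conjNormal x : MulAut N) n * n⁻¹ : N) : P) := by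
    simp [MulAut.conjNormal_apply]
  rw [h, mem_derivedCandidate_iff, ← commHomAb_apply]
  exact ⟨n, rfl⟩

lemma comm_mem_derivedCandidate' (x : P) (n m : N) :
    (n : P) * m * (n : P)⁻¹ * (m : P)⁻¹ ∈ derivedCandidate N x := by
  apply commutator_map_le_derivedCandidate N x
  refine ⟨⁅n, m⁆, ?_, by simp [commutatorElement_def]⟩
  rw [commutator_def]
  exact Subgroup.commutator_mem_commutator (Subgroup.mem_top n) (Subgroup.mem_top m)

lemma derivedCandidate_le_commutator (x : P) : derivedCandidate N x ≤ commutator P := by
  rintro _ ⟨k, hk, rfl⟩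
  rw [SetLike.mem_coe, Subgroup.mem_comap] at hk
  obtain ⟨n, hn⟩ := hk
  rw [commHomAb_apply] at hn
  -- `of k = of (conj n * n⁻¹)`, so `k = (conj n * n⁻¹) * c` with `c ∈ commutator N`
  have hc : ((MulAut.conjNormal x : MulAut N) n * n⁻¹)⁻¹ * k ∈ commutator N := by
    rw [← of_eq_one_iff, map_mul, map_inv, hn, inv_mul_cancel]
  have hk' : (k : P) = (x * n * x⁻¹ * (n : P)⁻¹) *
      ((((MulAut.conjNormal x : MulAut N) n * n⁻¹)⁻¹ * k : N) : P) := by
    simp only [Subgroup.coe_mul, Subgroup.coe_inv, MulAut.conjNormal_apply]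
    group
  rw [Subgroup.subtype_apply, hk']
  apply mul_mem
  · have : x * n * x⁻¹ * (n : P)⁻¹ = ⁅x, (n : P)⁆ := by rw [commutatorElement_def]
    rw [this, commutator_def]
    exact Subgroup.commutator_mem_commutator (Subgroup.mem_top _) (Subgroup.mem_top _)
  · have : (commutator N).map N.subtype ≤ commutator P := by
      rw [commutator_def, Subgroup.map_commutator, commutator_def]
      exact Subgroup.commutator_mono le_top le_top
    exact this ⟨_, hc, rfl⟩

lemma mem_normalizer_derivedCandidate (x g : P)
    (hg : ∀ n : N, g * n * g⁻¹ * (n : P)⁻¹ ∈ derivedCandidate N x) :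
    g ∈ Subgroup.normalizer (derivedCandidate N x : Set P) := by
  rw [Subgroup.mem_normalizer_iff]
  intro h
  constructor
  · intro hh
    have hN : h ∈ N := derivedCandidate_le N x hh
    have := mul_mem (hg ⟨h, hN⟩) hh
    simpa using this
  · intro hh
    have hN' : g * h * g⁻¹ ∈ N := derivedCandidate_le N x hh
    have hN : h ∈ N := by
      have := (inferInstance : N.Normal).conj_mem _ hN' g⁻¹
      simpa [mul_assoc] using this
    have h1 := hg ⟨h, hN⟩
    have h2 : h⁻¹ ∈ derivedCandidate N x := by
      have := mul_mem (inv_mem hh) h1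
      simpa [mul_assoc] using this
    simpa using inv_mem h2

lemma derivedCandidate_normal (x : P) (hx : N ⊔ Subgroup.zpowers x = ⊤) :
    (derivedCandidate N x).Normal := by
  rw [← Subgroup.normalizer_eq_top_iff, eq_top_iff, ← hx, sup_le_iff, Subgroup.zpowers_le]
  constructor
  · intro m hm
    apply mem_normalizer_derivedCandidate
    intro n
    exact comm_mem_derivedCandidate' N x ⟨m, hm⟩ n
  · apply mem_normalizer_derivedCandidate
    intro n
    exact comm_mem_derivedCandidate N x n

lemma commutator_le_derivedCandidate (x : P) (hx : N ⊔ Subgroup.zpowers x = ⊤) :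
    commutator P ≤ derivedCandidate N x := by
  haveI := derivedCandidate_normal N x hx
  rw [← Subgroup.Normal.quotient_commutative_iff_commutator_le]
  set K := derivedCandidate N x with hK
  have comm_quot : ∀ a b : P, a * b * a⁻¹ * b⁻¹ ∈ K →
      (QuotientGroup.mk a : P ⧸ K) * QuotientGroup.mk b = QuotientGroup.mk b * QuotientGroup.mk a := by
    intro a b h
    rw [← commutatorElement_eq_one_iff_mul_comm, commutatorElement_def, ← QuotientGroup.mk_inv,
      ← QuotientGroup.mk_inv, ← QuotientGroup.mk_mul, ← QuotientGroup.mk_mul, ← QuotientGroup.mk_mul,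
      QuotientGroup.eq_one_iff]
    exact h
  set S : Set (P ⧸ K) := (QuotientGroup.mk' K) '' ((N : Set P) ∪ {x}) with hS
  have hpair : ∀ s ∈ S, ∀ t ∈ S, t * s = s * t := by
    rintro _ ⟨a, ha, rfl⟩ _ ⟨b, hb, rfl⟩
    simp only [QuotientGroup.mk'_apply]
    rcases ha with ha | ha <;> rcases hb with hb | hb
    · exact comm_quot b a (comm_mem_derivedCandidate' N x ⟨b, hb⟩ ⟨a, ha⟩)
    · rw [Set.mem_singleton_iff] at hb; subst hb
      exact comm_quot b a (comm_mem_derivedCandidate N b ⟨a, ha⟩)
    · rw [Set.mem_singleton_iff] at ha; subst ha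
      exact (comm_quot a b (comm_mem_derivedCandidate N a ⟨b, hb⟩)).symm
    · rw [Set.mem_singleton_iff] at ha hb; subst ha; subst hb; rfl
  have htop : Subgroup.closure S = ⊤ := by
    rw [hS, ← MonoidHom.map_closure, Subgroup.closure_union, Subgroup.closure_eq,
      ← Subgroup.zpowers_eq_closure, hx, ← MonoidHom.range_eq_map, MonoidHom.range_eq_top]
    exact QuotientGroup.mk'_surjective K
  have h1 : Subgroup.closure S ≤ Subgroup.centralizer S :=
    (Subgroup.closure_le _).2 (fun s hs => Subgroup.mem_centralizer_iff.2 (fun t ht => hpair s hs t ht))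
  have h2 : S ⊆ Subgroup.center (P ⧸ K) := fun s hs => Subgroup.mem_center_iff.2 (fun q => by
    have hq : q ∈ Subgroup.closure S := htop ▸ Subgroup.mem_top q
    exact (Subgroup.mem_centralizer_iff.1 (h1 hq) s hs).symm)
  have h3 : Subgroup.center (P ⧸ K) = ⊤ := top_le_iff.1 (htop ▸ (Subgroup.closure_le _).2 h2)
  exact ⟨⟨fun a b => by
    have ha : a ∈ Subgroup.center (P ⧸ K) := h3 ▸ Subgroup.mem_top a
    exact (Subgroup.mem_center_iff.1 ha b).symm⟩⟩

lemma commutator_eq_derivedCandidate (x : P) (hx : N ⊔ Subgroup.zpowers x = ⊤) :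
    commutator P = derivedCandidate N x :=
  le_antisymm (commutator_le_derivedCandidate N x hx) (derivedCandidate_le_commutator N x)

lemma card_derivedCandidate [Finite P] (x : P) :
    Nat.card (derivedCandidate N x) =
      Nat.card (commutator N) * Nat.card (commHomAb N x).range := by
  unfold derivedCandidate
  rw [Subgroup.card_map_of_injective N.subtype_injective]
  set R := (commHomAb N x).range
  have hsurj : Function.Surjective (Abelianization.of : N →* Abelianization N) :=
    QuotientGroup.mk_surjective
  have h1 : (Subgroup.comap Abelianization.of R).index = R.index :=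
    Subgroup.index_comap_of_surjective R hsurj
  have h2 := Subgroup.card_mul_index (Subgroup.comap (Abelianization.of : N →* _) R)
  have h3 := Subgroup.card_mul_index R
  have h4 : Nat.card N = Nat.card (commutator N) * Nat.card (Abelianization N) := by
    rw [← Subgroup.card_mul_index (commutator N)]
    rfl
  have hpos : 0 < R.index := Nat.pos_of_ne_zero Subgroup.index_ne_zero_of_finite
  apply Nat.eq_of_mul_eq_mul_right hpos
  rw [← h1, h2, h4, ← h3, h1, mul_assoc]

/-- The key identity: `[P : P'] · |N'| = [P : N] · c(x)`. -/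
theorem index_commutator_mul_card [Finite P] (x : P) (hx : N ⊔ Subgroup.zpowers x = ⊤) :
    (commutator P).index * Nat.card (commutator N) =
      N.index * Nat.card {n : N // x * n * x⁻¹ * (n : P)⁻¹ ∈ (commutator N).map N.subtype} := by
  have hc : Nat.card {n : N // x * n * x⁻¹ * (n : P)⁻¹ ∈ (commutator N).map N.subtype} =
      Nat.card (commHomAb N x).ker := by
    apply Nat.card_congr
    exact Equiv.subtypeEquivRight (fun n => (mem_ker_commHomAb N x n).symm)
  rw [hc, commutator_eq_derivedCandidate N x hx]
  have h1 := card_derivedCandidate N x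
  have h2 := Subgroup.card_mul_index (derivedCandidate N x)
  have h3 := Subgroup.card_mul_index N
  have h4 := Subgroup.card_mul_index (commHomAb N x).ker
  rw [Subgroup.index_ker] at h4
  have hpos : 0 < Nat.card (commHomAb N x).range := Nat.card_pos
  apply Nat.eq_of_mul_eq_mul_right hpos
  calc (derivedCandidate N x).index * Nat.card (commutator N) * Nat.card (commHomAb N x).range
      = Nat.card (derivedCandidate N x) * (derivedCandidate N x).index := by rw [h1]; ring
    _ = Nat.card P := h2
    _ = Nat.card N * N.index := h3.symm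
    _ = N.index * Nat.card (commHomAb N x).ker * Nat.card (commHomAb N x).range := by
        rw [← h4]; ring

end

end Cfsg.Agent.Lib.Helper17
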