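import Mathlib
import Cfsg.Prelude.Def_LocalEven
import Cfsg.Agent.Lib.Helper1.ThompsonA3
import Cfsg.Agent.Lib.Helper11.QuadFree2
import Cfsg.Agent.Lib.Lead.GlaubermanRepl

/-!
# `S₄` involved iff `S₃` involved in some `N(T)/C(T)` : basic tools (helper17)
-/

set_option autoImplicit false

namespace Cfsg.Agent.Lib.Helper17.S4Inv

open Subgroup

/-- in a finite group, `g B g⁻¹ ⊆ B` puts `g` in the normalizer -/
theorem mem_normalizer_of_conj_le {L : Type*} [Group L] [Finite L] (B : Subgroup L) (g : L)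
    (h : ∀ b ∈ B, g * b * g⁻¹ ∈ B) : g ∈ normalizer (B : Set L) := by
  have key : ∀ n : ℕ, ∀ b ∈ B, g ^ n * b * (g ^ n)⁻¹ ∈ B := by
    intro n
    induction n with
    | zero => intro b hb; simpa using hb
    | succ n ih =>
      intro b hb
      have h1 := h _ (ih b hb)
      have e : g ^ (n + 1) * b * (g ^ (n + 1))⁻¹ = g * (g ^ n * b * (g ^ n)⁻¹) * g⁻¹ := by
        rw [pow_succ']; group
      rw [e]; exact h1
  have hpos : 0 < orderOf g := orderOf_pos g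
  have hinv : g ^ (orderOf g - 1) = g⁻¹ := by
    apply eq_inv_of_mul_eq_one_left
    rw [← pow_succ, Nat.sub_add_cancel hpos, pow_orderOf_eq_one]
  rw [mem_normalizer_iff]
  intro x
  constructor
  · exact h x
  · intro hx
    have h1 := key (orderOf g - 1) _ hx
    rw [hinv] at h1
    have e : g⁻¹ * (g * x * g⁻¹) * g⁻¹⁻¹ = x := by group
    rw [e] at h1
    exact h1

/-- coprime action on a chain -/
theorem chain {L : Type*} [Group L] (T T₁ : Subgroup L) (hT2 : IsPGroup 2 T) (hle : T₁ ≤ T)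
    (y : L) (k : ℕ) (hy : y ^ (3 ^ k) = 1)
    (h1 : ∀ t ∈ T₁, y * t * y⁻¹ = t) (h2 : ∀ t ∈ T, y * t * y⁻¹ * t⁻¹ ∈ T₁) :
    ∀ t ∈ T, y * t * y⁻¹ = t := by
  intro t ht
  obtain ⟨u, hu⟩ : ∃ u, u = y * t * y⁻¹ * t⁻¹ := ⟨_, rfl⟩
  have huT₁ : u ∈ T₁ := by rw [hu]; exact h2 t ht
  have hyt : y * t * y⁻¹ = u * t := by rw [hu]; group
  have key : ∀ n : ℕ, y ^ n * t * (y ^ n)⁻¹ = u ^ n * t := by
    intro n
    induction n with
    | zero => simp
    | succ n ih =>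
      have e : y ^ (n + 1) * t * (y ^ (n + 1))⁻¹ = y * (y ^ n * t * (y ^ n)⁻¹) * y⁻¹ := by
        rw [pow_succ']; group
      rw [e, ih]
      have e2 : y * (u ^ n * t) * y⁻¹ = (y * u * y⁻¹) ^ n * (y * t * y⁻¹) := by
        rw [conj_pow]; group
      rw [e2, h1 u huT₁, hyt, pow_succ, mul_assoc]
  have h3 := key (3 ^ k)
  rw [hy] at h3
  have h4 : u ^ 3 ^ k = 1 := by
    have : u ^ 3 ^ k * t = 1 * t := by rw [← h3]; group
    exact mul_right_cancel this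
  obtain ⟨m, hm⟩ := hT2 ⟨u, hle huT₁⟩
  have hm' : u ^ 2 ^ m = 1 := by
    have := congrArg Subtype.val hm
    simpa using this
  have hd1 : orderOf u ∣ 3 ^ k := orderOf_dvd_of_pow_eq_one h4
  have hd2 : orderOf u ∣ 2 ^ m := orderOf_dvd_of_pow_eq_one hm'
  have hcop : Nat.Coprime (3 ^ k) (2 ^ m) := Nat.Coprime.pow _ _ (by norm_num)
  have h5 : orderOf u = 1 := Nat.eq_one_of_dvd_coprimes hcop hd1 hd2
  have hu1 : u = 1 := orderOf_eq_one_iff.mp h5
  rw [hyt, hu1, one_mul]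

/-- a four-group with a complement inducing `S₃` gives `S₄` -/
theorem final {L : Type*} [Group L] [Finite L] (W K₂ : Subgroup L) (hW4 : Nat.card W = 4)
    (hN : K₂ ≤ normalizer (W : Set L)) (hWK : W ⊓ K₂ = ⊥)
    (h6 : 6 * Nat.card ↥((centralizer (W : Set L)).subgroupOf K₂) ≤ Nat.card K₂) :
    Cfsg.Involves (Equiv.Perm (Fin 4)) L := by
  obtain ⟨Γ, hΓ⟩ : ∃ Γ : Subgroup L, Γ = K₂ ⊔ W := ⟨_, rfl⟩
  have hKΓ : K₂ ≤ Γ := by rw [hΓ]; exact le_sup_left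
  have hWΓ : W ≤ Γ := by rw [hΓ]; exact le_sup_right
  have hcard := Cfsg.Agent.Lib.Lead.GlaubermanRepl.card_sup_mul_card_inf K₂ W hN
  rw [inf_comm, hWK, Subgroup.card_bot, mul_one, ← hΓ, hW4] at hcard
  obtain ⟨R, hR⟩ : ∃ R : Subgroup ↥Γ, R = K₂.subgroupOf Γ := ⟨_, rfl⟩
  have hRcard : Nat.card R = Nat.card K₂ := by
    rw [hR]; exact Nat.card_congr (Subgroup.subgroupOfEquivOfLe hKΓ).toEquiv
  have hidx : R.index = 4 := by
    have h1 := Subgroup.card_mul_index R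
    rw [hRcard, hcard] at h1
    have hpos : 0 < Nat.card K₂ := Nat.card_pos
    exact Nat.eq_of_mul_eq_mul_left hpos h1
  have hcore : Nat.card R.normalCore ≤ Nat.card ↥((centralizer (W : Set L)).subgroupOf K₂) := by
    have hRmem : ∀ z : ↥Γ, z ∈ R ↔ (z : L) ∈ K₂ := by
      intro z; rw [hR, Subgroup.mem_subgroupOf]
    have hmem : ∀ g : ↥R.normalCore, ((g : ↥Γ) : L) ∈ K₂ := by
      intro g
      exact (hRmem _).mp (Subgroup.normalCore_le R g.2)
    have hcen : ∀ g : ↥R.normalCore, ((g : ↥Γ) : L) ∈ centralizer (W : Set L) := by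
      intro g
      rw [Subgroup.mem_centralizer_iff]
      intro w hw
      have h1 : (⟨w, hWΓ hw⟩ : ↥Γ) * (g : ↥Γ) * (⟨w, hWΓ hw⟩ : ↥Γ)⁻¹ ∈ R := g.2 _
      have h1' : w * ((g : ↥Γ) : L) * w⁻¹ ∈ K₂ := by
        have := (hRmem _).mp h1
        simpa using this
      have h2 : w * ((g : ↥Γ) : L) * w⁻¹ * (((g : ↥Γ) : L))⁻¹ ∈ K₂ :=
        mul_mem h1' (inv_mem (hmem g))
      have h3 : w * ((g : ↥Γ) : L) * w⁻¹ * (((g : ↥Γ) : L))⁻¹ ∈ W := by
        have hn := hN (hmem g)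
        rw [mem_normalizer_iff] at hn
        have : ((g : ↥Γ) : L) * w⁻¹ * (((g : ↥Γ) : L))⁻¹ ∈ W := (hn _).mp (inv_mem hw)
        have e : w * ((g : ↥Γ) : L) * w⁻¹ * (((g : ↥Γ) : L))⁻¹ =
            w * (((g : ↥Γ) : L) * w⁻¹ * (((g : ↥Γ) : L))⁻¹) := by group
        rw [e]; exact mul_mem hw this
      have h4 : w * ((g : ↥Γ) : L) * w⁻¹ * (((g : ↥Γ) : L))⁻¹ ∈ W ⊓ K₂ := ⟨h3, h2⟩
      rw [hWK, Subgroup.mem_bot] at h4
      have h5 : w * ((g : ↥Γ) : L) * w⁻¹ = ((g : ↥Γ) : L) := by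
        have := mul_eq_one_iff_eq_inv.mp h4
        rw [inv_inv] at this; exact this
      calc w * ((g : ↥Γ) : L) = w * ((g : ↥Γ) : L) * w⁻¹ * w := by group
        _ = ((g : ↥Γ) : L) * w := by rw [h5]
    apply Nat.card_le_card_of_injective
      (fun g : ↥R.normalCore => (⟨⟨((g : ↥Γ) : L), hmem g⟩,
        Subgroup.mem_subgroupOf.mpr (hcen g)⟩ : ↥((centralizer (W : Set L)).subgroupOf K₂)))
    intro g₁ g₂ h
    have h1 := congrArg (fun z : ↥((centralizer (W : Set L)).subgroupOf K₂) => ((z : ↥K₂) : L)) h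
    exact Subtype.ext (Subtype.ext h1)
  have hcore' : 24 * Nat.card R.normalCore ≤ Nat.card ↥Γ := by
    rw [hcard]
    have := Nat.mul_le_mul_left 24 hcore
    omega
  obtain ⟨e⟩ := Cfsg.Agent.Lib.Helper1.ThompsonA.perm4_of_coset_action R hidx hcore'
  apply Cfsg.Agent.Lib.Helper15.QdSection.involves_of_surjective Γ
    (e.toMonoidHom.comp (QuotientGroup.mk' R.normalCore))
  intro σ
  obtain ⟨q, rfl⟩ := e.surjective σ
  obtain ⟨g, rfl⟩ := QuotientGroup.mk'_surjective R.normalCore q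
  exact ⟨g, rfl⟩

end Cfsg.Agent.Lib.Helper17.S4Inv
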