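import Mathlib
import Cfsg.Agent.Lib.Helper17.S4InvA

/-!
# Tools for `S3304` (helper17): coprime chains, odd automorphisms of cyclic `2`-groups, `Q₈` facts
-/

set_option autoImplicit false

namespace Cfsg.Agent.Lib.Helper17.BinOct

open Subgroup

/-- coprime action on a chain, odd order version -/
theorem chainOdd {L : Type*} [Group L] (T T₁ : Subgroup L) (hT2 : IsPGroup 2 T) (hle : T₁ ≤ T)
    (y : L) (m : ℕ) (hm : Odd m) (hy : y ^ m = 1)
    (h1 : ∀ t ∈ T₁, y * t * y⁻¹ = t) (h2 : ∀ t ∈ T, y * t * y⁻¹ * t⁻¹ ∈ T₁) :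
    ∀ t ∈ T, y * t * y⁻¹ = t := by
  intro t ht
  obtain ⟨u, hu⟩ : ∃ u, u = y * t * y⁻¹ * t⁻¹ := ⟨_, rfl⟩
  have huT₁ : u ∈ T₁ := by rw [hu]; exact h2 t ht
  have hyt : y * t * y⁻¹ = u * t := by rw [hu]; group
  have key : ∀ n : ℕ, y ^ n * t * (y ^ n)⁻¹ = u ^ n * t := by
    intro n
    induction n with
    | zero => simp
    | succ n ih =>
      have e : y ^ (n + 1) * t * (y ^ (n + 1))⁻¹ = y * (y ^ n * t * (y ^ n)⁻¹) * y⁻¹ := by
        rw [pow_succ']; group
      rw [e, ih]
      have e2 : y * (u ^ n * t) * y⁻¹ = (y * u * y⁻¹) ^ n * (y * t * y⁻¹) := by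
        rw [conj_pow]; group
      rw [e2, h1 u huT₁, hyt, pow_succ, mul_assoc]
  have h3 := key m
  rw [hy] at h3
  have h4 : u ^ m = 1 := by
    have : u ^ m * t = 1 * t := by rw [← h3]; group
    exact mul_right_cancel this
  obtain ⟨k, hk⟩ := hT2 ⟨u, hle huT₁⟩
  have hk' : u ^ 2 ^ k = 1 := by
    have := congrArg Subtype.val hk
    simpa using this
  have hd1 : orderOf u ∣ m := orderOf_dvd_of_pow_eq_one h4
  have hd2 : orderOf u ∣ 2 ^ k := orderOf_dvd_of_pow_eq_one hk'
  have hcop : Nat.Coprime m (2 ^ k) := Nat.Coprime.pow_right k (Nat.coprime_two_right.mpr hm)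
  have h5 : orderOf u = 1 := Nat.eq_one_of_dvd_coprimes hcop hd1 hd2
  have hu1 : u = 1 := orderOf_eq_one_iff.mp h5
  rw [hyt, hu1, one_mul]

/-- an element of odd order normalizing a cyclic `2`-group centralizes it -/
theorem conj_eq_of_mem_zpowers {L : Type*} [Group L] [Finite L] (c y : L) (k : ℕ)
    (hc : orderOf c = 2 ^ k) (m : ℕ) (hm : Odd m) (hy : y ^ m = 1)
    (hn : y * c * y⁻¹ ∈ zpowers c) : y * c * y⁻¹ = c := by
  have hyN : y ∈ normalizer ((zpowers c : Subgroup L) : Set L) := by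
    apply S4Inv.mem_normalizer_of_conj_le
    intro b hb
    obtain ⟨n, rfl⟩ := mem_zpowers_iff.mp hb
    rw [← conj_zpow]
    exact zpow_mem hn n
  have h1 : ((zpowers c).normalizerMonoidHom ⟨y, hyN⟩) ^ m = 1 := by
    rw [← map_pow]
    have : (⟨y, hyN⟩ : normalizer ((zpowers c : Subgroup L) : Set L)) ^ m = 1 := by
      apply Subtype.ext
      simpa using hy
    rw [this, map_one]
  have hd1 : orderOf ((zpowers c).normalizerMonoidHom ⟨y, hyN⟩) ∣ m :=
    orderOf_dvd_of_pow_eq_one h1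
  have hd2 : orderOf ((zpowers c).normalizerMonoidHom ⟨y, hyN⟩) ∣ Nat.card (MulAut (zpowers c)) :=
    orderOf_dvd_natCard _
  have hcard : Nat.card (MulAut (zpowers c)) = Nat.totient (2 ^ k) := by
    rw [IsCyclic.card_mulAut, Nat.card_zpowers, hc]
  have hcop : Nat.Coprime m (Nat.totient (2 ^ k)) := by
    cases k with
    | zero => simp
    | succ k =>
      rw [Nat.totient_prime_pow_succ Nat.prime_two]
      simp only [Nat.add_one_sub_one, mul_one]
      exact Nat.Coprime.pow_right k (Nat.coprime_two_right.mpr hm)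
  rw [hcard] at hd2
  have h5 : orderOf ((zpowers c).normalizerMonoidHom ⟨y, hyN⟩) = 1 :=
    Nat.eq_one_of_dvd_coprimes hcop hd1 hd2
  have h6 : (zpowers c).normalizerMonoidHom ⟨y, hyN⟩ = 1 := orderOf_eq_one_iff.mp h5
  have h7 : (⟨y, hyN⟩ : normalizer ((zpowers c : Subgroup L) : Set L)) ∈
      ((zpowers c).normalizerMonoidHom).ker := h6
  rw [Subgroup.normalizerMonoidHom_ker, mem_subgroupOf] at h7
  have h8 := (mem_centralizer_iff.mp h7) c (mem_zpowers c)
  change c * y = y * c at h8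
  rw [← h8]
  group

/-- a finite group without elements of odd prime order is a `2`-group -/
theorem isPGroup_two_of_no_odd {L : Type*} [Group L] [Finite L]
    (h : ∀ (q : ℕ) (y : L), q.Prime → q ≠ 2 → orderOf y = q → False) : IsPGroup 2 L := by
  obtain ⟨k, m', hm', hcard⟩ := Nat.exists_eq_two_pow_mul_odd (Nat.card_pos (α := L)).ne'
  by_cases h1 : m' = 1
  · apply IsPGroup.of_card (n := k)
    rw [hcard, h1, mul_one]
  · exfalso
    obtain ⟨q, hq, hqd⟩ := Nat.exists_prime_and_dvd h1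
    have hq2 : q ≠ 2 := by
      rintro rfl
      exact (Nat.not_even_iff_odd.mpr hm') (even_iff_two_dvd.mpr hqd)
    haveI := Fact.mk hq
    obtain ⟨y, hy⟩ := exists_prime_orderOf_dvd_card' q (hcard ▸ Dvd.dvd.mul_left hqd _)
    exact h q y hq hq2 hy

section Q8

variable {Q : Type*} [Group Q] (e : Q ≃* QuaternionGroup 2)
include e

theorem q8_card : Nat.card Q = 8 := by
  rw [Nat.card_congr e.toEquiv, Nat.card_eq_fintype_card, QuaternionGroup.card]

theorem q8_z : ∃ z : Q, z ≠ 1 ∧ z * z = 1 ∧ (∀ r : Q, r * r = 1 → r = 1 ∨ r = z) ∧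
    (∀ r : Q, r * r ≠ 1 → r * r = z) ∧ (∀ c : Q, (∀ r : Q, c * r = r * c) → c = 1 ∨ c = z) := by
  have k1 : ∀ r : QuaternionGroup 2, r * r = 1 → r = 1 ∨ r = QuaternionGroup.a 2 := by decide
  have k2 : ∀ r : QuaternionGroup 2, r * r ≠ 1 → r * r = QuaternionGroup.a 2 := by decide
  have k3 : ∀ c : QuaternionGroup 2, (∀ r : QuaternionGroup 2, c * r = r * c) →
      c = 1 ∨ c = QuaternionGroup.a 2 := by decide
  refine ⟨e.symm (QuaternionGroup.a 2), ?_, ?_, ?_, ?_, ?_⟩
  · intro h
    have := congrArg e h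
    rw [e.apply_symm_apply, map_one] at this
    revert this
    decide
  · apply e.injective
    rw [map_mul, e.apply_symm_apply, map_one]
    decide
  · intro r hr
    have h1 : e r * e r = 1 := by rw [← map_mul, hr, map_one]
    rcases k1 (e r) h1 with h | h
    · left
      apply e.injective
      rw [h, map_one]
    · right
      apply e.injective
      rw [h, e.apply_symm_apply]
  · intro r hr
    have h1 : e r * e r ≠ 1 := by
      intro h
      apply hr
      apply e.injective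
      rw [map_mul, h, map_one]
    apply e.injective
    rw [map_mul, k2 (e r) h1, e.apply_symm_apply]
  · intro c hc
    have h1 : ∀ r : QuaternionGroup 2, e c * r = r * e c := by
      intro r
      have := congrArg e (hc (e.symm r))
      rw [map_mul, map_mul, e.apply_symm_apply] at this
      exact this
    rcases k3 (e c) h1 with h | h
    · left
      apply e.injective
      rw [h, map_one]
    · right
      apply e.injective
      rw [h, e.apply_symm_apply]

theorem q8_exists : ∃ a : Q, a * a ≠ 1 := by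
  refine ⟨e.symm (QuaternionGroup.a 1), ?_⟩
  intro h
  have := congrArg e h
  rw [map_mul, e.apply_symm_apply, map_one] at this
  revert this
  decide

theorem q8_noncomm : ∃ a b : Q, a * b ≠ b * a := by
  refine ⟨e.symm (QuaternionGroup.a 1), e.symm (QuaternionGroup.xa 0), ?_⟩
  intro h
  have := congrArg e h
  rw [map_mul, map_mul, e.apply_symm_apply, e.apply_symm_apply] at this
  revert this
  decide

theorem q8_pair (a b : Q) (ha : a * a ≠ 1) (hb : b * b ≠ 1) (hba : b ≠ a) (hba' : b ≠ a⁻¹) :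
    b * a * b⁻¹ = a⁻¹ ∧ b * b = a * a ∧
    (∀ r : Q, ∃ m : ℕ, ∃ n : ℕ, r = a ^ m * b ^ n) ∧
    (∀ k : Q, k * k ≠ 1 → k ≠ a → k ≠ a⁻¹ → k ≠ b → k ≠ b⁻¹ → k = a * b ∨ k = (a * b)⁻¹) := by
  have keyA : ∀ a b : QuaternionGroup 2, a * a ≠ 1 → b * b ≠ 1 → b ≠ a → b ≠ a⁻¹ →
      b * a * b⁻¹ = a⁻¹ ∧ b * b = a * a := by decide
  have keyB : ∀ a b : QuaternionGroup 2, a * a ≠ 1 → b * b ≠ 1 → b ≠ a → b ≠ a⁻¹ →
      ∀ r : QuaternionGroup 2, ∃ m : Fin 4, ∃ n : Fin 2, r = a ^ (m : ℕ) * b ^ (n : ℕ) := by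
    decide
  have keyC : ∀ a b : QuaternionGroup 2, a * a ≠ 1 → b * b ≠ 1 → b ≠ a → b ≠ a⁻¹ →
      ∀ k : QuaternionGroup 2, k * k ≠ 1 → k ≠ a → k ≠ a⁻¹ → k ≠ b → k ≠ b⁻¹ →
        k = a * b ∨ k = (a * b)⁻¹ := by decide
  have h1 : e a * e a ≠ 1 := by
    intro h
    apply ha
    apply e.injective
    rw [map_mul, h, map_one]
  have h2 : e b * e b ≠ 1 := by
    intro h
    apply hb
    apply e.injective
    rw [map_mul, h, map_one]
  have h3 : e b ≠ e a := fun h => hba (e.injective h)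
  have h4 : e b ≠ (e a)⁻¹ := by
    intro h
    apply hba'
    apply e.injective
    rw [h, map_inv]
  obtain ⟨c1, c2⟩ := keyA (e a) (e b) h1 h2 h3 h4
  have c3 := keyB (e a) (e b) h1 h2 h3 h4
  have c4 := keyC (e a) (e b) h1 h2 h3 h4
  refine ⟨?_, ?_, ?_, ?_⟩
  · apply e.injective
    rw [map_mul, map_mul, map_inv, map_inv]
    exact c1
  · apply e.injective
    rw [map_mul, map_mul]
    exact c2
  · intro r
    obtain ⟨m, n, hmn⟩ := c3 (e r)
    refine ⟨(m : ℕ), (n : ℕ), ?_⟩
    apply e.injective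
    rw [map_mul, map_pow, map_pow]
    exact hmn
  · intro k hk k1 k2 k3 k4
    have g0 : e k * e k ≠ 1 := by
      intro h
      apply hk
      apply e.injective
      rw [map_mul, h, map_one]
    have g1 : e k ≠ e a := fun h => k1 (e.injective h)
    have g2 : e k ≠ (e a)⁻¹ := by
      intro h
      apply k2
      apply e.injective
      rw [h, map_inv]
    have g3 : e k ≠ e b := fun h => k3 (e.injective h)
    have g4 : e k ≠ (e b)⁻¹ := by
      intro h
      apply k4
      apply e.injective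
      rw [h, map_inv]
    rcases c4 (e k) g0 g1 g2 g3 g4 with h | h
    · left
      apply e.injective
      rw [h, map_mul]
    · right
      apply e.injective
      rw [h, map_inv, map_mul]

end Q8

end Cfsg.Agent.Lib.Helper17.BinOct
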