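import Mathlib

/-!
A group of order 24 without elements of order 6 is `S₄` (helper17).
-/

set_option autoImplicit false

namespace Cfsg.Agent.Lib.Helper17

section

variable {G : Type*} [Group G] [Finite G]

theorem o24_no_commuting (h6 : ∀ g : G, orderOf g ≠ 6) (x z : G) (hx : orderOf x = 3)
    (hz : orderOf z = 2) : ¬ Commute x z := by
  intro hc
  have := hc.orderOf_mul_eq_mul_orderOf_of_coprime (by rw [hx, hz]; norm_num)
  rw [hx, hz] at this
  exact h6 _ this

theorem o24_sylow3_card (h : Nat.card G = 24) (P : Sylow 3 G) : Nat.card P = 3 := by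
  obtain ⟨k, hk⟩ := IsPGroup.iff_card.mp P.2
  have hdvd : Nat.card P ∣ 24 := h ▸ Subgroup.card_subgroup_dvd_card (P : Subgroup G)
  have hidx := P.not_dvd_index
  have hmul := Subgroup.card_mul_index (P : Subgroup G)
  rw [h] at hmul
  have hk2 : k < 2 := by
    by_contra hge
    push_neg at hge
    have : 3 ^ 2 ∣ Nat.card P := by rw [hk]; exact pow_dvd_pow 3 hge
    have : 9 ∣ 24 := (by norm_num : (9 : ℕ) = 3 ^ 2) ▸ this.trans hdvd
    omega
  interval_cases k
  · exfalso
    apply hidx
    have h1 : Nat.card (P : Subgroup G) = 1 := by simpa using hk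
    rw [h1, one_mul] at hmul
    rw [hmul]; norm_num
  · simpa using hk

theorem o24_sylow2_card (h : Nat.card G = 24) (S : Sylow 2 G) : Nat.card S = 8 := by
  obtain ⟨k, hk⟩ := IsPGroup.iff_card.mp S.2
  have hdvd : Nat.card S ∣ 24 := h ▸ Subgroup.card_subgroup_dvd_card (S : Subgroup G)
  have hidx := S.not_dvd_index
  have hmul := Subgroup.card_mul_index (S : Subgroup G)
  rw [h] at hmul
  have hk2 : k < 4 := by
    by_contra hge
    push_neg at hge
    have : 2 ^ 4 ∣ Nat.card S := by rw [hk]; exact pow_dvd_pow 2 hge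
    have : 16 ∣ 24 := (by norm_num : (16 : ℕ) = 2 ^ 4) ▸ this.trans hdvd
    omega
  have hcard : Nat.card (S : Subgroup G) = 2 ^ k := hk
  interval_cases k
  · exfalso; apply hidx
    rw [hcard] at hmul
    have : (S : Subgroup G).index = 24 := by omega
    rw [this]; norm_num
  · exfalso; apply hidx
    rw [hcard] at hmul
    have : (S : Subgroup G).index = 12 := by omega
    rw [this]; norm_num
  · exfalso; apply hidx
    rw [hcard] at hmul
    have : (S : Subgroup G).index = 6 := by omega
    rw [this]; norm_num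
  · simpa using hk

end

section stepC

variable {G : Type*} [Group G] [Finite G]

theorem o24_card_le_two {H : Type*} [One H]
    (h : ∀ v w : H, v ≠ 1 → w ≠ 1 → v = w) : Nat.card H ≤ 2 := by
  classical
  have hinj : Function.Injective (fun v : H => decide (v = 1)) := by
    intro v w hvw
    simp only [decide_eq_decide] at hvw
    by_cases hv : v = 1
    · rw [hv, (hvw.1 hv)]
    · exact h v w hv (fun hw => hv (hvw.2 hw))
  have := Nat.card_le_card_of_injective _ hinj
  simpa using this

/-- An element of order 3 in a group of order 3. -/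
theorem o24_exists_order_three (H : Subgroup G) (hH : Nat.card H = 3) :
    ∃ x ∈ H, orderOf x = 3 ∧ H = Subgroup.zpowers x := by
  have hne : H ≠ ⊥ := by
    intro h; rw [h, Subgroup.card_bot] at hH; omega
  obtain ⟨⟨x, hxH⟩, hx1'⟩ := (Subgroup.ne_bot_iff_exists_ne_one).mp hne
  have hx1 : x ≠ 1 := fun h => hx1' (Subtype.ext h)
  have hox : orderOf x = 3 := by
    have h1 : orderOf x ∣ 3 := by
      have := Subgroup.orderOf_dvd_natCard H hxH
      rwa [hH] at this
    rcases (Nat.dvd_prime Nat.prime_three).mp h1 with h | h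
    · exact absurd (orderOf_eq_one_iff.mp h) hx1
    · exact h
  refine ⟨x, hxH, hox, ?_⟩
  symm
  apply Subgroup.eq_of_le_of_card_ge ((Subgroup.zpowers_le).mpr hxH)
  rw [Nat.card_zpowers, hox, hH]

theorem o24_mem_zpowers_three {x y : G} (hx : orderOf x = 3) (hy : y ∈ Subgroup.zpowers x) :
    y = 1 ∨ y = x ∨ y = x⁻¹ := by
  obtain ⟨k, rfl⟩ := hy
  have h3 : x ^ 3 = 1 := by rw [← hx, pow_orderOf_eq_one]
  have hinv : x⁻¹ = x ^ 2 := by
    apply inv_eq_of_mul_eq_one_left
    rw [← pow_succ]; exact h3
  show x ^ k = 1 ∨ x ^ k = x ∨ x ^ k = x⁻¹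
  rw [← zpow_mod_orderOf, hx]
  have h0 : 0 ≤ k % 3 := Int.emod_nonneg _ (by norm_num)
  have h1 : k % 3 < 3 := Int.emod_lt_of_pos _ (by norm_num)
  obtain ⟨n, hn⟩ : ∃ n : ℕ, k % (3 : ℕ) = n := ⟨(k % 3).toNat, by
    have : ((3 : ℕ) : ℤ) = 3 := rfl
    rw [this]; omega⟩
  rw [hn, zpow_natCast]
  have hn3 : n < 3 := by
    have : ((3 : ℕ) : ℤ) = 3 := rfl
    rw [this] at hn
    omega
  interval_cases n
  · left; simp
  · right; left; simp
  · right; right; exact hinv.symm

theorem o24_not_normal_sylow3 (h : Nat.card G = 24) (h6 : ∀ g : G, orderOf g ≠ 6)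
    (P : Sylow 3 G) (hn : (P : Subgroup G).Normal) : False := by
  obtain ⟨x, hxP, hox, hPz⟩ := o24_exists_order_three (P : Subgroup G) (o24_sylow3_card h P)
  -- squares commute with `x`
  have hsq : ∀ g : G, Commute (g * g) x := by
    intro g
    have h1 : g * x * g⁻¹ ∈ Subgroup.zpowers x := by
      rw [← hPz]; exact hn.conj_mem x hxP g
    have h2 : g * x * g⁻¹ ≠ 1 := by
      intro h
      have : x = 1 := by
        have := congrArg (fun y => g⁻¹ * y * g) h
        simpa [mul_assoc] using this
      rw [this, orderOf_one] at hox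
      omega
    rcases o24_mem_zpowers_three hox h1 with h3 | h3 | h3
    · exact absurd h3 h2
    · have hc : g * x = x * g := by
        calc g * x = (g * x * g⁻¹) * g := by group
          _ = x * g := by rw [h3]
      show g * g * x = x * (g * g)
      calc g * g * x = g * (g * x) := by group
        _ = g * (x * g) := by rw [hc]
        _ = (g * x) * g := by group
        _ = x * g * g := by rw [hc]
        _ = x * (g * g) := by group
    · have hc : g * x = x⁻¹ * g := by
        calc g * x = (g * x * g⁻¹) * g := by group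
          _ = x⁻¹ * g := by rw [h3]
      have hc' : g * x⁻¹ = x * g := by
        have : g * x⁻¹ * g⁻¹ = x := by
          have : g * x⁻¹ * g⁻¹ = (g * x * g⁻¹)⁻¹ := by group
          rw [this, h3, inv_inv]
        calc g * x⁻¹ = (g * x⁻¹ * g⁻¹) * g := by group
          _ = x * g := by rw [this]
      show g * g * x = x * (g * g)
      calc g * g * x = g * (g * x) := by group
        _ = g * (x⁻¹ * g) := by rw [hc]
        _ = (g * x⁻¹) * g := by group
        _ = x * g * g := by rw [hc']
        _ = x * (g * g) := by group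
  obtain ⟨S⟩ : Nonempty (Sylow 2 G) := inferInstance
  have hS := o24_sylow2_card h S
  -- every element of `S` squares to one
  have hexp : ∀ s ∈ (S : Subgroup G), s * s = 1 := by
    intro s hs
    by_contra hne
    have hs2 : s * s ∈ (S : Subgroup G) := Subgroup.mul_mem _ hs hs
    obtain ⟨j, hj⟩ := (IsPGroup.iff_orderOf.mp S.2) ⟨s * s, hs2⟩
    rw [Subgroup.orderOf_mk] at hj
    have hj0 : j ≠ 0 := by
      intro h0
      rw [h0, pow_zero] at hj
      exact hne (orderOf_eq_one_iff.mp hj)
    obtain ⟨i, rfl⟩ := Nat.exists_eq_succ_of_ne_zero hj0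
    have hz : orderOf ((s * s) ^ (2 ^ i)) = 2 := by
      rw [orderOf_pow_of_dvd (by positivity) (by rw [hj]; exact pow_dvd_pow 2 (Nat.le_succ i)), hj,
        pow_succ, Nat.mul_div_cancel_left _ (by positivity)]
    exact o24_no_commuting h6 x _ hox hz ((hsq s).pow_left _).symm
  -- two distinct involutions of `S`
  have hex : ∃ v w : (S : Subgroup G), v ≠ 1 ∧ w ≠ 1 ∧ v ≠ w := by
    by_contra hcon
    push_neg at hcon
    have := o24_card_le_two (H := (S : Subgroup G)) (fun v w hv hw => hcon v w hv hw)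
    have hS' : Nat.card (S : Subgroup G) = 8 := hS
    omega
  obtain ⟨⟨v, hv⟩, ⟨w, hw⟩, hv1, hw1, hvw⟩ := hex
  have hv1' : v ≠ 1 := fun h => hv1 (Subtype.ext h)
  have hw1' : w ≠ 1 := fun h => hw1 (Subtype.ext h)
  have hvw' : v ≠ w := fun h => hvw (Subtype.ext h)
  have hov : orderOf v = 2 := orderOf_eq_prime (by rw [sq]; exact hexp v hv) hv1'
  have how : orderOf w = 2 := orderOf_eq_prime (by rw [sq]; exact hexp w hw) hw1'
  have hvwS : v * w ∈ (S : Subgroup G) := Subgroup.mul_mem _ hv hw
  have hvw1 : v * w ≠ 1 := by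
    intro h
    apply hvw'
    have h1 : v = w⁻¹ := eq_inv_of_mul_eq_one_left h
    have h2 : w⁻¹ = w := inv_eq_of_mul_eq_one_left (hexp w hw)
    rw [h1, h2]
  have hovw : orderOf (v * w) = 2 :=
    orderOf_eq_prime (by rw [sq]; exact hexp _ hvwS) hvw1
  -- v and w do not commute with x, so they invert it, and v*w commutes
  have key : ∀ z : G, orderOf z = 2 → z * x * z⁻¹ = x⁻¹ := by
    intro z hz
    have h1 : z * x * z⁻¹ ∈ Subgroup.zpowers x := by
      rw [← hPz]; exact hn.conj_mem x hxP z
    rcases o24_mem_zpowers_three hox h1 with h3 | h3 | h3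
    · exfalso
      have : x = 1 := by
        have := congrArg (fun y => z⁻¹ * y * z) h3
        simpa [mul_assoc] using this
      rw [this, orderOf_one] at hox
      omega
    · exfalso
      apply o24_no_commuting h6 x z hox hz
      show x * z = z * x
      calc x * z = (z * x * z⁻¹) * z := by rw [h3]
        _ = z * x := by group
    · exact h3
  have h1 := key v hov
  have h2 := key w how
  have h3 := key (v * w) hovw
  have h4 : v * w * x * (v * w)⁻¹ = x := by
    calc v * w * x * (v * w)⁻¹ = v * (w * x * w⁻¹) * v⁻¹ := by group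
      _ = v * x⁻¹ * v⁻¹ := by rw [h2]
      _ = (v * x * v⁻¹)⁻¹ := by group
      _ = x := by rw [h1, inv_inv]
  rw [h4] at h3
  -- x = x⁻¹ contradicts order 3
  have : x ^ 2 = 1 := by
    rw [sq]
    nth_rewrite 2 [h3]
    exact mul_inv_cancel x
  have := orderOf_dvd_of_pow_eq_one this
  rw [hox] at this
  omega

theorem o24_n3 (h : Nat.card G = 24) (h6 : ∀ g : G, orderOf g ≠ 6) :
    Nat.card (Sylow 3 G) = 4 := by
  obtain ⟨P⟩ : Nonempty (Sylow 3 G) := inferInstance
  have hP := o24_sylow3_card h P
  have hidx : (P : Subgroup G).index = 8 := by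
    have := Subgroup.card_mul_index (P : Subgroup G)
    have hP' : Nat.card (P : Subgroup G) = 3 := hP
    rw [h, hP'] at this
    omega
  have hdvd : Nat.card (Sylow 3 G) ∣ 8 := hidx ▸ P.card_dvd_index
  have hmod : Nat.card (Sylow 3 G) ≡ 1 [MOD 3] := card_sylow_modEq_one 3 G
  have hle : Nat.card (Sylow 3 G) ≤ 8 := Nat.le_of_dvd (by norm_num) hdvd
  have h14 : Nat.card (Sylow 3 G) = 1 ∨ Nat.card (Sylow 3 G) = 4 := by
    unfold Nat.ModEq at hmod
    generalize Nat.card (Sylow 3 G) = n at *
    interval_cases n <;> omega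
  rcases h14 with h1 | h4
  · exfalso
    apply o24_not_normal_sylow3 h h6 P
    rw [← Subgroup.normalizer_eq_top_iff, ← Subgroup.index_eq_one]
    have := P.card_eq_index_normalizer
    rw [h1] at this
    exact this.symm
  · exact h4

end stepC

section stepD

variable {G : Type*} [Group G] [Finite G]

theorem o24_mem_zpowers_two {z y : G} (hz : orderOf z = 2) (hy : y ∈ Subgroup.zpowers z) :
    y = 1 ∨ y = z := by
  obtain ⟨k, rfl⟩ := hy
  show z ^ k = 1 ∨ z ^ k = z
  rw [← zpow_mod_orderOf, hz]
  have h0 : 0 ≤ k % 2 := Int.emod_nonneg _ (by norm_num)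
  have h1 : k % 2 < 2 := Int.emod_lt_of_pos _ (by norm_num)
  have h2 : ((2 : ℕ) : ℤ) = 2 := rfl
  rw [h2]
  rcases (by omega : k % 2 = 0 ∨ k % 2 = 1) with h | h
  · left; rw [h]; simp
  · right; rw [h]; simp

theorem o24_iso (h : Nat.card G = 24) (h6 : ∀ g : G, orderOf g ≠ 6) :
    Nonempty (G ≃* Equiv.Perm (Fin 4)) := by
  have hn3 := o24_n3 h h6
  obtain ⟨φ, hφ⟩ : ∃ φ : G →* Equiv.Perm (Sylow 3 G), φ = MulAction.toPermHom G (Sylow 3 G) :=
    ⟨_, rfl⟩
  have hker : ∀ g ∈ φ.ker, ∀ P : Sylow 3 G,
      g ∈ Subgroup.normalizer ((P : Subgroup G) : Set G) := by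
    intro g hg P
    have h1 : φ g = 1 := hg
    have h2 : g • P = P := by
      have := congrArg (fun σ : Equiv.Perm (Sylow 3 G) => σ P) h1
      rw [hφ] at this
      simpa using this
    exact Sylow.smul_eq_iff_mem_normalizer.mp h2
  obtain ⟨P⟩ : Nonempty (Sylow 3 G) := inferInstance
  have hN : Nat.card (Subgroup.normalizer ((P : Subgroup G) : Set G)) = 6 := by
    have h1 : Nat.card (Sylow 3 G) =
        (Subgroup.normalizer ((P : Subgroup G) : Set G)).index := P.card_eq_index_normalizer
    rw [hn3] at h1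
    have h2 := Subgroup.card_mul_index (Subgroup.normalizer ((P : Subgroup G) : Set G))
    rw [h, ← h1] at h2
    omega
  have hKle : φ.ker ≤ Subgroup.normalizer ((P : Subgroup G) : Set G) := fun g hg => hker g hg P
  have hKdvd : Nat.card φ.ker ∣ 6 := hN ▸ Subgroup.card_dvd_of_le hKle
  have h3 : ¬ 3 ∣ Nat.card φ.ker := by
    intro hd
    obtain ⟨y, hy⟩ := exists_prime_orderOf_dvd_card' (G := φ.ker) 3 hd
    have hoy : orderOf (y : G) = 3 := by rw [Subgroup.orderOf_coe, hy]
    have hyall : ∀ Q : Sylow 3 G, (y : G) ∈ (Q : Subgroup G) := by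
      intro Q
      have hz : IsPGroup 3 (Subgroup.zpowers (y : G)) :=
        IsPGroup.of_card (n := 1) (by rw [Nat.card_zpowers, hoy, pow_one])
      have h1 := hz.inf_normalizer_sylow Q
      have h2 : (y : G) ∈ Subgroup.zpowers (y : G) ⊓ (Q : Subgroup G) := by
        rw [← h1]
        exact Subgroup.mem_inf.mpr ⟨Subgroup.mem_zpowers _, hker y y.2 Q⟩
      exact (Subgroup.mem_inf.mp h2).2
    have hall : ∀ Q : Sylow 3 G, (Q : Subgroup G) = Subgroup.zpowers (y : G) := by
      intro Q
      symm
      apply Subgroup.eq_of_le_of_card_ge ((Subgroup.zpowers_le).mpr (hyall Q))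
      rw [Nat.card_zpowers, hoy]
      exact (o24_sylow3_card h Q).le
    have hsub : Subsingleton (Sylow 3 G) :=
      ⟨fun Q Q' => Sylow.ext ((hall Q).trans (hall Q').symm)⟩
    have : Nat.card (Sylow 3 G) ≤ 1 := Finite.card_le_one_iff_subsingleton.mpr hsub
    omega
  have hK12 : Nat.card φ.ker = 1 ∨ Nat.card φ.ker = 2 := by
    have hle : Nat.card φ.ker ≤ 6 := Nat.le_of_dvd (by norm_num) hKdvd
    have hpos : 0 < Nat.card φ.ker := Nat.card_pos
    generalize Nat.card φ.ker = n at *
    interval_cases n <;> first | omega | (exfalso; revert hKdvd; decide) | (exfalso; apply h3; decide)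
  have hKbot : φ.ker = ⊥ := by
    rcases hK12 with h1 | h2
    · exact Subgroup.card_eq_one.mp h1
    · exfalso
      obtain ⟨z, hz⟩ := exists_prime_orderOf_dvd_card' (G := φ.ker) 2 (by rw [h2])
      have hoz : orderOf (z : G) = 2 := by rw [Subgroup.orderOf_coe, hz]
      have hKz : φ.ker = Subgroup.zpowers (z : G) := by
        symm
        apply Subgroup.eq_of_le_of_card_ge ((Subgroup.zpowers_le).mpr z.2)
        rw [Nat.card_zpowers, hoz, h2]
      obtain ⟨x, hx⟩ := exists_prime_orderOf_dvd_card' (G := G) 3 (by rw [h]; norm_num)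
      apply o24_no_commuting h6 x z hx hoz
      have hmem : x * (z : G) * x⁻¹ ∈ Subgroup.zpowers (z : G) := by
        rw [← hKz]
        exact (inferInstance : φ.ker.Normal).conj_mem z z.2 x
      rcases o24_mem_zpowers_two hoz hmem with h4 | h4
      · exfalso
        have : (z : G) = 1 := by
          have := congrArg (fun y => x⁻¹ * y * x) h4
          simpa [mul_assoc] using this
        rw [this, orderOf_one] at hoz
        omega
      · show x * (z : G) = (z : G) * x
        calc x * (z : G) = (x * (z : G) * x⁻¹) * x := by group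
          _ = (z : G) * x := by rw [h4]
  have hinj : Function.Injective φ := (MonoidHom.ker_eq_bot_iff φ).mp hKbot
  have hbij : Function.Bijective φ := by
    apply hinj.bijective_of_nat_card_le
    rw [Nat.card_perm, hn3, h]
    decide
  exact ⟨(MulEquiv.ofBijective φ hbij).trans (Finite.equivFinOfCardEq hn3).permCongrHom⟩

end stepD

end Cfsg.Agent.Lib.Helper17
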