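import Mathlib
import Cfsg.Prelude.Def_CaseTheorems
import Cfsg.Agent.Lib.Lead.UniqueSubgroup
import Cfsg.Agent.Lib.Helper16.PCore
import Cfsg.Agent.Lib.Helper20.Bender
import Cfsg.Agent.Lib.Helper17.BinOctA
import Cfsg.Agent.Lib.Helper17.Order24

/-!
# `S3304` (helper17): `O₂(G)` is `Q₈` unless `G` is `2`-closed
-/

set_option autoImplicit false

namespace Cfsg.Agent.Lib.Helper17.BinOct

open Subgroup

variable {G : Type*} [Group G] [Finite G]

theorem card_le_two_of_prank {D : Subgroup G} (hI : Cfsg.PRankLE 2 1 ↥D) (A : Subgroup G)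
    (hA : A ≤ D) (hcomm : ∀ a ∈ A, ∀ b ∈ A, a * b = b * a) (hexp : ∀ a ∈ A, a ^ 2 = 1) :
    Nat.card A ≤ 2 := by
  have h := hI (A.subgroupOf D)
    ⟨⟨fun x y => Subtype.ext (Subtype.ext (hcomm x.1.1 x.2 y.1.1 y.2))⟩⟩
    (fun a ha => Subtype.ext (by simpa using hexp a.1 ha))
  rw [Nat.card_congr (Subgroup.subgroupOfEquivOfLe hA).toEquiv] at h
  simpa using h

theorem unique_involution (R : Subgroup G) (hR2 : IsPGroup 2 R) (hRne : R ≠ ⊥)
    (hrank : ∀ A : Subgroup G, A ≤ R → (∀ a ∈ A, ∀ b ∈ A, a * b = b * a) →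
      (∀ a ∈ A, a ^ 2 = 1) → Nat.card A ≤ 2) :
    ∃ z ∈ R, orderOf z = 2 ∧ ∀ a ∈ R, orderOf a = 2 → a = z := by
  haveI : Nontrivial ↥R := (Subgroup.nontrivial_iff_ne_bot R).mpr hRne
  haveI : Fact (Nat.Prime 2) := ⟨Nat.prime_two⟩
  have hcn : Nontrivial (center ↥R) := hR2.center_nontrivial
  have hc2 : IsPGroup 2 (center ↥R) := hR2.to_subgroup _
  obtain ⟨n, hn⟩ := IsPGroup.iff_card.mp hc2
  have hn0 : n ≠ 0 := by
    rintro rfl
    have := Finite.one_lt_card (α := center ↥R)
    rw [hn] at this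
    omega
  obtain ⟨c, hc⟩ := exists_prime_orderOf_dvd_card' (G := center ↥R) 2
    (by rw [hn]; exact dvd_pow_self 2 hn0)
  obtain ⟨z, hz⟩ : ∃ z : G, z = ((c : ↥R) : G) := ⟨_, rfl⟩
  have hzR : z ∈ R := by rw [hz]; exact (c : ↥R).2
  have hzo : orderOf z = 2 := by
    rw [hz, Subgroup.orderOf_coe, Subgroup.orderOf_coe]
    exact hc
  refine ⟨z, hzR, hzo, ?_⟩
  intro a ha hao
  have hza : z * a = a * z := by
    have h1 := (Subgroup.mem_center_iff.mp c.2) ⟨a, ha⟩
    have h2 := congrArg Subtype.val h1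
    rw [hz]
    simpa using h2.symm
  by_contra hne
  have hS : ∀ x ∈ ({a, z} : Set G), ∀ y ∈ ({a, z} : Set G), x * y = y * x := by
    intro x hx y hy
    rcases hx with rfl | hx <;> rcases hy with rfl | hy
    · rfl
    · rw [Set.mem_singleton_iff.mp hy]; exact hza.symm
    · rw [Set.mem_singleton_iff.mp hx]; exact hza
    · rw [Set.mem_singleton_iff.mp hx, Set.mem_singleton_iff.mp hy]
  have hcomm := Lead.UniqueOrderP.closure_comm_of_comm _ hS
  have ha2 : a ^ 2 = 1 := by rw [← hao, pow_orderOf_eq_one]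
  have hz2 : z ^ 2 = 1 := by rw [← hzo, pow_orderOf_eq_one]
  have hexp : ∀ g ∈ closure ({a, z} : Set G), g ^ 2 = 1 := by
    intro g hg
    induction hg using Subgroup.closure_induction with
    | mem x hx =>
      rcases hx with rfl | hx
      · exact ha2
      · rw [Set.mem_singleton_iff.mp hx]; exact hz2
    | one => simp
    | mul x y hx hy ihx ihy =>
      rw [(show Commute x y from hcomm x hx y hy).mul_pow, ihx, ihy, one_mul]
    | inv x hx ih => rw [inv_pow, ih, inv_one]
  have hle : closure ({a, z} : Set G) ≤ R := by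
    rw [closure_le]
    rintro x (rfl | hx)
    · exact ha
    · rw [Set.mem_singleton_iff.mp hx]; exact hzR
  have hcard := hrank _ hle hcomm hexp
  have heq : zpowers z = closure ({a, z} : Set G) :=
    Subgroup.eq_of_le_of_card_ge (zpowers_le.mpr (subset_closure (by simp)))
      (by rw [Nat.card_zpowers, hzo]; exact hcard)
  have haz : a ∈ zpowers z := heq ▸ subset_closure (by simp)
  rcases o24_mem_zpowers_two hzo haz with h | h
  · rw [h, orderOf_one] at hao
    omega
  · exact hne h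

theorem uniqueOrderP_of_unique_involution (R : Subgroup G) {z : G} (hzR : z ∈ R)
    (hzo : orderOf z = 2) (hu : ∀ a ∈ R, orderOf a = 2 → a = z) :
    Lead.UniqueOrderP.UniqueOrderP 2 ↥R := by
  have key : ∀ H : Subgroup ↥R, Nat.card H = 2 → H = zpowers (⟨z, hzR⟩ : ↥R) := by
    intro H hH
    have hnb : H ≠ ⊥ := by
      intro hb
      rw [hb, Subgroup.card_bot] at hH
      omega
    obtain ⟨h, hh1⟩ := (Subgroup.ne_bot_iff_exists_ne_one).mp hnb
    have hh2 : (h : ↥R) ^ 2 = 1 := by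
      have h1 : h ^ Nat.card H = 1 := pow_card_eq_one'
      rw [hH] at h1
      have := congrArg Subtype.val h1
      simpa using this
    have hhne : (h : ↥R) ≠ 1 := fun e => hh1 (Subtype.ext e)
    have hho : orderOf (h : ↥R) = 2 := orderOf_eq_prime hh2 hhne
    have hhG : orderOf ((h : ↥R) : G) = 2 := by rw [Subgroup.orderOf_coe]; exact hho
    have hhz : ((h : ↥R) : G) = z := hu _ (h : ↥R).2 hhG
    have hhz' : (h : ↥R) = ⟨z, hzR⟩ := Subtype.ext hhz
    symm
    apply Subgroup.eq_of_le_of_card_ge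
    · rw [zpowers_le, ← hhz']
      exact h.2
    · rw [Nat.card_zpowers, ← hhz', hho, hH]
  intro H K hH hK
  rw [key H hH, key K hK]

/-- an odd order element acting on a cyclic `2`-group `R` centralizes it -/
theorem centralizes_of_cyclic (R : Subgroup G) [R.Normal] (hR2 : IsPGroup 2 R) (hcyc : IsCyclic ↥R)
    (y : G) (m : ℕ) (hm : Odd m) (hy : y ^ m = 1) : y ∈ centralizer (R : Set G) := by
  obtain ⟨c', hc'⟩ := hcyc.exists_generator
  obtain ⟨c, hc⟩ : ∃ c : G, c = (c' : G) := ⟨_, rfl⟩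
  have hcR : c ∈ R := by rw [hc]; exact c'.2
  have hgen : ∀ r ∈ R, r ∈ zpowers c := by
    intro r hr
    obtain ⟨k, hk⟩ := mem_zpowers_iff.mp (hc' ⟨r, hr⟩)
    rw [mem_zpowers_iff]
    refine ⟨k, ?_⟩
    have := congrArg Subtype.val hk
    rw [hc]
    simpa using this
  obtain ⟨k, hk⟩ := hR2 ⟨c, hcR⟩
  have hk' : c ^ 2 ^ k = 1 := by
    have := congrArg Subtype.val hk
    simpa using this
  obtain ⟨j, -, hj⟩ := (Nat.dvd_prime_pow Nat.prime_two).mp (orderOf_dvd_of_pow_eq_one hk')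
  have hconj : y * c * y⁻¹ ∈ zpowers c := hgen _ (Subgroup.Normal.conj_mem inferInstance c hcR y)
  have h1 := conj_eq_of_mem_zpowers c y j hj m hm hy hconj
  rw [mem_centralizer_iff]
  intro r hr
  obtain ⟨n, rfl⟩ := mem_zpowers_iff.mp (hgen r hr)
  have h2 : y * c ^ n * y⁻¹ = c ^ n := by rw [← conj_zpow, h1]
  calc c ^ n * y = (y * c ^ n * y⁻¹) * y := by rw [h2]
    _ = y * c ^ n := by group

/-- in a generalized quaternion group of order at least `16`, products of elements outside the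
cyclic maximal subgroup lie in it -/
theorem quat_isA {N : ℕ} (u v : QuaternionGroup N) (hu : ∀ k, u ≠ QuaternionGroup.a k)
    (hv : ∀ k, v ≠ QuaternionGroup.a k) : ∃ k, u * v⁻¹ = QuaternionGroup.a k := by
  cases u with
  | a i => exact absurd rfl (hu i)
  | xa i =>
    cases v with
    | a j => exact absurd rfl (hv j)
    | xa j =>
      have hinv : (QuaternionGroup.xa j : QuaternionGroup N)⁻¹
          = QuaternionGroup.xa ((N : ZMod (2 * N)) + j) := rfl
      rw [hinv, QuaternionGroup.xa_mul_xa]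
      exact ⟨_, rfl⟩

/-- an odd order element acting on a generalized quaternion group of order `≥ 16` centralizes -/
theorem centralizes_of_quat (R : Subgroup G) [R.Normal] (hR2 : IsPGroup 2 R) (n : ℕ) (hn : 2 ≤ n)
    (e : ↥R ≃* QuaternionGroup (2 ^ n))
    (y : G) (m : ℕ) (hm : Odd m) (hy : y ^ m = 1) : y ∈ centralizer (R : Set G) := by
  have : NeZero (2 ^ n) := ⟨by positivity⟩
  obtain ⟨c, hc⟩ : ∃ c : G, c = ((e.symm (QuaternionGroup.a 1) : ↥R) : G) := ⟨_, rfl⟩
  have hcR : c ∈ R := by rw [hc]; exact (e.symm (QuaternionGroup.a 1)).2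
  have hco : orderOf c = 2 ^ (n + 1) := by
    rw [hc, Subgroup.orderOf_coe, MulEquiv.orderOf_eq, QuaternionGroup.orderOf_a_one, pow_succ,
      mul_comm]
  -- elements of `R` are in `⟨c⟩` or have order `4`
  have hmem : ∀ r (hr : r ∈ R), (∃ k, e ⟨r, hr⟩ = QuaternionGroup.a k) → r ∈ zpowers c := by
    intro r hr ⟨k, hk⟩
    have h1 : (QuaternionGroup.a 1 : QuaternionGroup (2 ^ n)) ^ (k.val) = QuaternionGroup.a k := by
      rw [QuaternionGroup.a_one_pow, ZMod.natCast_zmod_val]
    have h2 : (⟨r, hr⟩ : ↥R) = (e.symm (QuaternionGroup.a 1)) ^ (k.val) := by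
      apply e.injective
      rw [map_pow, e.apply_symm_apply, h1, hk]
    have h3 := congrArg Subtype.val h2
    rw [mem_zpowers_iff]
    refine ⟨(k.val : ℤ), ?_⟩
    rw [zpow_natCast, hc]
    simpa using h3.symm
  have hord : ∀ r (hr : r ∈ R), (∀ k, e ⟨r, hr⟩ ≠ QuaternionGroup.a k) → orderOf r = 4 := by
    intro r hr h
    have h1 : orderOf (e ⟨r, hr⟩) = 4 := by
      cases hq : e ⟨r, hr⟩ with
      | a k => exact absurd hq (h k)
      | xa k => exact QuaternionGroup.orderOf_xa k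
    rw [MulEquiv.orderOf_eq] at h1
    rw [← h1, ← Subgroup.orderOf_coe]
  have hycR : y * c * y⁻¹ ∈ R := Subgroup.Normal.conj_mem inferInstance c hcR y
  have hconj : y * c * y⁻¹ ∈ zpowers c := by
    apply hmem _ hycR
    by_contra hcon
    push Not at hcon
    have h4 := hord _ hycR hcon
    have h5 : orderOf (y * c * y⁻¹) = orderOf c := MulEquiv.orderOf_eq (MulAut.conj y) c
    rw [h5, hco] at h4
    have : 2 ^ (n + 1) ≥ 2 ^ 3 := Nat.pow_le_pow_right (by norm_num) (by omega)
    omega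
  have h1 := conj_eq_of_mem_zpowers c y (n + 1) hco m hm hy hconj
  have hcent : ∀ t ∈ zpowers c, y * t * y⁻¹ = t := by
    intro t ht
    obtain ⟨k, rfl⟩ := mem_zpowers_iff.mp ht
    rw [← conj_zpow, h1]
  have hchain := chainOdd R (zpowers c) hR2 (zpowers_le.mpr hcR) y m hm hy hcent ?_
  · rw [mem_centralizer_iff]
    intro r hr
    have h2 := hchain r hr
    calc r * y = (y * r * y⁻¹) * y := by rw [h2]
      _ = y * r := by group
  · intro r hr
    have hyrR : y * r * y⁻¹ ∈ R := Subgroup.Normal.conj_mem inferInstance r hr y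
    by_cases hrC : ∃ k, e ⟨r, hr⟩ = QuaternionGroup.a k
    · have := hcent r (hmem r hr hrC)
      rw [this, mul_inv_cancel]
      exact one_mem _
    · push Not at hrC
      have hr'C : ∀ k, e ⟨y * r * y⁻¹, hyrR⟩ ≠ QuaternionGroup.a k := by
        intro k hk
        have h3 : y * r * y⁻¹ ∈ zpowers c := hmem _ hyrR ⟨k, hk⟩
        have hyinv : y⁻¹ * (y * r * y⁻¹) * y⁻¹⁻¹ = y * r * y⁻¹ := by
          have h4 := hcent _ h3
          calc y⁻¹ * (y * r * y⁻¹) * y⁻¹⁻¹ = y⁻¹ * (y * (y * r * y⁻¹) * y⁻¹) * y⁻¹⁻¹ := by rw [h4]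
            _ = y * r * y⁻¹ := by group
        have h5 : r = y * r * y⁻¹ := by
          rw [← hyinv]; group
        have h6 : r ∈ zpowers c := by rw [h5]; exact h3
        obtain ⟨l, hl⟩ := mem_zpowers_iff.mp h6
        -- then `e r` is a power of `a 1`
        have h7 : (⟨r, hr⟩ : ↥R) = (e.symm (QuaternionGroup.a 1)) ^ l := by
          apply Subtype.ext
          show r = ((e.symm (QuaternionGroup.a 1) ^ l : ↥R) : G)
          rw [Subgroup.coe_zpow, ← hc]
          exact hl.symm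
        have h8 : e ⟨r, hr⟩ = (QuaternionGroup.a 1) ^ l := by
          rw [h7, map_zpow, e.apply_symm_apply]
        have h9 : ∃ k, (QuaternionGroup.a 1 : QuaternionGroup (2 ^ n)) ^ l = QuaternionGroup.a k := by
          cases l with
          | ofNat l => exact ⟨l, by simp [QuaternionGroup.a_one_pow]⟩
          | negSucc l =>
            refine ⟨-((l + 1 : ℕ) : ZMod (2 * 2 ^ n)), ?_⟩
            rw [zpow_negSucc, QuaternionGroup.a_one_pow]
            rfl
        obtain ⟨k', hk'⟩ := h9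
        exact hrC k' (h8.trans hk')
      obtain ⟨k, hk⟩ := quat_isA _ _ hr'C hrC
      apply hmem _ (mul_mem hyrR (inv_mem hr))
      refine ⟨k, ?_⟩
      rw [← hk, ← map_inv, ← map_mul]
      rfl

end Cfsg.Agent.Lib.Helper17.BinOct
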