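import Mathlib
import Cfsg.Agent.Lib.Helper17.BinOctB

/-!
# `S3304` (helper17): the `Q₈` case, order `48`
-/

set_option autoImplicit false

namespace Cfsg.Agent.Lib.Helper17.BinOct

open Subgroup

variable {G : Type*} [Group G] [Finite G]

/-- unless `G` is `2`-closed, `O₂(G) ≅ Q₈` -/
theorem pCore_q8 (hs : Group.IsSolvable G) (hO : Cfsg.pPrimeCore 2 G = ⊥)
    (hI : ∀ S T : Sylow 2 G, S ≠ T → Cfsg.PRankLE 2 1 ↥((S : Subgroup G) ⊓ (T : Subgroup G)))
    (hnn : ∀ P : Sylow 2 G, ¬ (P : Subgroup G).Normal) :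
    Nonempty (↥(Cfsg.pCore 2 G) ≃* QuaternionGroup 2) := by
  haveI : Fact (Nat.Prime 2) := ⟨Nat.prime_two⟩
  haveI := hs
  obtain ⟨R, hR⟩ : ∃ R : Subgroup G, R = Cfsg.pCore 2 G := ⟨_, rfl⟩
  haveI hRn : R.Normal := by rw [hR]; infer_instance
  have hC : centralizer (R : Set G) ≤ R := by
    rw [hR]; exact Helper20.solvable_centralizer_pCore_le 2 hO
  have hR2 : IsPGroup 2 R := by rw [hR]; exact Helper16.pCore_isPGroup 2 G
  obtain ⟨P⟩ : Nonempty (Sylow 2 G) := inferInstance
  obtain ⟨g, hg⟩ : ∃ g : G, g • P ≠ P := by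
    by_contra hcon
    push Not at hcon
    apply hnn P
    rw [← normalizer_eq_top_iff]
    ext g
    simp only [mem_top, iff_true]
    exact Sylow.smul_eq_iff_mem_normalizer.mp (hcon g)
  have hRP : R ≤ (P : Subgroup G) := by rw [hR]; exact Helper16.pCore_le_sylow P
  have hRP' : R ≤ ((g • P : Sylow 2 G) : Subgroup G) := by
    rw [hR]; exact Helper16.pCore_le_sylow _
  have hrank : ∀ A : Subgroup G, A ≤ R → (∀ a ∈ A, ∀ b ∈ A, a * b = b * a) →
      (∀ a ∈ A, a ^ 2 = 1) → Nat.card A ≤ 2 := fun A hA hc he =>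
    card_le_two_of_prank (hI _ _ hg) A (hA.trans (le_inf hRP' hRP)) hc he
  by_contra hQ
  have hall : ∀ (y : G) (m : ℕ), Odd m → y ^ m = 1 → y ∈ centralizer (R : Set G) := by
    intro y m hm hy
    by_cases hRne : R = ⊥
    · rw [hRne, mem_centralizer_iff]
      intro h hh
      rw [Subgroup.coe_bot, Set.mem_singleton_iff] at hh
      rw [hh, one_mul, mul_one]
    obtain ⟨z, hzR, hzo, hu⟩ := unique_involution R hR2 hRne hrank
    have huniq := uniqueOrderP_of_unique_involution R hzR hzo hu
    rcases Lead.UniqueSubgroup.cyclic_or_quaternion hR2 huniq with hcyc | ⟨-, n, ⟨e⟩⟩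
    · exact centralizes_of_cyclic R hR2 hcyc y m hm hy
    · rcases (by omega : n = 0 ∨ n = 1 ∨ 2 ≤ n) with h0 | h1 | h2
      · subst h0
        have hcyc : IsCyclic ↥R := by
          haveI := QuaternionGroup.quaternionGroup_one_isCyclic
          exact isCyclic_of_surjective e.symm e.symm.surjective
        exact centralizes_of_cyclic R hR2 hcyc y m hm hy
      · subst h1
        exfalso
        apply hQ
        rw [← hR]
        exact ⟨e⟩
      · exact centralizes_of_quat R hR2 n h2 e y m hm hy
  have hG2 : IsPGroup 2 G := by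
    apply isPGroup_two_of_no_odd
    intro q y hq hq2 hyo
    have hyC := hall y q (hq.odd_of_ne_two hq2) (by rw [← hyo, pow_orderOf_eq_one])
    have hyR : y ∈ R := hC hyC
    obtain ⟨k, hk⟩ := hR2 ⟨y, hyR⟩
    have hk' : y ^ 2 ^ k = 1 := by
      have := congrArg Subtype.val hk
      simpa using this
    have hd := orderOf_dvd_of_pow_eq_one hk'
    rw [hyo] at hd
    have := (Nat.prime_dvd_prime_iff_eq hq Nat.prime_two).mp (hq.dvd_of_dvd_pow hd)
    exact hq2 this
  apply hnn P
  have htop : (⊤ : Subgroup G) = (P : Subgroup G) := P.is_maximal' (hG2.to_subgroup ⊤) le_top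
  rw [← htop]
  infer_instance

section Q8case

variable (R : Subgroup G) [hRn : R.Normal] (e : ↥R ≃* QuaternionGroup 2)

include e in
theorem q8_sub_z : ∃ z : G, z ∈ R ∧ orderOf z = 2 ∧ (∀ r ∈ R, r * r = 1 → r = 1 ∨ r = z) ∧
    (∀ r ∈ R, r * r ≠ 1 → r * r = z) ∧ (∀ g : G, g * z = z * g) ∧
    (∀ c ∈ R, (∀ r ∈ R, c * r = r * c) → c = 1 ∨ c = z) := by
  obtain ⟨z', hz1, hz2, hz3, hz4, hz5⟩ := q8_z e
  obtain ⟨z, hz⟩ : ∃ z : G, z = (z' : G) := ⟨_, rfl⟩
  have hzR : z ∈ R := by rw [hz]; exact z'.2
  have hzz : z * z = 1 := by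
    rw [hz]
    have := congrArg Subtype.val hz2
    simpa using this
  have hzne : z ≠ 1 := by
    intro h
    apply hz1
    apply Subtype.ext
    rw [← hz, h]
    rfl
  have h3 : ∀ r ∈ R, r * r = 1 → r = 1 ∨ r = z := by
    intro r hr hrr
    rcases hz3 ⟨r, hr⟩ (Subtype.ext (by simpa using hrr)) with h | h
    · left
      have := congrArg Subtype.val h
      simpa using this
    · right
      have := congrArg Subtype.val h
      rw [hz]
      simpa using this
  refine ⟨z, hzR, orderOf_eq_prime (by rw [pow_two]; exact hzz) hzne, h3, ?_, ?_, ?_⟩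
  · intro r hr hrr
    have := hz4 ⟨r, hr⟩ (fun h => hrr (by have := congrArg Subtype.val h; simpa using this))
    have := congrArg Subtype.val this
    rw [hz]
    simpa using this
  · intro g
    have hgR : g * z * g⁻¹ ∈ R := hRn.conj_mem z hzR g
    have hsq : (g * z * g⁻¹) * (g * z * g⁻¹) = 1 := by
      calc (g * z * g⁻¹) * (g * z * g⁻¹) = g * (z * z) * g⁻¹ := by group
        _ = 1 := by rw [hzz]; group
    rcases h3 _ hgR hsq with h | h
    · exfalso
      apply hzne
      have : z = g⁻¹ * (g * z * g⁻¹) * g := by group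
      rw [this, h]
      group
    · calc g * z = (g * z * g⁻¹) * g := by group
        _ = z * g := by rw [h]
  · intro c hc hcc
    rcases hz5 ⟨c, hc⟩ (fun r => Subtype.ext (by simpa using hcc r.1 r.2)) with h | h
    · left
      have := congrArg Subtype.val h
      simpa using this
    · right
      have := congrArg Subtype.val h
      rw [hz]
      simpa using this

include e in
theorem q8_card_le (hC : centralizer (R : Set G) ≤ R) : Nat.card G ≤ 48 := by
  classical
  obtain ⟨z, hzR, hzo, -, -, hzc, hz5⟩ := q8_sub_z R e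
  obtain ⟨a₀, ha₀⟩ : ∃ a₀ : ↥R, a₀ = e.symm (QuaternionGroup.a 1) := ⟨_, rfl⟩
  obtain ⟨b₀, hb₀⟩ : ∃ b₀ : ↥R, b₀ = e.symm (QuaternionGroup.xa 0) := ⟨_, rfl⟩
  have hea : e a₀ = QuaternionGroup.a 1 := by rw [ha₀, e.apply_symm_apply]
  have heb : e b₀ = QuaternionGroup.xa 0 := by rw [hb₀, e.apply_symm_apply]
  have ha1 : a₀ * a₀ ≠ 1 := by
    intro h
    have := congrArg e h
    rw [map_mul, hea, map_one] at this
    revert this
    decide
  have hb1 : b₀ * b₀ ≠ 1 := by
    intro h
    have := congrArg e h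
    rw [map_mul, heb, map_one] at this
    revert this
    decide
  have hba : b₀ ≠ a₀ := by
    intro h
    have := congrArg e h
    rw [hea, heb] at this
    revert this
    decide
  have hba' : b₀ ≠ a₀⁻¹ := by
    intro h
    have := congrArg e h
    rw [map_inv, hea, heb] at this
    revert this
    decide
  obtain ⟨-, -, hword, -⟩ := q8_pair e a₀ b₀ ha1 hb1 hba hba'
  -- the map
  let f : G → QuaternionGroup 2 × QuaternionGroup 2 := fun g =>
    (e ⟨g * (a₀ : G) * g⁻¹, hRn.conj_mem _ a₀.2 g⟩, e ⟨g * (b₀ : G) * g⁻¹, hRn.conj_mem _ b₀.2 g⟩)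
  let P₀ : Finset (QuaternionGroup 2 × QuaternionGroup 2) :=
    Finset.univ.filter (fun p => p.1 * p.1 ≠ 1 ∧ p.2 * p.2 ≠ 1 ∧ p.2 ≠ p.1 ∧ p.2 ≠ p.1⁻¹)
  have hP₀ : P₀.card = 24 := by decide
  letI : Fintype G := Fintype.ofFinite G
  have himg : (Finset.univ.image f) ⊆ P₀ := by
    intro p hp
    obtain ⟨g, -, rfl⟩ := Finset.mem_image.mp hp
    simp only [P₀, Finset.mem_filter, Finset.mem_univ, true_and]
    have conjR : ∀ (u : ↥R), (⟨g * (u : G) * g⁻¹, hRn.conj_mem _ u.2 g⟩ : ↥R) =
        (MulAut.conjNormal g : MulAut ↥R) u := by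
      intro u
      apply Subtype.ext
      simp [MulAut.conjNormal_apply]
    simp only [f]
    rw [conjR a₀, conjR b₀]
    refine ⟨?_, ?_, ?_, ?_⟩
    · intro h
      rw [← map_mul, ← map_mul, map_eq_one_iff e e.injective,
        map_eq_one_iff _ (MulEquiv.injective _)] at h
      exact ha1 h
    · intro h
      rw [← map_mul, ← map_mul, map_eq_one_iff e e.injective,
        map_eq_one_iff _ (MulEquiv.injective _)] at h
      exact hb1 h
    · intro h
      exact hba ((MulEquiv.injective _) (e.injective h))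
    · intro h
      rw [← map_inv, ← map_inv] at h
      exact hba' ((MulEquiv.injective _) (e.injective h))
  have hfib : ∀ p ∈ Finset.univ.image f,
      ((Finset.univ : Finset G).filter fun x => f x = p).card ≤ 2 := by
    intro p hp
    obtain ⟨g, -, rfl⟩ := Finset.mem_image.mp hp
    have hsub : ((Finset.univ : Finset G).filter fun x => f x = f g) ⊆ {g, g * z} := by
      intro g' hg'
      rw [Finset.mem_filter] at hg'
      have hfe := hg'.2
      simp only [f, Prod.mk.injEq] at hfe
      have h1 : g' * (a₀ : G) * g'⁻¹ = g * (a₀ : G) * g⁻¹ := by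
        have := congrArg Subtype.val (e.injective hfe.1)
        simpa using this
      have h2 : g' * (b₀ : G) * g'⁻¹ = g * (b₀ : G) * g⁻¹ := by
        have := congrArg Subtype.val (e.injective hfe.2)
        simpa using this
      obtain ⟨w, hw⟩ : ∃ w : G, w = g⁻¹ * g' := ⟨_, rfl⟩
      have hwa : w * (a₀ : G) = (a₀ : G) * w := by
        have : w * (a₀ : G) * w⁻¹ = (a₀ : G) := by
          rw [hw]
          calc g⁻¹ * g' * (a₀ : G) * (g⁻¹ * g')⁻¹ = g⁻¹ * (g' * (a₀ : G) * g'⁻¹) * g := by group
            _ = (a₀ : G) := by rw [h1]; group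
        calc w * (a₀ : G) = (w * (a₀ : G) * w⁻¹) * w := by group
          _ = (a₀ : G) * w := by rw [this]
      have hwb : w * (b₀ : G) = (b₀ : G) * w := by
        have : w * (b₀ : G) * w⁻¹ = (b₀ : G) := by
          rw [hw]
          calc g⁻¹ * g' * (b₀ : G) * (g⁻¹ * g')⁻¹ = g⁻¹ * (g' * (b₀ : G) * g'⁻¹) * g := by group
            _ = (b₀ : G) := by rw [h2]; group
        calc w * (b₀ : G) = (w * (b₀ : G) * w⁻¹) * w := by group
          _ = (b₀ : G) * w := by rw [this]
      have hwR : ∀ r ∈ R, w * r = r * w := by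
        intro r hr
        obtain ⟨m, n, hmn⟩ := hword ⟨r, hr⟩
        have hr' : r = (a₀ : G) ^ m * (b₀ : G) ^ n := by
          have := congrArg Subtype.val hmn
          simpa using this
        have c1 : Commute w ((a₀ : G) ^ m) := (show Commute w (a₀ : G) from hwa).pow_right m
        have c2 : Commute w ((b₀ : G) ^ n) := (show Commute w (b₀ : G) from hwb).pow_right n
        rw [hr']
        exact (c1.mul_right c2)
      have hwC : w ∈ centralizer (R : Set G) := by
        rw [mem_centralizer_iff]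
        intro r hr
        exact (hwR r hr).symm
      rcases hz5 w (hC hwC) hwR with h | h
      · have : g' = g := by
          have : g' = g * w := by rw [hw]; group
          rw [this, h, mul_one]
        rw [this]
        simp
      · have : g' = g * z := by
          have : g' = g * w := by rw [hw]; group
          rw [this, h]
        rw [this]
        simp
    exact (Finset.card_le_card hsub).trans Finset.card_le_two
  have h1 := Finset.card_le_mul_card_image (f := f) Finset.univ 2 hfib
  have h2 := Finset.card_le_card himg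
  rw [hP₀] at h2
  rw [Nat.card_eq_fintype_card, ← Finset.card_univ]
  omega

end Q8case

end Cfsg.Agent.Lib.Helper17.BinOct
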