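import Mathlib
import Cfsg.Agent.Lib.Helper17.BinOctC
import Cfsg.Agent.Lib.Lead.GlaubermanRepl

/-!
# `S3304` (helper17): the `Q₈` case: order `48`, centre, quotient `S₄`
-/

set_option autoImplicit false

namespace Cfsg.Agent.Lib.Helper17.BinOct

open Subgroup

variable {G : Type*} [Group G] [Finite G]

section Q8case

variable (R : Subgroup G) [hRn : R.Normal] (e : ↥R ≃* QuaternionGroup 2)

include e in
theorem q8_card_eq (hC : centralizer (R : Set G) ≤ R)
    (hnn : ∀ P : Sylow 2 G, ¬ (P : Subgroup G).Normal) : Nat.card G = 48 := by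
  haveI : Fact (Nat.Prime 2) := ⟨Nat.prime_two⟩
  have hR8 : Nat.card R = 8 := q8_card e
  have hR2 : IsPGroup 2 R := IsPGroup.of_card (n := 3) (by rw [hR8]; rfl)
  obtain ⟨P⟩ : Nonempty (Sylow 2 G) := inferInstance
  have hRP : R ≤ (P : Subgroup G) := Helper16.normal_pgroup_le_sylow hRn hR2 P
  have h8 : 8 ∣ Nat.card (P : Subgroup G) := hR8 ▸ Subgroup.card_dvd_of_le hRP
  obtain ⟨k, hk⟩ := IsPGroup.iff_card.mp P.2
  have hidx : ¬ 2 ∣ (P : Subgroup G).index := P.not_dvd_index
  have hmul := Subgroup.card_mul_index (P : Subgroup G)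
  have hle := q8_card_le R e hC
  obtain ⟨c', hc'⟩ := h8
  have h3 : ¬ 3 ∣ Nat.card (P : Subgroup G) := by
    rw [hk]
    intro h
    have := (Nat.prime_dvd_prime_iff_eq Nat.prime_three Nat.prime_two).mp
      (Nat.prime_three.dvd_of_dvd_pow h)
    omega
  have h5 : ¬ 5 ∣ Nat.card (P : Subgroup G) := by
    rw [hk]
    intro h
    have := (Nat.prime_dvd_prime_iff_eq Nat.prime_five Nat.prime_two).mp
      (Nat.prime_five.dvd_of_dvd_pow h)
    omega
  obtain ⟨idx, hidx'⟩ : ∃ idx, idx = (P : Subgroup G).index := ⟨_, rfl⟩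
  rw [← hidx'] at hidx hmul
  rw [hc'] at hmul h3 h5
  have hGpos : 0 < Nat.card G := Nat.card_pos
  have hprod : c' * idx ≤ 6 := by nlinarith
  have hc'pos : 0 < c' := by
    rcases Nat.eq_zero_or_pos c' with h | h
    · rw [h] at hmul; omega
    · exact h
  have hidxpos : 0 < idx := by
    rcases Nat.eq_zero_or_pos idx with h | h
    · rw [h] at hmul; omega
    · exact h
  have hc'le : c' ≤ 6 := by nlinarith
  have hidxle : idx ≤ 6 := by nlinarith
  have hcases : idx = 1 ∨ c' = 1 ∨ (c' = 2 ∧ idx = 3) := by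
    interval_cases c' <;> interval_cases idx <;> omega
  rcases hcases with h | h | ⟨h1, h2⟩
  · exfalso
    apply hnn P
    have : (P : Subgroup G) = ⊤ := by
      rw [← Subgroup.index_eq_one, ← hidx', h]
    rw [this]
    infer_instance
  · exfalso
    apply hnn P
    have : R = (P : Subgroup G) := by
      apply Subgroup.eq_of_le_of_card_ge hRP
      rw [hc', h, hR8]
    rw [← this]
    exact hRn
  · rw [← hmul, h1, h2]

include e in
theorem q8_center_eq (hC : centralizer (R : Set G) ≤ R) {z : G} (hzo : orderOf z = 2)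
    (hzc : ∀ g : G, g * z = z * g)
    (hz5 : ∀ c ∈ R, (∀ r ∈ R, c * r = r * c) → c = 1 ∨ c = z) :
    center G = zpowers z := by
  apply le_antisymm
  · intro c hc
    rw [Subgroup.mem_center_iff] at hc
    have hcC : c ∈ centralizer (R : Set G) := by
      rw [mem_centralizer_iff]
      intro r _
      exact hc r
    rcases hz5 c (hC hcC) (fun r _ => (hc r).symm) with h | h
    · rw [h]; exact one_mem _
    · rw [h]; exact mem_zpowers z
  · rw [zpowers_le, Subgroup.mem_center_iff]
    exact hzc

/-- an element of order `3` fixes only the centre of `R` -/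
theorem q8_fix {z : G} (hR8 : Nat.card R = 8)
    (hz3 : ∀ r ∈ R, r * r = 1 → r = 1 ∨ r = z) (hz4 : ∀ r ∈ R, r * r ≠ 1 → r * r = z)
    (hzz : z * z = 1)
    (x : G) (m : ℕ) (hm : Odd m) (hx : x ^ m = 1) (hxC : x ∉ centralizer (R : Set G))
    (r : G) (hr : r ∈ R) (hxr : x * r = r * x) : r = 1 ∨ r = z := by
  by_contra hcon
  push Not at hcon
  have hrr : r * r ≠ 1 := fun h => by
    rcases hz3 r hr h with h1 | h1
    · exact hcon.1 h1
    · exact hcon.2 h1
  have hrz : r * r = z := hz4 r hr hrr
  have hro : orderOf r = 4 := by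
    have h1 : ¬ r ^ 2 ^ 1 = 1 := by rw [pow_one, pow_two]; exact hrr
    have h2 : r ^ 2 ^ (1 + 1) = 1 := by
      have : r ^ 2 ^ (1 + 1) = (r * r) * (r * r) := by
        norm_num [pow_succ]
        group
      rw [this, hrz, hzz]
    have := orderOf_eq_prime_pow h1 h2
    simpa using this
  have hR2 : IsPGroup 2 R := IsPGroup.of_card (n := 3) (by rw [hR8]; rfl)
  apply hxC
  have hcent : ∀ t ∈ zpowers r, x * t * x⁻¹ = t := by
    intro t ht
    obtain ⟨k, rfl⟩ := mem_zpowers_iff.mp ht
    have : x * r * x⁻¹ = r := by rw [hxr]; group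
    rw [← conj_zpow, this]
  have hCR : zpowers r ≤ R := zpowers_le.mpr hr
  have hidx : ((zpowers r).subgroupOf R).index = 2 := by
    have h1 := Subgroup.card_mul_index ((zpowers r).subgroupOf R)
    rw [Nat.card_congr (Subgroup.subgroupOfEquivOfLe hCR).toEquiv, Nat.card_zpowers, hro, hR8] at h1
    omega
  have hchain := chainOdd R (zpowers r) hR2 hCR x m hm hx hcent ?_
  · rw [mem_centralizer_iff]
    intro t ht
    have h2 := hchain t ht
    calc t * x = (x * t * x⁻¹) * x := by rw [h2]
      _ = x * t := by group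
  · intro t ht
    have hxt : x * t * x⁻¹ ∈ R := hRn.conj_mem t ht x
    by_cases htC : t ∈ zpowers r
    · rw [hcent t htC, mul_inv_cancel]
      exact one_mem _
    · have hxtC : x * t * x⁻¹ ∉ zpowers r := by
        intro h
        apply htC
        have h4 := hcent _ h
        have h5 : x * t * x⁻¹ = t := mul_left_cancel (mul_right_cancel h4)
        rw [← h5]
        exact h
      have key := Subgroup.mul_mem_iff_of_index_two hidx
        (a := (⟨x * t * x⁻¹, hxt⟩ : ↥R)) (b := (⟨t, ht⟩ : ↥R)⁻¹)
      have h6 : (⟨x * t * x⁻¹, hxt⟩ : ↥R) * (⟨t, ht⟩ : ↥R)⁻¹ ∈ (zpowers r).subgroupOf R := by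
        rw [key]
        constructor
        · intro h
          exact absurd (Subgroup.mem_subgroupOf.mp h) hxtC
        · intro h
          exfalso
          apply htC
          have := Subgroup.mem_subgroupOf.mp h
          have h7 : t⁻¹ ∈ zpowers r := by simpa using this
          simpa using inv_mem h7
      have := Subgroup.mem_subgroupOf.mp h6
      simpa using this

end Q8case

end Cfsg.Agent.Lib.Helper17.BinOct
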