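import Mathlib
import Cfsg.Agent.Lib.Helper17.BinOctD

/-!
# `S3304` (helper17): the `Q₈` case: `G / Z(G) ≅ S₄`
-/

set_option autoImplicit false

namespace Cfsg.Agent.Lib.Helper17.BinOct

open Subgroup

variable {G : Type*} [Group G] [Finite G]

section Q8case

variable (R : Subgroup G) [hRn : R.Normal] (e : ↥R ≃* QuaternionGroup 2)

include e in
theorem q8_quot_s4 (hC : centralizer (R : Set G) ≤ R)
    (hmax : ∀ N : Subgroup G, N.Normal → IsPGroup 2 N → N ≤ R) (hcard : Nat.card G = 48) :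
    Nat.card (center G) = 2 ∧ Nonempty (G ⧸ center G ≃* Equiv.Perm (Fin 4)) := by
  obtain ⟨z, hzR, hzo, hz3, hz4, hzc, hz5⟩ := q8_sub_z R e
  have hcen : center G = zpowers z := q8_center_eq R e hC hzo hzc hz5
  have hcen2 : Nat.card (center G) = 2 := by rw [hcen, Nat.card_zpowers, hzo]
  refine ⟨hcen2, ?_⟩
  have hR8 : Nat.card R = 8 := q8_card e
  have hzz : z * z = 1 := by rw [← pow_two, ← hzo, pow_orderOf_eq_one]
  have hq24 : Nat.card (G ⧸ center G) = 24 := by
    have := Subgroup.card_eq_card_quotient_mul_card_subgroup (center G)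
    rw [hcard, hcen2] at this
    omega
  apply o24_iso hq24
  intro gbar h6
  obtain ⟨g, rfl⟩ := QuotientGroup.mk_surjective gbar
  -- g^12 = 1
  have hg6 : g ^ 6 ∈ center G := by
    rw [← QuotientGroup.eq_one_iff, QuotientGroup.mk_pow, ← h6, pow_orderOf_eq_one]
  have hg12 : g ^ 12 = 1 := by
    rw [hcen] at hg6
    rcases o24_mem_zpowers_two hzo hg6 with h | h
    · rw [show (12 : ℕ) = 6 * 2 from rfl, pow_mul, h, one_pow]
    · rw [show (12 : ℕ) = 6 * 2 from rfl, pow_mul, h, pow_two, hzz]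
  obtain ⟨x, hx⟩ : ∃ x : G, x = g ^ 4 := ⟨_, rfl⟩
  have hx3 : x ^ 3 = 1 := by rw [hx, ← pow_mul]; exact hg12
  have hx1 : x ≠ 1 := by
    intro h
    have h1 : (QuotientGroup.mk g : G ⧸ center G) ^ 4 = 1 := by
      rw [← QuotientGroup.mk_pow, ← hx, h]
      rfl
    have := orderOf_dvd_of_pow_eq_one h1
    rw [h6] at this
    omega
  have hxo : orderOf x = 3 := orderOf_eq_prime hx3 hx1
  have hxR : x ∉ R := by
    intro h
    have h1 : orderOf (⟨x, h⟩ : ↥R) ∣ Nat.card R := orderOf_dvd_natCard _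
    rw [← Subgroup.orderOf_coe] at h1
    simp only at h1
    rw [hxo, hR8] at h1
    omega
  have hxC : x ∉ centralizer (R : Set G) := fun h => hxR (hC h)
  have hfix := q8_fix R hR8 hz3 hz4 hzz x 3 (by decide) hx3 hxC
  -- the subgroup `A`
  obtain ⟨A, hA⟩ : ∃ A : Subgroup G,
      A = (zpowers (QuotientGroup.mk g : G ⧸ center G)).comap (QuotientGroup.mk' (center G)) :=
    ⟨_, rfl⟩
  have hA12 : Nat.card A = 12 := by
    have h1 : A.index = (zpowers (QuotientGroup.mk g : G ⧸ center G)).index := by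
      rw [hA]
      exact Subgroup.index_comap_of_surjective _ (QuotientGroup.mk'_surjective _)
    have h2 := Subgroup.card_mul_index (zpowers (QuotientGroup.mk g : G ⧸ center G))
    rw [Nat.card_zpowers, h6, hq24] at h2
    have h3 := Subgroup.card_mul_index A
    rw [h1, hcard] at h3
    have h4 : (zpowers (QuotientGroup.mk g : G ⧸ center G)).index = 4 := by omega
    rw [h4] at h3
    omega
  have hAx : ∀ a ∈ A, a * x = x * a := by
    intro a ha
    rw [hA, Subgroup.mem_comap] at ha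
    obtain ⟨k, hk⟩ := mem_zpowers_iff.mp ha
    have h1 : (QuotientGroup.mk (g ^ k) : G ⧸ center G) = QuotientGroup.mk a := by
      rw [QuotientGroup.mk_zpow]
      exact hk
    have h2 : (g ^ k)⁻¹ * a ∈ center G := QuotientGroup.eq.mp h1
    obtain ⟨c, hc⟩ : ∃ c : G, c = (g ^ k)⁻¹ * a := ⟨_, rfl⟩
    have hcc : ∀ h : G, h * c = c * h := by
      rw [← hc] at h2
      exact Subgroup.mem_center_iff.mp h2
    have ha' : a = g ^ k * c := by rw [hc]; group
    have hgx : Commute (g ^ k) x := by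
      rw [hx]
      exact ((Commute.refl g).zpow_left k).pow_right 4
    rw [ha', mul_assoc, ← hcc x, ← mul_assoc, hgx.eq, mul_assoc]
  -- the Sylow 3-subgroup
  haveI : Fact (Nat.Prime 3) := ⟨Nat.prime_three⟩
  have hx3g : IsPGroup 3 (zpowers x) := IsPGroup.of_card (n := 1) (by rw [Nat.card_zpowers, hxo]; rfl)
  obtain ⟨P3, hP3⟩ := hx3g.exists_le_sylow
  have hP3eq : (P3 : Subgroup G) = zpowers x := by
    symm
    apply Subgroup.eq_of_le_of_card_ge hP3
    obtain ⟨k, hk⟩ := IsPGroup.iff_card.mp P3.2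
    have hdvd : Nat.card (P3 : Subgroup G) ∣ 48 := hcard ▸ Subgroup.card_subgroup_dvd_card _
    rw [hk] at hdvd ⊢
    rw [Nat.card_zpowers, hxo]
    have hk1 : k ≤ 1 := by
      by_contra hcon
      push Not at hcon
      have h9 : 3 ^ 2 ∣ 3 ^ k := Nat.pow_dvd_pow 3 hcon
      have := h9.trans hdvd
      omega
    interval_cases k <;> omega
  obtain ⟨N, hN⟩ : ∃ N : Subgroup G, N = normalizer ((P3 : Subgroup G) : Set G) := ⟨_, rfl⟩
  have hAN : A ≤ N := by
    intro a ha
    rw [hN]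
    apply S4Inv.mem_normalizer_of_conj_le
    intro b hb
    rw [hP3eq] at hb ⊢
    obtain ⟨k, rfl⟩ := mem_zpowers_iff.mp hb
    have h1 : a * x * a⁻¹ = x := by rw [hAx a ha]; group
    rw [← conj_zpow, h1]
    exact zpow_mem (mem_zpowers x) k
  have hdisj : (P3 : Subgroup G) ⊓ R = ⊥ := by
    apply Subgroup.inf_eq_bot_of_coprime
    rw [hP3eq, Nat.card_zpowers, hxo, hR8]
    decide
  have hNR : N ⊓ R ≤ zpowers z := by
    intro r hr
    obtain ⟨hrN, hrR⟩ := Subgroup.mem_inf.mp hr
    have hxP : x ∈ (P3 : Subgroup G) := hP3 (mem_zpowers x)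
    have h1 : r * x * r⁻¹ ∈ (P3 : Subgroup G) := by
      rw [hN] at hrN
      exact (mem_normalizer_iff.mp hrN x).mp hxP
    have h2 : r * x * r⁻¹ * x⁻¹ ∈ (P3 : Subgroup G) := mul_mem h1 (inv_mem hxP)
    have h3 : r * x * r⁻¹ * x⁻¹ ∈ R := by
      have : r * x * r⁻¹ * x⁻¹ = r * (x * r⁻¹ * x⁻¹) := by group
      rw [this]
      exact mul_mem hrR (hRn.conj_mem _ (inv_mem hrR) x)
    have h4 : r * x * r⁻¹ * x⁻¹ ∈ (P3 : Subgroup G) ⊓ R := Subgroup.mem_inf.mpr ⟨h2, h3⟩
    rw [hdisj, Subgroup.mem_bot] at h4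
    have h5 : x * r = r * x := by
      have : r * x = (r * x * r⁻¹ * x⁻¹) * (x * r) := by group
      rw [this, h4, one_mul]
    rcases hfix r hrR h5 with h | h
    · rw [h]; exact one_mem _
    · rw [h]; exact mem_zpowers z
  have hNR2 : Nat.card (N ⊓ R : Subgroup G) ≤ 2 := by
    have := Subgroup.card_le_of_le hNR
    rwa [Nat.card_zpowers, hzo] at this
  have hNle : N ≤ normalizer (R : Set G) := by
    rw [Subgroup.normalizer_eq_top]
    exact le_top
  have hmul := Lead.GlaubermanRepl.card_sup_mul_card_inf N R hNle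
  have hsup : Nat.card (N ⊔ R : Subgroup G) ≤ 48 := hcard ▸ Subgroup.card_le_card_group _
  have hN12 : Nat.card N ≤ 12 := by
    rw [hR8] at hmul
    have hpos : 0 < Nat.card (N ⊓ R : Subgroup G) := Nat.card_pos
    nlinarith
  have hAeq : A = N := Subgroup.eq_of_le_of_card_ge hAN (by rw [hA12]; exact hN12)
  have hP : normalizer (P3 : Set G) ≤ centralizer (P3 : Set G) := by
    intro n hn
    have hnA : n ∈ A := by rw [hAeq, hN]; exact hn
    rw [mem_centralizer_iff]
    intro h hh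
    have hh' : h ∈ zpowers x := by rw [← hP3eq]; exact hh
    obtain ⟨k, rfl⟩ := mem_zpowers_iff.mp hh'
    have : Commute n x := hAx n hnA
    exact (this.zpow_right k).eq.symm
  have hcompl := MonoidHom.ker_transferSylow_isComplement' P3 hP
  have hK := hcompl.card_mul_card
  rw [hcard] at hK
  have hP3c : Nat.card (P3 : Subgroup G) = 3 := by rw [hP3eq, Nat.card_zpowers, hxo]
  have hK16 : Nat.card (MonoidHom.transferSylow P3 hP).ker = 16 := by
    rw [hP3c] at hK
    omega
  have hK2 : IsPGroup 2 (MonoidHom.transferSylow P3 hP).ker :=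
    IsPGroup.of_card (n := 4) (by rw [hK16]; rfl)
  have hKR := hmax _ (MonoidHom.normal_ker _) hK2
  have := Subgroup.card_le_of_le hKR
  rw [hK16, hR8] at this
  omega

end Q8case

end Cfsg.Agent.Lib.Helper17.BinOct
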