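import Mathlib
import Cfsg.Agent.Lib.Lead.QuatIso
import Cfsg.Agent.Lib.Helper24.DihIso
import Cfsg.Agent.Lib.Helper17.S4InvA

/-!
# Recognising groups of shape `Q₈ ⋊ S₃` by a generator system (helper17)

Two groups of order `48` with generator systems `(i, j, x, t)` satisfying the relations `Sys`
are isomorphic (graph subgroup argument).
-/

set_option autoImplicit false

namespace Cfsg.Agent.Lib.Helper17.BinOct

open Subgroup

/-- a generator system of a group of shape `Q₈ ⋊ S₃` (faithful action) -/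
structure Sys {K : Type*} [Group K] (i j x t : K) : Prop where
  oi : orderOf i = 4
  jj : j ^ 2 = i ^ 2
  ji : j * i * j⁻¹ = i⁻¹
  jn : j ∉ zpowers i
  ox : orderOf x = 3
  ot : orderOf t = 2
  tx : t * x * t⁻¹ = x⁻¹
  xi : x * i * x⁻¹ = j
  xj : x * j * x⁻¹ = i * j
  ti : t * i * t⁻¹ = i⁻¹

variable {K : Type*} [Group K]

theorem range_quatHom {i j : K} (oi : orderOf i = 2 * 2) (jj : j ^ 2 = i ^ 2)
    (ji : j * i * j⁻¹ = i⁻¹) :
    (Lead.QuatIso.quatHom oi jj ji).range = closure ({i, j} : Set K) := by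
  apply le_antisymm
  · rintro _ ⟨q, rfl⟩
    change Lead.QuatIso.quatFun 2 i j q ∈ _
    cases q with
    | a k =>
      simp only [Lead.QuatIso.quatFun]
      exact zpow_mem (subset_closure (by simp)) _
    | xa k =>
      simp only [Lead.QuatIso.quatFun]
      exact mul_mem (subset_closure (by simp)) (zpow_mem (subset_closure (by simp)) _)
  · rw [closure_le]
    rintro a (rfl | ha)
    · refine ⟨QuaternionGroup.a 1, ?_⟩
      change a ^ (((1 : ZMod (2 * 2)).cast : ℤ)) = a
      have : ((1 : ZMod (2 * 2)).cast : ℤ) = 1 := by decide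
      rw [this, zpow_one]
    · rw [Set.mem_singleton_iff] at ha
      subst ha
      refine ⟨QuaternionGroup.xa 0, ?_⟩
      change a * i ^ (((0 : ZMod (2 * 2)).cast : ℤ)) = a
      have : ((0 : ZMod (2 * 2)).cast : ℤ) = 0 := by decide
      rw [this, zpow_zero, mul_one]

theorem card_closure_ij [Finite K] {i j : K} (oi : orderOf i = 4) (jj : j ^ 2 = i ^ 2)
    (ji : j * i * j⁻¹ = i⁻¹) (jn : j ∉ zpowers i) :
    Nat.card (closure ({i, j} : Set K)) = 8 := by
  have oi' : orderOf i = 2 * 2 := oi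
  have hinj := Lead.QuatIso.quatHom_injective oi' jj ji jn
  rw [← range_quatHom oi' jj ji, ← Nat.card_congr (MonoidHom.ofInjective hinj).toEquiv,
    Nat.card_eq_fintype_card, QuaternionGroup.card]

/-- an involution of `⟨i, j⟩ ≅ Q₈` is `i²` -/
theorem involution_closure_ij {i j : K} (oi : orderOf i = 4) (jj : j ^ 2 = i ^ 2)
    (ji : j * i * j⁻¹ = i⁻¹) (jn : j ∉ zpowers i) {w : K} (hw : w ∈ closure ({i, j} : Set K))
    (hw2 : w * w = 1) (hw1 : w ≠ 1) : w = i ^ 2 := by
  have oi' : orderOf i = 2 * 2 := oi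
  have hinj := Lead.QuatIso.quatHom_injective oi' jj ji jn
  rw [← range_quatHom oi' jj ji] at hw
  obtain ⟨q, rfl⟩ := hw
  have hq2 : q * q = 1 := by
    apply hinj
    rw [map_mul, map_one]
    exact hw2
  have hq1 : q ≠ 1 := by
    intro h
    apply hw1
    rw [h, map_one]
  have key : ∀ q : QuaternionGroup 2, q * q = 1 → q ≠ 1 → q = QuaternionGroup.a 2 := by decide
  rw [key q hq2 hq1]
  change i ^ (((2 : ZMod (2 * 2)).cast : ℤ)) = i ^ 2
  have : ((2 : ZMod (2 * 2)).cast : ℤ) = 2 := by decide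
  rw [this]
  exact zpow_natCast i 2

theorem card_closure_xt [Finite K] {x t : K} (ox : orderOf x = 3) (ot : orderOf t = 2)
    (tx : t * x * t⁻¹ = x⁻¹) : Nat.card (closure ({x, t} : Set K)) = 6 := by
  have ht2 : t * t = 1 := by rw [← pow_two, ← ot, pow_orderOf_eq_one]
  have htinv : t⁻¹ = t := inv_eq_of_mul_eq_one_right ht2
  have hu2 : (t * x) * (t * x) = 1 := by
    have h1 : t * x * t = x⁻¹ := by
      rw [htinv] at tx
      exact tx
    calc t * x * (t * x) = (t * x * t) * x := by group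
      _ = 1 := by rw [h1]; group
  have hu1 : t * x ≠ 1 := by
    intro h
    have hx : x = t⁻¹ := eq_inv_of_mul_eq_one_right h
    rw [htinv] at hx
    rw [hx, ot] at ox
    omega
  have ou : orderOf (t * x) = 2 := orderOf_eq_prime (by rw [pow_two]; exact hu2) hu1
  have hprod : t * (t * x) = x := by rw [← mul_assoc, ht2, one_mul]
  have hinj := Helper24.dihHom_injective ot ou
  have hrange := Helper24.dihHom_range ot ou
  have hcl : closure ({t, t * x} : Set K) = closure ({x, t} : Set K) := by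
    apply le_antisymm
    · rw [closure_le]
      rintro a (rfl | ha)
      · exact subset_closure (by simp)
      · rw [Set.mem_singleton_iff] at ha
        subst ha
        exact mul_mem (subset_closure (by simp)) (subset_closure (by simp))
    · rw [closure_le]
      rintro a (rfl | ha)
      · have e : a = t⁻¹ * (t * a) := by group
        rw [e]
        exact mul_mem (inv_mem (subset_closure (by simp))) (subset_closure (by simp))
      · rw [Set.mem_singleton_iff] at ha
        subst ha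
        exact subset_closure (by simp)
  rw [← hcl, ← hrange, ← Nat.card_congr (MonoidHom.ofInjective hinj).toEquiv,
    DihedralGroup.nat_card, hprod, ox]

theorem Sys.card_closure [Finite K] {i j x t : K} (h : Sys i j x t) :
    Nat.card (closure ({i, j, x, t} : Set K)) = 48 := by
  obtain ⟨R, hR⟩ : ∃ R : Subgroup K, R = closure ({i, j} : Set K) := ⟨_, rfl⟩
  obtain ⟨H, hH⟩ : ∃ H : Subgroup K, H = closure ({x, t} : Set K) := ⟨_, rfl⟩
  have hRc : Nat.card R = 8 := by rw [hR]; exact card_closure_ij h.oi h.jj h.ji h.jn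
  have hHc : Nat.card H = 6 := by rw [hH]; exact card_closure_xt h.ox h.ot h.tx
  have hiR : i ∈ R := by rw [hR]; exact subset_closure (by simp)
  have hjR : j ∈ R := by rw [hR]; exact subset_closure (by simp)
  have hxH : x ∈ H := by rw [hH]; exact subset_closure (by simp)
  have htH : t ∈ H := by rw [hH]; exact subset_closure (by simp)
  have hxN : x ∈ normalizer (R : Set K) := by
    apply S4Inv.mem_normalizer_of_conj_le
    intro b hb
    have hle : R.map (MulAut.conj x).toMonoidHom ≤ R := by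
      rw [hR, MonoidHom.map_closure, closure_le, ← hR]
      rintro _ ⟨a, ha, rfl⟩
      rcases ha with rfl | ha
      · show x * a * x⁻¹ ∈ R
        rw [h.xi]
        exact hjR
      · rw [Set.mem_singleton_iff] at ha
        subst ha
        show x * a * x⁻¹ ∈ R
        rw [h.xj]
        exact mul_mem hiR hjR
    exact hle ⟨b, hb, rfl⟩
  have htN : t ∈ normalizer (R : Set K) := by
    apply S4Inv.mem_normalizer_of_conj_le
    intro b hb
    have hle : R.map (MulAut.conj t).toMonoidHom ≤ R := by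
      rw [hR, MonoidHom.map_closure, closure_le, ← hR]
      rintro _ ⟨a, ha, rfl⟩
      rcases ha with rfl | ha
      · show t * a * t⁻¹ ∈ R
        rw [h.ti]
        exact inv_mem hiR
      · rw [Set.mem_singleton_iff] at ha
        subst ha
        have e : t * a * t⁻¹ = x⁻¹ * i⁻¹ * x⁻¹⁻¹ := by
          rw [← h.xi]
          have h1 : t * (x * i * x⁻¹) * t⁻¹
              = (t * x * t⁻¹) * (t * i * t⁻¹) * (t * x * t⁻¹)⁻¹ := by group
          rw [h1, h.tx, h.ti]
        show t * a * t⁻¹ ∈ R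
        rw [e]
        have hx' : x⁻¹ ∈ normalizer (R : Set K) := inv_mem hxN
        exact (mem_normalizer_iff.mp hx' i⁻¹).mp (inv_mem hiR)
    exact hle ⟨b, hb, rfl⟩
  have hHN : H ≤ normalizer (R : Set K) := by
    rw [hH, closure_le]
    rintro a (rfl | ha)
    · exact hxN
    · rw [Set.mem_singleton_iff] at ha
      subst ha
      exact htN
  have hi4 : i ^ 4 = 1 := by rw [← h.oi, pow_orderOf_eq_one]
  have hdisj : Nat.card (H ⊓ R : Subgroup K) = 1 := by
    by_contra hne
    have hd1 : Nat.card (H ⊓ R : Subgroup K) ∣ 6 := hHc ▸ Subgroup.card_dvd_of_le inf_le_left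
    have hd2 : Nat.card (H ⊓ R : Subgroup K) ∣ 8 := hRc ▸ Subgroup.card_dvd_of_le inf_le_right
    have hd : Nat.card (H ⊓ R : Subgroup K) ∣ 2 := by
      have := Nat.dvd_gcd hd1 hd2
      simpa using this
    have hc2 : Nat.card (H ⊓ R : Subgroup K) = 2 := by
      have hle := Nat.le_of_dvd (by norm_num) hd
      have hpos : 0 < Nat.card (H ⊓ R : Subgroup K) := Nat.card_pos
      omega
    have hnb : (H ⊓ R : Subgroup K) ≠ ⊥ := by
      intro hb
      rw [hb, Subgroup.card_bot] at hc2
      omega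
    obtain ⟨w, hwD, hw1⟩ := (Subgroup.ne_bot_iff_exists_ne_one).mp hnb |>.imp
      (fun w hw => hw) |> fun ⟨w, hw⟩ => (⟨(w : K), w.2, fun h => hw (Subtype.ext h)⟩ :
        ∃ w : K, w ∈ (H ⊓ R : Subgroup K) ∧ w ≠ 1)
    have hw2 : w * w = 1 := by
      have h1 : (⟨w, hwD⟩ : ↥(H ⊓ R : Subgroup K)) ^ Nat.card (H ⊓ R : Subgroup K) = 1 :=
        pow_card_eq_one'
      rw [hc2] at h1
      have h2 := congrArg Subtype.val h1
      simpa [pow_two] using h2
    have hwH : w ∈ H := (Subgroup.mem_inf.mp hwD).1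
    have hwR : w ∈ R := (Subgroup.mem_inf.mp hwD).2
    have hwi : w = i ^ 2 := by
      rw [hR] at hwR
      exact involution_closure_ij h.oi h.jj h.ji h.jn hwR hw2 hw1
    -- `i²` commutes with `x` and `t`
    have hcx : x * i ^ 2 * x⁻¹ = i ^ 2 := by
      rw [← conj_pow, h.xi, h.jj]
    have hcomm : Commute x (i ^ 2) := by
      have : x * i ^ 2 = i ^ 2 * x := by
        calc x * i ^ 2 = (x * i ^ 2 * x⁻¹) * x := by group
          _ = i ^ 2 * x := by rw [hcx]
      exact this
    have ho2 : orderOf (i ^ 2) = 2 := by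
      apply orderOf_eq_prime
      · rw [← pow_mul]; exact hi4
      · rw [← hwi]; exact hw1
    have ho6 : orderOf (x * i ^ 2) = 6 := by
      rw [hcomm.orderOf_mul_eq_mul_orderOf_of_coprime (by rw [h.ox, ho2]; norm_num), h.ox, ho2]
    have hcH : x * i ^ 2 ∈ H := mul_mem hxH (hwi ▸ hwH)
    have hzp : zpowers (x * i ^ 2) = H := by
      apply Subgroup.eq_of_le_of_card_ge
      · rw [zpowers_le]; exact hcH
      · rw [Nat.card_zpowers, ho6, hHc]
    have hxz : x ∈ zpowers (x * i ^ 2) := hzp ▸ hxH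
    have htz : t ∈ zpowers (x * i ^ 2) := hzp ▸ htH
    obtain ⟨a, ha⟩ := mem_zpowers_iff.mp hxz
    obtain ⟨b, hb⟩ := mem_zpowers_iff.mp htz
    have hxt : t * x = x * t := by
      rw [← ha, ← hb, ← zpow_add, ← zpow_add, add_comm]
    have hxx : x = x⁻¹ := by
      have := h.tx
      rw [hxt, mul_assoc, mul_inv_cancel, mul_one] at this
      exact this
    have hx2 : x ^ 2 = 1 := by
      rw [pow_two]
      nth_rewrite 2 [hxx]
      exact mul_inv_cancel x
    have := orderOf_dvd_of_pow_eq_one hx2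
    rw [h.ox] at this
    omega
  have hsup : closure ({i, j, x, t} : Set K) = H ⊔ R := by
    rw [hH, hR, sup_comm, ← Subgroup.closure_union]
    congr 1
    ext a
    simp only [Set.mem_insert_iff, Set.mem_singleton_iff, Set.mem_union]
    tauto
  have hmul := Lead.GlaubermanRepl.card_sup_mul_card_inf H R hHN
  rw [hdisj, hHc, hRc, mul_one] at hmul
  rw [hsup, hmul]

/-- two groups of order `48` with generator systems are isomorphic -/
theorem Sys.iso {G₁ G₂ : Type*} [Group G₁] [Group G₂] [Finite G₁] [Finite G₂]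
    (h1c : Nat.card G₁ = 48) (h2c : Nat.card G₂ = 48)
    {i₁ j₁ x₁ t₁ : G₁} {i₂ j₂ x₂ t₂ : G₂} (h₁ : Sys i₁ j₁ x₁ t₁) (h₂ : Sys i₂ j₂ x₂ t₂) :
    Nonempty (G₁ ≃* G₂) := by
  have hp : Sys ((i₁, i₂) : G₁ × G₂) (j₁, j₂) (x₁, x₂) (t₁, t₂) := by
    refine ⟨?_, ?_, ?_, ?_, ?_, ?_, ?_, ?_, ?_, ?_⟩
    · rw [Prod.orderOf]
      show Nat.lcm (orderOf i₁) (orderOf i₂) = 4
      rw [h₁.oi, h₂.oi]
      rfl
    · ext
      · simpa using h₁.jj
      · simpa using h₂.jj
    · ext
      · simpa using h₁.ji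
      · simpa using h₂.ji
    · intro hmem
      obtain ⟨k, hk⟩ := mem_zpowers_iff.mp hmem
      apply h₁.jn
      rw [mem_zpowers_iff]
      refine ⟨k, ?_⟩
      have := congrArg Prod.fst hk
      simpa using this
    · rw [Prod.orderOf]
      show Nat.lcm (orderOf x₁) (orderOf x₂) = 3
      rw [h₁.ox, h₂.ox]
      rfl
    · rw [Prod.orderOf]
      show Nat.lcm (orderOf t₁) (orderOf t₂) = 2
      rw [h₁.ot, h₂.ot]
      rfl
    · ext
      · simpa using h₁.tx
      · simpa using h₂.tx
    · ext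
      · simpa using h₁.xi
      · simpa using h₂.xi
    · ext
      · simpa using h₁.xj
      · simpa using h₂.xj
    · ext
      · simpa using h₁.ti
      · simpa using h₂.ti
  obtain ⟨Γ, hΓ⟩ : ∃ Γ : Subgroup (G₁ × G₂),
      Γ = closure ({(i₁, i₂), (j₁, j₂), (x₁, x₂), (t₁, t₂)} : Set (G₁ × G₂)) := ⟨_, rfl⟩
  have hΓc : Nat.card Γ = 48 := by rw [hΓ]; exact hp.card_closure
  have hs1 : Function.Surjective ((MonoidHom.fst G₁ G₂).comp Γ.subtype) := by
    rw [← MonoidHom.range_eq_top, MonoidHom.range_comp, Subgroup.range_subtype, hΓ,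
      MonoidHom.map_closure]
    have himg : (MonoidHom.fst G₁ G₂) '' {(i₁, i₂), (j₁, j₂), (x₁, x₂), (t₁, t₂)}
        = {i₁, j₁, x₁, t₁} := by
      simp [Set.image_insert_eq]
    rw [himg]
    apply (Subgroup.card_eq_iff_eq_top _).mp
    rw [h₁.card_closure, h1c]
  have hs2 : Function.Surjective ((MonoidHom.snd G₁ G₂).comp Γ.subtype) := by
    rw [← MonoidHom.range_eq_top, MonoidHom.range_comp, Subgroup.range_subtype, hΓ,
      MonoidHom.map_closure]
    have himg : (MonoidHom.snd G₁ G₂) '' {(i₁, i₂), (j₁, j₂), (x₁, x₂), (t₁, t₂)}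
        = {i₂, j₂, x₂, t₂} := by
      simp [Set.image_insert_eq]
    rw [himg]
    apply (Subgroup.card_eq_iff_eq_top _).mp
    rw [h₂.card_closure, h2c]
  have hb1 := hs1.bijective_of_nat_card_le (by rw [hΓc, h1c])
  have hb2 := hs2.bijective_of_nat_card_le (by rw [hΓc, h2c])
  exact ⟨(MulEquiv.ofBijective _ hb1).symm.trans (MulEquiv.ofBijective _ hb2)⟩

end Cfsg.Agent.Lib.Helper17.BinOct
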