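import Mathlib
import Cfsg.Agent.Lib.Helper17.BinOctRec

/-!
# The generator system of `GL₂(𝔽₃)` (helper17)
-/

set_option autoImplicit false

namespace Cfsg.Agent.Lib.Helper17.BinOct

open Subgroup

/-- `i` -/
def gi : GL (Fin 2) (ZMod 3) := ⟨!![0, 2; 1, 0], !![0, 1; 2, 0], by decide, by decide⟩
/-- `j` -/
def gj : GL (Fin 2) (ZMod 3) := ⟨!![1, 1; 1, 2], !![2, 2; 2, 1], by decide, by decide⟩
/-- `x` -/
def gx : GL (Fin 2) (ZMod 3) := ⟨!![1, 1; 0, 1], !![1, 2; 0, 1], by decide, by decide⟩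
/-- `t` -/
def gt : GL (Fin 2) (ZMod 3) := ⟨!![1, 0; 0, 2], !![1, 0; 0, 2], by decide, by decide⟩

theorem card_GL23' : Nat.card (GL (Fin 2) (ZMod 3)) = 48 := by
  rw [Matrix.card_GL_field]
  simp [ZMod.card, Fin.prod_univ_two]

theorem orderOf_gi : orderOf gi = 4 := by
  have h1 : ¬ gi ^ 2 ^ 1 = 1 := by decide
  have h2 : gi ^ 2 ^ (1 + 1) = 1 := by decide
  have := orderOf_eq_prime_pow h1 h2
  simpa using this

theorem sysGL : Sys gi gj gx gt := by
  refine ⟨orderOf_gi, by decide, by decide, ?_, ?_, ?_, by decide, by decide, by decide, by decide⟩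
  · intro hmem
    obtain ⟨k, hk⟩ := mem_zpowers_iff.mp hmem
    rw [← zpow_mod_orderOf, orderOf_gi] at hk
    have h0 : 0 ≤ k % ((4 : ℕ) : ℤ) := Int.emod_nonneg _ (by norm_num)
    have h4 : k % ((4 : ℕ) : ℤ) < 4 := Int.emod_lt_of_pos _ (by norm_num)
    obtain ⟨n, hn⟩ : ∃ n : ℕ, k % ((4 : ℕ) : ℤ) = n := ⟨(k % ((4 : ℕ) : ℤ)).toNat, by omega⟩
    rw [hn, zpow_natCast] at hk
    have hn4 : n < 4 := by omega
    have key : ∀ n : ℕ, n < 4 → gi ^ n ≠ gj := by decide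
    exact key n hn4 hk
  · exact orderOf_eq_prime (by decide) (by decide)
  · exact orderOf_eq_prime (by decide) (by decide)

end Cfsg.Agent.Lib.Helper17.BinOct
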