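import Mathlib
import Cfsg.Agent.Lib.Helper17.S4InvA
import Cfsg.Agent.Lib.Helper2.NilpotentBasic
import Cfsg.Agent.Lib.Helper17.Order24

/-!
# The irreducible case, part 1 (helper17)
-/

set_option autoImplicit false

namespace Cfsg.Agent.Lib.Helper17.S4Inv

open Subgroup

variable {L : Type*} [Group L]

/-- fixed points in `T` of conjugation by `g` -/
def fixSub (T : Subgroup L) (g : L) : Subgroup L where
  carrier := {t | t ∈ T ∧ g * t * g⁻¹ = t}
  one_mem' := ⟨T.one_mem, by group⟩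
  mul_mem' := fun {a b} ha hb => ⟨T.mul_mem ha.1 hb.1, by
    rw [show g * (a * b) * g⁻¹ = (g * a * g⁻¹) * (g * b * g⁻¹) by group, ha.2, hb.2]⟩
  inv_mem' := fun {a} ha => ⟨T.inv_mem ha.1, by
    rw [show g * a⁻¹ * g⁻¹ = (g * a * g⁻¹)⁻¹ by group, ha.2]⟩

theorem mem_fixSub (T : Subgroup L) (g t : L) : t ∈ fixSub T g ↔ t ∈ T ∧ g * t * g⁻¹ = t := Iff.rfl

theorem fixSub_le (T : Subgroup L) (g : L) : fixSub T g ≤ T := fun _ h => h.1

variable [Finite L]

/-- invariance under generators gives normality -/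
theorem normal_of_inv (T : Subgroup L) (y s : L) (hgen : T ⊔ closure {y, s} = ⊤) (B : Subgroup L)
    (hT : ∀ t ∈ T, ∀ b ∈ B, t * b * t⁻¹ ∈ B) (hy : ∀ b ∈ B, y * b * y⁻¹ ∈ B)
    (hs : ∀ b ∈ B, s * b * s⁻¹ ∈ B) : B.Normal := by
  have h : normalizer (B : Set L) = ⊤ := by
    rw [eq_top_iff, ← hgen]
    apply sup_le
    · intro t ht; exact mem_normalizer_of_conj_le B t (hT t ht)
    · rw [closure_le]
      intro g hg
      rcases hg with rfl | hg
      · exact mem_normalizer_of_conj_le B _ hy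
      · rw [Set.mem_singleton_iff] at hg
        rw [hg]
        exact mem_normalizer_of_conj_le B _ hs
  exact normalizer_eq_top_iff.mp h

/-- the relations on `T` -/
theorem rel3 (T : Subgroup L) [hTn : T.Normal] (y s : L)
    (hSY : ∀ t ∈ T, (s * y * s⁻¹ * y) * t * (s * y * s⁻¹ * y)⁻¹ = t) :
    ∀ t ∈ T, y * (s * t * s⁻¹) * y⁻¹ = s * (y⁻¹ * t * y) * s⁻¹ := by
  intro t ht
  have hu : s * t * s⁻¹ ∈ T := hTn.conj_mem t ht s
  have h := hSY _ hu
  calc y * (s * t * s⁻¹) * y⁻¹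
      = (s * y * s⁻¹)⁻¹ * ((s * y * s⁻¹ * y) * (s * t * s⁻¹) * (s * y * s⁻¹ * y)⁻¹) *
          (s * y * s⁻¹) := by group
    _ = (s * y * s⁻¹)⁻¹ * (s * t * s⁻¹) * (s * y * s⁻¹) := by rw [h]
    _ = s * (y⁻¹ * t * y) * s⁻¹ := by group

theorem rel2 (T : Subgroup L) [hTn : T.Normal] (y s : L)
    (hSY : ∀ t ∈ T, (s * y * s⁻¹ * y) * t * (s * y * s⁻¹ * y)⁻¹ = t) :
    ∀ t ∈ T, y⁻¹ * (s * t * s⁻¹) * y = s * (y * t * y⁻¹) * s⁻¹ := by
  intro t ht
  have h := rel3 T y s hSY (y * t * y⁻¹) (hTn.conj_mem t ht y)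
  have e : y⁻¹ * (y * t * y⁻¹) * y = t := by group
  rw [e] at h
  calc y⁻¹ * (s * t * s⁻¹) * y
      = y⁻¹ * (y * (s * (y * t * y⁻¹) * s⁻¹) * y⁻¹) * y := by rw [h]
    _ = s * (y * t * y⁻¹) * s⁻¹ := by group

theorem rel4 (T : Subgroup L) (y : L) (hY3 : ∀ t ∈ T, y ^ 3 * t * (y ^ 3)⁻¹ = t) :
    ∀ t ∈ T, y⁻¹ * t * y = y ^ 2 * t * (y ^ 2)⁻¹ := by
  intro t ht
  have h := hY3 t ht
  calc y⁻¹ * t * y = y⁻¹ * (y ^ 3 * t * (y ^ 3)⁻¹) * y := by rw [h]
    _ = y ^ 2 * t * (y ^ 2)⁻¹ := by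
      simp only [pow_succ, pow_zero, one_mul]; group

/-- **The irreducible case: structure of `T`.** -/
theorem irred_struct (T : Subgroup L) [hTn : T.Normal] (hT2 : IsPGroup 2 T) (y s : L)
    (hgen : T ⊔ closure {y, s} = ⊤) (j : ℕ) (hs2 : s ^ (2 ^ j) = 1)
    (hyC : ∃ t ∈ T, y * t * y⁻¹ ≠ t)
    (hY3 : ∀ t ∈ T, y ^ 3 * t * (y ^ 3)⁻¹ = t)
    (hSY : ∀ t ∈ T, (s * y * s⁻¹ * y) * t * (s * y * s⁻¹ * y)⁻¹ = t)
    (hirr : ∀ T₁ : Subgroup L, T₁ ≤ T → T₁.Normal → T₁ = ⊥ ∨ T₁ = T) :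
    Nat.card T = 4 ∧ (∀ t ∈ T, y * t * y⁻¹ = t → t = 1) ∧
      (∀ t ∈ T, s ^ 2 * t * (s ^ 2)⁻¹ = t) ∧ (∃ t ∈ T, s * t * s⁻¹ ≠ t) ∧
      (∀ a ∈ T, ∀ b ∈ T, a * b = b * a) := by
  haveI : Fact (Nat.Prime 2) := ⟨Nat.prime_two⟩
  have hR3 := rel3 T y s hSY
  have hR2 := rel2 T y s hSY
  have hR4 := rel4 T y hY3
  -- T ≠ ⊥
  have hT1 : T ≠ ⊥ := by
    intro h
    obtain ⟨t, ht, hne⟩ := hyC
    rw [h, Subgroup.mem_bot] at ht
    apply hne; rw [ht]; group
  -- abelian
  have hab : ∀ a ∈ T, ∀ b ∈ T, a * b = b * a := by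
    haveI : Nontrivial ↥T := (Subgroup.nontrivial_iff_ne_bot T).mpr hT1
    haveI := hT2.center_nontrivial
    obtain ⟨z, hz⟩ := exists_ne (1 : ↥(Subgroup.center ↥T))
    haveI hCn : (centralizer (T : Set L)).Normal := Subgroup.normal_centralizer
    haveI hZn : (T ⊓ centralizer (T : Set L)).Normal := inferInstance
    have hzmem : ((z : ↥T) : L) ∈ T ⊓ centralizer (T : Set L) := by
      apply Subgroup.mem_inf.mpr
      refine ⟨(z : ↥T).2, ?_⟩
      rw [Subgroup.mem_centralizer_iff]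
      intro h hh
      have := Subgroup.mem_center_iff.mp z.2 ⟨h, hh⟩
      exact congrArg Subtype.val this
    rcases hirr _ inf_le_left hZn with h | h
    · exfalso
      rw [h, Subgroup.mem_bot] at hzmem
      apply hz
      exact Subtype.ext (Subtype.ext hzmem)
    · intro a ha b hb
      have hb' : b ∈ T ⊓ centralizer (T : Set L) := by rw [h]; exact hb
      exact Subgroup.mem_centralizer_iff.mp (Subgroup.mem_inf.mp hb').2 a ha
  -- exponent two
  have hexp : ∀ t ∈ T, t ^ 2 = 1 := by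
    obtain ⟨T₂, hT₂⟩ : ∃ T₂ : Subgroup L, ∀ t, t ∈ T₂ ↔ t ∈ T ∧ t ^ 2 = 1 := by
      refine ⟨{ carrier := {t | t ∈ T ∧ t ^ 2 = 1}
                one_mem' := ⟨T.one_mem, one_pow 2⟩
                mul_mem' := fun {a b} ha hb => ⟨T.mul_mem ha.1 hb.1, by
                  rw [(show Commute a b from hab a ha.1 b hb.1).mul_pow, ha.2, hb.2, one_mul]⟩
                inv_mem' := fun {a} ha => ⟨T.inv_mem ha.1, by rw [inv_pow, ha.2, inv_one]⟩ },
        fun t => Iff.rfl⟩
    have hT₂n : T₂.Normal := by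
      refine ⟨fun t ht g => ?_⟩
      rw [hT₂] at ht ⊢
      exact ⟨hTn.conj_mem t ht.1 g, by rw [conj_pow, ht.2, mul_one, mul_inv_cancel]⟩
    obtain ⟨m, hm⟩ := hT2.exists_card_eq
    have hm0 : m ≠ 0 := by
      rintro rfl
      rw [pow_zero] at hm
      exact hT1 (Subgroup.eq_bot_of_card_eq T hm)
    have h2 : 2 ∣ Nat.card ↥T := by rw [hm]; exact dvd_pow_self 2 hm0
    obtain ⟨x, hx⟩ := exists_prime_orderOf_dvd_card' 2 h2
    have hx2 : (x : L) ∈ T₂ := by
      rw [hT₂]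
      refine ⟨x.2, ?_⟩
      have : x ^ 2 = 1 := by rw [← hx]; exact pow_orderOf_eq_one x
      have := congrArg Subtype.val this
      simpa using this
    rcases hirr T₂ (fun t ht => ((hT₂ t).mp ht).1) hT₂n with h | h
    · exfalso
      rw [h, Subgroup.mem_bot] at hx2
      have : x = 1 := Subtype.ext hx2
      rw [this, orderOf_one] at hx
      omega
    · intro t ht
      have : t ∈ T₂ := by rw [h]; exact ht
      exact ((hT₂ t).mp this).2
  -- a fixed vector of `s`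
  obtain ⟨v, hvT, hv1, hsv⟩ : ∃ v ∈ T, v ≠ 1 ∧ s * v * s⁻¹ = v := by
    have hzs : IsPGroup 2 ↥(zpowers s) := by
      rintro ⟨g, hg⟩
      obtain ⟨i, rfl⟩ := Subgroup.mem_zpowers_iff.mp hg
      refine ⟨j, Subtype.ext ?_⟩
      show (s ^ i) ^ 2 ^ j = 1
      rw [← zpow_natCast, ← zpow_mul, mul_comm, zpow_mul, zpow_natCast, hs2, one_zpow]
    obtain ⟨P, hP⟩ : ∃ P : Subgroup L, P = zpowers s ⊔ T := ⟨_, rfl⟩
    have hP2 : IsPGroup 2 ↥P := by rw [hP]; exact IsPGroup.to_sup_of_normal_right hzs hT2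
    have hTP : T ≤ P := by rw [hP]; exact le_sup_right
    have hsP : s ∈ P := by rw [hP]; exact Subgroup.mem_sup_left (mem_zpowers s)
    haveI : Group.IsNilpotent ↥P := hP2.isNilpotent
    haveI hHn : (T.subgroupOf P).Normal := hTn.subgroupOf P
    have hH1 : T.subgroupOf P ≠ ⊥ := by
      intro h
      apply hT1
      rw [eq_bot_iff]
      intro t ht
      have : (⟨t, hTP ht⟩ : ↥P) ∈ T.subgroupOf P := Subgroup.mem_subgroupOf.mpr ht
      rw [h, Subgroup.mem_bot] at this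
      rw [Subgroup.mem_bot]
      exact congrArg Subtype.val this
    have hne := Cfsg.Agent.Lib.Helper2.normal_inf_center_ne_bot (T.subgroupOf P) hH1
    obtain ⟨⟨z, hz⟩, hz1'⟩ := (Subgroup.ne_bot_iff_exists_ne_one).mp hne
    have hz1 : z ≠ 1 := fun h => hz1' (Subtype.ext h)
    obtain ⟨hzT, hzC⟩ := Subgroup.mem_inf.mp hz
    refine ⟨(z : L), Subgroup.mem_subgroupOf.mp hzT, fun h => hz1 (Subtype.ext h), ?_⟩
    have := Subgroup.mem_center_iff.mp hzC ⟨s, hsP⟩
    have h1 : s * (z : L) = (z : L) * s := congrArg Subtype.val this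
    rw [h1]; group
  -- `C_T(y) = 1`
  have hfy : ∀ t ∈ T, y * t * y⁻¹ = t → t = 1 := by
    have hn : (fixSub T y).Normal := by
      apply normal_of_inv T y s hgen
      · intro t ht b hb
        have : t * b * t⁻¹ = b := by rw [hab t ht b hb.1]; group
        rw [this]; exact hb
      · intro b hb
        rw [hb.2]; exact hb
      · intro b hb
        refine ⟨hTn.conj_mem b hb.1 s, ?_⟩
        rw [hR3 b hb.1]
        have : y⁻¹ * b * y = b := by
          calc y⁻¹ * b * y = y⁻¹ * (y * b * y⁻¹) * y := by rw [hb.2]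
            _ = b := by group
        rw [this]
    rcases hirr _ (fixSub_le T y) hn with h | h
    · intro t ht hyt
      have : t ∈ fixSub T y := ⟨ht, hyt⟩
      rw [h, Subgroup.mem_bot] at this
      exact this
    · exfalso
      obtain ⟨t, ht, hne⟩ := hyC
      have : t ∈ fixSub T y := by rw [h]; exact ht
      exact hne this.2
  -- `s²` centralizes `T`
  have hs2C : ∀ t ∈ T, s ^ 2 * t * (s ^ 2)⁻¹ = t := by
    have hn : (fixSub T (s ^ 2)).Normal := by
      apply normal_of_inv T y s hgen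
      · intro t ht b hb
        have : t * b * t⁻¹ = b := by rw [hab t ht b hb.1]; group
        rw [this]; exact hb
      · intro b hb
        refine ⟨hTn.conj_mem b hb.1 y, ?_⟩
        have hu : s * b * s⁻¹ ∈ T := hTn.conj_mem b hb.1 s
        have e1 : s ^ 2 * (y * b * y⁻¹) * (s ^ 2)⁻¹ = s * (s * (y * b * y⁻¹) * s⁻¹) * s⁻¹ := by
          rw [pow_two]; group
        rw [e1, ← hR2 b hb.1, ← hR3 _ hu]
        have e2 : s * (s * b * s⁻¹) * s⁻¹ = s ^ 2 * b * (s ^ 2)⁻¹ := by rw [pow_two]; group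
        rw [e2, hb.2]
      · intro b hb
        refine ⟨hTn.conj_mem b hb.1 s, ?_⟩
        have e1 : s ^ 2 * (s * b * s⁻¹) * (s ^ 2)⁻¹ = s * (s ^ 2 * b * (s ^ 2)⁻¹) * s⁻¹ := by
          rw [pow_two]; group
        rw [e1, hb.2]
    rcases hirr _ (fixSub_le T (s ^ 2)) hn with h | h
    · exfalso
      have : v ∈ fixSub T (s ^ 2) := by
        refine ⟨hvT, ?_⟩
        have e1 : s ^ 2 * v * (s ^ 2)⁻¹ = s * (s * v * s⁻¹) * s⁻¹ := by rw [pow_two]; group
        rw [e1, hsv, hsv]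
      rw [h, Subgroup.mem_bot] at this
      exact hv1 this
    · intro t ht
      have : t ∈ fixSub T (s ^ 2) := by rw [h]; exact ht
      exact this.2
  -- `s` does not centralize `T`
  have hsC : ∃ t ∈ T, s * t * s⁻¹ ≠ t := by
    by_contra hcon
    push Not at hcon
    obtain ⟨t, ht, hne⟩ := hyC
    apply hne
    have h1 : ∀ u ∈ T, y⁻¹ * u * y = y * u * y⁻¹ := by
      intro u hu
      have := hR2 u hu
      rw [hcon u hu, hcon _ (hTn.conj_mem u hu y)] at this
      exact this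
    have h2 : y ^ 2 * t * (y ^ 2)⁻¹ = t := by
      have := h1 _ (hTn.conj_mem t ht y)
      have e : y⁻¹ * (y * t * y⁻¹) * y = t := by group
      rw [e] at this
      calc y ^ 2 * t * (y ^ 2)⁻¹ = y * (y * t * y⁻¹) * y⁻¹ := by rw [pow_two]; group
        _ = t := this.symm
    have h3 := hY3 t ht
    have e : y ^ 3 * t * (y ^ 3)⁻¹ = y * (y ^ 2 * t * (y ^ 2)⁻¹) * y⁻¹ := by
      rw [pow_succ' y 2]; group
    rw [e, h2] at h3
    exact h3
  -- order four
  have hcard : Nat.card T = 4 := by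
    obtain ⟨v', hv'⟩ : ∃ v', v' = y * v * y⁻¹ := ⟨_, rfl⟩
    obtain ⟨v'', hv''⟩ : ∃ v'', v'' = y ^ 2 * v * (y ^ 2)⁻¹ := ⟨_, rfl⟩
    have hv'T : v' ∈ T := by rw [hv']; exact hTn.conj_mem v hvT y
    have hv''T : v'' ∈ T := by rw [hv'']; exact hTn.conj_mem v hvT (y ^ 2)
    have hyv' : y * v' * y⁻¹ = v'' := by rw [hv', hv'', pow_two]; group
    have hyv'' : y * v'' * y⁻¹ = v := by
      have h3 := hY3 v hvT
      have e : y ^ 3 * v * (y ^ 3)⁻¹ = y * (y ^ 2 * v * (y ^ 2)⁻¹) * y⁻¹ := by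
        rw [pow_succ' y 2]; group
      rw [e] at h3
      rw [hv'']; exact h3
    have hprod : v * v' * v'' = 1 := by
      apply hfy _ (T.mul_mem (T.mul_mem hvT hv'T) hv''T)
      have e : y * (v * v' * v'') * y⁻¹ = (y * v * y⁻¹) * (y * v' * y⁻¹) * (y * v'' * y⁻¹) := by
        group
      rw [e, ← hv', hyv', hyv'']
      rw [hab _ (T.mul_mem hv'T hv''T) v hvT, mul_assoc]
    have hv''eq : v'' = (v * v')⁻¹ := eq_inv_of_mul_eq_one_right hprod
    have hv'1 : v' ≠ 1 := by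
      intro h
      apply hv1
      rw [hv'] at h
      have : v = y⁻¹ * (y * v * y⁻¹) * y := by group
      rw [this, h]; group
    have hvv' : v' ≠ v := by
      intro h
      apply hv1
      apply hfy v hvT
      rw [← hv', h]
    obtain ⟨W, hW⟩ : ∃ W : Subgroup L, W = zpowers v ⊔ zpowers v' := ⟨_, rfl⟩
    have hvW : v ∈ W := by rw [hW]; exact Subgroup.mem_sup_left (mem_zpowers v)
    have hv'W : v' ∈ W := by rw [hW]; exact Subgroup.mem_sup_right (mem_zpowers v')
    have hv''W : v'' ∈ W := by rw [hv''eq]; exact W.inv_mem (W.mul_mem hvW hv'W)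
    have hWT : W ≤ T := by
      rw [hW]; exact sup_le (zpowers_le.mpr hvT) (zpowers_le.mpr hv'T)
    have hconjW : ∀ g : L, g * v * g⁻¹ ∈ W → g * v' * g⁻¹ ∈ W → ∀ b ∈ W, g * b * g⁻¹ ∈ W := by
      intro g h1 h2 b hb
      have hle : W ≤ W.comap (MulAut.conj g).toMonoidHom := by
        rw [hW]
        apply sup_le
        · rw [zpowers_le, Subgroup.mem_comap]
          show (MulAut.conj g) v ∈ zpowers v ⊔ zpowers v'
          rw [MulAut.conj_apply, ← hW]; exact h1
        · rw [zpowers_le, Subgroup.mem_comap]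
          show (MulAut.conj g) v' ∈ zpowers v ⊔ zpowers v'
          rw [MulAut.conj_apply, ← hW]; exact h2
      have := hle hb
      rw [Subgroup.mem_comap] at this
      have h3 : (MulAut.conj g) b ∈ W := this
      rw [MulAut.conj_apply] at h3
      exact h3
    have hWn : W.Normal := by
      apply normal_of_inv T y s hgen
      · intro t ht b hb
        have : t * b * t⁻¹ = b := by rw [hab t ht b (hWT hb)]; group
        rw [this]; exact hb
      · apply hconjW y
        · rw [← hv']; exact hv'W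
        · rw [hyv']; exact hv''W
      · apply hconjW s
        · rw [hsv]; exact hvW
        · have h1 := hR2 v hvT
          rw [hsv, ← hv'] at h1
          rw [← h1, hR4 v hvT, ← hv'']
          exact hv''W
    have hWeq : W = T := by
      rcases hirr W hWT hWn with h | h
      · exfalso
        rw [h, Subgroup.mem_bot] at hvW
        exact hv1 hvW
      · exact h
    have hov : orderOf v = 2 := orderOf_eq_prime (hexp v hvT) hv1
    have hov' : orderOf v' = 2 := orderOf_eq_prime (hexp v' hv'T) hv'1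
    have hnorm : zpowers v ≤ normalizer ((zpowers v' : Subgroup L) : Set L) := by
      intro g hg
      apply mem_normalizer_of_conj_le
      intro b hb
      have hgT : g ∈ T := (zpowers_le.mpr hvT) hg
      have hbT : b ∈ T := (zpowers_le.mpr hv'T) hb
      have : g * b * g⁻¹ = b := by rw [hab g hgT b hbT]; group
      rw [this]; exact hb
    have hcm := Cfsg.Agent.Lib.Lead.GlaubermanRepl.card_sup_mul_card_inf (zpowers v) (zpowers v')
      hnorm
    rw [← hW, Nat.card_zpowers, Nat.card_zpowers, hov, hov'] at hcm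
    have hdvd : Nat.card W ∣ 4 := Dvd.intro _ hcm
    have hle4 : Nat.card W ≤ 4 := Nat.le_of_dvd (by norm_num) hdvd
    have hW1 : Nat.card W ≠ 1 := by
      intro h
      have := Subgroup.eq_bot_of_card_eq W h
      rw [this, Subgroup.mem_bot] at hvW
      exact hv1 hvW
    have hW2 : Nat.card W ≠ 2 := by
      intro h
      have hle : zpowers v ≤ W := by rw [hW]; exact le_sup_left
      have heq : zpowers v = W := by
        apply Subgroup.eq_of_le_of_card_ge hle
        rw [Nat.card_zpowers, hov, h]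
      have hmem : v' ∈ zpowers v := by rw [heq]; exact hv'W
      rcases Cfsg.Agent.Lib.Helper17.o24_mem_zpowers_two hov hmem with h1 | h1
      · exact hv'1 h1
      · exact hvv' h1
    have hW0 : 0 < Nat.card W := Nat.card_pos
    have hW4 : Nat.card W = 4 := by
      have h3 : Nat.card W ≠ 3 := by
        intro h; rw [h] at hdvd; norm_num at hdvd
      omega
    rw [← hWeq]; exact hW4
  exact ⟨hcard, hfy, hs2C, hsC, hab⟩

end Cfsg.Agent.Lib.Helper17.S4Inv
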