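import Mathlib
import Cfsg.Agent.Lib.Helper17.S4InvB

/-!
# The irreducible case, part 2 (helper17)
-/

set_option autoImplicit false

namespace Cfsg.Agent.Lib.Helper17.S4Inv

open Subgroup

variable {L : Type*} [Group L] [Finite L]

theorem conj_of_mem_centralizer (T : Subgroup L) (g : L) (hg : g ∈ centralizer (T : Set L)) :
    ∀ t ∈ T, g * t * g⁻¹ = t := by
  intro t ht
  have := Subgroup.mem_centralizer_iff.mp hg t ht
  rw [← this]; group

theorem mem_centralizer_of_conj (T : Subgroup L) (g : L) (h : ∀ t ∈ T, g * t * g⁻¹ = t) :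
    g ∈ centralizer (T : Set L) := by
  rw [Subgroup.mem_centralizer_iff]
  intro t ht
  have := h t ht
  calc t * g = (g * t * g⁻¹) * g := by rw [this]
    _ = g * t := by group

/-- **The irreducible case.** -/
theorem irred_case (T : Subgroup L) [hTn : T.Normal] (hT2 : IsPGroup 2 T) (y s : L)
    (hgen : T ⊔ closure {y, s} = ⊤) (k j : ℕ) (hy3 : y ^ (3 ^ k) = 1) (hs2 : s ^ (2 ^ j) = 1)
    (hyC : y ∉ centralizer (T : Set L)) (hy3C : y ^ 3 ∈ centralizer (T : Set L))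
    (hsy : s * y * s⁻¹ * y ∈ centralizer (T : Set L))
    (hirr : ∀ T₁ : Subgroup L, T₁ ≤ T → T₁.Normal → T₁ = ⊥ ∨ T₁ = T) :
    Cfsg.Involves (Equiv.Perm (Fin 4)) L := by
  haveI : Fact (Nat.Prime 2) := ⟨Nat.prime_two⟩
  haveI : Fact (Nat.Prime 3) := ⟨Nat.prime_three⟩
  have hyC' : ∃ t ∈ T, y * t * y⁻¹ ≠ t := by
    by_contra h
    push Not at h
    exact hyC (mem_centralizer_of_conj T y h)
  obtain ⟨hcard, hfy, hs2C, hsC, hab⟩ := irred_struct T hT2 y s hgen j hs2 hyC'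
    (conj_of_mem_centralizer T _ hy3C) (conj_of_mem_centralizer T _ hsy) hirr
  obtain ⟨C, hC⟩ : ∃ C : Subgroup L, C = centralizer (T : Set L) := ⟨_, rfl⟩
  haveI hCn : C.Normal := by rw [hC]; exact Subgroup.normal_centralizer
  rw [← hC] at hyC hy3C hsy
  have hTC : T ≤ C := by
    intro t ht
    rw [hC]
    apply mem_centralizer_of_conj
    intro u hu
    rw [hab t ht u hu]; group
  have hs2mem : s ^ 2 ∈ C := by rw [hC]; exact mem_centralizer_of_conj T _ hs2C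
  have hsC' : s ∉ C := by
    intro h
    rw [hC] at h
    obtain ⟨t, ht, hne⟩ := hsC
    exact hne (conj_of_mem_centralizer T s h t ht)
  obtain ⟨π, hπ⟩ : ∃ π : L →* L ⧸ C, π = QuotientGroup.mk' C := ⟨_, rfl⟩
  have hπs : Function.Surjective π := by rw [hπ]; exact QuotientGroup.mk'_surjective C
  have hker : ∀ g : L, π g = 1 ↔ g ∈ C := by
    intro g; rw [hπ]; exact QuotientGroup.eq_one_iff g
  have hy3b : π y ^ 3 = 1 := by rw [← map_pow, hker]; exact hy3C
  have hy1b : π y ≠ 1 := fun h => hyC ((hker y).mp h)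
  have hs2b : π s * π s = 1 := by rw [← map_mul, ← pow_two, hker]; exact hs2mem
  have hs1b : π s ≠ 1 := fun h => hsC' ((hker s).mp h)
  have hsinv : (π s)⁻¹ = π s := inv_eq_of_mul_eq_one_left hs2b
  have hinvb : π s * π y * (π s)⁻¹ = (π y)⁻¹ := by
    apply eq_inv_of_mul_eq_one_left
    rw [← map_inv, ← map_mul, ← map_mul, ← map_mul, hker]; exact hsy
  have hgenb : closure {π y, π s} = (⊤ : Subgroup (L ⧸ C)) := by
    have h1 : (T ⊔ closure {y, s}).map π = ⊤ := by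
      rw [hgen]; exact Subgroup.map_top_of_surjective π hπs
    rw [Subgroup.map_sup, MonoidHom.map_closure, Set.image_pair] at h1
    have h2 : T.map π = ⊥ := by
      rw [Subgroup.map_eq_bot_iff, hπ, QuotientGroup.ker_mk']; exact hTC
    rw [h2, bot_sup_eq] at h1
    exact h1
  have hinvZ : ∀ z ∈ zpowers (π y), π s * z * (π s)⁻¹ = z⁻¹ := by
    intro z hz
    obtain ⟨i, rfl⟩ := Subgroup.mem_zpowers_iff.mp hz
    rw [← conj_zpow, hinvb, inv_zpow]
  haveI hZn : (zpowers (π y)).Normal := by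
    have h : normalizer ((zpowers (π y) : Subgroup (L ⧸ C)) : Set (L ⧸ C)) = ⊤ := by
      rw [eq_top_iff, ← hgenb, closure_le]
      intro g hg
      rcases hg with rfl | hg
      · exact le_normalizer (mem_zpowers _)
      · rw [Set.mem_singleton_iff] at hg
        rw [hg]
        apply mem_normalizer_of_conj_le
        intro b hb
        rw [hinvZ b hb]
        exact inv_mem hb
    exact normalizer_eq_top_iff.mp h
  obtain ⟨M, hM⟩ : ∃ M : Subgroup L, M = (zpowers (π y)).comap π := ⟨_, rfl⟩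
  haveI hMn : M.Normal := by rw [hM]; exact hZn.comap π
  have hyM : y ∈ M := by rw [hM, Subgroup.mem_comap]; exact mem_zpowers _
  have hY₀ : IsPGroup 3 ↥(zpowers (⟨y, hyM⟩ : ↥M)) := by
    have hy' : (⟨y, hyM⟩ : ↥M) ^ 3 ^ k = 1 := Subtype.ext (by simpa using hy3)
    rintro ⟨g, hg⟩
    obtain ⟨i, rfl⟩ := Subgroup.mem_zpowers_iff.mp hg
    refine ⟨k, Subtype.ext ?_⟩
    show ((⟨y, hyM⟩ : ↥M) ^ i) ^ 3 ^ k = 1
    rw [← zpow_natCast, ← zpow_mul, mul_comm, zpow_mul, zpow_natCast, hy', one_zpow]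
  obtain ⟨X₀, hX₀⟩ := hY₀.exists_le_sylow
  obtain ⟨X, hX⟩ : ∃ X : Subgroup L, X = (X₀ : Subgroup ↥M).map M.subtype := ⟨_, rfl⟩
  have hyX : y ∈ X := by
    rw [hX]
    exact ⟨⟨y, hyM⟩, hX₀ (mem_zpowers _), rfl⟩
  have hX3 : IsPGroup 3 ↥X := by rw [hX]; exact X₀.isPGroup'.map _
  have hfr := Sylow.normalizer_sup_eq_top X₀
  rw [← hX] at hfr
  have hstop : s ∈ normalizer (X : Set L) ⊔ M := by rw [hfr]; exact Subgroup.mem_top s
  obtain ⟨n, hn, m, hm, hnm⟩ := Subgroup.mem_sup_of_normal_right.mp hstop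
  have hmZ : π m ∈ zpowers (π y) := by rw [hM, Subgroup.mem_comap] at hm; exact hm
  have hnb : π n = π s * (π m)⁻¹ := by rw [← hnm, map_mul]; group
  have hn2b : π n * π n = 1 := by
    have h1 := hinvZ _ (inv_mem hmZ)
    rw [hsinv, inv_inv] at h1
    rw [hnb]
    calc π s * (π m)⁻¹ * (π s * (π m)⁻¹) = (π s * (π m)⁻¹ * π s) * (π m)⁻¹ := by group
      _ = 1 := by rw [h1]; group
  have hn1b : π n ≠ 1 := by
    intro h
    rw [hnb] at h
    have h1 : π s = π m := by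
      have := mul_eq_one_iff_eq_inv.mp h
      rw [inv_inv] at this; exact this
    rw [← h1] at hmZ
    obtain ⟨i, hi⟩ := Subgroup.mem_zpowers_iff.mp hmZ
    have h3 : π s ^ 3 = 1 := by
      rw [← hi, ← zpow_natCast, ← zpow_mul, mul_comm, zpow_mul, zpow_natCast, hy3b, one_zpow]
    apply hs1b
    have : π s ^ 3 = π s * π s * π s := by rw [pow_succ, pow_two]
    rw [this, hs2b, one_mul] at h3
    exact h3
  obtain ⟨a, m₁, hm₁, hord⟩ := Nat.exists_eq_two_pow_mul_odd (orderOf_pos n).ne'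
  obtain ⟨s₁, hs₁⟩ : ∃ s₁ : L, s₁ = n ^ m₁ := ⟨_, rfl⟩
  have hs₁pow : s₁ ^ 2 ^ a = 1 := by
    rw [hs₁, ← pow_mul, mul_comm, ← hord, pow_orderOf_eq_one]
  have hs₁b : π s₁ = π n := by
    obtain ⟨c, hc⟩ := hm₁
    rw [hs₁, map_pow, hc, pow_succ, pow_mul, pow_two, hn2b, one_pow, one_mul]
  have hs₁N : s₁ ∈ normalizer (X : Set L) := by rw [hs₁]; exact pow_mem hn _
  have hs₁C : s₁ ∉ C := by
    intro h; apply hn1b; rw [← hs₁b, hker]; exact h
  have hs₁2C : s₁ ^ 2 ∈ C := by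
    rw [← hker, map_pow, hs₁b, pow_two, hn2b]
  obtain ⟨E, hE⟩ : ∃ E : Subgroup L, E = X ⊔ zpowers s₁ := ⟨_, rfl⟩
  have hEN : E ≤ normalizer (X : Set L) := by
    rw [hE]; exact sup_le le_normalizer (zpowers_le.mpr hs₁N)
  have hyE : y ∈ E := by rw [hE]; exact Subgroup.mem_sup_left hyX
  have hs₁E : s₁ ∈ E := by rw [hE]; exact Subgroup.mem_sup_right (mem_zpowers s₁)
  apply final T E hcard
  · rw [normalizer_eq_top_iff.mpr hTn]; exact le_top
  · rw [eq_bot_iff]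
    intro t ht
    obtain ⟨htT, htE⟩ := Subgroup.mem_inf.mp ht
    rw [Subgroup.mem_bot]
    apply hfy t htT
    have h1 : t * y * t⁻¹ ∈ X := (mem_normalizer_iff.mp (hEN htE) y).mp hyX
    have h2 : t * y * t⁻¹ * y⁻¹ ∈ X := X.mul_mem h1 (X.inv_mem hyX)
    have h3 : t * y * t⁻¹ * y⁻¹ ∈ T := by
      have : t * y * t⁻¹ * y⁻¹ = t * (y * t⁻¹ * y⁻¹) := by group
      rw [this]
      exact T.mul_mem htT (hTn.conj_mem _ (T.inv_mem htT) y)
    have hdis := IsPGroup.disjoint_of_ne 3 2 (by norm_num) X T hX3 hT2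
    have h4 : t * y * t⁻¹ * y⁻¹ ∈ X ⊓ T := Subgroup.mem_inf.mpr ⟨h2, h3⟩
    rw [hdis.eq_bot, Subgroup.mem_bot] at h4
    have h5 : t * y * t⁻¹ = y := by
      have := mul_eq_one_iff_eq_inv.mp h4
      rw [inv_inv] at this; exact this
    calc y * t * y⁻¹ = (t * y * t⁻¹) * t * y⁻¹ := by rw [h5]
      _ = t := by group
  · rw [← hC]
    haveI hCEn : (C.subgroupOf E).Normal := hCn.subgroupOf E
    have hmk : ∀ g : ↥E, (QuotientGroup.mk' (C.subgroupOf E)) g = 1 ↔ (g : L) ∈ C := by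
      intro g
      rw [QuotientGroup.mk'_apply, QuotientGroup.eq_one_iff, Subgroup.mem_subgroupOf]
    have ho3 : orderOf ((QuotientGroup.mk' (C.subgroupOf E)) ⟨y, hyE⟩) = 3 := by
      apply orderOf_eq_prime
      · rw [← map_pow, hmk]; exact hy3C
      · intro h; exact hyC ((hmk _).mp h)
    have ho2 : orderOf ((QuotientGroup.mk' (C.subgroupOf E)) ⟨s₁, hs₁E⟩) = 2 := by
      apply orderOf_eq_prime
      · rw [← map_pow, hmk]; exact hs₁2C
      · intro h; exact hs₁C ((hmk _).mp h)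
    have h3 : 3 ∣ Nat.card (↥E ⧸ C.subgroupOf E) := by rw [← ho3]; exact orderOf_dvd_natCard _
    have h2 : 2 ∣ Nat.card (↥E ⧸ C.subgroupOf E) := by rw [← ho2]; exact orderOf_dvd_natCard _
    have h6 : 6 ∣ Nat.card (↥E ⧸ C.subgroupOf E) :=
      Nat.Coprime.mul_dvd_of_dvd_of_dvd (by norm_num : Nat.Coprime 2 3) h2 h3
    have hpos : 0 < Nat.card (↥E ⧸ C.subgroupOf E) := Nat.card_pos
    have h6' : 6 ≤ Nat.card (↥E ⧸ C.subgroupOf E) := Nat.le_of_dvd hpos h6
    have hmul := Subgroup.card_eq_card_quotient_mul_card_subgroup (C.subgroupOf E)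
    rw [hmul]
    exact Nat.mul_le_mul_right _ h6'

end Cfsg.Agent.Lib.Helper17.S4Inv
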