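import Mathlib
import Cfsg.Agent.Lib.Helper17.S4InvC

/-!
# The induction (helper17)
-/

set_option autoImplicit false

universe u

namespace Cfsg.Agent.Lib.Helper17.S4Inv

open Subgroup

theorem cent_sub_iff {L : Type*} [Group L] (Γ T : Subgroup L) (hTΓ : T ≤ Γ) (g : ↥Γ) :
    g ∈ centralizer ((T.subgroupOf Γ : Subgroup ↥Γ) : Set ↥Γ) ↔
      (g : L) ∈ centralizer (T : Set L) := by
  simp only [Subgroup.mem_centralizer_iff]
  constructor
  · intro h t ht
    have := h ⟨t, hTΓ ht⟩ (Subgroup.mem_subgroupOf.mpr ht)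
    exact congrArg Subtype.val this
  · intro h t ht
    apply Subtype.ext
    exact h (t : L) (Subgroup.mem_subgroupOf.mp ht)

theorem map_mem_centralizer {L M : Type*} [Group L] [Group M] (π : L →* M) (T : Subgroup L) (g : L)
    (hg : g ∈ centralizer (T : Set L)) : π g ∈ centralizer ((T.map π : Subgroup M) : Set M) := by
  rw [Subgroup.mem_centralizer_iff]
  rintro _ ⟨t, ht, rfl⟩
  rw [← map_mul, ← map_mul, Subgroup.mem_centralizer_iff.mp hg t ht]

/-- **Core proposition**, by induction on `|L| + |T|`. -/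
theorem cp_aux : ∀ n : ℕ, ∀ (L : Type u) [Group L] [Finite L] (T : Subgroup L) (y s : L),
    Nat.card L + Nat.card T = n → IsPGroup 2 T →
    y ∈ normalizer (T : Set L) → s ∈ normalizer (T : Set L) →
    (∃ k : ℕ, y ^ (3 ^ k) = 1) → (∃ j : ℕ, s ^ (2 ^ j) = 1) →
    y ∉ centralizer (T : Set L) → y ^ 3 ∈ centralizer (T : Set L) →
    s * y * s⁻¹ * y ∈ centralizer (T : Set L) → Cfsg.Involves (Equiv.Perm (Fin 4)) L := by
  intro n
  induction n using Nat.strong_induction_on with
  | _ n ih =>
    intro L _ _ T y s hn hT2 hyN hsN hy3 hs2 hyC hy3C hsy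
    obtain ⟨k, hk⟩ := hy3
    obtain ⟨j, hj⟩ := hs2
    obtain ⟨Γ, hΓ⟩ : ∃ Γ : Subgroup L, Γ = T ⊔ closure {y, s} := ⟨_, rfl⟩
    have hTΓ : T ≤ Γ := by rw [hΓ]; exact le_sup_left
    have hyΓ : y ∈ Γ := by
      rw [hΓ]; exact Subgroup.mem_sup_right (subset_closure (Set.mem_insert _ _))
    have hsΓ : s ∈ Γ := by
      rw [hΓ]
      exact Subgroup.mem_sup_right (subset_closure (Set.mem_insert_of_mem _ rfl))
    by_cases htop : Γ = ⊤
    · -- `L = T⟨y, s⟩`
      rw [hΓ] at htop
      haveI hTn : T.Normal := by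
        have h : normalizer (T : Set L) = ⊤ := by
          rw [eq_top_iff, ← htop]
          apply sup_le le_normalizer
          rw [closure_le]
          intro g hg
          rcases hg with rfl | hg
          · exact hyN
          · rw [Set.mem_singleton_iff] at hg; rw [hg]; exact hsN
        exact normalizer_eq_top_iff.mp h
      by_cases hirr : ∀ T₁ : Subgroup L, T₁ ≤ T → T₁.Normal → T₁ = ⊥ ∨ T₁ = T
      · exact irred_case T hT2 y s htop k j hk hj hyC hy3C hsy hirr
      · push Not at hirr
        obtain ⟨T₁, hle, hT₁n, hT₁bot, hT₁T⟩ := hirr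
        haveI := hT₁n
        have hN₁ : normalizer (T₁ : Set L) = ⊤ := normalizer_eq_top_iff.mpr hT₁n
        by_cases hy1 : y ∈ centralizer (T₁ : Set L)
        · -- pass to the quotient by `T₁`
          obtain ⟨π, hπ⟩ : ∃ π : L →* L ⧸ T₁, π = QuotientGroup.mk' T₁ := ⟨_, rfl⟩
          have hπs : Function.Surjective π := by rw [hπ]; exact QuotientGroup.mk'_surjective T₁
          have hker : ∀ g : L, π g = 1 ↔ g ∈ T₁ := by
            intro g; rw [hπ]; exact QuotientGroup.eq_one_iff g
          apply Cfsg.Agent.Lib.Helper11.QuadFree.involves_of_surjective_hom π hπs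
          haveI hTqn : (T.map π).Normal := hTn.map π hπs
          have hNq : normalizer ((T.map π : Subgroup (L ⧸ T₁)) : Set (L ⧸ T₁)) = ⊤ :=
            normalizer_eq_top_iff.mpr hTqn
          have hlt : Nat.card (L ⧸ T₁) + Nat.card ↥(T.map π) < n := by
            have h1 := Subgroup.card_eq_card_quotient_mul_card_subgroup T₁
            have h2 : 1 < Nat.card ↥T₁ := (Subgroup.one_lt_card_iff_ne_bot (H := T₁)).mpr hT₁bot
            have h3 : Nat.card ↥(T.map π) ≤ Nat.card ↥T :=
              Nat.le_of_dvd Nat.card_pos (Subgroup.card_map_dvd T π)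
            have h4 : 0 < Nat.card (L ⧸ T₁) := Nat.card_pos
            have h5 : Nat.card (L ⧸ T₁) < Nat.card L := by
              rw [h1]; nlinarith
            omega
          apply ih _ hlt (L ⧸ T₁) (T.map π) (π y) (π s) rfl (hT2.map π)
          · rw [hNq]; exact Subgroup.mem_top _
          · rw [hNq]; exact Subgroup.mem_top _
          · exact ⟨k, by rw [← map_pow, hk, map_one]⟩
          · exact ⟨j, by rw [← map_pow, hj, map_one]⟩
          · intro h
            apply hyC
            apply mem_centralizer_of_conj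
            apply chain T T₁ hT2 hle y k hk (conj_of_mem_centralizer T₁ y hy1)
            intro t ht
            rw [← hker]
            have h1 := Subgroup.mem_centralizer_iff.mp h (π t) (Subgroup.mem_map_of_mem π ht)
            rw [map_mul, map_mul, map_mul, map_inv, map_inv, ← h1]
            group
          · rw [← map_pow]; exact map_mem_centralizer π T _ hy3C
          · have := map_mem_centralizer π T _ hsy
            rw [map_mul, map_mul, map_mul, map_inv] at this
            exact this
        · -- pass to `T₁`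
          have hlt : Nat.card L + Nat.card ↥T₁ < n := by
            have h1 : Nat.card ↥T₁ ≤ Nat.card ↥T := Subgroup.card_le_of_le hle
            have h2 : Nat.card ↥T₁ ≠ Nat.card ↥T := by
              intro h
              exact hT₁T (Subgroup.eq_of_le_of_card_ge hle (le_of_eq h.symm))
            omega
          apply ih _ hlt L T₁ y s rfl (hT2.to_le hle)
          · rw [hN₁]; exact Subgroup.mem_top _
          · rw [hN₁]; exact Subgroup.mem_top _
          · exact ⟨k, hk⟩
          · exact ⟨j, hj⟩
          · exact hy1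
          · exact Subgroup.centralizer_le (by exact_mod_cast hle) hy3C
          · exact Subgroup.centralizer_le (by exact_mod_cast hle) hsy
    · -- a proper subgroup
      apply Cfsg.Agent.Lib.Helper11.QuadFree.involves_of_subgroup Γ
      have hlt : Nat.card ↥Γ + Nat.card ↥(T.subgroupOf Γ) < n := by
        have h1 : Nat.card ↥Γ < Nat.card L :=
          lt_of_le_of_ne (Subgroup.card_le_card_group Γ)
            (fun h => htop ((Subgroup.card_eq_iff_eq_top _).mp h))
        have h2 : Nat.card ↥(T.subgroupOf Γ) = Nat.card ↥T :=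
          Nat.card_congr (Subgroup.subgroupOfEquivOfLe hTΓ).toEquiv
        omega
      have hnorm : ∀ g : L, ∀ hg : g ∈ Γ, g ∈ normalizer (T : Set L) →
          (⟨g, hg⟩ : ↥Γ) ∈ normalizer ((T.subgroupOf Γ : Subgroup ↥Γ) : Set ↥Γ) := by
        intro g hg hgN
        rw [mem_normalizer_iff]
        intro h
        rw [Subgroup.mem_subgroupOf, Subgroup.mem_subgroupOf]
        exact mem_normalizer_iff.mp hgN (h : L)
      apply ih _ hlt ↥Γ (T.subgroupOf Γ) ⟨y, hyΓ⟩ ⟨s, hsΓ⟩ rfl hT2.comap_subtype
        (hnorm y hyΓ hyN) (hnorm s hsΓ hsN)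
      · exact ⟨k, Subtype.ext (by simpa using hk)⟩
      · exact ⟨j, Subtype.ext (by simpa using hj)⟩
      · intro h; exact hyC ((cent_sub_iff Γ T hTΓ _).mp h)
      · rw [cent_sub_iff Γ T hTΓ]; simpa using hy3C
      · rw [cent_sub_iff Γ T hTΓ]; simpa using hsy

/-- **Core proposition.** -/
theorem cp {L : Type u} [Group L] [Finite L] (T : Subgroup L) (y s : L) (hT2 : IsPGroup 2 T)
    (hyN : y ∈ normalizer (T : Set L)) (hsN : s ∈ normalizer (T : Set L))
    (hy3 : ∃ k : ℕ, y ^ (3 ^ k) = 1) (hs2 : ∃ j : ℕ, s ^ (2 ^ j) = 1)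
    (hyC : y ∉ centralizer (T : Set L)) (hy3C : y ^ 3 ∈ centralizer (T : Set L))
    (hsy : s * y * s⁻¹ * y ∈ centralizer (T : Set L)) :
    Cfsg.Involves (Equiv.Perm (Fin 4)) L :=
  cp_aux _ L T y s rfl hT2 hyN hsN hy3 hs2 hyC hy3C hsy

end Cfsg.Agent.Lib.Helper17.S4Inv
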