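import Mathlib
import Cfsg.Agent.Lib.Helper17.ThompsonOf

set_option autoImplicit false

namespace Cfsg.Agent.Lib.Helper17

open Subgroup DihedralGroup
open scoped Pointwise

section A2B

/-- The rotation subgroup of a dihedral group. -/
def rotSubgroup (n : ℕ) : Subgroup (DihedralGroup n) where
  carrier := {g | ∃ i, g = r i}
  mul_mem' := by
    rintro _ _ ⟨i, rfl⟩ ⟨j, rfl⟩
    exact ⟨i + j, r_mul_r i j⟩
  one_mem' := ⟨0, rfl⟩
  inv_mem' := by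
    rintro _ ⟨i, rfl⟩
    exact ⟨-i, inv_r i⟩

theorem rotSubgroup_normal (n : ℕ) : (rotSubgroup n).Normal := by
  refine ⟨?_⟩
  rintro _ ⟨i, rfl⟩ g
  cases g with
  | r j => exact ⟨i, by rw [r_mul_r, inv_r, r_mul_r]; congr 1; ring⟩
  | sr j => exact ⟨-i, by rw [sr_mul_r, inv_sr, sr_mul_sr]; congr 1; ring⟩

theorem sr_pow_odd {n : ℕ} (j : ZMod n) {m : ℕ} (hm : Odd m) : (sr j : DihedralGroup n) ^ m = sr j := by
  obtain ⟨t, rfl⟩ := hm
  rw [pow_succ, pow_mul, pow_two, sr_mul_self, one_pow, one_mul]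

theorem dihedral_quotient_noncentralizing {K : Type*} [Group K] [Finite K] {p : ℕ} [Fact p.Prime]
    (hp : p ≠ 2) (φ : K →* DihedralGroup p) (hφ : Function.Surjective φ) :
    ∃ (x : K) (P : Subgroup K), (∃ k : ℕ, orderOf x = 2 ^ k) ∧ IsPGroup p P ∧
      x ∈ normalizer (P : Set K) ∧ x ∉ centralizer (P : Set K) := by
  have hpp : p.Prime := Fact.out
  haveI hRn : (rotSubgroup p).Normal := rotSubgroup_normal p
  set Y : Subgroup K := (rotSubgroup p).comap φ with hY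
  haveI hYn : Y.Normal := Subgroup.Normal.comap hRn φ
  obtain ⟨P₀⟩ : Nonempty (Sylow p Y) := inferInstance
  set P : Subgroup K := (P₀ : Subgroup Y).map Y.subtype with hP
  have hfrat : normalizer (P : Set K) ⊔ Y = ⊤ := Sylow.normalizer_sup_eq_top P₀
  -- an element of N(P) mapping to a reflection
  obtain ⟨k₀, hk₀⟩ := hφ (sr 0)
  have hk₀mem : k₀ ∈ ((normalizer (P : Set K) ⊔ Y : Subgroup K) : Set K) := by
    rw [hfrat]; exact Set.mem_univ _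
  rw [mul_normal] at hk₀mem
  obtain ⟨n, hn, y, hy, hny⟩ := Set.mem_mul.1 hk₀mem
  obtain ⟨i, hi⟩ : ∃ i, φ y = r i := hy
  obtain ⟨j, hφn⟩ : ∃ j, φ n = sr j := by
    have h1 : φ n * φ y = sr 0 := by rw [← map_mul, hny, hk₀]
    have h2 : φ n = sr 0 * (φ y)⁻¹ := by rw [← h1]; group
    rw [h2, hi, inv_r, sr_mul_r]
    exact ⟨_, rfl⟩
  obtain ⟨a, m, hm, hnm⟩ := Nat.exists_eq_two_pow_mul_odd (orderOf_pos n).ne'
  set x := n ^ m with hx
  have hordx : orderOf x = 2 ^ a := by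
    rw [hx, orderOf_pow_of_dvd hm.pos.ne' ⟨2 ^ a, by rw [hnm]; ring⟩, hnm]
    exact Nat.mul_div_cancel _ hm.pos
  have hφx : φ x = sr j := by rw [hx, map_pow, hφn, sr_pow_odd j hm]
  have hxN : x ∈ normalizer (P : Set K) := pow_mem hn m
  -- an element of P mapping to a nontrivial rotation
  obtain ⟨y₁, hy₁⟩ := hφ (r 1)
  obtain ⟨b, m', hm', hbm⟩ := Nat.exists_eq_pow_mul_and_not_dvd (orderOf_pos y₁).ne' p hpp.ne_one
  set y₂ := y₁ ^ m' with hy₂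
  have hm'pos : 0 < m' := Nat.pos_of_ne_zero (fun h => hm' (h ▸ dvd_zero p))
  have hordy₂ : orderOf y₂ = p ^ b := by
    rw [hy₂, orderOf_pow_of_dvd hm'pos.ne' ⟨p ^ b, by rw [hbm]; ring⟩, hbm]
    exact Nat.mul_div_cancel _ hm'pos
  have hφy₂ : φ y₂ = r (m' : ZMod p) := by rw [hy₂, map_pow, hy₁, r_one_pow]
  have hy₂Y : y₂ ∈ Y := ⟨_, hφy₂⟩
  have hzp : IsPGroup p (zpowers (⟨y₂, hy₂Y⟩ : Y)) := by
    rw [IsPGroup.iff_card, Nat.card_zpowers, Subgroup.orderOf_mk, hordy₂]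
    exact ⟨b, rfl⟩
  obtain ⟨Q, hQ⟩ := hzp.exists_le_sylow
  obtain ⟨g, hg⟩ := MulAction.exists_smul_eq Y Q P₀
  have hmemQ : (⟨y₂, hy₂Y⟩ : Y) ∈ (Q : Subgroup Y) := hQ (mem_zpowers _)
  have hconj : g * ⟨y₂, hy₂Y⟩ * g⁻¹ ∈ (P₀ : Subgroup Y) := by
    rw [← hg]
    exact conj_mem_smul_sylow g Q hmemQ
  set u : K := ((g * ⟨y₂, hy₂Y⟩ * g⁻¹ : Y) : K) with hu
  have huP : u ∈ P := ⟨_, hconj, rfl⟩
  obtain ⟨e, he⟩ : ∃ e, φ (g : K) = r e := g.2
  have hφu : φ u = r (m' : ZMod p) := by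
    have : u = (g : K) * y₂ * (g : K)⁻¹ := by simp [hu]
    rw [this, map_mul, map_mul, map_inv, he, hφy₂, inv_r, r_mul_r, r_mul_r]
    congr 1; ring
  have hm'ne : (m' : ZMod p) ≠ 0 := by
    rw [Ne, ZMod.natCast_eq_zero_iff]; exact hm'
  refine ⟨x, P, ⟨a, hordx⟩, ?_, hxN, ?_⟩
  · exact (P₀.isPGroup').map _
  · intro hxc
    rw [mem_centralizer_iff] at hxc
    have h1 := hxc u huP
    have h2 : φ u * φ x = φ x * φ u := by rw [← map_mul, ← map_mul, h1]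
    rw [hφu, hφx, r_mul_sr, sr_mul_r] at h2
    have h3 : j - (m' : ZMod p) = j + (m' : ZMod p) := by
      injection h2
    have h4 : (2 : ZMod p) * (m' : ZMod p) = 0 := by
      have : (m' : ZMod p) + (m' : ZMod p) = 0 := by linear_combination (-1 : ZMod p) * h3
      rw [two_mul]; exact this
    have h2ne : (2 : ZMod p) ≠ 0 := by
      intro h
      have h5 : ((2 : ℕ) : ZMod p) = 0 := by exact_mod_cast h
      rw [ZMod.natCast_eq_zero_iff] at h5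
      have := Nat.le_of_dvd (by norm_num) h5
      have := hpp.two_le
      omega
    rcases mul_eq_zero.1 h4 with h | h
    · exact h2ne h
    · exact hm'ne h

end A2B

section B2C

variable {G : Type*} [Group G]

theorem inverted_of_noncentralizing {p : ℕ} [Fact p.Prime] (x : G) (P : Subgroup G)
    (hx : ∃ k : ℕ, orderOf x = 2 ^ k) (hP : IsPGroup p P)
    (hxN : x ∈ normalizer (P : Set G)) (hxC : x ∉ centralizer (P : Set G)) :
    ∃ x' y : G, (∃ k : ℕ, orderOf x' = 2 ^ k) ∧ (∃ k : ℕ, orderOf y = p ^ k) ∧ y ≠ 1 ∧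
      x' * y * x'⁻¹ = y⁻¹ := by
  classical
  obtain ⟨k, hk⟩ := hx
  have hex : ∃ j : ℕ, x ^ (2 ^ j) ∈ centralizer (P : Set G) :=
    ⟨k, by rw [← hk, pow_orderOf_eq_one]; exact one_mem _⟩
  have hj := Nat.find_spec hex
  have hj0 : Nat.find hex ≠ 0 := by
    intro h0
    rw [h0, pow_zero, pow_one] at hj
    exact hxC hj
  obtain ⟨j', hj'⟩ := Nat.exists_eq_succ_of_ne_zero hj0
  set x' := x ^ (2 ^ j') with hx'
  have hx'not : x' ∉ centralizer (P : Set G) :=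
    Nat.find_min hex (by rw [hj']; exact Nat.lt_succ_self j')
  have hx'sq : x' * x' ∈ centralizer (P : Set G) := by
    have : x' * x' = x ^ (2 ^ (Nat.find hex)) := by
      rw [hj', hx', ← pow_add, pow_succ, mul_two]
    rw [this]; exact hj
  have hordx' : ∃ i : ℕ, orderOf x' = 2 ^ i := by
    have h1 : orderOf x' ∣ orderOf x := orderOf_pow_dvd _
    rw [hk] at h1
    obtain ⟨i, _, hi⟩ := (Nat.dvd_prime_pow Nat.prime_two).1 h1
    exact ⟨i, hi⟩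
  have hx'N : x' ∈ normalizer (P : Set G) := pow_mem hxN _
  have hex2 : ∃ y₀ ∈ P, y₀ * x' ≠ x' * y₀ := by
    by_contra hcon
    push_neg at hcon
    exact hx'not (mem_centralizer_iff.2 hcon)
  obtain ⟨y₀, hy₀, hne⟩ := hex2
  have hconj : x' * y₀ * x'⁻¹ ∈ P := (mem_normalizer_iff.1 hx'N y₀).1 hy₀
  have hc : y₀ * (x' * x') = (x' * x') * y₀ := (mem_centralizer_iff.1 hx'sq) y₀ hy₀
  refine ⟨x', y₀⁻¹ * (x' * y₀ * x'⁻¹), hordx', ?_, ?_, ?_⟩
  · have hy : y₀⁻¹ * (x' * y₀ * x'⁻¹) ∈ P := mul_mem (inv_mem hy₀) hconj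
    obtain ⟨i, hi⟩ := (IsPGroup.iff_orderOf.1 hP) ⟨_, hy⟩
    rw [Subgroup.orderOf_mk] at hi
    exact ⟨i, hi⟩
  · intro h1
    apply hne
    have h2 : x' * y₀ * x'⁻¹ = y₀ := by
      have := congrArg (fun t => y₀ * t) h1
      simpa [mul_assoc] using this
    calc y₀ * x' = (x' * y₀ * x'⁻¹) * x' := by rw [h2]
      _ = x' * y₀ := by group
  · have h3 : x' * x' * y₀ * x'⁻¹ * x'⁻¹ = y₀ := by
      rw [← hc]; group
    calc x' * (y₀⁻¹ * (x' * y₀ * x'⁻¹)) * x'⁻¹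
        = x' * y₀⁻¹ * x'⁻¹ * (x' * x' * y₀ * x'⁻¹ * x'⁻¹) := by group
      _ = x' * y₀⁻¹ * x'⁻¹ * y₀ := by rw [h3]
      _ = (y₀⁻¹ * (x' * y₀ * x'⁻¹))⁻¹ := by group

end B2C

end Cfsg.Agent.Lib.Helper17
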