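import Mathlib
import Cfsg.Prelude.Def_LocalEven
import Cfsg.Agent.Lib.Helper24.DihIso
import Cfsg.Agent.Lib.Helper17.DihedralInvolved

set_option autoImplicit false

namespace Cfsg.Agent.Lib.Helper17

open Subgroup

section C2A

variable {G : Type*} [Group G]

theorem involves_dihedral_of_inverted_prime [Finite G] {p : ℕ} [Fact p.Prime] (hp : p ≠ 2)
    (x y : G) (hx : ∃ k : ℕ, orderOf x = 2 ^ k) (hy : orderOf y = p)
    (hinv : x * y * x⁻¹ = y⁻¹) : Cfsg.Involves (DihedralGroup p) G := by
  have hpp : p.Prime := Fact.out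
  have hyp : y ^ p = 1 := by rw [← hy]; exact pow_orderOf_eq_one y
  -- y ≠ y⁻¹
  have hyy : y ≠ y⁻¹ := by
    intro h
    have h2 : y ^ 2 = 1 := by
      rw [pow_two]
      nth_rewrite 2 [h]
      exact mul_inv_cancel y
    have h3 : orderOf y ∣ 2 := orderOf_dvd_of_pow_eq_one h2
    rw [hy] at h3
    have := (Nat.prime_dvd_prime_iff_eq hpp Nat.prime_two).1 h3
    exact hp this
  -- x * x commutes with x and y
  have hcx : x * (x * x) = (x * x) * x := by group
  have hcy : y * (x * x) = (x * x) * y := by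
    have h1 : x * y⁻¹ * x⁻¹ = y := by
      have := congrArg (fun t => t⁻¹) hinv
      simp only [mul_inv_rev, inv_inv] at this
      rw [← mul_assoc] at this
      exact this
    have h2 : (x * x) * y * (x * x)⁻¹ = y := by
      calc (x * x) * y * (x * x)⁻¹ = x * (x * y * x⁻¹) * x⁻¹ := by group
        _ = x * y⁻¹ * x⁻¹ := by rw [hinv]
        _ = y := h1
    calc y * (x * x) = ((x * x) * y * (x * x)⁻¹) * (x * x) := by rw [h2]
      _ = (x * x) * y := by group
  set K : Subgroup G := closure ({x, y} : Set G) with hK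
  set R : Subgroup G := zpowers (x * x) with hR
  have hxK : x ∈ K := subset_closure (by simp)
  have hyK : y ∈ K := subset_closure (by simp)
  have hKc : K ≤ centralizer ({x * x} : Set G) := by
    rw [hK, closure_le]
    intro g hg
    rw [SetLike.mem_coe, mem_centralizer_iff]
    intro h hh
    rw [Set.mem_singleton_iff] at hh
    subst hh
    rcases hg with rfl | hg
    · exact hcx.symm
    · rw [Set.mem_singleton_iff] at hg
      subst hg
      exact hcy.symm
  have hRc : ∀ r ∈ R, ∀ k ∈ K, k * r = r * k := by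
    intro r hr k hk
    obtain ⟨n, rfl⟩ := mem_zpowers_iff.1 hr
    have h1 : (x * x) * k = k * (x * x) := (mem_centralizer_iff.1 (hKc hk)) _ (Set.mem_singleton _)
    have : Commute k (x * x) := h1.symm
    exact (this.zpow_right n)
  have hRn : (R.subgroupOf K).Normal := by
    refine ⟨fun n hn g => ?_⟩
    rw [mem_subgroupOf] at hn ⊢
    have : ((g * n * g⁻¹ : K) : G) = (n : G) := by
      have h1 := hRc _ hn _ g.2
      simp only [Subgroup.coe_mul, Subgroup.coe_inv]
      rw [h1, mul_assoc, mul_inv_cancel, mul_one]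
    rw [this]; exact hn
  -- elements of R commute with x
  have hRx : ∀ r ∈ R, x * r = r * x := fun r hr => hRc r hr x hxK
  -- x ∉ R
  have hxR : x ∉ R := by
    intro hxR
    obtain ⟨n, hn⟩ := mem_zpowers_iff.1 hxR
    obtain ⟨k, hk⟩ := hx
    have h1 : x ^ (2 * n - 1) = 1 := by
      have : x ^ (2 * n - 1) = (x * x) ^ n * x⁻¹ := by
        rw [zpow_sub, zpow_one, zpow_mul, zpow_ofNat, pow_two]
      rw [this, hn, mul_inv_cancel]
    have h2 : ((orderOf x : ℕ) : ℤ) ∣ 2 * n - 1 := orderOf_dvd_iff_zpow_eq_one.2 h1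
    have hk0 : k = 0 := by
      by_contra hk0
      obtain ⟨k', rfl⟩ := Nat.exists_eq_succ_of_ne_zero hk0
      rw [hk, pow_succ] at h2
      push_cast at h2
      have h3 : (2 : ℤ) ∣ 2 * n - 1 := Dvd.dvd.trans ⟨2 ^ k', by ring⟩ h2
      omega
    rw [hk0, pow_zero, orderOf_eq_one_iff] at hk
    rw [hk, one_mul, inv_one, mul_one] at hinv
    exact hyy hinv
  have hyR : y ∉ R := by
    intro hyR
    have h1 := hRx y hyR
    apply hyy
    rw [← hinv, h1, mul_assoc, mul_inv_cancel, mul_one]
  -- the quotient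
  haveI := hRn
  set a : K ⧸ R.subgroupOf K := QuotientGroup.mk ⟨x, hxK⟩ with ha
  set b : K ⧸ R.subgroupOf K := QuotientGroup.mk ⟨y, hyK⟩ with hb
  have haa : a * a = 1 := by
    rw [ha, ← QuotientGroup.mk_mul, QuotientGroup.eq_one_iff, mem_subgroupOf]
    exact mem_zpowers (x * x)
  have ha1 : a ≠ 1 := by
    intro h
    rw [ha, QuotientGroup.eq_one_iff, mem_subgroupOf] at h
    exact hxR h
  have hb1 : b ≠ 1 := by
    intro h
    rw [hb, QuotientGroup.eq_one_iff, mem_subgroupOf] at h
    exact hyR h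
  have hbp : b ^ p = 1 := by
    rw [hb, ← QuotientGroup.mk_pow]
    have : (⟨y, hyK⟩ : K) ^ p = 1 := Subtype.ext (by simpa using hyp)
    rw [this]; rfl
  have hordb : orderOf b = p := orderOf_eq_prime hbp hb1
  have horda : orderOf a = 2 := by
    haveI : Fact (Nat.Prime 2) := ⟨Nat.prime_two⟩
    exact orderOf_eq_prime (by rw [pow_two]; exact haa) ha1
  have hab : a * b * a⁻¹ = b⁻¹ := by
    rw [ha, hb, ← QuotientGroup.mk_mul, ← QuotientGroup.mk_inv, ← QuotientGroup.mk_mul,
      ← QuotientGroup.mk_inv]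
    congr 1
    exact Subtype.ext (by simpa using hinv)
  have hainv : a⁻¹ = a := inv_eq_of_mul_eq_one_left haa
  have hvv : (a * b) * (a * b) = 1 := by
    have h1 : a * b = b⁻¹ * a := by
      calc a * b = (a * b * a⁻¹) * a := by group
        _ = b⁻¹ * a := by rw [hab]
    calc (a * b) * (a * b) = (b⁻¹ * a) * (a * b) := by rw [h1]
      _ = b⁻¹ * (a * a) * b := by group
      _ = 1 := by rw [haa]; group
  have hv1 : a * b ≠ 1 := by
    intro h
    have h1 : b = a⁻¹ := (inv_eq_of_mul_eq_one_right h).symm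
    rw [hainv] at h1
    rw [h1, horda] at hordb
    exact hp hordb.symm
  have hordv : orderOf (a * b) = 2 := by
    haveI : Fact (Nat.Prime 2) := ⟨Nat.prime_two⟩
    exact orderOf_eq_prime (by rw [pow_two]; exact hvv) hv1
  have hprod : a * (a * b) = b := by rw [← mul_assoc, haa, one_mul]
  obtain ⟨e₁⟩ := Cfsg.Agent.Lib.Helper24.closure_pair_equiv_dihedral horda hordv
  rw [hprod, hordb] at e₁
  -- closure {a, a*b} = ⊤
  have htop : closure ({a, a * b} : Set (K ⧸ R.subgroupOf K)) = ⊤ := by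
    rw [eq_top_iff]
    have h1 : (⊤ : Subgroup K) = closure ({⟨x, hxK⟩, ⟨y, hyK⟩} : Set K) := by
      have h2 := Subgroup.closure_closure_coe_preimage (k := ({x, y} : Set G))
      rw [← h2]
      congr 1
      ext ⟨g, hg⟩
      simp [Subtype.ext_iff]
    have h3 : (⊤ : Subgroup (K ⧸ R.subgroupOf K)) = (⊤ : Subgroup K).map (QuotientGroup.mk' _) :=
      (Subgroup.map_top_of_surjective _ (QuotientGroup.mk'_surjective _)).symm
    rw [h3, h1, MonoidHom.map_closure, closure_le]
    rintro _ ⟨g, hg, rfl⟩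
    rcases hg with rfl | hg
    · exact subset_closure (by left; rfl)
    · rw [Set.mem_singleton_iff] at hg
      subst hg
      have hmem_a : a ∈ closure ({a, a * b} : Set (K ⧸ R.subgroupOf K)) :=
        subset_closure (by left; rfl)
      have hmem_ab : a * b ∈ closure ({a, a * b} : Set (K ⧸ R.subgroupOf K)) :=
        subset_closure (by right; rfl)
      have hbe : b = a⁻¹ * (a * b) := by group
      have hmem_b : a⁻¹ * (a * b) ∈ closure ({a, a * b} : Set (K ⧸ R.subgroupOf K)) :=
        mul_mem (inv_mem hmem_a) hmem_ab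
      rw [← hbe] at hmem_b
      exact hmem_b
  refine ⟨K, R, hRn, ⟨?_⟩⟩
  exact (Subgroup.topEquiv.symm.trans (MulEquiv.subgroupCongr htop.symm)).trans e₁

theorem involves_dihedral_of_inverted [Finite G] {p : ℕ} [Fact p.Prime] (hp : p ≠ 2)
    (x y : G) (hx : ∃ k : ℕ, orderOf x = 2 ^ k) (hy : ∃ k : ℕ, orderOf y = p ^ k) (hy1 : y ≠ 1)
    (hinv : x * y * x⁻¹ = y⁻¹) : Cfsg.Involves (DihedralGroup p) G := by
  have hpp : p.Prime := Fact.out
  obtain ⟨k, hk⟩ := hy
  have hk0 : k ≠ 0 := by
    rintro rfl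
    rw [pow_zero, orderOf_eq_one_iff] at hk
    exact hy1 hk
  obtain ⟨k', rfl⟩ := Nat.exists_eq_succ_of_ne_zero hk0
  have hord : orderOf (y ^ (p ^ k')) = p := by
    rw [orderOf_pow_of_dvd (pow_ne_zero _ hpp.pos.ne') ⟨p, by rw [hk, pow_succ]⟩, hk, pow_succ]
    exact Nat.mul_div_cancel_left _ (pow_pos hpp.pos _)
  apply involves_dihedral_of_inverted_prime hp x (y ^ (p ^ k')) hx hord
  rw [← conj_pow, hinv, inv_pow]

end C2A

end Cfsg.Agent.Lib.Helper17
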