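import Mathlib
import Cfsg.Agent.Lib.Helper17.S4InvD
import Cfsg.Agent.S2758

/-!
# Extraction of the datum from a section `S₃` of `N(T)/C(T)` (helper17)
-/

set_option autoImplicit false

universe u

namespace Cfsg.Agent.Lib.Helper17.S4Inv

open Subgroup Equiv

def d3map : DihedralGroup 3 → Perm (Fin 3)
  | .r i => (finRotate 3) ^ (i.val)
  | .sr i => (Equiv.swap 0 1 : Perm (Fin 3)) * (finRotate 3) ^ (i.val)

theorem d3map_mul : ∀ a b : DihedralGroup 3, d3map (a * b) = d3map a * d3map b := by decide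
theorem d3map_inj : ∀ a b : DihedralGroup 3, d3map a = d3map b → a = b := by decide
theorem d3map_surj : ∀ σ : Perm (Fin 3), ∃ a, d3map a = σ := by decide

noncomputable def d3iso : DihedralGroup 3 ≃* Perm (Fin 3) :=
  MulEquiv.ofBijective (MonoidHom.mk' d3map d3map_mul)
    ⟨fun a b h => d3map_inj a b h, fun σ => d3map_surj σ⟩

theorem involves_d3 {X : Type*} [Group X] (h : Cfsg.Involves (Perm (Fin 3)) X) :
    Cfsg.Involves (DihedralGroup 3) X := by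
  obtain ⟨K, R, hN, ⟨e⟩⟩ := h
  exact ⟨K, R, hN, ⟨e.trans d3iso.symm⟩⟩

/-- a `2`-element inverting an element of order three, inside a group with a section `S₃` -/
theorem exists_inverted3 {X : Type*} [Group X] [Finite X]
    (h : Cfsg.Involves (Perm (Fin 3)) X) :
    ∃ x z : X, (∃ k : ℕ, orderOf x = 2 ^ k) ∧ z ^ 3 = 1 ∧ z ≠ 1 ∧ x * z * x⁻¹ = z⁻¹ := by
  haveI : Fact (Nat.Prime 3) := ⟨Nat.prime_three⟩
  obtain ⟨x, y, hx, ⟨k, hk⟩, hy1, hinv⟩ :=
    (Cfsg.Agent.S2758.result (G := X) (p := 3) (by norm_num)).2.mp (involves_d3 h)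
  have hk0 : k ≠ 0 := by
    rintro rfl
    rw [pow_zero, orderOf_eq_one_iff] at hk
    exact hy1 hk
  obtain ⟨k', rfl⟩ := Nat.exists_eq_succ_of_ne_zero hk0
  refine ⟨x, y ^ 3 ^ k', hx, ?_, ?_, ?_⟩
  · rw [← pow_mul, ← pow_succ, ← hk, pow_orderOf_eq_one]
  · intro h1
    have hd := orderOf_dvd_of_pow_eq_one h1
    rw [hk] at hd
    have := Nat.le_of_dvd (by positivity) hd
    have h2 : 3 ^ k' < 3 ^ (k' + 1) := Nat.pow_lt_pow_right (by norm_num) (Nat.lt_succ_self _)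
    omega
  · rw [← conj_pow, hinv, inv_pow]

theorem exists_datum {G : Type*} [Group G] [Finite G] (T : Subgroup G)
    (h : Cfsg.Involves (Perm (Fin 3)) (↥(normalizer (T : Set G)) ⧸
      (centralizer (T : Set G)).subgroupOf (normalizer (T : Set G)))) :
    ∃ y s : G, y ∈ normalizer (T : Set G) ∧ s ∈ normalizer (T : Set G) ∧
      (∃ k : ℕ, y ^ (3 ^ k) = 1) ∧ (∃ j : ℕ, s ^ (2 ^ j) = 1) ∧
      y ∉ centralizer (T : Set G) ∧ y ^ 3 ∈ centralizer (T : Set G) ∧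
      s * y * s⁻¹ * y ∈ centralizer (T : Set G) := by
  obtain ⟨xb, zb, ⟨kx, hkx⟩, hz3, hz1, hinv⟩ := exists_inverted3 h
  obtain ⟨π, hπ⟩ : ∃ π : ↥(normalizer (T : Set G)) →* ↥(normalizer (T : Set G)) ⧸
      (centralizer (T : Set G)).subgroupOf (normalizer (T : Set G)),
      π = QuotientGroup.mk' _ := ⟨_, rfl⟩
  have hπs : Function.Surjective π := by rw [hπ]; exact QuotientGroup.mk'_surjective _
  have hker : ∀ g : ↥(normalizer (T : Set G)), π g = 1 ↔ (g : G) ∈ centralizer (T : Set G) := by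
    intro g
    rw [hπ, QuotientGroup.mk'_apply, QuotientGroup.eq_one_iff, Subgroup.mem_subgroupOf]
  obtain ⟨y₀, hy₀⟩ := hπs zb
  obtain ⟨x₀, hx₀⟩ := hπs xb
  -- the `3`-part of `y₀`
  obtain ⟨e, m, hm, hord⟩ :=
    Nat.exists_eq_pow_mul_and_not_dvd (orderOf_pos y₀).ne' 3 (by norm_num)
  obtain ⟨y, hy⟩ : ∃ y : ↥(normalizer (T : Set G)), y = y₀ ^ m := ⟨_, rfl⟩
  have hypow : y ^ 3 ^ e = 1 := by
    rw [hy, ← pow_mul, mul_comm, ← hord, pow_orderOf_eq_one]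
  have hπy : π y = zb ^ m := by rw [hy, map_pow, hy₀]
  have hoz : orderOf zb = 3 := orderOf_eq_prime hz3 hz1
  have hπy1 : π y ≠ 1 := by
    rw [hπy]
    intro h1
    have := orderOf_dvd_of_pow_eq_one h1
    rw [hoz] at this
    exact hm this
  have hπy3 : π y ^ 3 = 1 := by rw [hπy, ← pow_mul, mul_comm, pow_mul, hz3, one_pow]
  have hπyinv : xb * π y * xb⁻¹ = (π y)⁻¹ := by rw [hπy, ← conj_pow, hinv, inv_pow]
  -- the `2`-part of `x₀`
  obtain ⟨a, m₂, hm₂, hord₂⟩ := Nat.exists_eq_two_pow_mul_odd (orderOf_pos x₀).ne'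
  obtain ⟨s, hs⟩ : ∃ s : ↥(normalizer (T : Set G)), s = x₀ ^ m₂ := ⟨_, rfl⟩
  have hspow : s ^ 2 ^ a = 1 := by
    rw [hs, ← pow_mul, mul_comm, ← hord₂, pow_orderOf_eq_one]
  have hπs' : π s = xb ^ m₂ := by rw [hs, map_pow, hx₀]
  have hcomm2 : Commute (xb ^ 2) (π y) := by
    have h1 : xb ^ 2 * π y * (xb ^ 2)⁻¹ = π y := by
      calc xb ^ 2 * π y * (xb ^ 2)⁻¹ = xb * (xb * π y * xb⁻¹) * xb⁻¹ := by rw [pow_two]; group
        _ = xb * (π y)⁻¹ * xb⁻¹ := by rw [hπyinv]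
        _ = (xb * π y * xb⁻¹)⁻¹ := by group
        _ = π y := by rw [hπyinv, inv_inv]
    have h2 : xb ^ 2 * π y = π y * xb ^ 2 := by
      calc xb ^ 2 * π y = (xb ^ 2 * π y * (xb ^ 2)⁻¹) * xb ^ 2 := by group
        _ = π y * xb ^ 2 := by rw [h1]
    exact h2
  have hπsinv : π s * π y * (π s)⁻¹ = (π y)⁻¹ := by
    obtain ⟨c, hc⟩ := hm₂
    rw [hπs', hc, pow_succ, pow_mul]
    have h3 : Commute ((xb ^ 2) ^ c) (π y) := hcomm2.pow_left c
    calc (xb ^ 2) ^ c * xb * π y * ((xb ^ 2) ^ c * xb)⁻¹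
        = (xb ^ 2) ^ c * (xb * π y * xb⁻¹) * ((xb ^ 2) ^ c)⁻¹ := by group
      _ = (xb ^ 2) ^ c * (π y)⁻¹ * ((xb ^ 2) ^ c)⁻¹ := by rw [hπyinv]
      _ = (π y)⁻¹ := by
        have h4 : Commute ((xb ^ 2) ^ c) (π y)⁻¹ := h3.inv_right
        rw [h4.eq]; group
  refine ⟨(y : G), (s : G), y.2, s.2, ⟨e, ?_⟩, ⟨a, ?_⟩, ?_, ?_, ?_⟩
  · have := congrArg Subtype.val hypow
    simpa using this
  · have := congrArg Subtype.val hspow
    simpa using this
  · intro h1; exact hπy1 ((hker y).mpr h1)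
  · have h1 : π (y ^ 3) = 1 := by rw [map_pow]; exact hπy3
    have := (hker _).mp h1
    simpa using this
  · have h1 : π (s * y * s⁻¹ * y) = 1 := by
      rw [map_mul, map_mul, map_mul, map_inv, hπsinv]; group
    have := (hker _).mp h1
    simpa using this

/-- **Backward direction.** -/
theorem backward {G : Type u} [Group G] [Finite G] (T : Subgroup G) (hT2 : IsPGroup 2 T)
    (h : Cfsg.Involves (Perm (Fin 3)) (↥(normalizer (T : Set G)) ⧸
      (centralizer (T : Set G)).subgroupOf (normalizer (T : Set G)))) :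
    Cfsg.Involves (Perm (Fin 4)) G := by
  obtain ⟨y, s, hyN, hsN, hy3, hs2, hyC, hy3C, hsy⟩ := exists_datum T h
  exact cp T y s hT2 hyN hsN hy3 hs2 hyC hy3C hsy

end Cfsg.Agent.Lib.Helper17.S4Inv
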