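import Mathlib
import Cfsg.Agent.Lib.Helper17.S4InvE

/-!
# Forward direction: a section `S₄` gives a `2`-subgroup `T` with `S₃` involved in `N(T)/C(T)`
(helper17)
-/

set_option autoImplicit false

universe u

namespace Cfsg.Agent.Lib.Helper17.S4Inv

open Subgroup Equiv

set_option maxRecDepth 100000 in
theorem v4_mul : ∀ σ τ : Perm (Fin 4), σ ^ 2 = 1 → Perm.sign σ = 1 → τ ^ 2 = 1 →
    Perm.sign τ = 1 → (σ * τ) ^ 2 = 1 ∧ Perm.sign (σ * τ) = 1 := by decide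

set_option maxRecDepth 100000 in
theorem v4_conj : ∀ σ g : Perm (Fin 4), σ ^ 2 = 1 → Perm.sign σ = 1 →
    (g * σ * g⁻¹) ^ 2 = 1 ∧ Perm.sign (g * σ * g⁻¹) = 1 := by decide

set_option maxRecDepth 100000 in
theorem v4_cent : ∀ g : Perm (Fin 4),
    (∀ σ : Perm (Fin 4), σ ^ 2 = 1 → Perm.sign σ = 1 → σ * g = g * σ) →
    g ^ 2 = 1 ∧ Perm.sign g = 1 := by decide

/-- the normal four-group of `S₄` -/
def V4 : Subgroup (Perm (Fin 4)) where
  carrier := {σ | σ ^ 2 = 1 ∧ Perm.sign σ = 1}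
  one_mem' := ⟨one_pow 2, Perm.sign_one⟩
  mul_mem' := fun {a b} ha hb => v4_mul a b ha.1 ha.2 hb.1 hb.2
  inv_mem' := fun {a} ha => ⟨by rw [inv_pow, ha.1, inv_one], by rw [Perm.sign_inv, ha.2]⟩

theorem mem_V4 (σ : Perm (Fin 4)) : σ ∈ V4 ↔ σ ^ 2 = 1 ∧ Perm.sign σ = 1 := Iff.rfl

instance V4_normal : V4.Normal := ⟨fun σ hσ g => v4_conj σ g hσ.1 hσ.2⟩

theorem V4_isPGroup : IsPGroup 2 ↥V4 := by
  rintro ⟨σ, hσ⟩
  exact ⟨1, Subtype.ext (by simpa using hσ.1)⟩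

/-- the three-cycle -/
def c3 : Perm (Fin 4) := Equiv.swap 0 1 * Equiv.swap 1 2
/-- the transposition -/
def a2 : Perm (Fin 4) := Equiv.swap 0 1

theorem a2_sq : a2 * a2 ∈ V4 := by
  have : a2 * a2 = 1 := by decide
  rw [this]; exact V4.one_mem
theorem a2_c3 : a2 * c3 * a2⁻¹ * c3 ∈ V4 := by
  have : a2 * c3 * a2⁻¹ * c3 = 1 := by decide
  rw [this]; exact V4.one_mem
theorem c3_cube : c3 ^ 3 ∈ V4 := by
  have : c3 ^ 3 = 1 := by decide
  rw [this]; exact V4.one_mem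
theorem c3_not_mem : c3 ∉ V4 := by
  intro h
  have h1 : c3 ^ 2 = 1 := h.1
  revert h1
  decide

/-- pushing a section `S₃` forward along a homomorphism whose kernel is small -/
theorem inv3_push {B X : Type*} [Group B] [Group X] (F : B →* X) (V : Subgroup B) [hVn : V.Normal]
    (a x : B) (h1 : a * a ∈ V) (h2 : a * x * a⁻¹ * x ∈ V) (h3 : x ^ 3 ∈ V) (h4 : x ∉ V)
    (hker : ∀ b : B, F b = 1 → b ∈ V) : Cfsg.Involves (Perm (Fin 3)) X := by
  haveI : Fact (Nat.Prime 3) := ⟨Nat.prime_three⟩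
  have hmk : ∀ b : B, (QuotientGroup.mk' V) b = 1 ↔ b ∈ V := fun b => QuotientGroup.eq_one_iff b
  have hQ : Cfsg.Involves (Perm (Fin 3)) (B ⧸ V) := by
    apply Cfsg.Agent.Lib.Helper14.S3Sec.involves_of_inverted (QuotientGroup.mk' V a)
      (QuotientGroup.mk' V x)
    · rw [← map_mul, hmk]; exact h1
    · apply eq_inv_of_mul_eq_one_left
      rw [← map_inv, ← map_mul, ← map_mul, ← map_mul, hmk]; exact h2
    · apply orderOf_eq_prime
      · rw [← map_pow, hmk]; exact h3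
      · intro h; exact h4 ((hmk x).mp h)
  have hle : F.ker ≤ V.comap (MonoidHom.id B) := by
    intro b hb
    exact hker b (MonoidHom.mem_ker.mp hb)
  obtain ⟨Ψ, hΨ⟩ : ∃ Ψ : ↥F.range →* B ⧸ V, Ψ =
      (QuotientGroup.map F.ker V (MonoidHom.id B) hle).comp
        (QuotientGroup.quotientKerEquivRange F).symm.toMonoidHom := ⟨_, rfl⟩
  have hΨs : Function.Surjective Ψ := by
    intro q
    obtain ⟨b, rfl⟩ := QuotientGroup.mk'_surjective V q
    refine ⟨(QuotientGroup.quotientKerEquivRange F) (QuotientGroup.mk' F.ker b), ?_⟩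
    rw [hΨ]
    simp only [MonoidHom.coe_comp, Function.comp_apply, MulEquiv.coe_toMonoidHom,
      MulEquiv.symm_apply_apply]
    rfl
  exact Cfsg.Agent.Lib.Helper11.QuadFree.involves_of_subgroup F.range
    (Cfsg.Agent.Lib.Helper11.QuadFree.involves_of_surjective_hom Ψ hΨs hQ)

/-- **Forward direction.** -/
theorem forward {G : Type*} [Group G] [Finite G] (h : Cfsg.Involves (Perm (Fin 4)) G) :
    ∃ T : Subgroup G, IsPGroup 2 ↥T ∧
      Cfsg.Involves (Perm (Fin 3)) (↥(normalizer (T : Set G)) ⧸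
        (centralizer (T : Set G)).subgroupOf (normalizer (T : Set G))) := by
  haveI : Fact (Nat.Prime 2) := ⟨Nat.prime_two⟩
  obtain ⟨K, R, hRn, ⟨e⟩⟩ := h
  obtain ⟨ψ, hψ⟩ : ∃ ψ : ↥K →* Perm (Fin 4),
      ψ = e.toMonoidHom.comp (QuotientGroup.mk' (R.subgroupOf K)) := ⟨_, rfl⟩
  have hψs : Function.Surjective ψ := by
    intro σ
    obtain ⟨q, rfl⟩ := e.surjective σ
    obtain ⟨g, rfl⟩ := QuotientGroup.mk'_surjective _ q
    exact ⟨g, by rw [hψ]; rfl⟩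
  obtain ⟨V, hV⟩ : ∃ V : Subgroup ↥K, V = V4.comap ψ := ⟨_, rfl⟩
  haveI hVn : V.Normal := by rw [hV]; exact V4_normal.comap ψ
  have hVmem : ∀ g : ↥K, g ∈ V ↔ ψ g ∈ V4 := by intro g; rw [hV, Subgroup.mem_comap]
  obtain ⟨P⟩ : Nonempty (Sylow 2 ↥V) := inferInstance
  obtain ⟨TA, hTA⟩ : ∃ TA : Subgroup ↥K, TA = (P : Subgroup ↥V).map V.subtype := ⟨_, rfl⟩
  have hfr := Sylow.normalizer_sup_eq_top P
  rw [← hTA] at hfr
  have hTA2 : IsPGroup 2 ↥TA := by rw [hTA]; exact P.isPGroup'.map _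
  have hTAV : TA ≤ V := by
    rw [hTA]; rintro _ ⟨v, -, rfl⟩; exact v.2
  -- `ψ` maps `TA` onto `V4`
  have hclaim1 : ∀ w ∈ V4, ∃ t ∈ TA, ψ t = w := by
    obtain ⟨ψV, hψV⟩ : ∃ ψV : ↥V →* ↥V4, ∀ v : ↥V, ((ψV v : ↥V4) : Perm (Fin 4)) = ψ (v : ↥K) :=
      ⟨(ψ.comp V.subtype).codRestrict V4 (fun v => (hVmem _).mp v.2), fun v => rfl⟩
    have hsurj : Function.Surjective ψV := by
      rintro ⟨w, hw⟩
      obtain ⟨g, hg⟩ := hψs w
      refine ⟨⟨g, (hVmem g).mpr (by rw [hg]; exact hw)⟩, Subtype.ext ?_⟩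
      rw [hψV]; exact hg
    have htop : ((P.mapSurjective hsurj : Sylow 2 ↥V4) : Subgroup ↥V4) = ⊤ :=
      ((P.mapSurjective hsurj).is_maximal' (V4_isPGroup.to_subgroup ⊤) le_top).symm
    rw [Sylow.coe_mapSurjective] at htop
    intro w hw
    have : (⟨w, hw⟩ : ↥V4) ∈ (P : Subgroup ↥V).map ψV := by rw [htop]; exact Subgroup.mem_top _
    obtain ⟨v, hv, hvw⟩ := this
    refine ⟨(v : ↥K), ?_, ?_⟩
    · rw [hTA]; exact ⟨v, hv, rfl⟩
    · rw [← hψV, hvw]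
  -- `ψ` maps the normalizer of `TA` onto `S₄`
  have hclaim2 : ∀ σ : Perm (Fin 4), ∃ n ∈ normalizer (TA : Set ↥K), ψ n = σ := by
    intro σ
    obtain ⟨g, hg⟩ := hψs σ
    have hgtop : g ∈ normalizer (TA : Set ↥K) ⊔ V := by rw [hfr]; exact Subgroup.mem_top g
    obtain ⟨n, hn, v, hv, hnv⟩ := Subgroup.mem_sup_of_normal_right.mp hgtop
    obtain ⟨t, ht, htv⟩ := hclaim1 (ψ v) ((hVmem v).mp hv)
    refine ⟨n * t, mul_mem hn (le_normalizer ht), ?_⟩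
    rw [map_mul, htv, ← map_mul, hnv, hg]
  obtain ⟨a, haN, ha⟩ := hclaim2 a2
  obtain ⟨x, hxN, hx⟩ := hclaim2 c3
  -- transfer to `G`
  obtain ⟨T, hT⟩ : ∃ T : Subgroup G, T = TA.map K.subtype := ⟨_, rfl⟩
  have hT2 : IsPGroup 2 ↥T := by rw [hT]; exact hTA2.map _
  refine ⟨T, hT2, ?_⟩
  have hNmem : ∀ n : ↥K, n ∈ normalizer (TA : Set ↥K) → (n : G) ∈ normalizer (T : Set G) := by
    intro n hn
    apply mem_normalizer_of_conj_le
    intro g hg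
    rw [hT] at hg ⊢
    obtain ⟨b, hb, rfl⟩ := hg
    refine ⟨n * b * n⁻¹, (mem_normalizer_iff.mp hn b).mp hb, ?_⟩
    simp
  obtain ⟨NA, hNA⟩ : ∃ NA : Subgroup ↥K, NA = normalizer (TA : Set ↥K) := ⟨_, rfl⟩
  rw [← hNA] at haN hxN hNmem
  obtain ⟨jj, hjj⟩ : ∃ jj : ↥NA →* ↥(normalizer (T : Set G)),
      ∀ n : ↥NA, ((jj n : ↥(normalizer (T : Set G))) : G) = ((n : ↥K) : G) :=
    ⟨{ toFun := fun n => ⟨((n : ↥K) : G), hNmem _ n.2⟩
       map_one' := Subtype.ext rfl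
       map_mul' := fun n₁ n₂ => Subtype.ext rfl }, fun n => rfl⟩
  haveI hVNn : (V.subgroupOf NA).Normal := hVn.subgroupOf NA
  apply inv3_push ((QuotientGroup.mk' _).comp jj) (V.subgroupOf NA) ⟨a, haN⟩ ⟨x, hxN⟩
  · rw [Subgroup.mem_subgroupOf, hVmem]
    show ψ (a * a) ∈ V4
    rw [map_mul, ha]; exact a2_sq
  · rw [Subgroup.mem_subgroupOf, hVmem]
    show ψ (a * x * a⁻¹ * x) ∈ V4
    rw [map_mul, map_mul, map_mul, map_inv, ha, hx]; exact a2_c3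
  · rw [Subgroup.mem_subgroupOf, hVmem]
    show ψ (x ^ 3) ∈ V4
    rw [map_pow, hx]; exact c3_cube
  · rw [Subgroup.mem_subgroupOf, hVmem]
    show ψ x ∉ V4
    rw [hx]; exact c3_not_mem
  · intro b hb
    rw [MonoidHom.comp_apply, QuotientGroup.mk'_apply, QuotientGroup.eq_one_iff,
      Subgroup.mem_subgroupOf, hjj] at hb
    rw [Subgroup.mem_subgroupOf, hVmem]
    apply v4_cent
    intro σ hσ2 hσs
    obtain ⟨t, ht, htσ⟩ := hclaim1 σ ⟨hσ2, hσs⟩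
    rw [← htσ, ← map_mul, ← map_mul]
    congr 1
    apply Subtype.ext
    have htT : ((t : ↥K) : G) ∈ T := by rw [hT]; exact ⟨t, ht, rfl⟩
    have := Subgroup.mem_centralizer_iff.mp hb _ htT
    simpa using this

end Cfsg.Agent.Lib.Helper17.S4Inv
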