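import Mathlib
import Cfsg.Agent.Lib.Helper17.BinOctE
import Cfsg.Agent.Lib.Helper17.BinOctGL
import Cfsg.Agent.Lib.Helper17.S4InvF

/-!
# `S3304` (helper17): the `Q₈` case: quaternion Sylow `2`-subgroups or `GL₂(3)`
-/

set_option autoImplicit false

namespace Cfsg.Agent.Lib.Helper17.BinOct

open Subgroup Equiv

variable {G : Type*} [Group G] [Finite G]

set_option maxRecDepth 100000 in
theorem s4_inverted : ∀ τ : Perm (Fin 4), τ ^ 2 = 1 → ¬ (Perm.sign τ = 1) →
    ∃ σ : Perm (Fin 4), σ ^ 3 = 1 ∧ σ ≠ 1 ∧ τ * σ * τ⁻¹ = σ⁻¹ := by decide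

section Q8case

variable (R : Subgroup G) [hRn : R.Normal] (e : ↥R ≃* QuaternionGroup 2)

include e in
theorem q8_pair_sub (a b : G) (ha : a ∈ R) (hb : b ∈ R) (haa : a * a ≠ 1) (hbb : b * b ≠ 1)
    (hba : b ≠ a) (hba' : b ≠ a⁻¹) :
    b * a * b⁻¹ = a⁻¹ ∧ b * b = a * a ∧
    (∀ k ∈ R, k * k ≠ 1 → k ≠ a → k ≠ a⁻¹ → k ≠ b → k ≠ b⁻¹ → k = a * b ∨ k = (a * b)⁻¹) := by
  have h := q8_pair e ⟨a, ha⟩ ⟨b, hb⟩
    (fun h => haa (by have := congrArg Subtype.val h; simpa using this))
    (fun h => hbb (by have := congrArg Subtype.val h; simpa using this))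
    (fun h => hba (by have := congrArg Subtype.val h; simpa using this))
    (fun h => hba' (by have := congrArg Subtype.val h; simpa using this))
  obtain ⟨c1, c2, -, c4⟩ := h
  refine ⟨?_, ?_, ?_⟩
  · have := congrArg Subtype.val c1
    simpa using this
  · have := congrArg Subtype.val c2
    simpa using this
  · intro k hk hkk k1 k2 k3 k4
    rcases c4 ⟨k, hk⟩
      (fun h => hkk (by have := congrArg Subtype.val h; simpa using this))
      (fun h => k1 (by have := congrArg Subtype.val h; simpa using this))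
      (fun h => k2 (by have := congrArg Subtype.val h; simpa using this))
      (fun h => k3 (by have := congrArg Subtype.val h; simpa using this))
      (fun h => k4 (by have := congrArg Subtype.val h; simpa using this)) with h | h
    · left
      have := congrArg Subtype.val h
      simpa using this
    · right
      have := congrArg Subtype.val h
      simpa using this

include e in
/-- all involutions central: the Sylow `2`-subgroups are quaternion of order `16` -/
theorem q8_sylow_quat (hcard : Nat.card G = 48) {z : G} (hzR : z ∈ R) (hzo : orderOf z = 2)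
    (hu : ∀ a : G, orderOf a = 2 → a = z) (P : Sylow 2 G) :
    Nonempty (↥(P : Subgroup G) ≃* QuaternionGroup 4) := by
  haveI : Fact (Nat.Prime 2) := ⟨Nat.prime_two⟩
  have hR8 : Nat.card R = 8 := q8_card e
  have hR2 : IsPGroup 2 R := IsPGroup.of_card (n := 3) (by rw [hR8]; rfl)
  have hRP : R ≤ (P : Subgroup G) := Helper16.normal_pgroup_le_sylow hRn hR2 P
  have hP16 : Nat.card (P : Subgroup G) = 16 := by
    obtain ⟨k, hk⟩ := IsPGroup.iff_card.mp P.2
    have hidx : ¬ 2 ∣ (P : Subgroup G).index := P.not_dvd_index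
    have hmul := Subgroup.card_mul_index (P : Subgroup G)
    rw [hcard, hk] at hmul
    rw [hk]
    have hk5 : k ≤ 5 := by
      by_contra hcon
      push Not at hcon
      have h1 : 2 ^ 6 ≤ 2 ^ k := Nat.pow_le_pow_right (by norm_num) hcon
      have h2 : 2 ^ k ≤ 48 := Nat.le_of_dvd (by norm_num) (Dvd.intro _ hmul)
      omega
    interval_cases k <;> omega
  have huniq := uniqueOrderP_of_unique_involution (P : Subgroup G) (hRP hzR) hzo
    (fun a _ hao => hu a hao)
  obtain ⟨a₁, b₁, hab⟩ := q8_noncomm e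
  rcases Lead.UniqueSubgroup.cyclic_or_quaternion P.2 huniq with hcyc | ⟨-, n, ⟨e'⟩⟩
  · exfalso
    apply hab
    have hcomm := hcyc.commutative
    have := hcomm.is_comm.comm ⟨(a₁ : G), hRP a₁.2⟩ ⟨(b₁ : G), hRP b₁.2⟩
    apply Subtype.ext
    have h2 := congrArg Subtype.val this
    simpa using h2
  · have hc := Nat.card_congr e'.toEquiv
    have : NeZero (2 ^ n) := ⟨by positivity⟩
    rw [hP16, Nat.card_eq_fintype_card, QuaternionGroup.card] at hc
    have hn : n = 2 := by
      have h4 : 2 ^ n = 2 ^ 2 := by omega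
      exact Nat.pow_right_injective (le_refl 2) h4
    subst hn
    exact ⟨e'⟩

/-- an involution outside `R` inverts an element of order `4` of `R` -/
theorem q8_inverted (hC : centralizer (R : Set G) ≤ R) {z : G}
    (hz3 : ∀ r ∈ R, r * r = 1 → r = 1 ∨ r = z) (hz4 : ∀ r ∈ R, r * r ≠ 1 → r * r = z)
    (hzc : ∀ g : G, g * z = z * g) (hzz : z * z = 1)
    (t : G) (htt : t * t = 1) (htR : t ∉ R) :
    ∃ i ∈ R, i * i ≠ 1 ∧ t * i * t⁻¹ = i⁻¹ := by
  by_contra hcon
  push Not at hcon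
  have htinv : t⁻¹ = t := inv_eq_of_mul_eq_one_right htt
  apply htR
  apply hC
  rw [mem_centralizer_iff]
  intro b hb
  by_cases hbb : b * b = 1
  · rcases hz3 b hb hbb with h | h
    · rw [h, one_mul, mul_one]
    · rw [h]; exact (hzc t).symm
  · obtain ⟨c, hc⟩ : ∃ c : G, c = (t * b * t⁻¹) * b⁻¹ := ⟨_, rfl⟩
    have hcR : c ∈ R := by
      rw [hc]
      exact mul_mem (hRn.conj_mem b hb t) (inv_mem hb)
    have hcinv : t * c * t⁻¹ = c⁻¹ := by
      rw [hc, htinv]
      have : t * (t * b * t * b⁻¹) * t = (t * t) * b * (t * b⁻¹ * t) := by group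
      rw [this, htt, one_mul]
      have h2 : (t * b * t * b⁻¹)⁻¹ = b * (t⁻¹ * b⁻¹ * t⁻¹) := by group
      rw [h2, htinv]
    have hcc : c * c = 1 := by
      by_contra h
      exact hcon c hcR h hcinv
    rcases hz3 c hcR hcc with h | h
    · have h1 : t * b * t⁻¹ = b := by
        have : t * b * t⁻¹ = c * b := by rw [hc]; group
        rw [this, h, one_mul]
      calc b * t = (t * b * t⁻¹) * t := by rw [h1]
        _ = t * b := by group
    · exfalso
      have h1 : t * b * t⁻¹ = z * b := by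
        have : t * b * t⁻¹ = c * b := by rw [hc]; group
        rw [this, h]
      have h2 : z * b = b⁻¹ := by
        symm
        apply inv_eq_of_mul_eq_one_right
        rw [← mul_assoc, hzc b, mul_assoc, hz4 b hb hbb, hzz]
      rw [h2] at h1
      exact hcon b hb hbb h1

theorem zpowers_four {i : G} (hi4 : i ^ 4 = 1) {r : G} (hr : r ∈ zpowers i) :
    r = 1 ∨ r = i ∨ r = i * i ∨ r = i⁻¹ := by
  obtain ⟨k, rfl⟩ := mem_zpowers_iff.mp hr
  have h1 : i ^ k = i ^ (k % 4) := by
    have : i ^ k = i ^ (k % 4 + 4 * (k / 4)) := by rw [Int.emod_add_mul_ediv]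
    rw [this, zpow_add, zpow_mul]
    have : i ^ (4 : ℤ) = 1 := by
      have := hi4
      rw [← zpow_natCast] at this
      exact this
    rw [this, one_zpow, mul_one]
  have h0 : 0 ≤ k % 4 := Int.emod_nonneg _ (by norm_num)
  have h4 : k % 4 < 4 := Int.emod_lt_of_pos _ (by norm_num)
  obtain ⟨n, hn⟩ : ∃ n : ℕ, k % 4 = n := ⟨(k % 4).toNat, by omega⟩
  rw [h1, hn, zpow_natCast]
  have hn4 : n < 4 := by omega
  interval_cases n
  · left; simp
  · right; left; simp
  · right; right; left; rw [pow_two]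
  · right; right; right
    symm
    apply inv_eq_of_mul_eq_one_right
    rw [← pow_succ']
    exact hi4

include e in
/-- the generator system -/
theorem q8_sys {z : G}
    (hz3 : ∀ r ∈ R, r * r = 1 → r = 1 ∨ r = z) (hz4 : ∀ r ∈ R, r * r ≠ 1 → r * r = z)
    (hzc : ∀ g : G, g * z = z * g) (hzz : z * z = 1)
    (x t : G) (hxo : orderOf x = 3) (hto : orderOf t = 2) (htx : t * x * t⁻¹ = x⁻¹)
    (hfix : ∀ r ∈ R, x * r = r * x → r = 1 ∨ r = z)
    (i : G) (hiR : i ∈ R) (hii : i * i ≠ 1) (hti : t * i * t⁻¹ = i⁻¹) :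
    ∃ i' j' : G, Sys i' j' x t := by
  have hx3 : x ^ 3 = 1 := by rw [← hxo, pow_orderOf_eq_one]
  have hxxx : x * x * x = 1 := by rw [← hx3, pow_succ, pow_two]
  have hxinv : x⁻¹ = x * x := by
    apply inv_eq_of_mul_eq_one_right
    rw [← mul_assoc]
    exact hxxx
  -- generic facts about elements of order 4 of `R` and `x`
  have hnc : ∀ b ∈ R, b * b ≠ 1 → x * b * x⁻¹ ≠ b ∧ x * b * x⁻¹ ≠ b⁻¹ := by
    intro b hb hbb
    have hb1 : ¬ (b = 1 ∨ b = z) := by
      rintro (h | h)
      · apply hbb; rw [h, one_mul]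
      · apply hbb; rw [h, hzz]
    constructor
    · intro h
      apply hb1
      apply hfix b hb
      calc x * b = (x * b * x⁻¹) * x := by group
        _ = b * x := by rw [h]
    · intro h
      apply hb1
      apply hfix b hb
      -- x² b x⁻² = b, and x² = x⁻¹
      have h2 : x * (x * b * x⁻¹) * x⁻¹ = b := by
        rw [h]
        have : x * b⁻¹ * x⁻¹ = (x * b * x⁻¹)⁻¹ := by group
        rw [this, h, inv_inv]
      have h3 : x⁻¹ * b * x = b := by
        have : x⁻¹ * b * x = x * (x * b * x⁻¹) * x⁻¹ := by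
          calc x⁻¹ * b * x = x⁻¹ * b * (x⁻¹)⁻¹ := by rw [inv_inv]
            _ = (x * x) * b * (x * x)⁻¹ := by rw [← hxinv]
            _ = x * (x * b * x⁻¹) * x⁻¹ := by group
        rw [this, h2]
      calc x * b = x * (x⁻¹ * b * x) := by rw [h3]
        _ = b * x := by group
  have hconjsq : ∀ b : G, (x * b * x⁻¹) * (x * b * x⁻¹) = x * (b * b) * x⁻¹ := by
    intro b; group
  have hconjne : ∀ b : G, b * b ≠ 1 → (x * b * x⁻¹) * (x * b * x⁻¹) ≠ 1 := by
    intro b hbb h
    rw [hconjsq] at h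
    apply hbb
    have : b * b = x⁻¹ * (x * (b * b) * x⁻¹) * x := by group
    rw [this, h]
    group
  -- the core construction, for a given `i`
  have core : ∀ i : G, i ∈ R → i * i ≠ 1 → t * i * t⁻¹ = i⁻¹ →
      x * (x * i * x⁻¹) * x⁻¹ = i * (x * i * x⁻¹) → Sys i (x * i * x⁻¹) x t := by
    intro i hiR hii hti hk
    obtain ⟨j, hj⟩ : ∃ j : G, j = x * i * x⁻¹ := ⟨_, rfl⟩
    rw [← hj] at hk ⊢
    have hjR : j ∈ R := by rw [hj]; exact hRn.conj_mem i hiR x
    have hjj : j * j ≠ 1 := by rw [hj]; exact hconjne i hii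
    obtain ⟨hji, hji'⟩ := hnc i hiR hii
    rw [← hj] at hji hji'
    obtain ⟨c1, c2, -⟩ := q8_pair_sub R e i j hiR hjR hii hjj hji hji'
    have hi4 : i ^ 4 = 1 := by
      have : i ^ 4 = (i * i) * (i * i) := by
        rw [show (4 : ℕ) = 2 + 2 from rfl, pow_add, pow_two]
      rw [this, hz4 i hiR hii, hzz]
    have hio : orderOf i = 4 := by
      have h1 : ¬ i ^ 2 ^ 1 = 1 := by rw [pow_one, pow_two]; exact hii
      have h2 : i ^ 2 ^ (1 + 1) = 1 := hi4
      have := orderOf_eq_prime_pow h1 h2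
      simpa using this
    refine ⟨hio, ?_, c1, ?_, hxo, hto, htx, hj.symm, hk, hti⟩
    · rw [pow_two, pow_two]; exact c2
    · intro hmem
      rcases zpowers_four hi4 hmem with h | h | h | h
      · apply hjj; rw [h, one_mul]
      · exact hji h
      · apply hjj
        rw [h, hz4 i hiR hii, hzz]
      · exact hji' h
  -- now the two cases
  obtain ⟨j, hj⟩ : ∃ j : G, j = x * i * x⁻¹ := ⟨_, rfl⟩
  obtain ⟨k, hk⟩ : ∃ k : G, k = x * j * x⁻¹ := ⟨_, rfl⟩
  have hjR : j ∈ R := by rw [hj]; exact hRn.conj_mem i hiR x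
  have hkR : k ∈ R := by rw [hk]; exact hRn.conj_mem j hjR x
  have hjj : j * j ≠ 1 := by rw [hj]; exact hconjne i hii
  have hkk : k * k ≠ 1 := by rw [hk]; exact hconjne j hjj
  obtain ⟨hji, hji'⟩ := hnc i hiR hii
  rw [← hj] at hji hji'
  obtain ⟨hkj, hkj'⟩ := hnc j hjR hjj
  rw [← hk] at hkj hkj'
  have hxk : x * k * x⁻¹ = i := by
    rw [hk, hj]
    have : x * (x * (x * i * x⁻¹) * x⁻¹) * x⁻¹ = (x * x * x) * i * (x * x * x)⁻¹ := by group
    rw [this, hxxx]
    group
  have hki : k ≠ i := by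
    intro h
    -- then x i x⁻¹ = i... since x k x⁻¹ = i
    have : x * i * x⁻¹ = i := by rw [← h] at hxk ⊢; exact hxk
    exact hji (hj.trans this)
  have hki' : k ≠ i⁻¹ := by
    intro h
    -- x k x⁻¹ = i gives x i⁻¹ x⁻¹ = i, so j⁻¹ = i
    have h1 : x * i⁻¹ * x⁻¹ = i := by rw [← h]; exact hxk
    have h2 : j⁻¹ = i := by
      rw [hj]
      have : (x * i * x⁻¹)⁻¹ = x * i⁻¹ * x⁻¹ := by group
      rw [this, h1]
    apply hji'
    rw [← h2, inv_inv]
  obtain ⟨c1, c2, c3⟩ := q8_pair_sub R e i j hiR hjR hii hjj hji hji'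
  have hiz : i⁻¹ = i * z := by
    apply inv_eq_of_mul_eq_one_right
    rw [← mul_assoc, hz4 i hiR hii, hzz]
  rcases c3 k hkR hkk hki hki' hkj hkj' with h | h
  · exact ⟨i, x * i * x⁻¹, core i hiR hii hti (by rw [← hj, ← hk]; exact h)⟩
  · refine ⟨i⁻¹, x * i⁻¹ * x⁻¹, core i⁻¹ (inv_mem hiR) ?_ ?_ ?_⟩
    · intro h1
      apply hii
      have : i * i = (i⁻¹ * i⁻¹)⁻¹ := by rw [mul_inv_rev, inv_inv]
      rw [this, h1, inv_one]
    · have : t * i⁻¹ * t⁻¹ = (t * i * t⁻¹)⁻¹ := by group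
      rw [this, hti]
    · have hj' : x * i⁻¹ * x⁻¹ = j⁻¹ := by rw [hj]; group
      rw [hj']
      have hk' : x * j⁻¹ * x⁻¹ = k⁻¹ := by rw [hk]; group
      rw [hk', h, inv_inv]
      -- i * j = i⁻¹ * j⁻¹
      have hjz : j⁻¹ = j * z := by
        apply inv_eq_of_mul_eq_one_right
        rw [← mul_assoc, hz4 j hjR hjj, hzz]
      rw [hiz, hjz]
      calc i * j = i * j * (z * z) := by rw [hzz, mul_one]
        _ = i * (j * z) * z := by group
        _ = i * (z * j) * z := by rw [hzc j]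
        _ = i * z * (j * z) := by group

end Q8case

end Cfsg.Agent.Lib.Helper17.BinOct
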