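import Mathlib
import Cfsg.Agent.Lib.Helper17.BinOctF

/-!
# `S3304` (helper17): the theorem for groups with trivial odd core
-/

set_option autoImplicit false

namespace Cfsg.Agent.Lib.Helper17.BinOct

open Subgroup Equiv

variable {G : Type*} [Group G] [Finite G]

section Q8case

variable (R : Subgroup G) [hRn : R.Normal] (e : ↥R ≃* QuaternionGroup 2)

include e in
theorem q8_gl (hC : centralizer (R : Set G) ≤ R)
    (hmax : ∀ N : Subgroup G, N.Normal → IsPGroup 2 N → N ≤ R) (hcard : Nat.card G = 48)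
    (ψ : G ⧸ center G ≃* Perm (Fin 4)) {z : G}
    (hzo : orderOf z = 2)
    (hz3 : ∀ r ∈ R, r * r = 1 → r = 1 ∨ r = z) (hz4 : ∀ r ∈ R, r * r ≠ 1 → r * r = z)
    (hzc : ∀ g : G, g * z = z * g) (hcen : center G = zpowers z)
    (t : G) (hto : orderOf t = 2) (htz : t ≠ z) :
    Nonempty (G ≃* GL (Fin 2) (ZMod 3)) := by
  have hR8 : Nat.card R = 8 := q8_card e
  have hzz : z * z = 1 := by rw [← pow_two, ← hzo, pow_orderOf_eq_one]
  have htt : t * t = 1 := by rw [← pow_two, ← hto, pow_orderOf_eq_one]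
  have ht1 : t ≠ 1 := by
    intro h
    rw [h, orderOf_one] at hto
    omega
  have htR : t ∉ R := by
    intro h
    rcases hz3 t h htt with h1 | h1
    · exact ht1 h1
    · exact htz h1
  have hZmem : ∀ c ∈ center G, c = 1 ∨ c = z := by
    intro c hc
    rw [hcen] at hc
    exact o24_mem_zpowers_two hzo hc
  obtain ⟨τ, hτ⟩ : ∃ τ : Perm (Fin 4), τ = ψ (QuotientGroup.mk t) := ⟨_, rfl⟩
  have hτ2 : τ ^ 2 = 1 := by
    rw [hτ, ← map_pow, ← QuotientGroup.mk_pow, pow_two, htt]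
    exact map_one ψ
  have hτs : ¬ (Perm.sign τ = 1) := by
    intro hs
    have hτV : τ ∈ S4Inv.V4 := ⟨hτ2, hs⟩
    obtain ⟨W, hW⟩ : ∃ W : Subgroup G,
        W = S4Inv.V4.comap (ψ.toMonoidHom.comp (QuotientGroup.mk' (center G))) := ⟨_, rfl⟩
    have hWn : W.Normal := by
      rw [hW]
      exact S4Inv.V4_normal.comap _
    have hW2 : IsPGroup 2 W := by
      rintro ⟨w, hw⟩
      refine ⟨2, Subtype.ext ?_⟩
      rw [hW, Subgroup.mem_comap] at hw
      have h1 : (ψ (QuotientGroup.mk w)) ^ 2 = 1 := hw.1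
      rw [← map_pow, ← QuotientGroup.mk_pow] at h1
      have h2 : (QuotientGroup.mk (w ^ 2) : G ⧸ center G) = 1 := by
        apply ψ.injective
        rw [h1, map_one]
      have h3 : w ^ 2 ∈ center G := (QuotientGroup.eq_one_iff _).mp h2
      show w ^ 2 ^ 2 = 1
      rw [show (2 : ℕ) ^ 2 = 2 * 2 from rfl, pow_mul]
      rcases hZmem _ h3 with h | h
      · rw [h, one_pow]
      · rw [h, pow_two, hzz]
    have htW : t ∈ W := by
      rw [hW, Subgroup.mem_comap]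
      show ψ (QuotientGroup.mk t) ∈ S4Inv.V4
      rw [← hτ]
      exact hτV
    exact htR (hmax W hWn hW2 htW)
  obtain ⟨σ, hσ3, hσ1, hσc⟩ := s4_inverted τ hτ2 hτs
  obtain ⟨y, hy⟩ : ∃ y : G, (QuotientGroup.mk y : G ⧸ center G) = ψ.symm σ :=
    QuotientGroup.mk_surjective _
  have hyb3 : (QuotientGroup.mk y : G ⧸ center G) ^ 3 = 1 := by
    rw [hy, ← map_pow, hσ3, map_one]
  have hy3 : y ^ 3 ∈ center G := by
    rw [← QuotientGroup.eq_one_iff, QuotientGroup.mk_pow]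
    exact hyb3
  have hy6 : y ^ 6 = 1 := by
    rw [show (6 : ℕ) = 3 * 2 from rfl, pow_mul]
    rcases hZmem _ hy3 with h | h
    · rw [h, one_pow]
    · rw [h, pow_two, hzz]
  obtain ⟨x, hx⟩ : ∃ x : G, x = y ^ 4 := ⟨_, rfl⟩
  have hx3 : x ^ 3 = 1 := by
    rw [hx, ← pow_mul, show (4 * 3 : ℕ) = 6 * 2 from rfl, pow_mul, hy6, one_pow]
  have hxb : (QuotientGroup.mk x : G ⧸ center G) = QuotientGroup.mk y := by
    rw [hx, QuotientGroup.mk_pow, show (4 : ℕ) = 3 + 1 from rfl, pow_add, hyb3, one_mul, pow_one]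
  have hx1 : x ≠ 1 := by
    intro h
    apply hσ1
    have h1 : (QuotientGroup.mk y : G ⧸ center G) = 1 := by
      rw [← hxb, h]
      rfl
    rw [hy] at h1
    have := congrArg ψ h1
    rw [ψ.apply_symm_apply, map_one] at this
    exact this
  have hxo : orderOf x = 3 := orderOf_eq_prime hx3 hx1
  have hxR : x ∉ R := by
    intro h
    have h1 : orderOf (⟨x, h⟩ : ↥R) ∣ Nat.card R := orderOf_dvd_natCard _
    rw [← Subgroup.orderOf_coe] at h1
    simp only at h1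
    rw [hxo, hR8] at h1
    omega
  have hxC : x ∉ centralizer (R : Set G) := fun h => hxR (hC h)
  have hfix := q8_fix R hR8 hz3 hz4 hzz x 3 (by decide) hx3 hxC
  -- `t` inverts `x`
  have htx : t * x * t⁻¹ = x⁻¹ := by
    have h1 : (QuotientGroup.mk (t * x * t⁻¹) : G ⧸ center G) = QuotientGroup.mk x⁻¹ := by
      rw [QuotientGroup.mk_mul, QuotientGroup.mk_mul, QuotientGroup.mk_inv, QuotientGroup.mk_inv,
        hxb, hy]
      have ht' : (QuotientGroup.mk t : G ⧸ center G) = ψ.symm τ := by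
        rw [hτ, ψ.symm_apply_apply]
      rw [ht', ← map_inv, ← map_mul, ← map_mul, hσc, map_inv]
    have h2 : (x⁻¹)⁻¹ * (t * x * t⁻¹) ∈ center G := QuotientGroup.eq.mp h1.symm
    rw [inv_inv] at h2
    rcases hZmem _ h2 with h | h
    · have : t * x * t⁻¹ = x⁻¹ * (x * (t * x * t⁻¹)) := by group
      rw [this, h, mul_one]
    · exfalso
      have h3 : t * x * t⁻¹ = x⁻¹ * z := by
        have : t * x * t⁻¹ = x⁻¹ * (x * (t * x * t⁻¹)) := by group
        rw [this, h]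
      have h4 : (t * x * t⁻¹) ^ 3 = 1 := by rw [conj_pow, hx3]; group
      have hcomm : Commute x⁻¹ z := (hzc x⁻¹)
      rw [h3, hcomm.mul_pow, inv_pow, hx3, inv_one, one_mul] at h4
      have h5 : z ^ 3 = z := by
        rw [show (3 : ℕ) = 2 + 1 from rfl, pow_add, pow_two, hzz, one_mul, pow_one]
      rw [h5] at h4
      rw [h4, orderOf_one] at hzo
      omega
  obtain ⟨i, hiR, hii, hti⟩ := q8_inverted R hC hz3 hz4 hzc hzz t htt htR
  obtain ⟨i', j', hsys⟩ := q8_sys R e hz3 hz4 hzc hzz x t hxo hto htx hfix i hiR hii hti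
  exact Sys.iso hcard card_GL23' hsys sysGL

end Q8case

/-- the theorem for groups with trivial odd core -/
theorem main_core (hs : Group.IsSolvable G) (hO : Cfsg.pPrimeCore 2 G = ⊥)
    (hI : ∀ S T : Sylow 2 G, S ≠ T → Cfsg.PRankLE 2 1 ↥((S : Subgroup G) ⊓ (T : Subgroup G))) :
    (∃ P : Sylow 2 G, (P : Subgroup G).Normal) ∨
    Nonempty (G ≃* GL (Fin 2) (ZMod 3)) ∨
    (Nat.card G = 48 ∧ Nat.card (center G) = 2 ∧
      Nonempty (G ⧸ center G ≃* Perm (Fin 4)) ∧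
      ∀ P : Sylow 2 G, Nonempty (↥(P : Subgroup G) ≃* QuaternionGroup 4)) := by
  by_cases hn : ∃ P : Sylow 2 G, (P : Subgroup G).Normal
  · exact Or.inl hn
  push Not at hn
  right
  haveI : Fact (Nat.Prime 2) := ⟨Nat.prime_two⟩
  haveI := hs
  obtain ⟨e⟩ := pCore_q8 hs hO hI hn
  have hC : centralizer ((Cfsg.pCore 2 G : Subgroup G) : Set G) ≤ Cfsg.pCore 2 G :=
    Helper20.solvable_centralizer_pCore_le 2 hO
  have hmax : ∀ N : Subgroup G, N.Normal → IsPGroup 2 N → N ≤ Cfsg.pCore 2 G :=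
    fun N hN hp => Helper16.le_pCore hN hp
  have hcard := q8_card_eq (Cfsg.pCore 2 G) e hC hn
  obtain ⟨hcen2, ⟨ψ⟩⟩ := q8_quot_s4 (Cfsg.pCore 2 G) e hC hmax hcard
  obtain ⟨z, hzR, hzo, hz3, hz4, hzc, hz5⟩ := q8_sub_z (Cfsg.pCore 2 G) e
  have hcen : center G = zpowers z := q8_center_eq (Cfsg.pCore 2 G) e hC hzo hzc hz5
  by_cases ht : ∃ t : G, orderOf t = 2 ∧ t ≠ z
  · left
    obtain ⟨t, hto, htz⟩ := ht
    exact q8_gl (Cfsg.pCore 2 G) e hC hmax hcard ψ hzo hz3 hz4 hzc hcen t hto htz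
  · right
    push Not at ht
    exact ⟨hcard, hcen2, ⟨ψ⟩, fun P => q8_sylow_quat (Cfsg.pCore 2 G) e hcard hzR hzo ht P⟩

end Cfsg.Agent.Lib.Helper17.BinOct
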