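import Mathlib
import Cfsg.Agent.Lib.Helper17.BinOctG
import Cfsg.Agent.Lib.Helper20.Cores

/-!
# `S3304` (helper17): passing to the quotient by the odd core
-/

set_option autoImplicit false

namespace Cfsg.Agent.Lib.Helper17.BinOct

open Subgroup Equiv

variable {G : Type*} [Group G] [Finite G]

/-- lifting a Sylow subgroup of a quotient over a given `2`-subgroup -/
theorem lift_sylow (O : Subgroup G) [O.Normal] (D : Subgroup G) (hD : IsPGroup 2 D)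
    (Sbar : Sylow 2 (G ⧸ O))
    (hDS : D.map (QuotientGroup.mk' O) ≤ (Sbar : Subgroup (G ⧸ O))) :
    ∃ S₁ : Sylow 2 G, D ≤ (S₁ : Subgroup G) ∧
      (S₁ : Subgroup G).map (QuotientGroup.mk' O) = (Sbar : Subgroup (G ⧸ O)) := by
  haveI : Fact (Nat.Prime 2) := ⟨Nat.prime_two⟩
  have hsurj : Function.Surjective (QuotientGroup.mk' O) := QuotientGroup.mk'_surjective O
  obtain ⟨SG, hSG⟩ := Sylow.mapSurjective_surjective hsurj 2 Sbar
  have hSGmap : (SG : Subgroup G).map (QuotientGroup.mk' O) = (Sbar : Subgroup (G ⧸ O)) := by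
    rw [← hSG]
    rfl
  obtain ⟨X, hX⟩ : ∃ X : Subgroup G, X = (Sbar : Subgroup (G ⧸ O)).comap (QuotientGroup.mk' O) :=
    ⟨_, rfl⟩
  have hSX : (SG : Subgroup G) ≤ X := by
    rw [hX, ← Subgroup.map_le_iff_le_comap, hSGmap]
  have hDX : D ≤ X := by
    rw [hX, ← Subgroup.map_le_iff_le_comap]
    exact hDS
  have hD' : IsPGroup 2 (D.subgroupOf X) := hD.comap_subtype
  obtain ⟨P', hP'⟩ := hD'.exists_le_sylow
  obtain ⟨x', hx'⟩ := MulAction.exists_smul_eq ↥X (SG.subtype hSX) P'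
  have hmemS : ∀ g : G, g ∈ (((x' : G) • SG : Sylow 2 G) : Subgroup G) ↔
      (x' : G)⁻¹ * g * (x' : G) ∈ (SG : Subgroup G) := by
    intro g
    rw [Sylow.coe_subgroup_smul, Subgroup.mem_pointwise_smul_iff_inv_smul_mem]
    simp [MulAut.smul_def]
  refine ⟨(x' : G) • SG, ?_, ?_⟩
  · intro d hd
    have h1 : (⟨d, hDX hd⟩ : ↥X) ∈ (P' : Subgroup ↥X) := hP' (Subgroup.mem_subgroupOf.mpr hd)
    rw [← hx', Sylow.coe_subgroup_smul, Subgroup.mem_pointwise_smul_iff_inv_smul_mem] at h1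
    rw [Sylow.coe_subtype, Subgroup.mem_subgroupOf] at h1
    rw [hmemS]
    simpa [MulAut.smul_def] using h1
  · have hle : (((x' : G) • SG : Sylow 2 G) : Subgroup G).map (QuotientGroup.mk' O) ≤
        (Sbar : Subgroup (G ⧸ O)) := by
      rintro _ ⟨s, hs, rfl⟩
      have h1 := (hmemS s).mp hs
      have h2 : (QuotientGroup.mk' O) ((x' : G)⁻¹ * s * (x' : G)) ∈ (Sbar : Subgroup (G ⧸ O)) := by
        rw [← hSGmap]
        exact ⟨_, h1, rfl⟩
      have hXmem : ∀ g ∈ X, (QuotientGroup.mk' O) g ∈ (Sbar : Subgroup (G ⧸ O)) := by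
        intro g hg
        rw [hX, Subgroup.mem_comap] at hg
        exact hg
      have hx'S : (QuotientGroup.mk' O) (x' : G) ∈ (Sbar : Subgroup (G ⧸ O)) := hXmem _ x'.2
      have h3 : (QuotientGroup.mk' O) s = (QuotientGroup.mk' O) (x' : G) *
          (QuotientGroup.mk' O) ((x' : G)⁻¹ * s * (x' : G)) * ((QuotientGroup.mk' O) (x' : G))⁻¹ := by
        rw [← map_inv, ← map_mul, ← map_mul]
        congr 1
        group
      rw [h3]
      exact mul_mem (mul_mem hx'S h2) (inv_mem hx'S)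
    have := (((x' : G) • SG : Sylow 2 G).mapSurjective hsurj).is_maximal' Sbar.2 hle
    rw [this]
    rfl

/-- the hypothesis passes to the quotient by the odd core -/
theorem quot_hyp
    (hI : ∀ S T : Sylow 2 G, S ≠ T → Cfsg.PRankLE 2 1 ↥((S : Subgroup G) ⊓ (T : Subgroup G)))
    (Sbar Tbar : Sylow 2 (G ⧸ Cfsg.pPrimeCore 2 G)) (hne : Sbar ≠ Tbar) :
    Cfsg.PRankLE 2 1 ↥((Sbar : Subgroup (G ⧸ Cfsg.pPrimeCore 2 G)) ⊓
      (Tbar : Subgroup (G ⧸ Cfsg.pPrimeCore 2 G))) := by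
  haveI : Fact (Nat.Prime 2) := ⟨Nat.prime_two⟩
  intro Abar hAc hAe
  obtain ⟨O, hO⟩ : ∃ O : Subgroup G, O = Cfsg.pPrimeCore 2 G := ⟨_, rfl⟩
  have hOc : (Nat.card O).Coprime 2 := by rw [hO]; exact Helper20.pPrimeCore_coprime' 2
  have hsurj : Function.Surjective (QuotientGroup.mk' (Cfsg.pPrimeCore 2 G)) :=
    QuotientGroup.mk'_surjective _
  -- the image of `Abar` in the quotient
  obtain ⟨B, hB⟩ : ∃ B : Subgroup (G ⧸ Cfsg.pPrimeCore 2 G), B = Abar.map (Subgroup.subtype _) :=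
    ⟨_, rfl⟩
  have hBcard : Nat.card B = Nat.card Abar := by
    rw [hB]
    exact Nat.card_congr (Subgroup.equivMapOfInjective Abar _ (Subgroup.subtype_injective _)).toEquiv.symm
  have hBS : B ≤ (Sbar : Subgroup (G ⧸ Cfsg.pPrimeCore 2 G)) := by
    rw [hB]
    rintro _ ⟨a, -, rfl⟩
    exact (Subgroup.mem_inf.mp a.2).1
  have hBT : B ≤ (Tbar : Subgroup (G ⧸ Cfsg.pPrimeCore 2 G)) := by
    rw [hB]
    rintro _ ⟨a, -, rfl⟩
    exact (Subgroup.mem_inf.mp a.2).2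
  have hBc : ∀ b₁ ∈ B, ∀ b₂ ∈ B, b₁ * b₂ = b₂ * b₁ := by
    rw [hB]
    rintro _ ⟨a₁, h₁, rfl⟩ _ ⟨a₂, h₂, rfl⟩
    have := hAc.is_comm.comm ⟨a₁, h₁⟩ ⟨a₂, h₂⟩
    have h3 := congrArg Subtype.val (congrArg Subtype.val this)
    simpa using h3
  have hBe : ∀ b ∈ B, b ^ 2 = 1 := by
    rw [hB]
    rintro _ ⟨a, ha, rfl⟩
    have := hAe a ha
    have h3 := congrArg Subtype.val this
    simpa using h3
  -- lift
  obtain ⟨SG, hSG⟩ := Sylow.mapSurjective_surjective hsurj 2 Sbar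
  have hSGmap : (SG : Subgroup G).map (QuotientGroup.mk' (Cfsg.pPrimeCore 2 G)) =
      (Sbar : Subgroup (G ⧸ Cfsg.pPrimeCore 2 G)) := by
    rw [← hSG]
    rfl
  obtain ⟨D, hD⟩ : ∃ D : Subgroup G,
      D = (SG : Subgroup G) ⊓ B.comap (QuotientGroup.mk' (Cfsg.pPrimeCore 2 G)) := ⟨_, rfl⟩
  have hD2 : IsPGroup 2 D := by
    rw [hD]
    exact SG.2.to_le inf_le_left
  have hDmap : D.map (QuotientGroup.mk' (Cfsg.pPrimeCore 2 G)) = B := by
    apply le_antisymm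
    · rintro _ ⟨d, hd, rfl⟩
      rw [hD] at hd
      exact (Subgroup.mem_inf.mp hd).2
    · intro b hb
      have hbS : b ∈ (SG : Subgroup G).map (QuotientGroup.mk' (Cfsg.pPrimeCore 2 G)) := by
        rw [hSGmap]
        exact hBS hb
      obtain ⟨s, hs, rfl⟩ := hbS
      refine ⟨s, ?_, rfl⟩
      rw [hD]
      exact Subgroup.mem_inf.mpr ⟨hs, hb⟩
  obtain ⟨T₁, hDT, hTmap⟩ := lift_sylow (Cfsg.pPrimeCore 2 G) D hD2 Tbar (by rw [hDmap]; exact hBT)
  have hneST : SG ≠ T₁ := by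
    intro h
    apply hne
    apply Sylow.ext
    rw [← hSGmap, ← hTmap, h]
  have hDS : D ≤ (SG : Subgroup G) := by rw [hD]; exact inf_le_left
  -- `π` is injective on `D`
  have hinj : ∀ d ∈ D, (QuotientGroup.mk' (Cfsg.pPrimeCore 2 G)) d = 1 → d = 1 := by
    intro d hd h1
    have hdO : d ∈ O := by
      rw [hO]
      exact (QuotientGroup.eq_one_iff d).mp h1
    have hdisj : D ⊓ O = ⊥ := by
      apply Subgroup.inf_eq_bot_of_coprime
      obtain ⟨k, hk⟩ := IsPGroup.iff_card.mp hD2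
      rw [hk]
      exact Nat.Coprime.pow_left k hOc.symm
    have : d ∈ D ⊓ O := Subgroup.mem_inf.mpr ⟨hd, hdO⟩
    rw [hdisj, Subgroup.mem_bot] at this
    exact this
  have hDc : ∀ a ∈ D, ∀ b ∈ D, a * b = b * a := by
    intro a ha b hb
    have h1 : a * b * (b * a)⁻¹ ∈ D := mul_mem (mul_mem ha hb) (inv_mem (mul_mem hb ha))
    have h2 : (QuotientGroup.mk' (Cfsg.pPrimeCore 2 G)) (a * b * (b * a)⁻¹) = 1 := by
      rw [map_mul, map_inv, map_mul, map_mul]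
      have := hBc _ (hDmap ▸ Subgroup.mem_map_of_mem _ ha) _ (hDmap ▸ Subgroup.mem_map_of_mem _ hb)
      rw [this, mul_inv_cancel]
    have h3 := hinj _ h1 h2
    calc a * b = (a * b * (b * a)⁻¹) * (b * a) := by group
      _ = b * a := by rw [h3, one_mul]
  have hDe : ∀ a ∈ D, a ^ 2 = 1 := by
    intro a ha
    apply hinj _ (pow_mem ha 2)
    rw [map_pow]
    exact hBe _ (hDmap ▸ Subgroup.mem_map_of_mem _ ha)
  have hcardD := card_le_two_of_prank (hI SG T₁ hneST) D (le_inf hDS hDT) hDc hDe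
  have hBD : Nat.card B ≤ Nat.card D := by
    rw [← hDmap]
    exact Nat.le_of_dvd Nat.card_pos (Subgroup.card_map_dvd _ _)
  rw [← hBcard]
  simpa using hBD.trans hcardD

/-- the statement of `S3304` -/
theorem main (hs : Group.IsSolvable G)
    (hI : ∀ S T : Sylow 2 G, S ≠ T → Cfsg.PRankLE 2 1 ↥((S : Subgroup G) ⊓ (T : Subgroup G))) :
    (∃ P : Sylow 2 (G ⧸ Cfsg.pPrimeCore 2 G), (P : Subgroup (G ⧸ Cfsg.pPrimeCore 2 G)).Normal) ∨
    Nonempty ((G ⧸ Cfsg.pPrimeCore 2 G) ≃* GL (Fin 2) (ZMod 3)) ∨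
    (Nat.card (G ⧸ Cfsg.pPrimeCore 2 G) = 48 ∧
      Nat.card ↥(Subgroup.center (G ⧸ Cfsg.pPrimeCore 2 G)) = 2 ∧
      Nonempty ((G ⧸ Cfsg.pPrimeCore 2 G) ⧸ Subgroup.center (G ⧸ Cfsg.pPrimeCore 2 G) ≃*
        Equiv.Perm (Fin 4)) ∧
      ∀ P : Sylow 2 (G ⧸ Cfsg.pPrimeCore 2 G),
        Nonempty (↥(P : Subgroup (G ⧸ Cfsg.pPrimeCore 2 G)) ≃* QuaternionGroup 4)) := by
  haveI := hs
  exact main_core (G := G ⧸ Cfsg.pPrimeCore 2 G) inferInstance
    (Helper20.pPrimeCore_quotient_eq_bot 2) (quot_hyp hI)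

end Cfsg.Agent.Lib.Helper17.BinOct
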