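import Mathlib
import Cfsg.Agent.Lib.Helper2.NilpotentCoprime
import Cfsg.Agent.Lib.Helper9.ClassSize

/-!
Basic lemmas on conjugacy class sizes: classes of coprime sizes (helper17).
-/

set_option autoImplicit false

namespace Cfsg.Agent.Lib.Helper17.CG

open Subgroup

variable {G : Type*} [Group G]

/-- class size of `g`. -/
noncomputable abbrev cs (g : G) : ℕ := (centralizer ({g} : Set G)).index

theorem mem_cent_iff {g h : G} : h ∈ centralizer ({g} : Set G) ↔ h * g = g * h :=
  mem_centralizer_singleton_iff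

theorem self_mem_cent (g : G) : g ∈ centralizer ({g} : Set G) := mem_cent_iff.mpr rfl

theorem cs_eq_one_iff {g : G} : cs g = 1 ↔ g ∈ center G := by
  unfold cs
  rw [index_eq_one, centralizer_eq_top_iff_subset, Set.singleton_subset_iff]
  rfl

theorem cs_pos [Finite G] (g : G) : 0 < cs g :=
  Nat.pos_of_ne_zero (Subgroup.index_ne_zero_of_finite)

theorem centralizer_conj (t g : G) :
    centralizer ({t * g * t⁻¹} : Set G) =
      (centralizer ({g} : Set G)).map (MulAut.conj t).toMonoidHom := by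
  ext h
  rw [mem_cent_iff, Subgroup.mem_map]
  constructor
  · intro hh
    refine ⟨t⁻¹ * h * t, ?_, by simp [MulAut.conj_apply, mul_assoc]⟩
    rw [mem_cent_iff]
    have h2 : t⁻¹ * (h * (t * g * t⁻¹)) * t = t⁻¹ * (t * g * t⁻¹ * h) * t := by rw [hh]
    calc t⁻¹ * h * t * g = t⁻¹ * (h * (t * g * t⁻¹)) * t := by group
      _ = t⁻¹ * (t * g * t⁻¹ * h) * t := h2
      _ = g * (t⁻¹ * h * t) := by group
  · rintro ⟨k, hk, rfl⟩
    rw [mem_cent_iff] at hk
    simp only [MulEquiv.coe_toMonoidHom, MulAut.conj_apply]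
    calc t * k * t⁻¹ * (t * g * t⁻¹) = t * (k * g) * t⁻¹ := by group
      _ = t * (g * k) * t⁻¹ := by rw [hk]
      _ = t * g * t⁻¹ * (t * k * t⁻¹) := by group

theorem cs_conj (t g : G) : cs (t * g * t⁻¹) = cs g := by
  unfold cs
  rw [centralizer_conj]
  exact Subgroup.index_map_equiv _ (MulAut.conj t)

theorem centralizer_inv (g : G) : centralizer ({g⁻¹} : Set G) = centralizer ({g} : Set G) := by
  ext h
  rw [mem_cent_iff, mem_cent_iff]
  constructor
  · intro hh
    calc h * g = g * (g⁻¹ * h) * g := by group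
      _ = g * (h * g⁻¹) * g := by rw [hh]
      _ = g * h := by group
  · intro hh
    calc h * g⁻¹ = g⁻¹ * (g * h) * g⁻¹ := by group
      _ = g⁻¹ * (h * g) * g⁻¹ := by rw [hh]
      _ = g⁻¹ * h := by group

theorem cs_inv (g : G) : cs g⁻¹ = cs g := by
  unfold cs
  rw [centralizer_inv]

theorem cs_dvd_of_le {g k : G} (h : centralizer ({k} : Set G) ≤ centralizer ({g} : Set G)) :
    cs g ∣ cs k := Subgroup.index_dvd_of_le h

theorem centralizer_le_of_mem_zpowers {x y : G} (hy : y ∈ zpowers x) :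
    centralizer ({x} : Set G) ≤ centralizer ({y} : Set G) := by
  intro c hc
  rw [mem_cent_iff] at hc ⊢
  obtain ⟨k, rfl⟩ := mem_zpowers_iff.mp hy
  exact (Commute.zpow_right (show Commute c x from hc) k).eq

theorem centralizer_mul_central {g z : G} (hz : z ∈ center G) :
    centralizer ({g * z} : Set G) = centralizer ({g} : Set G) := by
  ext h
  rw [mem_cent_iff, mem_cent_iff]
  have hz' : h * z = z * h := (Subgroup.mem_center_iff.mp hz h)
  constructor
  · intro hh
    have : h * g * z = g * h * z := by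
      calc h * g * z = h * (g * z) := by group
        _ = g * z * h := hh
        _ = g * (z * h) := by group
        _ = g * (h * z) := by rw [hz']
        _ = g * h * z := by group
    exact mul_right_cancel this
  · intro hh
    calc h * (g * z) = h * g * z := by group
      _ = g * h * z := by rw [hh]
      _ = g * (h * z) := by group
      _ = g * (z * h) := by rw [hz']
      _ = g * z * h := by group

theorem centralizer_central_mul {g z : G} (hz : z ∈ center G) :
    centralizer ({z * g} : Set G) = centralizer ({g} : Set G) := by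
  have : z * g = g * z := (Subgroup.mem_center_iff.mp hz g).symm
  rw [this, centralizer_mul_central hz]

/-- commuting elements of coprime orders: `C(gh) = C(g) ∩ C(h)`. -/
theorem centralizer_mul_eq_inf {g h : G} (hc : Commute g h)
    (hco : (orderOf g).Coprime (orderOf h)) :
    centralizer ({g * h} : Set G) = centralizer ({g} : Set G) ⊓ centralizer ({h} : Set G) := by
  apply le_antisymm
  · have hg : g ∈ zpowers (g * h) := by
      obtain ⟨m, hm⟩ := exists_pow_eq_self_of_coprime (x := g) hco.symm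
      have : (g * h) ^ (orderOf h) = g ^ (orderOf h) := by
        rw [hc.mul_pow, pow_orderOf_eq_one, mul_one]
      have h2 : ((g * h) ^ (orderOf h)) ^ m = g := by rw [this, hm]
      have h3 : ((g * h) ^ (orderOf h)) ^ m ∈ zpowers (g * h) :=
        Subgroup.pow_mem _ (Subgroup.pow_mem _ (mem_zpowers (g * h)) _) _
      rwa [h2] at h3
    have hh : h ∈ zpowers (g * h) := by
      obtain ⟨m, hm⟩ := exists_pow_eq_self_of_coprime (x := h) hco
      have : (g * h) ^ (orderOf g) = h ^ (orderOf g) := by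
        rw [hc.mul_pow, pow_orderOf_eq_one, one_mul]
      have h2 : ((g * h) ^ (orderOf g)) ^ m = h := by rw [this, hm]
      have h3 : ((g * h) ^ (orderOf g)) ^ m ∈ zpowers (g * h) :=
        Subgroup.pow_mem _ (Subgroup.pow_mem _ (mem_zpowers (g * h)) _) _
      rwa [h2] at h3
    exact le_inf (centralizer_le_of_mem_zpowers hg) (centralizer_le_of_mem_zpowers hh)
  · intro k hk
    rw [Subgroup.mem_inf, mem_cent_iff, mem_cent_iff] at hk
    rw [mem_cent_iff]
    calc k * (g * h) = k * g * h := by group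
      _ = g * k * h := by rw [hk.1]
      _ = g * (k * h) := by group
      _ = g * (h * k) := by rw [hk.2]
      _ = g * h * k := by group

/-- primary decomposition: an element outside a subgroup has a primary power outside it. -/
theorem exists_primary_not_mem [Finite G] (H : Subgroup G) :
    ∀ (N : ℕ) (w : G), orderOf w = N → w ∉ H →
      ∃ (s : ℕ) (w' : G), s.Prime ∧ w' ∈ zpowers w ∧ w' ∉ H ∧ (∃ k, orderOf w' = s ^ k) := by
  intro N
  induction N using Nat.strong_induction_on with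
  | _ N ih =>
    intro w hN hw
    have hw1 : w ≠ 1 := by rintro rfl; exact hw (one_mem _)
    have ho : orderOf w ≠ 1 := fun h1 => hw1 (orderOf_eq_one_iff.mp h1)
    set p := (orderOf w).minFac with hp
    have hpp : p.Prime := Nat.minFac_prime ho
    have hpd : p ∣ orderOf w := Nat.minFac_dvd _
    obtain ⟨a, b, ha, hb, hab, ⟨k, hak⟩, hbc⟩ :=
      Cfsg.Agent.Lib.Helper2.exists_p_decomp w p hpp
    by_cases haZ : a ∈ H
    · have hbZ : b ∉ H := by
        intro hbZ
        apply hw
        rw [hab]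
        exact mul_mem haZ hbZ
      have hbo : orderOf b ∣ orderOf w := orderOf_dvd_of_mem_zpowers hb
      have hlt : orderOf b < N := by
        rw [← hN]
        apply lt_of_le_of_ne (Nat.le_of_dvd (orderOf_pos w) hbo)
        intro heq
        rw [heq] at hbc
        exact hpp.one_lt.ne' (hbc.symm.eq_one_of_dvd hpd)
      obtain ⟨s, w', hs, hw'b, hw'Z, hw'k⟩ := ih _ hlt b rfl hbZ
      exact ⟨s, w', hs, (zpowers_le.mpr hb) hw'b, hw'Z, hw'k⟩
    · obtain ⟨k', hk'⟩ := (Nat.dvd_prime_pow hpp).mp hak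
      exact ⟨p, a, hpp, ha, haZ, ⟨k', hk'.2⟩⟩

theorem exists_primary_not_mem' [Finite G] (H : Subgroup G) {w : G} (hw : w ∉ H) :
    ∃ (s : ℕ) (w' : G), s.Prime ∧ w' ∈ zpowers w ∧ w' ∉ H ∧ (∃ k, orderOf w' = s ^ k) :=
  exists_primary_not_mem H _ w rfl hw

/-! ### subgroups of coprime index -/

theorem relIndex_le_index [Finite G] (H K : Subgroup G) : H.relIndex K ≤ H.index := by
  have := Subgroup.relIndex_le_of_le_right (H := H) (le_top : K ≤ ⊤)
    (by rw [relIndex_top_right]; exact Subgroup.index_ne_zero_of_finite)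
  rwa [relIndex_top_right] at this

theorem relIndex_eq_index_of_coprime [Finite G] (H K : Subgroup G)
    (h : H.index.Coprime K.index) : H.relIndex K = H.index := by
  have h1 : H.relIndex K * K.index = (H ⊓ K).index := by
    rw [← inf_relIndex_right, relIndex_mul_index inf_le_right]
  have h2 : H.index ∣ (H ⊓ K).index := index_dvd_of_le inf_le_left
  have h3 : H.index ∣ H.relIndex K := by
    rw [← h1] at h2
    exact h.dvd_of_dvd_mul_right h2
  have h4 := relIndex_le_index H K
  have h5 : 0 < H.relIndex K := by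
    apply Nat.pos_of_ne_zero
    unfold relIndex
    exact Subgroup.index_ne_zero_of_finite
  exact le_antisymm h4 (Nat.le_of_dvd h5 h3)

theorem index_inf_of_coprime [Finite G] (H K : Subgroup G)
    (h : H.index.Coprime K.index) : (H ⊓ K).index = H.index * K.index := by
  rw [← relIndex_eq_index_of_coprime H K h, ← inf_relIndex_right,
    relIndex_mul_index inf_le_right]

theorem exists_mul_of_coprime_index [Finite G] (H K : Subgroup G)
    (h : H.index.Coprime K.index) (g : G) : ∃ k ∈ K, ∃ h' ∈ H, g = k * h' := by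
  have hrel := relIndex_eq_index_of_coprime H K h
  let e := Subgroup.quotientSubgroupOfEmbeddingOfLE H (le_top : K ≤ ⊤)
  have hcard : Nat.card ((⊤ : Subgroup G) ⧸ H.subgroupOf ⊤) ≤ Nat.card (K ⧸ H.subgroupOf K) := by
    have e1 : Nat.card (K ⧸ H.subgroupOf K) = H.relIndex K := by
      rw [relIndex, index_eq_card]
    have e2 : Nat.card ((⊤ : Subgroup G) ⧸ H.subgroupOf ⊤) = H.relIndex ⊤ := by
      rw [relIndex, index_eq_card]
    rw [e1, e2, relIndex_top_right, hrel]
  have hbij := Function.Injective.bijective_of_nat_card_le e.injective hcard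
  obtain ⟨q, hq⟩ := hbij.2 (QuotientGroup.mk ⟨g, mem_top g⟩)
  obtain ⟨k, rfl⟩ := QuotientGroup.mk_surjective q
  have hq' : e (QuotientGroup.mk k) = QuotientGroup.mk (inclusion (le_top : K ≤ ⊤) k) :=
    Subgroup.quotientSubgroupOfEmbeddingOfLE_apply_mk H _ k
  rw [hq', QuotientGroup.eq, mem_subgroupOf] at hq
  refine ⟨k, k.2, (k : G)⁻¹ * g, ?_, by group⟩
  simpa using hq

/-- pair transitivity for coprime class sizes -/
theorem pair_trans [Finite G] {a c : G} (hcop : (cs a).Coprime (cs c)) (g₁ g₂ : G) :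
    ∃ t, t * a * t⁻¹ = g₁ * a * g₁⁻¹ ∧ t * c * t⁻¹ = g₂ * c * g₂⁻¹ := by
  obtain ⟨k, hk, h', hh', e⟩ :=
    exists_mul_of_coprime_index (centralizer {a}) (centralizer {c}) hcop (g₂⁻¹ * g₁)
  rw [mem_cent_iff] at hk hh'
  refine ⟨g₂ * k, ?_, ?_⟩
  · have e1 : g₁ = g₂ * k * h' := by rw [mul_assoc, ← e]; group
    have e2 : h' * a * h'⁻¹ = a := by rw [hh']; group
    calc g₂ * k * a * (g₂ * k)⁻¹ = g₂ * k * (h' * a * h'⁻¹) * (g₂ * k)⁻¹ := by rw [e2]
      _ = (g₂ * k * h') * a * (g₂ * k * h')⁻¹ := by group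
      _ = g₁ * a * g₁⁻¹ := by rw [← e1]
  · have e2 : k * c * k⁻¹ = c := by rw [hk]; group
    calc g₂ * k * c * (g₂ * k)⁻¹ = g₂ * (k * c * k⁻¹) * g₂⁻¹ := by group
      _ = g₂ * c * g₂⁻¹ := by rw [e2]

theorem cs_mul_dvd [Finite G] {a c : G} (hcop : (cs a).Coprime (cs c)) :
    cs (a * c) ∣ cs a * cs c := by
  have h1 : centralizer ({a} : Set G) ⊓ centralizer ({c} : Set G) ≤ centralizer ({a * c} : Set G) := by
    intro k hk
    rw [Subgroup.mem_inf, mem_cent_iff, mem_cent_iff] at hk
    rw [mem_cent_iff]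
    calc k * (a * c) = k * a * c := by group
      _ = a * k * c := by rw [hk.1]
      _ = a * (k * c) := by group
      _ = a * (c * k) := by rw [hk.2]
      _ = a * c * k := by group
  have h2 := index_dvd_of_le h1
  rwa [index_inf_of_coprime _ _ hcop] at h2

/-! ### conjugacy classes as sets -/

/-- the conjugacy class of `g` as a set -/
def cl (g : G) : Set G := {h | ∃ t : G, t * g * t⁻¹ = h}

theorem mem_cl {g h : G} : h ∈ cl g ↔ ∃ t : G, t * g * t⁻¹ = h := Iff.rfl

theorem self_mem_cl (g : G) : g ∈ cl g := ⟨1, by group⟩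

theorem conj_mem_cl (t g : G) : t * g * t⁻¹ ∈ cl g := ⟨t, rfl⟩

theorem conj_mem_cl_of_mem {g h : G} (hh : h ∈ cl g) (s : G) : s * h * s⁻¹ ∈ cl g := by
  obtain ⟨t, rfl⟩ := hh
  exact ⟨s * t, by group⟩

theorem cl_eq_carrier (g : G) : cl g = (ConjClasses.mk g).carrier := by
  ext h
  rw [mem_cl, ConjClasses.mem_carrier_iff_mk_eq, ConjClasses.mk_eq_mk_iff_isConj, isConj_comm,
    isConj_iff]

theorem card_cl [Finite G] (g : G) : Nat.card (cl g) = cs g := by
  have h1 := Cfsg.Agent.Lib.Helper9.card_carrier_mul_card_centralizer g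
  have h2 := Subgroup.index_mul_card (centralizer ({g} : Set G))
  rw [cl_eq_carrier]
  have hpos : 0 < Nat.card (centralizer ({g} : Set G)) := Nat.card_pos
  exact Nat.eq_of_mul_eq_mul_right hpos (h1.trans h2.symm)

instance [Finite G] (g : G) : Finite (cl g) := Subtype.finite

theorem mul_mem_cl_mul [Finite G] {a c : G} (hcop : (cs a).Coprime (cs c)) {h₁ h₂ : G}
    (h1 : h₁ ∈ cl a) (h2 : h₂ ∈ cl c) : h₁ * h₂ ∈ cl (a * c) := by
  obtain ⟨g₁, rfl⟩ := h1
  obtain ⟨g₂, rfl⟩ := h2
  obtain ⟨t, ht1, ht2⟩ := pair_trans hcop g₁ g₂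
  refine ⟨t, ?_⟩
  rw [← ht1, ← ht2]
  group

theorem cs_le_cs_mul_right [Finite G] {a c : G} (hcop : (cs a).Coprime (cs c)) :
    cs c ≤ cs (a * c) := by
  rw [← card_cl, ← card_cl]
  let f : cl c → cl (a * c) := fun h => ⟨a * h.1, mul_mem_cl_mul hcop (self_mem_cl a) h.2⟩
  apply Nat.card_le_card_of_injective f
  intro h₁ h₂ e
  have : a * h₁.1 = a * h₂.1 := congrArg Subtype.val e
  exact Subtype.ext (mul_left_cancel this)

theorem cs_le_cs_mul_left [Finite G] {a c : G} (hcop : (cs a).Coprime (cs c)) :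
    cs a ≤ cs (a * c) := by
  rw [← card_cl, ← card_cl]
  let f : cl a → cl (a * c) := fun h => ⟨h.1 * c, mul_mem_cl_mul hcop h.2 (self_mem_cl c)⟩
  apply Nat.card_le_card_of_injective f
  intro h₁ h₂ e
  have : h₁.1 * c = h₂.1 * c := congrArg Subtype.val e
  exact Subtype.ext (mul_right_cancel this)

/-- if `|(ac)^G| = |c^G|` then `a^G c^G = a c^G`. -/
theorem exists_eq_mul_of_cs_eq [Finite G] {a c : G} (hcop : (cs a).Coprime (cs c))
    (heq : cs (a * c) = cs c) {h₁ h₂ : G} (h1 : h₁ ∈ cl a) (h2 : h₂ ∈ cl c) :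
    ∃ h₃ ∈ cl c, h₁ * h₂ = a * h₃ := by
  let f : cl c → cl (a * c) := fun h => ⟨a * h.1, mul_mem_cl_mul hcop (self_mem_cl a) h.2⟩
  have hinj : Function.Injective f := by
    intro h₁ h₂ e
    have : a * h₁.1 = a * h₂.1 := congrArg Subtype.val e
    exact Subtype.ext (mul_left_cancel this)
  have hbij := Function.Injective.bijective_of_nat_card_le hinj (by rw [card_cl, card_cl, heq])
  obtain ⟨h₃, hh₃⟩ := hbij.2 ⟨h₁ * h₂, mul_mem_cl_mul hcop h1 h2⟩
  exact ⟨h₃.1, h₃.2, (congrArg Subtype.val hh₃).symm⟩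

/-! ### the stabilizer of a class under left multiplication -/

theorem inv_mul_mem_of_mul_mem {S : Set G} [Finite S] {n : G} (h : ∀ s ∈ S, n * s ∈ S) :
    ∀ s ∈ S, n⁻¹ * s ∈ S := by
  let f : S → S := fun s => ⟨n * s.1, h s.1 s.2⟩
  have hinj : Function.Injective f := by
    intro s₁ s₂ e
    have : n * s₁.1 = n * s₂.1 := congrArg Subtype.val e
    exact Subtype.ext (mul_left_cancel this)
  have hsurj := Finite.surjective_of_injective hinj
  intro s hs
  obtain ⟨s', hs'⟩ := hsurj ⟨s, hs⟩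
  have : n * s'.1 = s := congrArg Subtype.val hs'
  rw [← this]
  simpa using s'.2

/-- the subgroup of elements `n` with `n * c^G ⊆ c^G`. -/
def stab [Finite G] (c : G) : Subgroup G where
  carrier := {n | ∀ h ∈ cl c, n * h ∈ cl c}
  one_mem' := by intro h hh; simpa using hh
  mul_mem' := by
    intro n₁ n₂ h1 h2 h hh
    rw [mul_assoc]
    exact h1 _ (h2 _ hh)
  inv_mem' := by
    intro n hn
    exact inv_mul_mem_of_mul_mem hn

theorem mem_stab [Finite G] {c n : G} : n ∈ stab c ↔ ∀ h ∈ cl c, n * h ∈ cl c := Iff.rfl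

instance stab_normal [Finite G] (c : G) : (stab c).Normal := by
  constructor
  intro n hn s h hh
  have h1 : s⁻¹ * h * s⁻¹⁻¹ ∈ cl c := conj_mem_cl_of_mem hh s⁻¹
  have h2 := hn _ h1
  have h3 := conj_mem_cl_of_mem h2 s
  have e : s * (n * (s⁻¹ * h * s⁻¹⁻¹)) * s⁻¹ = s * n * s⁻¹ * h := by group
  rwa [e] at h3

/-- a subgroup acting on a finite set by left multiplication: its order divides the size. -/
theorem card_dvd_of_stable [Finite G] (N : Subgroup G) (S : Set G)
    (h : ∀ n ∈ N, ∀ s ∈ S, n * s ∈ S) : Nat.card N ∣ Nat.card S := by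
  letI : MulAction N S :=
    { smul := fun n s => ⟨n.1 * s.1, h n.1 n.2 s.1 s.2⟩
      one_smul := by
        intro s
        apply Subtype.ext
        show (1 : G) * s.1 = s.1
        exact one_mul _
      mul_smul := by
        intro n₁ n₂ s
        apply Subtype.ext
        show (n₁.1 * n₂.1) * s.1 = n₁.1 * (n₂.1 * s.1)
        exact mul_assoc _ _ _ }
  have hfree : ∀ s : S, MulAction.stabilizer N s = ⊥ := by
    intro s
    rw [eq_bot_iff]
    intro n hn
    rw [MulAction.mem_stabilizer_iff] at hn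
    have h1 : n.1 * s.1 = s.1 := congrArg Subtype.val hn
    have h2 : n.1 = 1 := mul_right_cancel (h1.trans (one_mul _).symm)
    rw [Subgroup.mem_bot]
    exact Subtype.ext h2
  have e := MulAction.selfEquivOrbitsQuotientProd hfree
  rw [Nat.card_congr e, Nat.card_prod]
  exact dvd_mul_left _ _

/-- the normal subgroup `[a, G]` generated by `a⁻¹ a^t`. -/
def NN (a : G) : Subgroup G := Subgroup.normalClosure {h | ∃ t : G, h = a⁻¹ * (t * a * t⁻¹)}

instance NN_normal (a : G) : (NN a).Normal := Subgroup.normalClosure_normal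

theorem conj_eq_mul_NN (a t : G) : ∃ w ∈ NN a, t * a * t⁻¹ = a * w :=
  ⟨a⁻¹ * (t * a * t⁻¹), Subgroup.subset_normalClosure ⟨t, rfl⟩, by group⟩

theorem NN_le_stab [Finite G] {a c : G} (hcop : (cs a).Coprime (cs c))
    (heq : cs (a * c) = cs c) : NN a ≤ stab c := by
  apply Subgroup.normalClosure_le_normal
  rintro _ ⟨t, rfl⟩
  rw [SetLike.mem_coe, mem_stab]
  intro h hh
  obtain ⟨h₃, hh₃, e⟩ := exists_eq_mul_of_cs_eq hcop heq (conj_mem_cl t a) hh
  have : a⁻¹ * (t * a * t⁻¹) * h = h₃ := by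
    rw [mul_assoc, e]; group
  rw [this]
  exact hh₃

theorem card_NN_dvd [Finite G] {a c : G} (hcop : (cs a).Coprime (cs c))
    (heq : cs (a * c) = cs c) : Nat.card (NN a) ∣ cs c := by
  rw [← card_cl]
  apply card_dvd_of_stable
  intro n hn s hs
  exact (NN_le_stab hcop heq hn) s hs

/-- for `N` normal, `|N : N ∩ C|` divides `|G : C|`. -/
theorem relIndex_dvd_index_of_normal_right [Finite G] (C N : Subgroup G) [N.Normal] :
    C.relIndex N ∣ C.index := by
  have key : ∀ {K L : Subgroup G}, K ≤ L → Nat.card K * K.relIndex L = Nat.card L := by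
    intro K L h
    have := Subgroup.relIndex_mul_relIndex (⊥ : Subgroup G) K L bot_le h
    rwa [Subgroup.relIndex_bot_left, Subgroup.relIndex_bot_left] at this
  -- |C ⊔ N| / |N| = |C| / |C ⊓ N|
  have h1 : N.relIndex (C ⊔ N) = N.relIndex C := Subgroup.relIndex_sup_right C N
  have h2 := key (le_sup_right : N ≤ C ⊔ N)
  have h3 := key (inf_le_left : C ⊓ N ≤ C)
  have h4 := key (inf_le_right : C ⊓ N ≤ N)
  have h5 := key (le_sup_left : C ≤ C ⊔ N)
  rw [inf_relIndex_left] at h3
  rw [inf_relIndex_right] at h4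
  rw [h1] at h2
  -- |N| * r = |X|, |I| * r = |C|, |I| * s = |N|, |C| * u = |X|; want s = u
  have hu : C.relIndex (C ⊔ N) = C.relIndex N := by
    have hI : 0 < Nat.card (C ⊓ N : Subgroup G) := Nat.card_pos
    have hr : 0 < N.relIndex C := by
      rcases Nat.eq_zero_or_pos (N.relIndex C) with h0 | h0
      · rw [h0, mul_zero] at h3
        exact absurd h3.symm (Nat.card_pos (α := C)).ne'
      · exact h0
    have e1 : Nat.card (C ⊓ N : Subgroup G) * N.relIndex C * C.relIndex (C ⊔ N) =
        Nat.card (C ⊓ N : Subgroup G) * N.relIndex C * C.relIndex N := by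
      calc Nat.card (C ⊓ N : Subgroup G) * N.relIndex C * C.relIndex (C ⊔ N)
          = Nat.card C * C.relIndex (C ⊔ N) := by rw [h3]
        _ = Nat.card (C ⊔ N : Subgroup G) := h5
        _ = Nat.card N * N.relIndex C := h2.symm
        _ = Nat.card (C ⊓ N : Subgroup G) * C.relIndex N * N.relIndex C := by rw [h4]
        _ = Nat.card (C ⊓ N : Subgroup G) * N.relIndex C * C.relIndex N := by ring
    exact Nat.eq_of_mul_eq_mul_left (Nat.mul_pos hI hr) e1
  rw [← hu]
  exact Subgroup.relIndex_dvd_index_of_le le_sup_left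

theorem NN_le_centralizer [Finite G] {a : G} {M : ℕ} (hM : Nat.card (NN a) ∣ M)
    (hcop : (cs a).Coprime M) : NN a ≤ centralizer ({a} : Set G) := by
  have h1 : (centralizer ({a} : Set G)).relIndex (NN a) ∣ cs a :=
    relIndex_dvd_index_of_normal_right _ _
  have h2 : (centralizer ({a} : Set G)).relIndex (NN a) ∣ Nat.card (NN a) :=
    Subgroup.relIndex_dvd_card _ _
  have h3 : (centralizer ({a} : Set G)).relIndex (NN a) = 1 :=
    Nat.eq_one_of_dvd_coprimes hcop h1 (h2.trans hM)
  exact Subgroup.relIndex_eq_one.mp h3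

/-- primary powers of `a` of order prime to `|[a,G]|` are central. -/
theorem primary_central [Finite G] {a : G} {M : ℕ} (hM : Nat.card (NN a) ∣ M)
    (hN : NN a ≤ centralizer ({a} : Set G)) {b : G} (hb : b ∈ zpowers a) {q k : ℕ}
    (hq : q.Prime) (hqM : ¬ q ∣ M) (hbo : orderOf b = q ^ k) : b ∈ center G := by
  rw [Subgroup.mem_center_iff]
  intro t
  obtain ⟨j, rfl⟩ := mem_zpowers_iff.mp hb
  obtain ⟨w, hw, e⟩ := conj_eq_mul_NN a t
  have hwa : Commute a w := by
    have := hN hw
    rw [mem_cent_iff] at this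
    exact this.symm
  have e2 : t * a ^ j * t⁻¹ = a ^ j * w ^ j := by
    have : t * a ^ j * t⁻¹ = (t * a * t⁻¹) ^ j := by
      have := map_zpow (MulAut.conj t) a j
      simpa [MulAut.conj_apply] using this.symm
    rw [this, e, hwa.mul_zpow]
  -- order argument
  have hcj : Commute (a ^ j) (w ^ j) := (hwa.zpow_right j).zpow_left j
  have ho : orderOf (t * a ^ j * t⁻¹) = q ^ k := by
    have := orderOf_injective (MulAut.conj t).toMonoidHom (MulAut.conj t).injective (a ^ j)
    simpa [MulAut.conj_apply, hbo] using this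
  have h1 : (a ^ j * w ^ j) ^ (q ^ k) = 1 := by
    rw [← e2, ← ho]; exact pow_orderOf_eq_one _
  have h2 : (w ^ j) ^ (q ^ k) = 1 := by
    have h0 : (a ^ j) ^ (q ^ k) = 1 := by rw [← hbo]; exact pow_orderOf_eq_one _
    rw [hcj.mul_pow, h0, one_mul] at h1
    exact h1
  have h3 : orderOf (w ^ j) ∣ q ^ k := orderOf_dvd_of_pow_eq_one h2
  have h4 : orderOf (w ^ j) ∣ M := by
    have hwj : w ^ j ∈ NN a := Subgroup.zpow_mem _ hw j
    have : orderOf (⟨w ^ j, hwj⟩ : NN a) ∣ Nat.card (NN a) := orderOf_dvd_natCard _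
    rw [Subgroup.orderOf_mk] at this
    exact this.trans hM
  have h5 : orderOf (w ^ j) = 1 := by
    have hc : (q ^ k).Coprime M := Nat.Coprime.pow_left _ ((Nat.Prime.coprime_iff_not_dvd hq).mpr hqM)
    exact Nat.eq_one_of_dvd_coprimes hc h3 h4
  have h6 : w ^ j = 1 := orderOf_eq_one_iff.mp h5
  rw [h6, mul_one] at e2
  calc t * a ^ j = t * a ^ j * t⁻¹ * t := by group
    _ = a ^ j * t := by rw [e2]

/-! ### Sylow lemmas -/

theorem exists_sylow_le_of_not_dvd_index [Finite G] {p : ℕ} [Fact p.Prime] (C : Subgroup G)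
    (hC : ¬ p ∣ C.index) : ∃ P : Sylow p G, (P : Subgroup G) ≤ C := by
  obtain ⟨P₀⟩ : Nonempty (Sylow p ↥C) := inferInstance
  have hA : IsPGroup p ((P₀ : Subgroup ↥C).map C.subtype) := P₀.2.map _
  have hidx : ¬ p ∣ ((P₀ : Subgroup ↥C).map C.subtype).index := by
    rw [Subgroup.index_map_subtype]
    exact Nat.Prime.not_dvd_mul Fact.out P₀.not_dvd_index hC
  exact ⟨hA.toSylow hidx, Subgroup.map_subtype_le _⟩

/-- if all `q`-elements of `K` lie in `H ≤ K` then `q ∤ |K : H|`. -/
theorem not_dvd_relIndex_of_primary_mem [Finite G] {q : ℕ} [Fact q.Prime] {H K : Subgroup G}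
    (hHK : H ≤ K) (h : ∀ u ∈ K, (∃ k, orderOf u = q ^ k) → u ∈ H) : ¬ q ∣ H.relIndex K := by
  obtain ⟨S⟩ : Nonempty (Sylow q ↥K) := inferInstance
  have hSH : (S : Subgroup ↥K).map K.subtype ≤ H := by
    rintro _ ⟨s, hs, rfl⟩
    apply h _ s.2
    obtain ⟨k, hk⟩ := (IsPGroup.iff_orderOf.mp S.2) ⟨s, hs⟩
    refine ⟨k, ?_⟩
    have : orderOf (⟨s, hs⟩ : (S : Subgroup ↥K)) = orderOf (s : G) := by
      rw [Subgroup.orderOf_mk, Subgroup.orderOf_coe]
    rw [← this, hk]
  have hSK : (S : Subgroup ↥K).map K.subtype ≤ K := Subgroup.map_subtype_le _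
  have h1 := Subgroup.relIndex_mul_relIndex _ _ _ hSH hHK
  have h2 : ((S : Subgroup ↥K).map K.subtype).relIndex K = (S : Subgroup ↥K).index := by
    have e1 := Subgroup.relIndex_mul_index hSK
    rw [Subgroup.index_map_subtype] at e1
    have hK : 0 < K.index := Nat.pos_of_ne_zero Subgroup.index_ne_zero_of_finite
    exact Nat.eq_of_mul_eq_mul_right hK e1
  intro hq
  have h3 : q ∣ ((S : Subgroup ↥K).map K.subtype).relIndex K := by
    rw [← h1]; exact dvd_mul_of_dvd_right hq _
  rw [h2] at h3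
  exact S.not_dvd_index h3

end Cfsg.Agent.Lib.Helper17.CG
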