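import Mathlib
import Cfsg.Agent.Lib.Helper17.CGBasic

/-!
Groups whose class sizes split into two mutually coprime families (Bertram–Herzog–Mann):
the structure theorem (helper17).
-/

set_option autoImplicit false

namespace Cfsg.Agent.Lib.Helper17.CG

open Subgroup

/-- the hypotheses: two coprime types of class sizes, `y` of maximal size (type `P`),
`x` of maximal size among type `Q`. -/
structure Hyp (G : Type*) [Group G] (Pn Qn : ℕ → Prop) (x y : G) : Prop where
  h1 : ∀ g : G, cs g ≠ 1 → Pn (cs g) ∨ Qn (cs g)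
  h2 : ∀ k l : ℕ, Pn k → Qn l → Nat.Coprime k l
  hP1 : ¬ Pn 1
  hQ1 : ¬ Qn 1
  hyP : Pn (cs y)
  hymax : ∀ g : G, cs g ≤ cs y
  hxQ : Qn (cs x)
  hxmax : ∀ g : G, Qn (cs g) → cs g ≤ cs x

namespace Hyp

variable {G : Type*} [Group G] [Finite G] {Pn Qn : ℕ → Prop} {x y : G}

section
variable (hy : Hyp G Pn Qn x y)
include hy

theorem not_both {k : ℕ} (hp : Pn k) (hq : Qn k) : False := by
  have := hy.h2 k k hp hq
  rw [Nat.coprime_self] at this
  subst this
  exact hy.hP1 hp

theorem P_ne_one {g : G} (h : Pn (cs g)) : cs g ≠ 1 := fun e => hy.hP1 (e ▸ h)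

theorem Q_ne_one {g : G} (h : Qn (cs g)) : cs g ≠ 1 := fun e => hy.hQ1 (e ▸ h)

theorem mix {g h k : G} (hg : Pn (cs g)) (hh : Qn (cs h)) (d1 : cs g ∣ cs k)
    (d2 : cs h ∣ cs k) : False := by
  have hk1 : cs k ≠ 1 := by
    intro e
    rw [e] at d1
    exact hy.P_ne_one hg (Nat.dvd_one.mp d1)
  rcases hy.h1 k hk1 with hp | hq
  · have := hy.h2 _ _ hp hh
    exact hy.Q_ne_one hh (Nat.Coprime.eq_one_of_dvd this.symm d2)
  · have := hy.h2 _ _ hg hq
    exact hy.P_ne_one hg (Nat.Coprime.eq_one_of_dvd this d1)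

theorem Q_of_dvd {h k : G} (hh : Qn (cs h)) (d : cs h ∣ cs k) : Qn (cs k) := by
  have hk1 : cs k ≠ 1 := by
    intro e
    rw [e] at d
    exact hy.Q_ne_one hh (Nat.dvd_one.mp d)
  rcases hy.h1 k hk1 with hp | hq
  · exfalso
    have := hy.h2 _ _ hp hh
    exact hy.Q_ne_one hh (Nat.Coprime.eq_one_of_dvd this.symm d)
  · exact hq

theorem coprime_mn : (cs y).Coprime (cs x) := hy.h2 _ _ hy.hyP hy.hxQ

theorem coprime_Q_m {a : G} (ha : Qn (cs a)) : (cs a).Coprime (cs y) :=
  (hy.h2 _ _ hy.hyP ha).symm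

theorem cs_mul_y {a : G} (ha : Qn (cs a)) : cs (a * y) = cs y :=
  le_antisymm (hy.hymax _) (cs_le_cs_mul_right (hy.coprime_Q_m ha))

theorem card_NN_dvd_m {a : G} (ha : Qn (cs a)) : Nat.card (NN a) ∣ cs y :=
  card_NN_dvd (hy.coprime_Q_m ha) (hy.cs_mul_y ha)

theorem NN_le_cent {a : G} (ha : Qn (cs a)) : NN a ≤ centralizer ({a} : Set G) :=
  NN_le_centralizer (hy.card_NN_dvd_m ha) (hy.coprime_Q_m ha)

theorem primary_central_Q {a b : G} (ha : Qn (cs a)) (hb : b ∈ zpowers a) {q k : ℕ}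
    (hq : q.Prime) (hqm : ¬ q ∣ cs y) (hbo : orderOf b = q ^ k) : b ∈ center G :=
  primary_central (hy.card_NN_dvd_m ha) (hy.NN_le_cent ha) hb hq hqm hbo

/-- no class of type `P` is smaller than the largest class of type `Q`. -/
theorem no_small_P {c : G} (hc : Pn (cs c)) : cs x ≤ cs c := by
  by_contra hlt
  push_neg at hlt
  have hcop : (cs c).Coprime (cs x) := hy.h2 _ _ hc hy.hxQ
  have hd : cs (c * x) ∣ cs c * cs x := cs_mul_dvd hcop
  have hle : cs x ≤ cs (c * x) := cs_le_cs_mul_right hcop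
  have hx1 : cs x ≠ 1 := hy.Q_ne_one hy.hxQ
  have hxpos := cs_pos x
  have hk1 : cs (c * x) ≠ 1 := by
    intro e; rw [e] at hle; omega
  have heq : cs (c * x) = cs x := by
    rcases hy.h1 _ hk1 with hp | hq
    · exfalso
      have hc2 : (cs (c * x)).Coprime (cs x) := hy.h2 _ _ hp hy.hxQ
      have h3 : cs (c * x) ∣ cs c := hc2.dvd_of_dvd_mul_right hd
      have := Nat.le_of_dvd (cs_pos c) h3
      omega
    · exact le_antisymm (hy.hxmax _ hq) hle
  have hNc : Nat.card (NN c) ∣ cs x := card_NN_dvd hcop heq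
  have hNcC : NN c ≤ centralizer ({c} : Set G) := NN_le_centralizer hNc hcop
  have hNx : Nat.card (NN x) ∣ cs y := hy.card_NN_dvd_m hy.hxQ
  have hmn := hy.coprime_mn
  have hcomm : c * x * c⁻¹ = x := by
    have e1 : x⁻¹ * (c * x * c⁻¹) ∈ NN x := Subgroup.subset_normalClosure ⟨c, rfl⟩
    have e2 : x⁻¹ * (c * x * c⁻¹) ∈ NN c := by
      have g1 : c⁻¹ * (x⁻¹ * c * x⁻¹⁻¹) ∈ NN c := Subgroup.subset_normalClosure ⟨x⁻¹, rfl⟩
      have g2 := (NN_normal c).conj_mem _ g1 c
      have e : c * (c⁻¹ * (x⁻¹ * c * x⁻¹⁻¹)) * c⁻¹ = x⁻¹ * (c * x * c⁻¹) := by group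
      rwa [e] at g2
    have hin : x⁻¹ * (c * x * c⁻¹) ∈ NN x ⊓ NN c := ⟨e1, e2⟩
    have hcard : Nat.card (NN x ⊓ NN c : Subgroup G) = 1 := by
      have d1 : Nat.card (NN x ⊓ NN c : Subgroup G) ∣ cs y :=
        (Subgroup.card_dvd_of_le inf_le_left).trans hNx
      have d2 : Nat.card (NN x ⊓ NN c : Subgroup G) ∣ cs x :=
        (Subgroup.card_dvd_of_le inf_le_right).trans hNc
      exact Nat.eq_one_of_dvd_coprimes hmn d1 d2
    have hbot : NN x ⊓ NN c = ⊥ := Subgroup.card_eq_one.mp hcard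
    rw [hbot, Subgroup.mem_bot] at hin
    calc c * x * c⁻¹ = x * (x⁻¹ * (c * x * c⁻¹)) := by group
      _ = x := by rw [hin, mul_one]
  have hcx : Commute c x := by
    show c * x = x * c
    calc c * x = c * x * c⁻¹ * c := by group
      _ = x * c := by rw [hcomm]
  have hcZ : c ∉ center G := fun h => hy.P_ne_one hc (cs_eq_one_iff.mpr h)
  obtain ⟨r, u, hr, hu, huZ, k, huo⟩ := exists_primary_not_mem' (center G) hcZ
  have hrn : r ∣ cs x := by
    by_contra hrn
    exact huZ (primary_central hNc hNcC hu hr hrn huo)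
  have hrm : ¬ r ∣ cs y := by
    intro hrm
    exact hr.one_lt.ne' (Nat.eq_one_of_dvd_coprimes hmn hrm hrn)
  obtain ⟨a₁, b₁, ha₁, hb₁, hab, ⟨j, ha₁o⟩, hb₁c⟩ :=
    Cfsg.Agent.Lib.Helper2.exists_p_decomp x r hr
  have ha₁Z : a₁ ∈ center G := by
    obtain ⟨j', hj'⟩ := (Nat.dvd_prime_pow hr).mp ha₁o
    exact hy.primary_central_Q hy.hxQ ha₁ hr hrm hj'.2
  have hCb : centralizer ({b₁} : Set G) = centralizer ({x} : Set G) := by
    conv_rhs => rw [hab]
    rw [centralizer_central_mul ha₁Z]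
  have hub : Commute u b₁ := by
    obtain ⟨i, rfl⟩ := mem_zpowers_iff.mp hu
    obtain ⟨i', hi'⟩ := mem_zpowers_iff.mp hb₁
    rw [← hi']
    exact (hcx.zpow_right i').zpow_left i
  have hco : (orderOf u).Coprime (orderOf b₁) := by
    rw [huo]; exact Nat.Coprime.pow_left _ hb₁c.symm
  have hC : centralizer ({u * b₁} : Set G) =
      centralizer ({u} : Set G) ⊓ centralizer ({x} : Set G) := by
    rw [centralizer_mul_eq_inf hub hco, hCb]
  have hd1 : cs x ∣ cs (u * b₁) := cs_dvd_of_le (by rw [hC]; exact inf_le_right)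
  have hQ : Qn (cs (u * b₁)) := hy.Q_of_dvd hy.hxQ hd1
  have heq2 : cs (u * b₁) = cs x :=
    le_antisymm (hy.hxmax _ hQ) (Nat.le_of_dvd (cs_pos _) hd1)
  have hle2 : centralizer ({x} : Set G) ≤ centralizer ({u} : Set G) := by
    have h1 : centralizer ({u * b₁} : Set G) ≤ centralizer ({x} : Set G) := by
      rw [hC]; exact inf_le_right
    have h2 := Subgroup.relIndex_mul_index h1
    have h3 : (centralizer ({u * b₁} : Set G)).relIndex (centralizer ({x} : Set G)) = 1 := by
      have : (centralizer ({u * b₁} : Set G)).relIndex (centralizer ({x} : Set G)) * cs x =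
          1 * cs x := by
        rw [one_mul]; exact h2.trans heq2
      exact Nat.eq_of_mul_eq_mul_right (cs_pos x) this
    have h4 := Subgroup.relIndex_eq_one.mp h3
    exact h4.trans (by rw [hC]; exact inf_le_left)
  have hd2 : cs u ∣ cs x := cs_dvd_of_le hle2
  have hu1 : cs u ≠ 1 := fun h => huZ (cs_eq_one_iff.mp h)
  have hQu : Qn (cs u) := by
    rcases hy.h1 u hu1 with hp | hq
    · exfalso
      have := hy.h2 _ _ hp hy.hxQ
      exact hu1 (Nat.Coprime.eq_one_of_dvd this hd2)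
    · exact hq
  exact huZ (hy.primary_central_Q hQu (mem_zpowers u) hr hrm huo)

theorem cs_mul_QP {a c : G} (ha : Qn (cs a)) (hc : Pn (cs c)) : cs (a * c) = cs c := by
  have hcop : (cs a).Coprime (cs c) := (hy.h2 _ _ hc ha).symm
  have h1 : cs a ≤ cs x := hy.hxmax _ ha
  have h2 : cs x ≤ cs c := hy.no_small_P hc
  have hne : cs a ≠ cs c := by
    intro e; rw [e] at ha; exact hy.not_both hc ha
  have hlt : cs a < cs c := lt_of_le_of_ne (h1.trans h2) hne
  have hd := cs_mul_dvd hcop
  have hle := cs_le_cs_mul_right hcop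
  have hapos := cs_pos a
  have hk1 : cs (a * c) ≠ 1 := by intro e; rw [e] at hle; omega
  rcases hy.h1 _ hk1 with hp | hq
  · have hc2 : (cs (a * c)).Coprime (cs a) := hy.h2 _ _ hp ha
    have h3 : cs (a * c) ∣ cs c := hc2.dvd_of_dvd_mul_left hd
    exact le_antisymm (Nat.le_of_dvd (cs_pos c) h3) hle
  · exfalso
    have hc2 : (cs c).Coprime (cs (a * c)) := hy.h2 _ _ hc hq
    have h3 : cs (a * c) ∣ cs a := hc2.symm.dvd_of_dvd_mul_right hd
    have := Nat.le_of_dvd (cs_pos a) h3
    omega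

end

/-- the subgroup of central elements and elements of type `Q`. -/
def W (hy : Hyp G Pn Qn x y) : Subgroup G where
  carrier := {g | g ∈ center G ∨ Qn (cs g)}
  one_mem' := Or.inl (one_mem _)
  inv_mem' := by
    rintro g (hg | hg)
    · exact Or.inl (inv_mem hg)
    · exact Or.inr (by rw [cs_inv]; exact hg)
  mul_mem' := by
    rintro a b (ha | ha) (hb | hb)
    · exact Or.inl (mul_mem ha hb)
    · right
      show Qn (cs (a * b))
      unfold cs
      rw [centralizer_central_mul ha]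
      exact hb
    · right
      show Qn (cs (a * b))
      unfold cs
      rw [centralizer_mul_central hb]
      exact ha
    · by_cases h1 : cs (a * b) = 1
      · exact Or.inl (cs_eq_one_iff.mp h1)
      · rcases hy.h1 _ h1 with hp | hq
        · exfalso
          have := hy.cs_mul_QP (a := a⁻¹) (c := a * b) (by rw [cs_inv]; exact ha) hp
          rw [inv_mul_cancel_left] at this
          rw [← this] at hp
          exact hy.not_both hp hb
        · exact Or.inr hq

section
variable (hy : Hyp G Pn Qn x y)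
include hy

theorem mem_W {g : G} : g ∈ hy.W ↔ g ∈ center G ∨ Qn (cs g) := Iff.rfl

instance W_normal : hy.W.Normal := by
  constructor
  intro n hn g
  rcases hn with hn | hn
  · exact Or.inl ((inferInstance : (center G).Normal).conj_mem n hn g)
  · exact Or.inr (by rw [cs_conj]; exact hn)

theorem center_le_W : center G ≤ hy.W := fun _ h => Or.inl h

theorem P_of_not_mem_W {g : G} (h : g ∉ hy.W) : Pn (cs g) := by
  have h1 : cs g ≠ 1 := fun e => h (Or.inl (cs_eq_one_iff.mp e))
  rcases hy.h1 g h1 with hp | hq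
  · exact hp
  · exact absurd (Or.inr hq) h

theorem Q_of_mem_W {g : G} (h : g ∈ hy.W) (hZ : g ∉ center G) : Qn (cs g) := by
  rcases h with h | h
  · exact absurd h hZ
  · exact h

theorem x_mem_W : x ∈ hy.W := Or.inr hy.hxQ

theorem x_not_center : x ∉ center G := fun h => hy.Q_ne_one hy.hxQ (cs_eq_one_iff.mpr h)

theorem y_not_mem_W : y ∉ hy.W := by
  rintro (h | h)
  · exact hy.P_ne_one hy.hyP (cs_eq_one_iff.mpr h)
  · exact hy.not_both hy.hyP h

theorem central_of_primary_commute {b u : G} (hbW : b ∈ hy.W) (hbZ : b ∉ center G)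
    {q k : ℕ} (hq : q.Prime) (hqm : ¬ q ∣ cs y) (huo : orderOf u = q ^ k)
    (hub : u ∈ centralizer ({b} : Set G)) : u ∈ center G := by
  by_contra huZ
  have huW : u ∉ hy.W := by
    rintro (h | h)
    · exact huZ h
    · exact huZ (hy.primary_central_Q h (mem_zpowers u) hq hqm huo)
  have hPu := hy.P_of_not_mem_W huW
  obtain ⟨r, b', hr, hb', hb'Z, j, hb'o⟩ := exists_primary_not_mem' (center G) hbZ
  have hb'W : b' ∈ hy.W := (zpowers_le.mpr hbW) hb'
  have hQb' : Qn (cs b') := hy.Q_of_mem_W hb'W hb'Z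
  have hrm : r ∣ cs y := by
    by_contra hrm
    exact hb'Z (hy.primary_central_Q hQb' (mem_zpowers b') hr hrm hb'o)
  have hne : q ≠ r := by rintro rfl; exact hqm hrm
  have hcomm : Commute u b' := by
    have := centralizer_le_of_mem_zpowers hb' hub
    rw [mem_cent_iff] at this
    exact this
  have hco : (orderOf u).Coprime (orderOf b') := by
    rw [huo, hb'o]
    exact Nat.Coprime.pow _ _ ((Nat.coprime_primes hq hr).mpr hne)
  have hC := centralizer_mul_eq_inf hcomm hco
  exact hy.mix hPu hQb' (cs_dvd_of_le (by rw [hC]; exact inf_le_left))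
    (cs_dvd_of_le (by rw [hC]; exact inf_le_right))

theorem coprime_relIndex_center {b : G} (hbW : b ∈ hy.W) (hbZ : b ∉ center G) :
    ((center G).relIndex (centralizer ({b} : Set G))).Coprime (cs x) := by
  apply Nat.coprime_of_dvd
  intro q hq hq1 hq2
  haveI := Fact.mk hq
  have hqm : ¬ q ∣ cs y := fun h =>
    hq.one_lt.ne' (Nat.eq_one_of_dvd_coprimes hy.coprime_mn h hq2)
  exact not_dvd_relIndex_of_primary_mem (center_le_centralizer _)
    (fun u hu ⟨k, hk⟩ => hy.central_of_primary_commute hbW hbZ hq hqm hk hu) hq1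

theorem cs_eq_n {b : G} (hbW : b ∈ hy.W) (hbZ : b ∉ center G) : cs b = cs x := by
  have hQ := hy.Q_of_mem_W hbW hbZ
  have h1 := Subgroup.relIndex_mul_index (center_le_centralizer ({b} : Set G))
  have h2 := Subgroup.relIndex_mul_index (center_le_centralizer ({x} : Set G))
  have hc := hy.coprime_relIndex_center hbW hbZ
  have hd : cs x ∣ (center G).relIndex (centralizer ({b} : Set G)) * cs b := by
    rw [h1, ← h2]; exact dvd_mul_left _ _
  have hd2 : cs x ∣ cs b := hc.symm.dvd_of_dvd_mul_left hd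
  exact le_antisymm (hy.hxmax _ hQ) (Nat.le_of_dvd (cs_pos b) hd2)

theorem W_le_centralizer {b : G} (hbW : b ∈ hy.W) (hbZ : b ∉ center G) :
    hy.W ≤ centralizer ({b} : Set G) := by
  rw [← Subgroup.relIndex_eq_one]
  have h1 : (centralizer ({b} : Set G)).relIndex hy.W ∣ cs x := by
    rw [← hy.cs_eq_n hbW hbZ]; exact relIndex_dvd_index_of_normal_right _ _
  by_contra hne
  obtain ⟨q, hq, hqd⟩ := Nat.exists_prime_and_dvd hne
  haveI := Fact.mk hq
  have hqn : q ∣ cs x := hqd.trans h1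
  have hqm : ¬ q ∣ cs y := fun h =>
    hq.one_lt.ne' (Nat.eq_one_of_dvd_coprimes hy.coprime_mn h hqn)
  refine not_dvd_relIndex_of_primary_mem (q := q) (H := centralizer ({b} : Set G) ⊓ hy.W)
    (K := hy.W) inf_le_right ?_ (by rw [inf_relIndex_right]; exact hqd)
  rintro u hu ⟨k, hk⟩
  refine ⟨?_, hu⟩
  have : u ∈ center G := by
    rcases hu with hu | hu
    · exact hu
    · exact hy.primary_central_Q hu (mem_zpowers u) hq hqm hk
  exact center_le_centralizer _ this

theorem cent_normal {b : G} (hbW : b ∈ hy.W) (hbZ : b ∉ center G) :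
    (centralizer ({b} : Set G)).Normal := by
  constructor
  intro g hg t
  by_cases hgW : g ∈ hy.W
  · exact hy.W_le_centralizer hbW hbZ (hy.W_normal.conj_mem g hgW t)
  · have hP := hy.P_of_not_mem_W hgW
    have hQ := hy.Q_of_mem_W hbW hbZ
    have hcop : (cs b).Coprime (cs g) := (hy.h2 _ _ hP hQ).symm
    obtain ⟨s, hs1, hs2⟩ := pair_trans hcop 1 t
    rw [mem_cent_iff] at hg ⊢
    have hs1' : s * b * s⁻¹ = b := by rw [hs1]; group
    rw [← hs2]
    calc s * g * s⁻¹ * b = s * g * s⁻¹ * (s * b * s⁻¹) := by rw [hs1']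
      _ = s * (g * b) * s⁻¹ := by group
      _ = s * (b * g) * s⁻¹ := by rw [hg]
      _ = (s * b * s⁻¹) * (s * g * s⁻¹) := by group
      _ = b * (s * g * s⁻¹) := by rw [hs1']

theorem cent_eq {b : G} (hbW : b ∈ hy.W) (hbZ : b ∉ center G) :
    centralizer ({b} : Set G) = centralizer ({x} : Set G) := by
  haveI := hy.cent_normal hy.x_mem_W hy.x_not_center
  have hle : centralizer ({b} : Set G) ≤ centralizer ({x} : Set G) := by
    rw [← Subgroup.relIndex_eq_one]
    have d1 : (centralizer ({x} : Set G)).relIndex (centralizer ({b} : Set G)) ∣ cs x :=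
      Subgroup.relIndex_dvd_index_of_normal _ _
    have d2 : (centralizer ({x} : Set G)).relIndex (centralizer ({b} : Set G)) ∣
        (center G).relIndex (centralizer ({b} : Set G)) := by
      rw [← inf_relIndex_right]
      have := Subgroup.relIndex_mul_relIndex (center G)
        (centralizer ({x} : Set G) ⊓ centralizer ({b} : Set G)) (centralizer ({b} : Set G))
        (le_inf (center_le_centralizer _) (center_le_centralizer _)) inf_le_right
      rw [← this]; exact dvd_mul_left _ _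
    exact Nat.eq_one_of_dvd_coprimes (hy.coprime_relIndex_center hbW hbZ) d2 d1
  have h2 := Subgroup.relIndex_mul_index hle
  have h3 : (centralizer ({b} : Set G)).relIndex (centralizer ({x} : Set G)) = 1 := by
    have : (centralizer ({b} : Set G)).relIndex (centralizer ({x} : Set G)) * cs x =
        1 * cs x := by
      rw [one_mul]; exact h2.trans (hy.cs_eq_n hbW hbZ)
    exact Nat.eq_of_mul_eq_mul_right (cs_pos x) this
  exact le_antisymm hle (Subgroup.relIndex_eq_one.mp h3)

theorem W_le_L : hy.W ≤ centralizer ({x} : Set G) :=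
  hy.W_le_centralizer hy.x_mem_W hy.x_not_center

/-- elements of `W` commute with elements of `L = C(x)`. -/
theorem comm_W_L {w l : G} (hw : w ∈ hy.W) (hl : l ∈ centralizer ({x} : Set G)) :
    w * l = l * w := by
  by_cases hwZ : w ∈ center G
  · exact (Subgroup.mem_center_iff.mp hwZ l).symm
  · rw [← hy.cent_eq hw hwZ, mem_cent_iff] at hl
    exact hl.symm

theorem W_comm {a b : G} (ha : a ∈ hy.W) (hb : b ∈ hy.W) : a * b = b * a :=
  hy.comm_W_L ha (hy.W_le_L hb)

/-- a central "commutator" of an element of `W ∖ Z` is trivial. -/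
theorem central_comm_trivial {b t z : G} (hbW : b ∈ hy.W) (hbZ : b ∉ center G)
    (hz : z ∈ center G) (e : t * b * t⁻¹ = b * z) : z = 1 := by
  have hzc : ∀ g : G, g * z = z * g := Subgroup.mem_center_iff.mp hz
  -- order of z divides cs b
  have d1 : orderOf z ∣ cs x := by
    rw [← hy.cs_eq_n hbW hbZ, ← card_cl, ← Nat.card_zpowers]
    apply card_dvd_of_stable
    have hzs : z ∈ stab b := by
      rw [mem_stab]
      rintro h ⟨s, rfl⟩
      refine ⟨s * t, ?_⟩
      calc s * t * b * (s * t)⁻¹ = s * (t * b * t⁻¹) * s⁻¹ := by group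
        _ = s * (b * z) * s⁻¹ := by rw [e]
        _ = s * b * (z * s⁻¹) := by group
        _ = s * b * (s⁻¹ * z) := by rw [hzc]
        _ = (s * b * s⁻¹) * z := by group
        _ = z * (s * b * s⁻¹) := by rw [hzc]
    intro n hn s hs
    exact (zpowers_le.mpr hzs hn) s hs
  -- z ^ ℓ = 1
  set ℓ := (center G).relIndex (centralizer ({b} : Set G)) with hℓ
  have hbℓ : b ^ ℓ ∈ center G := by
    have h1 := Subgroup.pow_index_mem ((center G).subgroupOf (centralizer ({b} : Set G)))
      (⟨b, self_mem_cent b⟩ : centralizer ({b} : Set G))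
    rw [mem_subgroupOf] at h1
    rw [hℓ, Subgroup.relIndex]
    simpa using h1
  have hconj : t * b ^ ℓ * t⁻¹ = b ^ ℓ * z ^ ℓ := by
    have h1 : t * b ^ ℓ * t⁻¹ = (t * b * t⁻¹) ^ ℓ := by
      have := map_pow (MulAut.conj t) b ℓ
      simpa [MulAut.conj_apply] using this
    have hcomm : Commute b z := (hzc b)
    rw [h1, e, hcomm.mul_pow]
  have hfix : t * b ^ ℓ * t⁻¹ = b ^ ℓ := by
    have := Subgroup.mem_center_iff.mp hbℓ t
    calc t * b ^ ℓ * t⁻¹ = b ^ ℓ * t * t⁻¹ := by rw [this]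
      _ = b ^ ℓ := by group
  have hzℓ : z ^ ℓ = 1 := by
    rw [hfix] at hconj
    have h0 : b ^ ℓ * 1 = b ^ ℓ * z ^ ℓ := by rw [mul_one]; exact hconj
    exact (mul_left_cancel h0).symm
  have d2 : orderOf z ∣ ℓ := orderOf_dvd_of_pow_eq_one hzℓ
  have := Nat.eq_one_of_dvd_coprimes (hy.coprime_relIndex_center hbW hbZ) d2 d1
  exact orderOf_eq_one_iff.mp this

theorem prim_LW {g c : G} (hgL : g ∈ centralizer ({x} : Set G)) (hgW : g ∉ hy.W) {p k : ℕ}
    (hp : p.Prime) (hgo : orderOf g = p ^ k) (hcW : c ∈ hy.W) (hcZ : c ∉ center G) {q j : ℕ}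
    (hq : q.Prime) (hco : orderOf c = q ^ j) : p = q := by
  by_contra hne
  have hcomm : Commute g c := (hy.comm_W_L hcW hgL).symm
  have hcop : (orderOf g).Coprime (orderOf c) := by
    rw [hgo, hco]; exact Nat.Coprime.pow _ _ ((Nat.coprime_primes hp hq).mpr hne)
  have hC := centralizer_mul_eq_inf hcomm hcop
  exact hy.mix (hy.P_of_not_mem_W hgW) (hy.Q_of_mem_W hcW hcZ)
    (cs_dvd_of_le (by rw [hC]; exact inf_le_left)) (cs_dvd_of_le (by rw [hC]; exact inf_le_right))

end

end Hyp

end Cfsg.Agent.Lib.Helper17.CG
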