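import Mathlib
import Cfsg.Agent.Lib.Helper17.CGMain

/-!
Bertram–Herzog–Mann structure theorem, second part: `C(x) = W` (helper17).
-/

set_option autoImplicit false

namespace Cfsg.Agent.Lib.Helper17.CG

open Subgroup
open scoped Pointwise

theorem mem_smul_sylow {G : Type*} [Group G] {q : ℕ} [Fact q.Prime] (P : Sylow q G) (s v : G) :
    v ∈ ((s • P : Sylow q G) : Subgroup G) ↔ s⁻¹ * v * s ∈ (P : Subgroup G) := by
  rw [Sylow.smul_def]
  show v ∈ MulAut.conj s • (P : Subgroup G) ↔ _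
  rw [Subgroup.mem_pointwise_smul_iff_inv_smul_mem]
  simp [MulAut.smul_def]

namespace Hyp

variable {G : Type*} [Group G] [Finite G] {Pn Qn : ℕ → Prop} {x y : G}

section
variable (hy : Hyp G Pn Qn x y)
include hy

theorem cent_le_W : centralizer ({x} : Set G) ≤ hy.W := by
  by_contra hnot
  obtain ⟨g₀, hg₀L, hg₀W⟩ := SetLike.not_le_iff_exists.mp hnot
  have hxW := hy.x_mem_W
  have hxZ := hy.x_not_center
  haveI hLn : (centralizer ({x} : Set G)).Normal := hy.cent_normal hxW hxZ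
  obtain ⟨p, g₁, hp, hg₁, hg₁W, k₁, hg₁o⟩ := exists_primary_not_mem' hy.W hg₀W
  have hg₁L : g₁ ∈ (centralizer ({x} : Set G)) := (zpowers_le.mpr hg₀L) hg₁
  obtain ⟨q, c, hq, hc, hcZ, j, hco⟩ := exists_primary_not_mem' (center G) hxZ
  have hcW : c ∈ hy.W := (zpowers_le.mpr hxW) hc
  haveI := Fact.mk hq
  -- L/W is a q-group
  have hPG : IsPGroup q ((centralizer ({x} : Set G)) ⧸ hy.W.subgroupOf (centralizer ({x} : Set G))) := by
    intro z
    obtain ⟨l, rfl⟩ := QuotientGroup.mk_surjective z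
    obtain ⟨a, b', ha, hb', hab, ⟨k, hak⟩, hbc⟩ :=
      Cfsg.Agent.Lib.Helper2.exists_p_decomp (l : G) q hq
    have hb'W : b' ∈ hy.W := by
      by_contra hb'W
      obtain ⟨p', g', hp', hg', hg'W, k', hg'o⟩ := exists_primary_not_mem' hy.W hb'W
      have hg'L : g' ∈ (centralizer ({x} : Set G)) := (zpowers_le.mpr ((zpowers_le.mpr l.2) hb')) hg'
      have e : p' = q := hy.prim_LW hg'L hg'W hp' hg'o hcW hcZ hq hco
      have hd : orderOf g' ∣ orderOf b' := orderOf_dvd_of_mem_zpowers hg'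
      have hg'1 : g' ≠ 1 := by rintro rfl; exact hg'W (one_mem _)
      have hk' : k' ≠ 0 := by
        rintro rfl
        rw [pow_zero] at hg'o
        exact hg'1 (orderOf_eq_one_iff.mp hg'o)
      have h3 : q ∣ orderOf b' := by
        rw [← e]
        exact (dvd_pow_self p' hk').trans (hg'o ▸ hd)
      exact hq.one_lt.ne' (Nat.Coprime.eq_one_of_dvd hbc.symm h3)
    refine ⟨k, ?_⟩
    rw [← QuotientGroup.mk_pow, QuotientGroup.eq_one_iff, mem_subgroupOf]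
    have hcomm : Commute a b' := by
      obtain ⟨i, rfl⟩ := mem_zpowers_iff.mp ha
      obtain ⟨i', rfl⟩ := mem_zpowers_iff.mp hb'
      exact ((Commute.refl (l : G)).zpow_right i').zpow_left i
    have hak' : a ^ q ^ k = 1 := orderOf_dvd_iff_pow_eq_one.mp hak
    have e : ((l ^ q ^ k : (centralizer ({x} : Set G))) : G) = b' ^ q ^ k := by
      rw [Subgroup.coe_pow]
      conv_lhs => rw [hab]
      rw [hcomm.mul_pow, hak', one_mul]
    rw [e]
    exact Subgroup.pow_mem _ hb'W _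
  haveI hnt : Nontrivial ((centralizer ({x} : Set G)) ⧸ hy.W.subgroupOf (centralizer ({x} : Set G))) := by
    refine ⟨⟨QuotientGroup.mk ⟨g₁, hg₁L⟩, 1, ?_⟩⟩
    rw [Ne, QuotientGroup.eq_one_iff, mem_subgroupOf]
    exact hg₁W
  haveI := IsPGroup.center_nontrivial hPG
  obtain ⟨⟨z, hz⟩, hz1⟩ := exists_ne (1 : center ((centralizer ({x} : Set G)) ⧸ hy.W.subgroupOf (centralizer ({x} : Set G))))
  obtain ⟨⟨g₂, hg₂L⟩, rfl⟩ := QuotientGroup.mk_surjective z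
  have hg₂W : g₂ ∉ hy.W := by
    intro h
    apply hz1
    apply Subtype.ext
    show (QuotientGroup.mk ⟨g₂, hg₂L⟩ : (centralizer ({x} : Set G)) ⧸ hy.W.subgroupOf (centralizer ({x} : Set G))) = 1
    rw [QuotientGroup.eq_one_iff, mem_subgroupOf]; exact h
  have hψW : ∀ l ∈ (centralizer ({x} : Set G)), l * g₂ * l⁻¹ * g₂⁻¹ ∈ hy.W := by
    intro l hl
    have h1 := Subgroup.mem_center_iff.mp hz (QuotientGroup.mk ⟨l, hl⟩)
    have h2 : (QuotientGroup.mk ((⟨l, hl⟩ : (centralizer ({x} : Set G))) * ⟨g₂, hg₂L⟩ * (⟨l, hl⟩ : (centralizer ({x} : Set G)))⁻¹ * (⟨g₂, hg₂L⟩ : (centralizer ({x} : Set G)))⁻¹) :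
        (centralizer ({x} : Set G)) ⧸ hy.W.subgroupOf (centralizer ({x} : Set G))) = 1 := by
      simp only [QuotientGroup.mk_mul, QuotientGroup.mk_inv]
      rw [h1]; group
    rw [QuotientGroup.eq_one_iff, mem_subgroupOf] at h2
    simpa using h2
  have hPg₂ := hy.P_of_not_mem_W hg₂W
  have hψZ : ∀ l ∈ (centralizer ({x} : Set G)), l * g₂ * l⁻¹ * g₂⁻¹ ∈ center G := by
    intro l hl
    by_cases hlW : l ∈ hy.W
    · have h1 : l * g₂ = g₂ * l := hy.comm_W_L hlW hg₂L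
      have e : l * g₂ * l⁻¹ * g₂⁻¹ = 1 := by rw [h1]; group
      rw [e]; exact one_mem _
    · have hPl := hy.P_of_not_mem_W hlW
      by_contra hψ
      have hψW' := hψW l hl
      obtain ⟨q', hq', hq'n⟩ := Nat.exists_prime_and_dvd (hy.Q_ne_one hy.hxQ)
      haveI := Fact.mk hq'
      have hnl : ¬ q' ∣ cs l := fun h =>
        hq'.one_lt.ne' (Nat.eq_one_of_dvd_coprimes (hy.h2 _ _ hPl hy.hxQ) h hq'n)
      have hng : ¬ q' ∣ cs g₂ := fun h =>
        hq'.one_lt.ne' (Nat.eq_one_of_dvd_coprimes (hy.h2 _ _ hPg₂ hy.hxQ) h hq'n)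
      obtain ⟨Q₁, hQ₁⟩ := exists_sylow_le_of_not_dvd_index (centralizer ({l} : Set G)) hnl
      obtain ⟨Q₂, hQ₂⟩ := exists_sylow_le_of_not_dvd_index (centralizer ({g₂} : Set G)) hng
      obtain ⟨s, hs⟩ := MulAction.exists_smul_eq G Q₂ Q₁
      obtain ⟨h₁, hh₁, l₁, hl₁, es⟩ := exists_mul_of_coprime_index (centralizer ({x} : Set G))
        (centralizer ({l} : Set G)) (hy.h2 _ _ hPl hy.hxQ).symm s
      have hQ₄ : ((l₁ • Q₂ : Sylow q' G) : Subgroup G) ≤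
          centralizer ({l * g₂ * l⁻¹ * g₂⁻¹} : Set G) := by
        intro v hv
        rw [mem_smul_sylow] at hv
        have hv' : v = l₁ * (l₁⁻¹ * v * l₁) * l₁⁻¹ := by group
        have h1 : h₁ * v * h₁⁻¹ ∈ (Q₁ : Subgroup G) := by
          rw [← hs, mem_smul_sylow, es]
          have e : (h₁ * l₁)⁻¹ * (h₁ * v * h₁⁻¹) * (h₁ * l₁) = l₁⁻¹ * v * l₁ := by group
          rw [e]; exact hv
        have h2 : h₁ * v * h₁⁻¹ ∈ centralizer ({l} : Set G) := hQ₁ h1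
        have hvl : v ∈ centralizer ({l} : Set G) := by
          have h3 := mul_mem (mul_mem (inv_mem hh₁) h2) hh₁
          have e : h₁⁻¹ * (h₁ * v * h₁⁻¹) * h₁ = v := by group
          rwa [e] at h3
        have hug : l₁⁻¹ * v * l₁ ∈ centralizer ({g₂} : Set G) := hQ₂ hv
        rw [mem_cent_iff] at hvl hug ⊢
        have hwW : l₁ * g₂ * l₁⁻¹ * g₂⁻¹ ∈ hy.W := hψW l₁ hl₁
        have hg'' : l₁ * g₂ * l₁⁻¹ = (l₁ * g₂ * l₁⁻¹ * g₂⁻¹) * g₂ := by group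
        have hvg'' : v * ((l₁ * g₂ * l₁⁻¹ * g₂⁻¹) * g₂) = ((l₁ * g₂ * l₁⁻¹ * g₂⁻¹) * g₂) * v := by
          rw [← hg'']
          calc v * (l₁ * g₂ * l₁⁻¹) = l₁ * ((l₁⁻¹ * v * l₁) * g₂) * l₁⁻¹ := by group
            _ = l₁ * (g₂ * (l₁⁻¹ * v * l₁)) * l₁⁻¹ := by rw [hug]
            _ = l₁ * g₂ * l₁⁻¹ * v := by group
        have hwl : (l₁ * g₂ * l₁⁻¹ * g₂⁻¹) * l = l * (l₁ * g₂ * l₁⁻¹ * g₂⁻¹) :=
          hy.comm_W_L hwW hl
        have hwψ : (l₁ * g₂ * l₁⁻¹ * g₂⁻¹) * (l * g₂ * l⁻¹ * g₂⁻¹) =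
            (l * g₂ * l⁻¹ * g₂⁻¹) * (l₁ * g₂ * l₁⁻¹ * g₂⁻¹) := hy.W_comm hwW hψW'
        generalize l₁ * g₂ * l₁⁻¹ * g₂⁻¹ = w at hvg'' hwl hwψ
        have eψ : l * g₂ * l⁻¹ * g₂⁻¹ = l * (w * g₂) * l⁻¹ * (w * g₂)⁻¹ := by
          have h4 : l * (w * g₂) * l⁻¹ * (w * g₂)⁻¹ = w * (l * g₂ * l⁻¹ * g₂⁻¹) * w⁻¹ := by
            calc l * (w * g₂) * l⁻¹ * (w * g₂)⁻¹ = (l * w) * g₂ * l⁻¹ * g₂⁻¹ * w⁻¹ := by group
              _ = (w * l) * g₂ * l⁻¹ * g₂⁻¹ * w⁻¹ := by rw [hwl]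
              _ = w * (l * g₂ * l⁻¹ * g₂⁻¹) * w⁻¹ := by group
          rw [h4, hwψ]; group
        rw [eψ]
        have c1 : Commute v l := hvl
        have c2 : Commute v (w * g₂) := hvg''
        exact (((c1.mul_right c2).mul_right c1.inv_right).mul_right c2.inv_right).eq
      have hcs : cs (l * g₂ * l⁻¹ * g₂⁻¹) = cs x := hy.cs_eq_n hψW' hψ
      have hd : cs (l * g₂ * l⁻¹ * g₂⁻¹) ∣ ((l₁ • Q₂ : Sylow q' G) : Subgroup G).index :=
        Subgroup.index_dvd_of_le hQ₄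
      rw [hcs] at hd
      exact (l₁ • Q₂ : Sylow q' G).not_dvd_index (hq'n.trans hd)
  -- final contradiction via `x * g₂`
  have hC : centralizer ({x * g₂} : Set G) ≤ (centralizer ({x} : Set G)) ⊓ centralizer ({g₂} : Set G) := by
    intro t ht
    rw [mem_cent_iff] at ht
    obtain ⟨l, hl, h, hh, et⟩ := exists_mul_of_coprime_index (centralizer ({g₂} : Set G)) (centralizer ({x} : Set G))
      (hy.h2 _ _ hPg₂ hy.hxQ) t
    have hgh : h * g₂ * h⁻¹ = g₂ := by rw [mem_cent_iff] at hh; rw [hh]; group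
    have hzZ : l * g₂ * l⁻¹ * g₂⁻¹ ∈ center G := hψZ l hl
    have e1 : t * g₂ * t⁻¹ = (l * g₂ * l⁻¹ * g₂⁻¹) * g₂ := by
      rw [et]
      calc l * h * g₂ * (l * h)⁻¹ = l * (h * g₂ * h⁻¹) * l⁻¹ := by group
        _ = l * g₂ * l⁻¹ := by rw [hgh]
        _ = (l * g₂ * l⁻¹ * g₂⁻¹) * g₂ := by group
    generalize l * g₂ * l⁻¹ * g₂⁻¹ = z at hzZ e1
    have e2 : t * x * t⁻¹ = x * z⁻¹ := by
      have h1 : t * (x * g₂) * t⁻¹ = x * g₂ := by rw [ht]; group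
      have h2 : t * (x * g₂) * t⁻¹ = (t * x * t⁻¹) * (t * g₂ * t⁻¹) := by group
      rw [h2, e1] at h1
      calc t * x * t⁻¹ = (t * x * t⁻¹) * (z * g₂) * (z * g₂)⁻¹ := by group
        _ = x * g₂ * (z * g₂)⁻¹ := by rw [h1]
        _ = x * z⁻¹ := by group
    have hz1 : z⁻¹ = 1 := hy.central_comm_trivial hxW hxZ (inv_mem hzZ) e2
    have hz1' : z = 1 := inv_eq_one.mp hz1
    refine Subgroup.mem_inf.mpr ⟨?_, ?_⟩
    · rw [mem_cent_iff]
      rw [hz1, mul_one] at e2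
      calc t * x = t * x * t⁻¹ * t := by group
        _ = x * t := by rw [e2]
    · rw [mem_cent_iff]
      rw [hz1', one_mul] at e1
      calc t * g₂ = t * g₂ * t⁻¹ * t := by group
        _ = g₂ * t := by rw [e1]
  exact hy.mix hPg₂ hy.hxQ (cs_dvd_of_le (hC.trans inf_le_right))
    (cs_dvd_of_le (hC.trans inf_le_left))

theorem W_eq_L : hy.W = centralizer ({x} : Set G) := le_antisymm hy.W_le_L hy.cent_le_W

theorem W_index : hy.W.index = cs x := by rw [hy.W_eq_L]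

theorem coprime_index : (hy.W.index).Coprime ((center G).relIndex hy.W) := by
  rw [hy.W_index]
  have := hy.coprime_relIndex_center hy.x_mem_W hy.x_not_center
  rw [← hy.W_eq_L] at this
  exact this.symm

theorem fpf {g b : G} (hg : g ∉ hy.W) (hb : b ∈ hy.W)
    (hz : g * b * g⁻¹ * b⁻¹ ∈ center G) : b ∈ center G := by
  by_contra hbZ
  have hzc := Subgroup.mem_center_iff.mp hz
  have e : g * b * g⁻¹ = b * (g * b * g⁻¹ * b⁻¹) := by
    rw [hzc b]; group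
  have h1 := hy.central_comm_trivial hb hbZ hz e
  apply hg
  rw [hy.W_eq_L, ← hy.cent_eq hb hbZ, mem_cent_iff]
  calc g * b = (g * b * g⁻¹ * b⁻¹) * b * g := by group
    _ = b * g := by rw [h1, one_mul]

theorem comm_mem_W (g t : G) : g * t * g⁻¹ * t⁻¹ ∈ hy.W := by
  by_cases hg : g ∈ hy.W
  · have h1 : t * g⁻¹ * t⁻¹ ∈ hy.W := hy.W_normal.conj_mem _ (inv_mem hg) t
    have := mul_mem hg h1
    have e : g * (t * g⁻¹ * t⁻¹) = g * t * g⁻¹ * t⁻¹ := by group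
    rwa [e] at this
  · have hP := hy.P_of_not_mem_W hg
    have hcop : (cs g).Coprime hy.W.index := by
      rw [hy.W_index]; exact hy.h2 _ _ hP hy.hxQ
    obtain ⟨w, hw, c, hc, et⟩ := exists_mul_of_coprime_index (centralizer ({g} : Set G)) hy.W hcop t
    rw [mem_cent_iff] at hc
    have hcg : c * g⁻¹ * c⁻¹ = g⁻¹ := by
      calc c * g⁻¹ * c⁻¹ = g⁻¹ * (g * c) * g⁻¹ * c⁻¹ := by group
        _ = g⁻¹ * (c * g) * g⁻¹ * c⁻¹ := by rw [hc]
        _ = g⁻¹ := by group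
    have e : g * t * g⁻¹ * t⁻¹ = (g * w * g⁻¹) * w⁻¹ := by
      rw [et]
      calc g * (w * c) * g⁻¹ * (w * c)⁻¹ = g * w * (c * g⁻¹ * c⁻¹) * w⁻¹ := by group
        _ = g * w * g⁻¹ * w⁻¹ := by rw [hcg]
    rw [e]
    exact mul_mem (hy.W_normal.conj_mem _ hw g) (inv_mem hw)

end

end Hyp

/-- The structure theorem. -/
theorem structure_thm {G : Type*} [Group G] [Finite G] {Pn Qn : ℕ → Prop} {x y : G}
    (hy : Hyp G Pn Qn x y) :
    ∃ W : Subgroup G, W.Normal ∧ center G ≤ W ∧ W ≠ ⊤ ∧ ¬ W ≤ center G ∧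
      (∀ a ∈ W, ∀ b ∈ W, a * b = b * a) ∧ (W.index).Coprime ((center G).relIndex W) ∧
      (∀ g t : G, g * t * g⁻¹ * t⁻¹ ∈ W) ∧
      (∀ g : G, g ∉ W → ∀ b ∈ W, g * b * g⁻¹ * b⁻¹ ∈ center G → b ∈ center G) := by
  refine ⟨hy.W, hy.W_normal, hy.center_le_W, ?_, ?_, ?_, hy.coprime_index, hy.comm_mem_W, ?_⟩
  · intro h
    exact hy.y_not_mem_W (h ▸ Subgroup.mem_top y)
  · intro h
    exact hy.x_not_center (h hy.x_mem_W)
  · intro a ha b hb
    exact hy.W_comm ha hb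
  · intro g hg b hb hz
    exact hy.fpf hg hb hz

end Cfsg.Agent.Lib.Helper17.CG
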