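import Mathlib
import Cfsg.Prelude.Def_Solvable
import Cfsg.Agent.Lib.Helper17.CGMain2

/-!
From the structure theorem to the Frobenius conclusion in `G / Z(G)` (helper17).
-/

set_option autoImplicit false

namespace Cfsg.Agent.Lib.Helper17.CG

open Subgroup
open scoped Pointwise

theorem frobenius_of_structure {G : Type*} [Group G] [Finite G] (W : Subgroup G)
    [hWn : W.Normal] (hZW : center G ≤ W) (hWtop : W ≠ ⊤) (hWZ : ¬ W ≤ center G)
    (hab : ∀ a ∈ W, ∀ b ∈ W, a * b = b * a)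
    (hcop : (W.index).Coprime ((center G).relIndex W))
    (hder : ∀ g t : G, g * t * g⁻¹ * t⁻¹ ∈ W)
    (hfpf : ∀ g : G, g ∉ W → ∀ b ∈ W, g * b * g⁻¹ * b⁻¹ ∈ center G → b ∈ center G) :
    ∃ H : Subgroup (G ⧸ center G), Cfsg.IsFrobeniusComplement H ∧ IsMulCommutative H ∧
      ∀ x ∈ Cfsg.frobeniusKernel H, ∀ y ∈ Cfsg.frobeniusKernel H, x * y = y * x := by
  set π := QuotientGroup.mk' (center G) with hπ
  have hπs : Function.Surjective π := QuotientGroup.mk'_surjective _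
  have hker : π.ker = center G := QuotientGroup.ker_mk' _
  set Wb := W.map π with hWb
  haveI hWbn : Wb.Normal := Subgroup.Normal.map hWn π hπs
  have hmemWb : ∀ g : G, π g ∈ Wb ↔ g ∈ W := by
    intro g
    constructor
    · rintro ⟨w, hw, e⟩
      have h1 : w⁻¹ * g ∈ center G := by
        rw [← hker, MonoidHom.mem_ker, map_mul, map_inv, e, inv_mul_cancel]
      have := mul_mem hw (hZW h1)
      rwa [mul_inv_cancel_left] at this
    · intro hg
      exact ⟨g, hg, rfl⟩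
  have hcardWb : Nat.card Wb = (center G).relIndex W := by
    have h0 := Subgroup.relIndex_ker (K := W) π
    rw [hker] at h0
    exact h0.symm
  have hidxWb : Wb.index = W.index :=
    Subgroup.index_map_eq _ hπs (by rw [hker]; exact hZW)
  obtain ⟨H, hc⟩ := Subgroup.exists_right_complement'_of_coprime (N := Wb)
    (by rw [hcardWb, hidxWb]; exact hcop.symm)
  have hdisj : ∀ k, k ∈ Wb → k ∈ H → k = 1 := by
    intro k h1 h2
    have := hc.disjoint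
    rw [disjoint_iff] at this
    have h3 : k ∈ Wb ⊓ H := ⟨h1, h2⟩
    rw [this, Subgroup.mem_bot] at h3
    exact h3
  have hfac : ∀ k : G ⧸ center G, ∃ w ∈ Wb, ∃ h ∈ H, k = w * h := by
    intro k
    obtain ⟨⟨⟨w, hw⟩, ⟨h, hh⟩⟩, e⟩ := hc.2 k
    exact ⟨w, hw, h, hh, e.symm⟩
  -- fixed point freeness in the quotient
  have hfpfb : ∀ w ∈ Wb, ∀ h, h ∉ Wb → h * w = w * h → w = 1 := by
    rintro _ ⟨b, hb, rfl⟩ h hh hcm
    obtain ⟨g, rfl⟩ := hπs h
    have hg : g ∉ W := fun h' => hh ((hmemWb g).mpr h')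
    have h1 : g * b * g⁻¹ * b⁻¹ ∈ center G := by
      rw [← hker, MonoidHom.mem_ker]
      simp only [map_mul, map_inv]
      rw [hcm]; group
    have := hfpf g hg b hb h1
    rw [← hker, MonoidHom.mem_ker] at this
    exact this
  refine ⟨H, ⟨?_, ?_, ?_⟩, ?_, ?_⟩
  · -- H ≠ ⊥
    intro hH
    apply hWtop
    rw [eq_top_iff]
    intro g _
    rw [← hmemWb]
    obtain ⟨w, hw, h, hh, e⟩ := hfac (π g)
    rw [hH, Subgroup.mem_bot] at hh
    rw [e, hh, mul_one]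
    exact hw
  · -- H ≠ ⊤
    intro hH
    apply hWZ
    intro w hw
    have h1 : π w ∈ Wb := (hmemWb w).mpr hw
    have h2 := hdisj _ h1 (by rw [hH]; exact Subgroup.mem_top _)
    rw [← hker, MonoidHom.mem_ker]
    exact h2
  · -- Frobenius property
    intro g hg
    rw [eq_bot_iff]
    intro k hk
    obtain ⟨hk1, hk2⟩ := Subgroup.mem_inf.mp hk
    rw [Subgroup.mem_bot]
    rw [Subgroup.mem_pointwise_smul_iff_inv_smul_mem] at hk2
    have hk2' : g⁻¹ * k * g ∈ H := by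
      simpa [MulAut.smul_def] using hk2
    obtain ⟨w, hw, h₀, hh₀, e⟩ := hfac g
    have hw1 : w ≠ 1 := by
      rintro rfl
      rw [one_mul] at e
      exact hg (e ▸ hh₀)
    -- h' := h₀ (g⁻¹ k g) h₀⁻¹ = w⁻¹ k w
    have hh' : w⁻¹ * k * w ∈ H := by
      have := mul_mem (mul_mem hh₀ hk2') (inv_mem hh₀)
      have e2 : h₀ * (g⁻¹ * k * g) * h₀⁻¹ = w⁻¹ * k * w := by
        rw [e]; group
      rwa [e2] at this
    have h3 : k * (w⁻¹ * k * w)⁻¹ ∈ H := mul_mem hk1 (inv_mem hh')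
    have h4 : k * (w⁻¹ * k * w)⁻¹ ∈ Wb := by
      have h5 : k * w⁻¹ * k⁻¹ ∈ Wb := hWbn.conj_mem _ (inv_mem hw) k
      have := mul_mem h5 hw
      have e2 : k * w⁻¹ * k⁻¹ * w = k * (w⁻¹ * k * w)⁻¹ := by group
      rwa [e2] at this
    have h5 := hdisj _ h4 h3
    -- so k = w⁻¹ k w, i.e. k commutes with w
    have h6 : k * w = w * k := by
      have : k = w⁻¹ * k * w := by
        have := mul_inv_eq_one.mp h5
        exact this
      calc k * w = w * (w⁻¹ * k * w) := by group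
        _ = w * k := by rw [← this]
    by_contra hk
    have hkW : k ∉ Wb := fun h => hk (hdisj _ h hk1)
    exact hw1 (hfpfb w hw k hkW h6)
  · -- H commutative
    refine ⟨⟨?_⟩⟩
    rintro ⟨a, ha⟩ ⟨b, hb⟩
    apply Subtype.ext
    show a * b = b * a
    obtain ⟨g₁, rfl⟩ := hπs a
    obtain ⟨g₂, rfl⟩ := hπs b
    have h1 : π g₁ * π g₂ * (π g₁)⁻¹ * (π g₂)⁻¹ ∈ Wb := by
      have := (hmemWb _).mpr (hder g₁ g₂)
      simpa only [map_mul, map_inv] using this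
    have h2 : π g₁ * π g₂ * (π g₁)⁻¹ * (π g₂)⁻¹ ∈ H :=
      mul_mem (mul_mem (mul_mem ha hb) (inv_mem ha)) (inv_mem hb)
    have h3 := hdisj _ h1 h2
    calc π g₁ * π g₂ = (π g₁ * π g₂ * (π g₁)⁻¹ * (π g₂)⁻¹) * π g₂ * π g₁ := by group
      _ = π g₂ * π g₁ := by rw [h3, one_mul]
  · -- the kernel lies in Wb
    have hkerW : ∀ k ∈ Cfsg.frobeniusKernel H, k ∈ Wb := by
      intro k hk
      rcases hk with rfl | hk
      · exact one_mem _
      · by_contra hkW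
        obtain ⟨w, hw, h, hh, e⟩ := hfac k
        have hhW : h ∉ Wb := by
          intro hhW
          apply hkW
          rw [e]
          exact mul_mem hw hhW
        let ψ : Wb → Wb := fun t => ⟨t.1 * h * t.1⁻¹ * h⁻¹, by
          have h5 : h * t.1⁻¹ * h⁻¹ ∈ Wb := hWbn.conj_mem _ (inv_mem t.2) h
          have := mul_mem t.2 h5
          have e2 : t.1 * (h * t.1⁻¹ * h⁻¹) = t.1 * h * t.1⁻¹ * h⁻¹ := by group
          rwa [e2] at this⟩
        have hinj : Function.Injective ψ := by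
          intro t s hts
          have h1 : t.1 * h * t.1⁻¹ * h⁻¹ = s.1 * h * s.1⁻¹ * h⁻¹ := congrArg Subtype.val hts
          have h2 : h * (s.1⁻¹ * t.1) = (s.1⁻¹ * t.1) * h := by
            have h3 : t.1 * h * t.1⁻¹ = s.1 * h * s.1⁻¹ := mul_right_cancel h1
            calc h * (s.1⁻¹ * t.1) = s.1⁻¹ * (s.1 * h * s.1⁻¹) * t.1 := by group
              _ = s.1⁻¹ * (t.1 * h * t.1⁻¹) * t.1 := by rw [h3]
              _ = (s.1⁻¹ * t.1) * h := by group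
          have h4 := hfpfb (s.1⁻¹ * t.1) (mul_mem (inv_mem s.2) t.2) h hhW h2
          apply Subtype.ext
          have := inv_mul_eq_one.mp h4
          exact this.symm
        obtain ⟨t, ht⟩ := Finite.surjective_of_injective hinj ⟨w, hw⟩
        have h1 : t.1 * h * t.1⁻¹ * h⁻¹ = w := congrArg Subtype.val ht
        apply hk t.1
        rw [Subgroup.mem_pointwise_smul_iff_inv_smul_mem]
        have e3 : t.1⁻¹ * k * t.1 = h := by
          rw [e, ← h1]; group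
        have : (MulAut.conj t.1)⁻¹ • k = t.1⁻¹ * k * t.1 := by
          simp [MulAut.smul_def]
        rw [this, e3]
        exact hh
    intro a ha b hb
    obtain ⟨a', ha', rfl⟩ := hkerW a ha
    obtain ⟨b', hb', rfl⟩ := hkerW b hb
    rw [← map_mul, ← map_mul, hab a' ha' b' hb']

/-- Bertram–Herzog–Mann: two mutually coprime families of class sizes. -/
theorem bhm {G : Type*} [Group G] [Finite G] (Pn Qn : ℕ → Prop)
    (h1 : ∀ g : G, cs g ≠ 1 → Pn (cs g) ∨ Qn (cs g))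
    (h2 : ∀ k l : ℕ, Pn k → Qn l → Nat.Coprime k l)
    (hP1 : ¬ Pn 1) (hQ1 : ¬ Qn 1) (exP : ∃ g : G, Pn (cs g)) (exQ : ∃ g : G, Qn (cs g)) :
    ∃ H : Subgroup (G ⧸ center G), Cfsg.IsFrobeniusComplement H ∧ IsMulCommutative H ∧
      ∀ x ∈ Cfsg.frobeniusKernel H, ∀ y ∈ Cfsg.frobeniusKernel H, x * y = y * x := by
  -- an element of maximal class size
  obtain ⟨y, hymax⟩ := Finite.exists_max (fun g : G => cs g)
  -- max among P and Q
  have hmaxP : ∃ x : G, Pn (cs x) ∧ ∀ g : G, Pn (cs g) → cs g ≤ cs x := by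
    obtain ⟨g₀, hg₀⟩ := exP
    haveI : Nonempty {g : G // Pn (cs g)} := ⟨⟨g₀, hg₀⟩⟩
    obtain ⟨⟨x, hx⟩, hxmax⟩ := Finite.exists_max (fun g : {g : G // Pn (cs g)} => cs g.1)
    exact ⟨x, hx, fun g hg => hxmax ⟨g, hg⟩⟩
  have hmaxQ : ∃ x : G, Qn (cs x) ∧ ∀ g : G, Qn (cs g) → cs g ≤ cs x := by
    obtain ⟨g₀, hg₀⟩ := exQ
    haveI : Nonempty {g : G // Qn (cs g)} := ⟨⟨g₀, hg₀⟩⟩
    obtain ⟨⟨x, hx⟩, hxmax⟩ := Finite.exists_max (fun g : {g : G // Qn (cs g)} => cs g.1)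
    exact ⟨x, hx, fun g hg => hxmax ⟨g, hg⟩⟩
  have hy1 : cs y ≠ 1 := by
    obtain ⟨g₀, hg₀⟩ := exP
    intro e
    have h3 := hymax g₀
    have h4 : cs g₀ = 1 := le_antisymm (by simpa [e] using h3) (cs_pos g₀)
    exact hP1 (h4 ▸ hg₀)
  have key : ∀ (Pn Qn : ℕ → Prop) (x y : G), Hyp G Pn Qn x y →
      ∃ H : Subgroup (G ⧸ center G), Cfsg.IsFrobeniusComplement H ∧ IsMulCommutative H ∧
        ∀ x ∈ Cfsg.frobeniusKernel H, ∀ y ∈ Cfsg.frobeniusKernel H, x * y = y * x := by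
    intro Pn Qn x y hy
    obtain ⟨W, hWn, h1, h2, h3, h4, h5, h6, h7⟩ := structure_thm hy
    exact frobenius_of_structure W h1 h2 h3 h4 h5 h6 h7
  rcases h1 y hy1 with hyP | hyQ
  · obtain ⟨x, hxQ, hxmax⟩ := hmaxQ
    exact key Pn Qn x y ⟨h1, h2, hP1, hQ1, hyP, hymax, hxQ, hxmax⟩
  · obtain ⟨x, hxP, hxmax⟩ := hmaxP
    exact key Qn Pn x y ⟨fun g hg => (h1 g hg).symm, fun k l hk hl => (h2 l k hl hk).symm,
      hQ1, hP1, hyQ, hymax, hxP, hxmax⟩

end Cfsg.Agent.Lib.Helper17.CG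

namespace Cfsg.Agent.Lib.Helper17.CG

open Subgroup

/-- the prime graph form. -/
theorem bhm_primes {G : Type*} [Group G] [Finite G] (S : Set ℕ)
    (hS : ∃ p ∈ S, (p.Prime ∧ ∃ g : G, p ∣ (Subgroup.centralizer ({g} : Set G)).index))
    (hS' : ∃ q ∉ S, (q.Prime ∧ ∃ g : G, q ∣ (Subgroup.centralizer ({g} : Set G)).index))
    (hdisc : ∀ p q : ℕ, (p.Prime ∧ ∃ g : G, p ∣ (Subgroup.centralizer ({g} : Set G)).index) →
      (q.Prime ∧ ∃ g : G, q ∣ (Subgroup.centralizer ({g} : Set G)).index) → p ∈ S → q ∉ S →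
      ¬ (∃ g : G, p * q ∣ (Subgroup.centralizer ({g} : Set G)).index)) :
    ∃ H : Subgroup (G ⧸ Subgroup.center G), Cfsg.IsFrobeniusComplement H ∧ IsMulCommutative H ∧
      ∀ x ∈ Cfsg.frobeniusKernel H, ∀ y ∈ Cfsg.frobeniusKernel H, x * y = y * x := by
  apply bhm (fun k => ∃ g : G, cs g = k ∧ ∃ p : ℕ, p.Prime ∧ p ∈ S ∧ p ∣ k)
    (fun k => ∃ g : G, cs g = k ∧ ∃ q : ℕ, q.Prime ∧ q ∉ S ∧ q ∣ k)
  · intro g hg
    obtain ⟨r, hr, hrd⟩ := Nat.exists_prime_and_dvd hg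
    by_cases hrS : r ∈ S
    · exact Or.inl ⟨g, rfl, r, hr, hrS, hrd⟩
    · exact Or.inr ⟨g, rfl, r, hr, hrS, hrd⟩
  · rintro k l ⟨g, rfl, p, hp, hpS, hpk⟩ ⟨h, rfl, q, hq, hqS, hql⟩
    apply Nat.coprime_of_dvd
    intro r hr hrg hrh
    by_cases hrS : r ∈ S
    · have hne : r ≠ q := by rintro rfl; exact hqS hrS
      have hd : r * q ∣ cs h :=
        Nat.Coprime.mul_dvd_of_dvd_of_dvd ((Nat.coprime_primes hr hq).mpr hne) hrh hql
      exact hdisc r q ⟨hr, h, hrh⟩ ⟨hq, h, hql⟩ hrS hqS ⟨h, hd⟩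
    · have hne : p ≠ r := by rintro rfl; exact hrS hpS
      have hd : p * r ∣ cs g :=
        Nat.Coprime.mul_dvd_of_dvd_of_dvd ((Nat.coprime_primes hp hr).mpr hne) hpk hrg
      exact hdisc p r ⟨hp, g, hpk⟩ ⟨hr, g, hrg⟩ hpS hrS ⟨g, hd⟩
  · rintro ⟨g, _, p, hp, _, hpd⟩
    exact hp.one_lt.ne' (Nat.dvd_one.mp hpd)
  · rintro ⟨g, _, p, hp, _, hpd⟩
    exact hp.one_lt.ne' (Nat.dvd_one.mp hpd)
  · obtain ⟨p, hpS, hp, g, hpg⟩ := hS
    exact ⟨g, g, rfl, p, hp, hpS, hpg⟩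
  · obtain ⟨q, hqS, hq, g, hqg⟩ := hS'
    exact ⟨g, g, rfl, q, hq, hqS, hqg⟩

end Cfsg.Agent.Lib.Helper17.CG
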