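import Mathlib

set_option autoImplicit false

namespace Cfsg.Agent.Lib.Helper17.CHFollow

universe u

/-- The Camina–Herzog statement (frozen statement S4355) at universe `u`. -/
def CHStmt : Prop :=
  ∀ (G : Type u) [Group G] [Finite G],
    (∀ x : G, (∃ k : ℕ, orderOf x = 2 ^ k) →
      ¬ 2 ∣ (Subgroup.centralizer ({x} : Set G)).index) →
    ∀ P : Sylow 2 G, IsMulCommutative P

theorem sylow_comm_iff (hCH : CHStmt.{u}) {G : Type u} [Group G] [Finite G] (P : Sylow 2 G) :
    IsMulCommutative (P : Subgroup G) ↔ ∀ x : G, (∃ k : ℕ, orderOf x = 2 ^ k) →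
      (∃ Q : Sylow 2 G, (Q : Subgroup G) ≤ Subgroup.centralizer ({x} : Set G)) := by
  have : Fact (Nat.Prime 2) := ⟨Nat.prime_two⟩
  constructor
  · intro hP x hx
    obtain ⟨k, hk⟩ := hx
    have hpg : IsPGroup 2 (Subgroup.zpowers x) := by
      rw [IsPGroup.iff_card, Nat.card_zpowers, hk]
      exact ⟨k, rfl⟩
    obtain ⟨Q, hQ⟩ := hpg.exists_le_sylow
    obtain ⟨g, hg⟩ := MulAction.exists_smul_eq G P Q
    refine ⟨Q, ?_⟩
    have hxQ : x ∈ (Q : Subgroup G) := hQ (Subgroup.mem_zpowers x)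
    have hcomm : ∀ a ∈ (P : Subgroup G), ∀ b ∈ (P : Subgroup G), a * b = b * a := by
      intro a ha b hb
      have := (isMulCommutative_iff.mp hP) ⟨a, ha⟩ ⟨b, hb⟩
      exact congrArg Subtype.val this
    intro y hy
    rw [Subgroup.mem_centralizer_iff]
    intro z hz
    rw [Set.mem_singleton_iff] at hz
    subst hz
    have hx' : z ∈ ((g • P : Sylow 2 G) : Subgroup G) := by rw [hg]; exact hxQ
    have hy' : y ∈ ((g • P : Sylow 2 G) : Subgroup G) := by rw [hg]; exact hy
    rw [Sylow.coe_subgroup_smul, Subgroup.mem_pointwise_smul_iff_inv_smul_mem] at hx' hy'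
    have h1 := hcomm _ hx' _ hy'
    simp only [MulAut.smul_def, MulAut.conj_inv_apply] at h1
    have : g⁻¹ * (z * y) * g = g⁻¹ * (y * z) * g := by
      calc g⁻¹ * (z * y) * g = (g⁻¹ * z * g) * (g⁻¹ * y * g) := by group
        _ = (g⁻¹ * y * g) * (g⁻¹ * z * g) := h1
        _ = g⁻¹ * (y * z) * g := by group
    exact mul_left_cancel (mul_right_cancel this)
  · intro h
    have := hCH G (fun x hx => by
      obtain ⟨Q, hQ⟩ := h x hx
      intro hdvd
      exact Q.not_dvd_index (hdvd.trans (Subgroup.index_dvd_of_le hQ))) P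
    exact this

end Cfsg.Agent.Lib.Helper17.CHFollow
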