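import Mathlib
import Cfsg.Agent.Lib.Helper17.CGBasic

/-!
Cossey–Hawkes–Mann: a finite group with the same class sizes (with multiplicities) as a
nilpotent group is nilpotent (helper17).

Key fact: if the number of elements of `p`-power class size is `|G|_p * m` with `p ∤ m`,
then the Sylow `p`-subgroup is normal.
-/

set_option autoImplicit false

namespace Cfsg.Agent.Lib.Helper17.CG

open Subgroup

universe u

section basic

variable {G : Type*} [Group G]

/-- the class size of `g` is a power of `p`. -/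
def PP (p : ℕ) (g : G) : Prop := ∃ j : ℕ, cs g = p ^ j

theorem PP_conj {p : ℕ} {g : G} (t : G) (h : PP p g) : PP p (t * g * t⁻¹) := by
  obtain ⟨j, hj⟩ := h
  exact ⟨j, by rw [cs_conj, hj]⟩

theorem PP_of_mem_center {p : ℕ} {g : G} (h : g ∈ center G) : PP p g :=
  ⟨0, by rw [pow_zero]; exact cs_eq_one_iff.mpr h⟩

/-- conjugation action of a subgroup on the set of elements of `p`-power class size. -/
def ppAction (p : ℕ) (P : Subgroup G) : MulAction P {x : G // PP p x} where
  smul u x := ⟨(u : G) * x.1 * (u : G)⁻¹, PP_conj _ x.2⟩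
  one_smul x := by
    apply Subtype.ext
    show ((1 : P) : G) * x.1 * ((1 : P) : G)⁻¹ = x.1
    simp
  mul_smul u v x := by
    apply Subtype.ext
    show ((u * v : P) : G) * x.1 * ((u * v : P) : G)⁻¹ = (u : G) * ((v : G) * x.1 * (v : G)⁻¹) * (u : G)⁻¹
    simp [mul_assoc]

theorem card_PP_modEq [Finite G] (p : ℕ) [Fact p.Prime] (P : Sylow p G) :
    Nat.card {x : G // PP p x} ≡ Nat.card (center G) [MOD p] := by
  letI := ppAction p (P : Subgroup G)
  have h1 := IsPGroup.card_modEq_card_fixedPoints P.2 {x : G // PP p x}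
  have h2 : Nat.card (MulAction.fixedPoints (P : Subgroup G) {x : G // PP p x}) =
      Nat.card (center G) := by
    apply Nat.card_congr
    refine
      { toFun := fun x => ⟨x.1.1, ?_⟩
        invFun := fun z => ⟨⟨z.1, PP_of_mem_center z.2⟩, ?_⟩
        left_inv := fun x => by apply Subtype.ext; apply Subtype.ext; rfl
        right_inv := fun z => by apply Subtype.ext; rfl }
    · -- fixed points are central
      obtain ⟨⟨x, j, hj⟩, hx⟩ := x
      have hle : (P : Subgroup G) ≤ centralizer ({x} : Set G) := by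
        intro u hu
        have := hx ⟨u, hu⟩
        have h3 : u * x * u⁻¹ = x := congrArg Subtype.val this
        rw [mem_cent_iff]
        calc u * x = u * x * u⁻¹ * u := by group
          _ = x * u := by rw [h3]
      have hnd : ¬ p ∣ cs x := by
        intro hd
        have := dvd_trans hd (Subgroup.index_dvd_of_le hle)
        exact P.not_dvd_index this
      have hj0 : j = 0 := by
        by_contra hne
        apply hnd
        rw [hj]
        exact dvd_pow_self p hne
      apply cs_eq_one_iff.mp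
      rw [hj, hj0, pow_zero]
    · -- central elements are fixed
      intro u
      apply Subtype.ext
      show (u : G) * z.1 * (u : G)⁻¹ = z.1
      have := (Subgroup.mem_center_iff.mp z.2) (u : G)
      calc (u : G) * z.1 * (u : G)⁻¹ = z.1 * (u : G) * (u : G)⁻¹ := by rw [this]
        _ = z.1 := by group
  rw [h2] at h1
  exact h1

end basic

section quotient

variable {G : Type*} [Group G]

/-- commutator map into a central subgroup, as a homomorphism on the preimage of the
centralizer in the quotient. -/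
theorem relIndex_dvd_card_central [Finite G] (N : Subgroup G) [N.Normal] (hN : N ≤ center G)
    (x : G) :
    centralizer ({x} : Set G) ≤
        (centralizer ({(QuotientGroup.mk x : G ⧸ N)} : Set (G ⧸ N))).comap (QuotientGroup.mk' N) ∧
      (centralizer ({x} : Set G)).relIndex
        ((centralizer ({(QuotientGroup.mk x : G ⧸ N)} : Set (G ⧸ N))).comap (QuotientGroup.mk' N))
        ∣ Nat.card N := by
  set Cs : Subgroup G :=
    (centralizer ({(QuotientGroup.mk x : G ⧸ N)} : Set (G ⧸ N))).comap (QuotientGroup.mk' N)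
    with hCs
  have hmem : ∀ g : G, g ∈ Cs ↔ x⁻¹ * g⁻¹ * x * g ∈ N := by
    intro g
    rw [hCs, Subgroup.mem_comap, mem_cent_iff, ← QuotientGroup.eq_one_iff]
    show (QuotientGroup.mk g : G ⧸ N) * QuotientGroup.mk x = QuotientGroup.mk x * QuotientGroup.mk g ↔ _
    rw [QuotientGroup.mk_mul, QuotientGroup.mk_mul, QuotientGroup.mk_mul, QuotientGroup.mk_inv,
      QuotientGroup.mk_inv]
    constructor
    · intro h
      calc ((QuotientGroup.mk x : G ⧸ N))⁻¹ * (QuotientGroup.mk g)⁻¹ * QuotientGroup.mk x * QuotientGroup.mk g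
          = ((QuotientGroup.mk x : G ⧸ N))⁻¹ * (QuotientGroup.mk g)⁻¹ * (QuotientGroup.mk x * QuotientGroup.mk g) := by group
        _ = 1 := by rw [← h]; group
    · intro h
      calc (QuotientGroup.mk g : G ⧸ N) * QuotientGroup.mk x
          = QuotientGroup.mk x * QuotientGroup.mk g * (((QuotientGroup.mk x : G ⧸ N))⁻¹ * (QuotientGroup.mk g)⁻¹ * QuotientGroup.mk x * QuotientGroup.mk g)⁻¹ := by group
        _ = QuotientGroup.mk x * QuotientGroup.mk g := by rw [h]; group
  have hle : centralizer ({x} : Set G) ≤ Cs := by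
    intro g hg
    rw [hmem]
    have : g * x = x * g := mem_cent_iff.mp hg
    have h1 : x⁻¹ * g⁻¹ * x * g = 1 := by
      calc x⁻¹ * g⁻¹ * x * g = x⁻¹ * g⁻¹ * (x * g) := by group
        _ = 1 := by rw [← this]; group
    rw [h1]; exact one_mem _
  refine ⟨hle, ?_⟩
  -- the homomorphism
  let f : ↥Cs →* G := MonoidHom.mk' (fun g => x⁻¹ * (g : G)⁻¹ * x * (g : G)) (by
    intro g h
    have hc : x⁻¹ * (g : G)⁻¹ * x * (g : G) ∈ center G := hN ((hmem g).mp g.2)
    have hc' := Subgroup.mem_center_iff.mp hc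
    show x⁻¹ * ((g * h : ↥Cs) : G)⁻¹ * x * ((g * h : ↥Cs) : G) =
      x⁻¹ * (g : G)⁻¹ * x * (g : G) * (x⁻¹ * (h : G)⁻¹ * x * (h : G))
    rw [Subgroup.coe_mul]
    calc x⁻¹ * ((g : G) * (h : G))⁻¹ * x * ((g : G) * (h : G))
        = x⁻¹ * (h : G)⁻¹ * x * (x⁻¹ * (g : G)⁻¹ * x * (g : G)) * (h : G) := by group
      _ = x⁻¹ * (h : G)⁻¹ * x * ((x⁻¹ * (g : G)⁻¹ * x * (g : G)) * (h : G)) := by group
      _ = x⁻¹ * (h : G)⁻¹ * x * ((h : G) * (x⁻¹ * (g : G)⁻¹ * x * (g : G))) := by rw [hc' (h : G)]
      _ = (x⁻¹ * (h : G)⁻¹ * x * (h : G)) * (x⁻¹ * (g : G)⁻¹ * x * (g : G)) := by group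
      _ = (x⁻¹ * (g : G)⁻¹ * x * (g : G)) * (x⁻¹ * (h : G)⁻¹ * x * (h : G)) := by
          rw [hc' (x⁻¹ * (h : G)⁻¹ * x * (h : G))])
  have hfapp : ∀ g : ↥Cs, f g = x⁻¹ * (g : G)⁻¹ * x * (g : G) := fun g => rfl
  have hker : f.ker = (centralizer ({x} : Set G)).subgroupOf Cs := by
    ext g
    rw [MonoidHom.mem_ker, Subgroup.mem_subgroupOf, mem_cent_iff, hfapp]
    constructor
    · intro h
      symm
      calc x * (g : G) = (g : G) * x * (x⁻¹ * (g : G)⁻¹ * x * (g : G)) := by group
        _ = (g : G) * x := by rw [h, mul_one]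
    · intro h
      calc x⁻¹ * (g : G)⁻¹ * x * (g : G) = x⁻¹ * (g : G)⁻¹ * (x * (g : G)) := by group
        _ = 1 := by rw [← h]; group
  have hrange : f.range ≤ N := by
    rintro _ ⟨g, rfl⟩
    rw [hfapp]
    exact (hmem g).mp g.2
  have h1 : (centralizer ({x} : Set G)).relIndex Cs = Nat.card f.range := by
    rw [Subgroup.relIndex, ← hker, Subgroup.index_ker]
  rw [h1]
  exact Subgroup.card_dvd_of_le hrange

theorem cs_eq_mul_cs_quot [Finite G] (N : Subgroup G) [N.Normal] (hN : N ≤ center G) (x : G) :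
    ∃ r : ℕ, r ∣ Nat.card N ∧ cs x = r * cs (QuotientGroup.mk x : G ⧸ N) := by
  obtain ⟨hle, hdvd⟩ := relIndex_dvd_card_central N hN x
  refine ⟨_, hdvd, ?_⟩
  have h1 := Subgroup.relIndex_mul_index hle
  rw [Subgroup.index_comap_of_surjective _ (QuotientGroup.mk'_surjective N)] at h1
  exact h1.symm

theorem PP_quot_iff [Finite G] {p : ℕ} (hp : p.Prime) (N : Subgroup G) [N.Normal]
    (hN : N ≤ center G) (hcard : Nat.card N = p) (x : G) :
    PP p (QuotientGroup.mk x : G ⧸ N) ↔ PP p x := by
  obtain ⟨r, hr, hx⟩ := cs_eq_mul_cs_quot N hN x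
  rw [hcard] at hr
  constructor
  · rintro ⟨j, hj⟩
    rcases (Nat.dvd_prime hp).mp hr with h1 | h1
    · exact ⟨j, by rw [hx, h1, one_mul, hj]⟩
    · exact ⟨j + 1, by rw [hx, h1, hj, pow_succ, mul_comm]⟩
  · rintro ⟨j, hj⟩
    have hd : cs (QuotientGroup.mk x : G ⧸ N) ∣ p ^ j := by
      rw [← hj, hx]; exact dvd_mul_left _ _
    obtain ⟨i, -, hi⟩ := (Nat.dvd_prime_pow hp).mp hd
    exact ⟨i, hi⟩

theorem card_PP_quot [Finite G] {p : ℕ} (hp : p.Prime) (N : Subgroup G) [N.Normal]
    (hN : N ≤ center G) (hcard : Nat.card N = p) :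
    Nat.card {x : G // PP p x} = p * Nat.card {y : G ⧸ N // PP p y} := by
  have e1 : {x : G // PP p x} ≃ (QuotientGroup.mk ⁻¹' {y : G ⧸ N | PP p y} : Set G) :=
    Equiv.subtypeEquivRight (fun x => (PP_quot_iff hp N hN hcard x).symm)
  have e2 := QuotientGroup.preimageMkEquivSubgroupProdSet N {y : G ⧸ N | PP p y}
  rw [Nat.card_congr (e1.trans e2), Nat.card_prod, hcard]
  rfl

end quotient

section main

/-- if the number of elements of `p`-power class size is `|G|_p * m` with `p ∤ m`, the Sylow
`p`-subgroups are normal. -/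
theorem sylow_normal_of_card_PP_aux (p : ℕ) [hp : Fact p.Prime] (m : ℕ) :
    ∀ (n : ℕ) (G : Type u) [Group G] [Finite G], Nat.card G = n →
      Nat.card {x : G // PP p x} = p ^ (Nat.card G).factorization p * m →
      ∀ P : Sylow p G, (P : Subgroup G).Normal := by
  intro n
  induction n using Nat.strong_induction_on with
  | _ n ih =>
    intro G _ _ hn hA P
    have hGpos : 0 < Nat.card G := Nat.card_pos
    by_cases hz : p ∣ Nat.card (center G)
    · -- central element of order p
      obtain ⟨z, hzo⟩ := exists_prime_orderOf_dvd_card' p hz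
      set N : Subgroup G := zpowers (z : G) with hNdef
      have hNle : N ≤ center G := by
        rw [hNdef, zpowers_le]; exact z.2
      haveI hNn : N.Normal := by
        refine ⟨fun a ha g => ?_⟩
        have := Subgroup.mem_center_iff.mp (hNle ha) g
        have h1 : g * a * g⁻¹ = a := by
          calc g * a * g⁻¹ = a * g * g⁻¹ := by rw [this]
            _ = a := by group
        rw [h1]; exact ha
      have hNcard : Nat.card N = p := by
        rw [hNdef, Nat.card_zpowers, Subgroup.orderOf_coe, hzo]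
      have hcardG : Nat.card G = Nat.card (G ⧸ N) * p := by
        rw [Subgroup.card_eq_card_quotient_mul_card_subgroup N, hNcard]
      have hqpos : 0 < Nat.card (G ⧸ N) := Nat.card_pos
      have hlt : Nat.card (G ⧸ N) < n := by
        rw [← hn, hcardG]
        have := hp.out.one_lt
        nlinarith
      have hfac : (Nat.card G).factorization p = (Nat.card (G ⧸ N)).factorization p + 1 := by
        rw [hcardG, Nat.factorization_mul hqpos.ne' hp.out.ne_zero]
        simp [hp.out.factorization_self]
      have hA' : Nat.card {y : G ⧸ N // PP p y} =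
          p ^ (Nat.card (G ⧸ N)).factorization p * m := by
        have h1 := card_PP_quot hp.out N hNle hNcard
        rw [hA, hfac, pow_succ] at h1
        have hppos : 0 < p := hp.out.pos
        apply Nat.eq_of_mul_eq_mul_left hppos
        rw [← h1]; ring
      have hIH := ih _ hlt (G ⧸ N) rfl hA'
      obtain ⟨Q'⟩ : Nonempty (Sylow p (G ⧸ N)) := inferInstance
      haveI hQ'n : (Q' : Subgroup (G ⧸ N)).Normal := hIH Q'
      set Q : Subgroup G := (Q' : Subgroup (G ⧸ N)).comap (QuotientGroup.mk' N) with hQdef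
      have hQn : Q.Normal := hQ'n.comap _
      have hQp : IsPGroup p Q := by
        apply IsPGroup.comap_of_ker_isPGroup Q'.2
        rw [QuotientGroup.ker_mk']
        rw [hNdef]
        apply IsPGroup.of_card (n := 1)
        rw [pow_one, ← hNdef, hNcard]
      have hPQ : (P : Subgroup G) ≤ Q := by
        have hmap : IsPGroup p ((P : Subgroup G).map (QuotientGroup.mk' N)) := P.2.map _
        obtain ⟨Q'', hQ''⟩ := hmap.exists_le_sylow
        obtain ⟨g, hg⟩ := MulAction.exists_smul_eq (G ⧸ N) Q' Q''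
        have : Q'' = Q' := by rw [← hg]; exact Sylow.smul_eq_of_normal
        rw [this] at hQ''
        intro u hu
        rw [hQdef, Subgroup.mem_comap]
        exact hQ'' (Subgroup.mem_map_of_mem _ hu)
      have := P.is_maximal' hQp hPQ
      rw [← this]; exact hQn
    · -- trivial p-part of the centre
      have h1 := card_PP_modEq p P
      rw [hA] at h1
      have hv : (Nat.card G).factorization p = 0 := by
        by_contra hne
        apply hz
        have h2 : p ∣ p ^ (Nat.card G).factorization p * m :=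
          dvd_mul_of_dvd_left (dvd_pow_self p hne) _
        exact (Nat.modEq_zero_iff_dvd.mp
          (h1.symm.trans (Nat.modEq_zero_iff_dvd.mpr h2)))
      have hPc : Nat.card (P : Subgroup G) = 1 := by
        rw [P.card_eq_multiplicity, hv, pow_zero]
      have hbot : (P : Subgroup G) = ⊥ := Subgroup.card_eq_one.mp hPc
      rw [hbot]; infer_instance

theorem sylow_normal_of_card_PP {G : Type u} [Group G] [Finite G] (p : ℕ) [Fact p.Prime]
    (m : ℕ)
    (hA : Nat.card {x : G // PP p x} = p ^ (Nat.card G).factorization p * m)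
    (P : Sylow p G) : (P : Subgroup G).Normal :=
  sylow_normal_of_card_PP_aux p m _ G rfl hA P

end main

section nilpotent

variable {H : Type u} [Group H] [Finite H]

/-- elements centralizing all `p'`-elements have `p`-power class size. -/
theorem PP_of_commute_coprime (p : ℕ) [hp : Fact p.Prime] (x : H)
    (hx : ∀ k : H, (orderOf k).Coprime p → k * x = x * k) : PP p x := by
  have h0 : cs x ≠ 0 := (cs_pos x).ne'
  refine ⟨_, Nat.eq_prime_pow_of_unique_prime_dvd h0 ?_⟩
  intro q hq hqd
  by_contra hne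
  haveI : Fact q.Prime := ⟨hq⟩
  obtain ⟨Q⟩ : Nonempty (Sylow q H) := inferInstance
  have hle : (Q : Subgroup H) ≤ centralizer ({x} : Set H) := by
    intro u hu
    rw [mem_cent_iff]
    apply hx
    obtain ⟨k, hk⟩ := (IsPGroup.iff_orderOf.mp Q.2) ⟨u, hu⟩
    have : orderOf (⟨u, hu⟩ : (Q : Subgroup H)) = orderOf u := by
      rw [Subgroup.orderOf_mk]
    rw [← this, hk]
    exact (Nat.Coprime.pow_left k ((Nat.coprime_primes hq hp.out).mpr hne))
  exact Q.not_dvd_index (dvd_trans hqd (Subgroup.index_dvd_of_le hle))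

theorem commute_coprime_of_PP [hH : Group.IsNilpotent H] (p : ℕ) [hp : Fact p.Prime] (x : H)
    (hx : PP p x) (k : H) (hk : (orderOf k).Coprime p) : k * x = x * k := by
  by_contra hne
  have hk' : k ∉ centralizer ({x} : Set H) := fun h => hne (mem_cent_iff.mp h)
  obtain ⟨s, k', hs, hk'z, hk'n, j, hj⟩ := exists_primary_not_mem' _ hk'
  have hj0 : j ≠ 0 := by
    rintro rfl
    rw [pow_zero, orderOf_eq_one_iff] at hj
    rw [hj] at hk'n
    exact hk'n (one_mem _)
  have hsp : s ≠ p := by
    rintro rfl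
    have h1 : orderOf k' ∣ orderOf k := orderOf_dvd_of_mem_zpowers hk'z
    have h2 : s ∣ orderOf k := dvd_trans (by rw [hj]; exact dvd_pow_self s hj0) h1
    have h3 : s ∣ Nat.gcd (orderOf k) s := Nat.dvd_gcd h2 dvd_rfl
    rw [hk] at h3
    exact hs.one_lt.ne' (Nat.dvd_one.mp h3)
  haveI : Fact s.Prime := ⟨hs⟩
  obtain ⟨i, hi⟩ := hx
  have hnd : ¬ s ∣ (centralizer ({x} : Set H)).index := by
    intro hd
    have hd' : s ∣ p ^ i := by rw [← hi]; exact hd
    exact hsp ((Nat.prime_dvd_prime_iff_eq hs hp.out).mp (hs.dvd_of_dvd_pow hd'))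
  obtain ⟨Q, hQ⟩ := exists_sylow_le_of_not_dvd_index _ hnd
  have hzp : IsPGroup s (zpowers k') := by
    apply IsPGroup.of_card (n := j)
    rw [Nat.card_zpowers, hj]
  obtain ⟨Q'', hQ''⟩ := hzp.exists_le_sylow
  obtain ⟨g, hg⟩ := MulAction.exists_smul_eq H Q Q''
  have hQQ : Q'' = Q := by rw [← hg]; exact Sylow.smul_eq_of_normal
  rw [hQQ] at hQ''
  exact hk'n (hQ (hQ'' (mem_zpowers k')))

theorem card_PP_nilpotent [hH : Group.IsNilpotent H] (p : ℕ) [hp : Fact p.Prime] :
    ∃ m : ℕ, Nat.card {x : H // PP p x} = p ^ (Nat.card H).factorization p * m := by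
  set B : Subgroup H := centralizer {k : H | (orderOf k).Coprime p} with hB
  have hmemB : ∀ x : H, x ∈ B ↔ ∀ k : H, (orderOf k).Coprime p → k * x = x * k := by
    intro x
    rw [hB, Subgroup.mem_centralizer_iff]
    rfl
  have hcard : Nat.card {x : H // PP p x} = Nat.card B := by
    apply Nat.card_congr
    apply Equiv.subtypeEquivRight
    intro x
    constructor
    · intro hx
      exact (hmemB x).mpr (fun k hk => commute_coprime_of_PP p x hx k hk)
    · intro hx
      exact PP_of_commute_coprime p x ((hmemB x).mp hx)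
  obtain ⟨P⟩ : Nonempty (Sylow p H) := inferInstance
  have hPB : (P : Subgroup H) ≤ B := by
    intro u hu
    rw [hmemB]
    intro k hk
    obtain ⟨j, hj⟩ := (IsPGroup.iff_orderOf.mp P.2) ⟨u, hu⟩
    have hju : orderOf u = p ^ j := by
      rw [← hj, Subgroup.orderOf_mk]
    apply Cfsg.Agent.Lib.Helper2.commute_of_coprime_orderOf
    rw [hju]
    exact Nat.Coprime.pow_right j hk
  have hdvd := Subgroup.card_dvd_of_le hPB
  rw [P.card_eq_multiplicity] at hdvd
  obtain ⟨m, hm⟩ := hdvd
  exact ⟨m, by rw [hcard, hm]⟩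

end nilpotent

section bijection

theorem nonempty_equiv_of_natCard_eq {α β : Type*} [Finite α] [Finite β]
    (h : Nat.card α = Nat.card β) : Nonempty (α ≃ β) :=
  ⟨(Finite.equivFin α).trans ((finCongr h).trans (Finite.equivFin β).symm)⟩

theorem card_carrier_eq_cs {G : Type*} [Group G] [Finite G] (x : G) :
    Nat.card (ConjClasses.mk x).carrier = cs x := by
  rw [← cl_eq_carrier, card_cl]

/-- number of elements of class size `k` = `k` times the number of classes of size `k`. -/
theorem card_cs_eq {G : Type*} [Group G] [Finite G] (k : ℕ) :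
    Nat.card {x : G // cs x = k} =
      Nat.card {C : ConjClasses G // Nat.card C.carrier = k} * k := by
  classical
  let π : {x : G // cs x = k} → {C : ConjClasses G // Nat.card C.carrier = k} :=
    fun x => ⟨ConjClasses.mk x.1, by rw [card_carrier_eq_cs]; exact x.2⟩
  have e := Equiv.sigmaFiberEquiv π
  haveI : Fintype {C : ConjClasses G // Nat.card C.carrier = k} := Fintype.ofFinite _
  rw [← Nat.card_congr e, Nat.card_sigma]
  have hfib : ∀ C : {C : ConjClasses G // Nat.card C.carrier = k},
      Nat.card {x : {x : G // cs x = k} // π x = C} = k := by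
    intro C
    have e2 : {x : {x : G // cs x = k} // π x = C} ≃ C.1.carrier :=
      { toFun := fun x => ⟨x.1.1, by
          have := congrArg Subtype.val x.2
          exact ConjClasses.mem_carrier_iff_mk_eq.mpr this⟩
        invFun := fun y => ⟨⟨y.1, by
            have h1 : ConjClasses.mk y.1 = C.1 := ConjClasses.mem_carrier_iff_mk_eq.mp y.2
            rw [← card_carrier_eq_cs, h1]; exact C.2⟩, by
            apply Subtype.ext
            exact ConjClasses.mem_carrier_iff_mk_eq.mp y.2⟩
        left_inv := fun x => by apply Subtype.ext; apply Subtype.ext; rfl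
        right_inv := fun y => by apply Subtype.ext; rfl }
    rw [Nat.card_congr e2]; exact C.2
  simp only [hfib, Finset.sum_const, Finset.card_univ, smul_eq_mul, Nat.card_eq_fintype_card]

theorem exists_equiv_cs {G H : Type*} [Group G] [Finite G] [Group H] [Finite H]
    (h : ∀ k : ℕ, Nat.card {C : ConjClasses G // Nat.card C.carrier = k} =
      Nat.card {C : ConjClasses H // Nat.card C.carrier = k}) :
    ∃ f : G ≃ H, ∀ x : G, cs (f x) = cs x := by
  have hk : ∀ k : ℕ, Nonempty ({x : G // cs x = k} ≃ {y : H // cs y = k}) := by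
    intro k
    apply nonempty_equiv_of_natCard_eq
    rw [card_cs_eq, card_cs_eq, h k]
  let e : ∀ k : ℕ, {x : G // cs x = k} ≃ {y : H // cs y = k} := fun k => (hk k).some
  refine ⟨(Equiv.sigmaFiberEquiv (fun x : G => cs x)).symm.trans
    ((Equiv.sigmaCongrRight e).trans (Equiv.sigmaFiberEquiv (fun y : H => cs y))), ?_⟩
  intro x
  have : ((Equiv.sigmaFiberEquiv (fun x : G => cs x)).symm.trans
    ((Equiv.sigmaCongrRight e).trans (Equiv.sigmaFiberEquiv (fun y : H => cs y)))) x =
      ((e (cs x)) ⟨x, rfl⟩).1 := rfl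
  rw [this]
  exact ((e (cs x)) ⟨x, rfl⟩).2

end bijection

/-- Cossey–Hawkes–Mann. -/
theorem chm {G H : Type*} [Group G] [Finite G] [Group H] [Finite H]
    (hH : Group.IsNilpotent H)
    (h : ∀ k : ℕ, Nat.card {C : ConjClasses G // Nat.card C.carrier = k} =
      Nat.card {C : ConjClasses H // Nat.card C.carrier = k}) :
    Group.IsNilpotent G := by
  obtain ⟨f, hf⟩ := exists_equiv_cs h
  have hcard : Nat.card G = Nat.card H := Nat.card_congr f
  apply (Group.isNilpotent_of_finite_tfae (G := G)).out 3 0 |>.mp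
  intro p hp P
  obtain ⟨m, hm⟩ := card_PP_nilpotent (H := H) p
  have hA : Nat.card {x : G // PP p x} = Nat.card {y : H // PP p y} := by
    apply Nat.card_congr
    apply Equiv.subtypeEquiv f
    intro x
    unfold PP
    rw [hf x]
  exact sylow_normal_of_card_PP p m (by rw [hA, hm, hcard]) P

end Cfsg.Agent.Lib.Helper17.CG
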