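import Mathlib
import Cfsg.Prelude.Def_Local
import Cfsg.Agent.Lib.Helper2.Cores
import Cfsg.Agent.Lib.Helper20.CoprimeLift
import Cfsg.Agent.Lib.Helper20.Cores
import Cfsg.Agent.Lib.Helper20.Transport

/-!
Transfer of the automizer `N_G(P)/C_G(P)` of a `p`-subgroup through the quotient by a normal
`p'`-subgroup, and lifting of `p`-subgroups (helper17).
-/

set_option autoImplicit false

namespace Cfsg.Agent.Lib.Helper17

open Cfsg

section lift

variable {X Y : Type*} [Group X] [Finite X] [Group Y] (p : ℕ) [Fact p.Prime]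

/-- Lifting `p`-subgroups through a surjective homomorphism of finite groups. -/
theorem exists_isPGroup_map_eq {f : X →* Y} (hf : Function.Surjective f) (B : Subgroup Y)
    (hB : IsPGroup p B) : ∃ A : Subgroup X, IsPGroup p A ∧ A.map f = B := by
  haveI : Finite Y := Finite.of_surjective f hf
  obtain ⟨T, hT⟩ := hB.exists_le_sylow
  obtain ⟨S, hS⟩ := Sylow.mapSurjective_surjective hf p T
  have hST : (S : Subgroup X).map f = (T : Subgroup Y) := by
    rw [← hS]; rfl
  refine ⟨(S : Subgroup X) ⊓ B.comap f, S.2.to_le inf_le_left, ?_⟩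
  apply le_antisymm
  · rintro _ ⟨x, hx, rfl⟩
    exact (Subgroup.mem_inf.mp hx).2
  · intro y hy
    have hyT : y ∈ (S : Subgroup X).map f := by rw [hST]; exact hT hy
    obtain ⟨s, hs, rfl⟩ := hyT
    exact ⟨s, Subgroup.mem_inf.mpr ⟨hs, hy⟩, rfl⟩

end lift

section automizer

variable {G : Type*} [Group G] (K : Subgroup G) [K.Normal] (P : Subgroup G)

/-- The restriction of `G → G/K` to `N_G(P) → N_{G/K}(PK/K)`. -/
noncomputable def normMap :
    ↥(Subgroup.normalizer (P : Set G)) →*
      ↥(Subgroup.normalizer ((P.map (QuotientGroup.mk' K) : Subgroup (G ⧸ K)) : Set (G ⧸ K))) :=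
  ((QuotientGroup.mk' K).comp (Subgroup.normalizer (P : Set G)).subtype).codRestrict _
    (fun n => Subgroup.le_normalizer_map (QuotientGroup.mk' K)
      (Subgroup.mem_map_of_mem _ n.2))

@[simp] theorem normMap_coe (n : ↥(Subgroup.normalizer (P : Set G))) :
    ((normMap K P n : ↥(Subgroup.normalizer ((P.map (QuotientGroup.mk' K) : Subgroup (G ⧸ K)) :
      Set (G ⧸ K)))) : G ⧸ K) = QuotientGroup.mk' K (n : G) := rfl

variable [Finite G] (p : ℕ) [Fact p.Prime]

theorem normMap_surjective (hK : ¬ p ∣ Nat.card K) (hP : IsPGroup p P) :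
    Function.Surjective (normMap K P) := by
  intro y
  have hy : (y : G ⧸ K) ∈ (Subgroup.normalizer (P : Set G)).map (QuotientGroup.mk' K) := by
    rw [← Helper20.normalizer_map_mk'_of_coprime p K hK P hP]; exact y.2
  obtain ⟨n, hn, hny⟩ := hy
  exact ⟨⟨n, hn⟩, Subtype.ext hny⟩

theorem inf_eq_bot_of_isPGroup_of_not_dvd (hK : ¬ p ∣ Nat.card K) (hP : IsPGroup p P) :
    P ⊓ K = ⊥ := by
  rw [← disjoint_iff]
  apply Subgroup.disjoint_of_coprime_natCard
  obtain ⟨n, hn⟩ := IsPGroup.iff_card.mp hP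
  rw [hn]
  exact Nat.Coprime.pow_left n ((Nat.Prime.coprime_iff_not_dvd Fact.out).mpr hK)

/-- The kernel of `N_G(P) → N_{G/K}(PK/K)/C_{G/K}(PK/K)` is `C_G(P)`. -/
theorem ker_mk'_comp_normMap (hK : ¬ p ∣ Nat.card K) (hP : IsPGroup p P) :
    ((QuotientGroup.mk' ((Subgroup.centralizer
        ((P.map (QuotientGroup.mk' K) : Subgroup (G ⧸ K)) : Set (G ⧸ K))).subgroupOf
        (Subgroup.normalizer ((P.map (QuotientGroup.mk' K) : Subgroup (G ⧸ K)) :
          Set (G ⧸ K))))).comp (normMap K P)).ker =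
      (Subgroup.centralizer (P : Set G)).subgroupOf (Subgroup.normalizer (P : Set G)) := by
  ext n
  rw [MonoidHom.mem_ker, MonoidHom.comp_apply, QuotientGroup.mk'_apply, QuotientGroup.eq_one_iff,
    Subgroup.mem_subgroupOf, Subgroup.mem_subgroupOf, normMap_coe]
  constructor
  · intro h
    rw [Subgroup.mem_centralizer_iff]
    intro a ha
    have ha' : a ∈ P := ha
    -- commutator lies in P ⊓ K
    have h1 : (n : G) * a * (n : G)⁻¹ * a⁻¹ ∈ P :=
      P.mul_mem ((Subgroup.mem_normalizer_iff.mp n.2 a).mp ha') (P.inv_mem ha')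
    have h2 : (n : G) * a * (n : G)⁻¹ * a⁻¹ ∈ K := by
      rw [← QuotientGroup.ker_mk' K, MonoidHom.mem_ker]
      have hc := (Subgroup.mem_centralizer_iff.mp h) (QuotientGroup.mk' K a)
        (Subgroup.mem_map_of_mem _ ha')
      simp only [map_mul, map_inv]
      rw [← hc]; group
    have h3 : (n : G) * a * (n : G)⁻¹ * a⁻¹ ∈ P ⊓ K := Subgroup.mem_inf.mpr ⟨h1, h2⟩
    rw [inf_eq_bot_of_isPGroup_of_not_dvd K P p hK hP, Subgroup.mem_bot] at h3
    calc a * (n : G) = ((n : G) * a * (n : G)⁻¹ * a⁻¹)⁻¹ * ((n : G) * a) := by group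
      _ = (n : G) * a := by rw [h3]; simp
  · intro h
    rw [Subgroup.mem_centralizer_iff]
    rintro _ ⟨a, ha, rfl⟩
    have := (Subgroup.mem_centralizer_iff.mp h) a ha
    rw [← map_mul, ← map_mul, this]

/-- `N_G(P)/C_G(P) ≃* N_{G/K}(PK/K)/C_{G/K}(PK/K)` for `P` a `p`-group and `K` a normal `p'`-group. -/
noncomputable def automizerEquiv (hK : ¬ p ∣ Nat.card K) (hP : IsPGroup p P) :
    (↥(Subgroup.normalizer (P : Set G)) ⧸
        (Subgroup.centralizer (P : Set G)).subgroupOf (Subgroup.normalizer (P : Set G))) ≃*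
      (↥(Subgroup.normalizer ((P.map (QuotientGroup.mk' K) : Subgroup (G ⧸ K)) : Set (G ⧸ K))) ⧸
        (Subgroup.centralizer
          ((P.map (QuotientGroup.mk' K) : Subgroup (G ⧸ K)) : Set (G ⧸ K))).subgroupOf
          (Subgroup.normalizer ((P.map (QuotientGroup.mk' K) : Subgroup (G ⧸ K)) :
            Set (G ⧸ K)))) :=
  (QuotientGroup.quotientMulEquivOfEq (ker_mk'_comp_normMap K P p hK hP).symm).trans
    (QuotientGroup.quotientKerEquivOfSurjective _
      ((QuotientGroup.mk'_surjective _).comp (normMap_surjective K P p hK hP)))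

theorem automizerEquiv_mk (hK : ¬ p ∣ Nat.card K) (hP : IsPGroup p P)
    (n : ↥(Subgroup.normalizer (P : Set G))) :
    automizerEquiv K P p hK hP (QuotientGroup.mk n) = QuotientGroup.mk (normMap K P n) := rfl

/-- The image of `A` in the automizer of `P` lies in `O_p` iff the same holds in `G/K`. -/
theorem automizer_image_le_pCore_iff (hK : ¬ p ∣ Nat.card K) (hP : IsPGroup p P) (A : Subgroup G)
    (hA : A ≤ Subgroup.normalizer (P : Set G)) :
    ((A.map (QuotientGroup.mk' K)).subgroupOf
        (Subgroup.normalizer ((P.map (QuotientGroup.mk' K) : Subgroup (G ⧸ K)) : Set (G ⧸ K)))).map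
        (QuotientGroup.mk' ((Subgroup.centralizer
          ((P.map (QuotientGroup.mk' K) : Subgroup (G ⧸ K)) : Set (G ⧸ K))).subgroupOf
          (Subgroup.normalizer ((P.map (QuotientGroup.mk' K) : Subgroup (G ⧸ K)) :
            Set (G ⧸ K))))) ≤ pCore p _ ↔
    (A.subgroupOf (Subgroup.normalizer (P : Set G))).map
        (QuotientGroup.mk' ((Subgroup.centralizer (P : Set G)).subgroupOf
          (Subgroup.normalizer (P : Set G)))) ≤ pCore p _ := by
  have himg : ((A.map (QuotientGroup.mk' K)).subgroupOf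
        (Subgroup.normalizer ((P.map (QuotientGroup.mk' K) : Subgroup (G ⧸ K)) : Set (G ⧸ K)))).map
        (QuotientGroup.mk' ((Subgroup.centralizer
          ((P.map (QuotientGroup.mk' K) : Subgroup (G ⧸ K)) : Set (G ⧸ K))).subgroupOf
          (Subgroup.normalizer ((P.map (QuotientGroup.mk' K) : Subgroup (G ⧸ K)) :
            Set (G ⧸ K))))) =
      ((A.subgroupOf (Subgroup.normalizer (P : Set G))).map
        (QuotientGroup.mk' ((Subgroup.centralizer (P : Set G)).subgroupOf
          (Subgroup.normalizer (P : Set G))))).map (automizerEquiv K P p hK hP).toMonoidHom := by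
    apply le_antisymm
    · rintro _ ⟨y, hy, rfl⟩
      have hy' : (y : G ⧸ K) ∈ A.map (QuotientGroup.mk' K) := hy
      obtain ⟨a, ha, hay⟩ := hy'
      refine ⟨QuotientGroup.mk (⟨a, hA ha⟩ : ↥(Subgroup.normalizer (P : Set G))),
        ⟨⟨a, hA ha⟩, ?_, rfl⟩, ?_⟩
      · show (⟨a, hA ha⟩ : ↥(Subgroup.normalizer (P : Set G))) ∈ A.subgroupOf _
        rw [Subgroup.mem_subgroupOf]; exact ha
      · show automizerEquiv K P p hK hP (QuotientGroup.mk _) = _
        rw [automizerEquiv_mk]
        congr 1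
        exact Subtype.ext hay
    · rintro _ ⟨_, ⟨n, hn, rfl⟩, rfl⟩
      have hn' : (n : G) ∈ A := hn
      refine ⟨normMap K P n, ?_, ?_⟩
      · show normMap K P n ∈ (A.map (QuotientGroup.mk' K)).subgroupOf _
        rw [Subgroup.mem_subgroupOf, normMap_coe]
        exact Subgroup.mem_map_of_mem _ hn'
      · show _ = automizerEquiv K P p hK hP (QuotientGroup.mk n)
        rw [automizerEquiv_mk]; rfl
  rw [himg, ← Helper20.pCore_map_mulEquiv p (automizerEquiv K P p hK hP)]
  exact Subgroup.map_le_map_iff_of_injective (automizerEquiv K P p hK hP).injective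

end automizer

end Cfsg.Agent.Lib.Helper17

namespace Cfsg.Agent.Lib.Helper17

open Cfsg

section main

variable {G : Type*} [Group G]

theorem le_normalizer_of_forall_conj_mem {A P : Subgroup G}
    (h : ∀ a ∈ A, ∀ x ∈ P, a * x * a⁻¹ ∈ P) : A ≤ Subgroup.normalizer (P : Set G) := by
  intro a ha
  rw [Subgroup.mem_normalizer_iff]
  intro x
  refine ⟨h a ha x, fun hx => ?_⟩
  have := h a⁻¹ (A.inv_mem ha) _ hx
  simpa [mul_assoc] using this

theorem pCore_le_pPrimePCore [Finite G] (p : ℕ) [Fact p.Prime] :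
    pCore p G ≤ pPrimePCore p G := by
  haveI : (pPrimeCore p G).Normal := Helper2.pPrimeCore_normal p
  unfold Cfsg.pPrimePCore
  rw [← Subgroup.map_le_iff_le_comap]
  exact Helper2.le_pCore
    (Subgroup.Normal.map (Helper2.pCore_normal p) _ (QuotientGroup.mk'_surjective _))
    ((Helper2.pCore_isPGroup p).map _)

theorem isPStable_iff_quotient [Finite G] {p : ℕ} [Fact p.Prime] (hO : pCore p G ≠ ⊥) :
    IsPStable p G ↔ IsPStable p (G ⧸ pPrimeCore p G) := by
  have hK : ¬ p ∣ Nat.card (pPrimeCore p G) := by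
    have h1 := Helper20.pPrimeCore_coprime' (G := G) p
    intro hd
    have h2 : p ∣ Nat.gcd (Nat.card (pPrimeCore p G)) p := Nat.dvd_gcd hd dvd_rfl
    rw [h1] at h2
    exact (Nat.Prime.one_lt Fact.out).ne' (Nat.dvd_one.mp h2)
  have hbot : pPrimeCore p (G ⧸ pPrimeCore p G) = ⊥ := Helper20.pPrimeCore_quotient_eq_bot p
  constructor
  · rintro ⟨hodd, -, hst⟩
    refine ⟨hodd, ?_, ?_⟩
    · intro h
      apply hO
      have h1 : (pCore p G).map (QuotientGroup.mk' (pPrimeCore p G)) ≤
          pCore p (G ⧸ pPrimeCore p G) :=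
        Helper2.le_pCore
          (Subgroup.Normal.map (Helper2.pCore_normal p) _ (QuotientGroup.mk'_surjective _))
          ((Helper2.pCore_isPGroup p).map _)
      rw [h, le_bot_iff, Subgroup.map_eq_bot_iff, QuotientGroup.ker_mk'] at h1
      have h2 := inf_eq_bot_of_isPGroup_of_not_dvd (pPrimeCore p G) (pCore p G) p hK
        (Helper2.pCore_isPGroup p)
      rwa [inf_eq_left.mpr h1] at h2
    · intro Ab Pb hAb hPb hnorm _ hN hcomm
      have hPbn : Pb.Normal := by rw [hbot, bot_sup_eq] at hN; exact hN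
      obtain ⟨P, hP, hPmap⟩ :=
        exists_isPGroup_map_eq p (QuotientGroup.mk'_surjective (pPrimeCore p G)) Pb hPb
      subst hPmap
      have hAbN := le_normalizer_of_forall_conj_mem hnorm
      obtain ⟨A', hA', hA'map⟩ :=
        exists_isPGroup_map_eq p (normMap_surjective (pPrimeCore p G) P p hK hP)
          (Ab.subgroupOf _) hAb.comap_subtype
      obtain ⟨A, hAdef⟩ : ∃ A : Subgroup G,
        A = A'.map (Subgroup.normalizer (P : Set G)).subtype := ⟨_, rfl⟩
      have hAmap : A.map (QuotientGroup.mk' (pPrimeCore p G)) = Ab := by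
        rw [hAdef, Subgroup.map_map]
        have hcomp : (QuotientGroup.mk' (pPrimeCore p G)).comp
            (Subgroup.normalizer (P : Set G)).subtype =
            (Subgroup.normalizer ((P.map (QuotientGroup.mk' (pPrimeCore p G)) :
              Subgroup (G ⧸ pPrimeCore p G)) : Set (G ⧸ pPrimeCore p G))).subtype.comp
              (normMap (pPrimeCore p G) P) := rfl
        rw [hcomp, ← Subgroup.map_map, hA'map, Subgroup.subgroupOf_map_subtype,
          inf_eq_left.mpr hAbN]
      subst hAmap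
      have hA : IsPGroup p A := by rw [hAdef]; exact hA'.map _
      have hAN : A ≤ Subgroup.normalizer (P : Set G) := by
        rw [hAdef]; exact Subgroup.map_subtype_le _
      have hnormA : ∀ a ∈ A, ∀ x ∈ P, a * x * a⁻¹ ∈ P := fun a ha x hx =>
        (Subgroup.mem_normalizer_iff.mp (hAN ha) x).mp hx
      have hPle : P ≤ pPrimePCore p G := by
        unfold Cfsg.pPrimePCore
        exact Subgroup.map_le_iff_le_comap.mp (Helper2.le_pCore hPbn hPb)
      have hKP : (pPrimeCore p G ⊔ P).Normal := by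
        have : pPrimeCore p G ⊔ P =
            (P.map (QuotientGroup.mk' (pPrimeCore p G))).comap
              (QuotientGroup.mk' (pPrimeCore p G)) := by
          rw [Subgroup.comap_map_eq, QuotientGroup.ker_mk', sup_comm]
        rw [this]
        exact hPbn.comap _
      have h1 : ⁅P, A⁆ ≤ P := by
        rw [Subgroup.commutator_le]
        intro x hx a ha
        rw [commutatorElement_def]
        have := hnormA a ha x⁻¹ (P.inv_mem hx)
        have h2 : x * a * x⁻¹ * a⁻¹ = x * (a * x⁻¹ * a⁻¹) := by group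
        rw [h2]
        exact P.mul_mem hx this
      have h2 : ⁅⁅P, A⁆, A⁆ ≤ P := (Subgroup.commutator_mono h1 le_rfl).trans h1
      have h3 : ⁅⁅P, A⁆, A⁆ ≤ pPrimeCore p G := by
        have : (⁅⁅P, A⁆, A⁆).map (QuotientGroup.mk' (pPrimeCore p G)) = ⊥ := by
          rw [Subgroup.map_commutator, Subgroup.map_commutator]; exact hcomm
        rw [Subgroup.map_eq_bot_iff, QuotientGroup.ker_mk'] at this
        exact this
      have hcommA : ⁅⁅P, A⁆, A⁆ = ⊥ := by
        rw [eq_bot_iff, ← inf_eq_bot_of_isPGroup_of_not_dvd (pPrimeCore p G) P p hK hP]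
        exact le_inf h2 h3
      exact (automizer_image_le_pCore_iff (pPrimeCore p G) P p hK hP A hAN).mpr
        (hst A P hA hP hnormA hPle hKP hcommA)
  · rintro ⟨hodd, -, hst⟩
    refine ⟨hodd, hO, ?_⟩
    intro A P hA hP hnorm hle hN hcomm
    have hAN : A ≤ Subgroup.normalizer (P : Set G) := le_normalizer_of_forall_conj_mem hnorm
    apply (automizer_image_le_pCore_iff (pPrimeCore p G) P p hK hP A hAN).mp
    apply hst (A.map (QuotientGroup.mk' (pPrimeCore p G)))
      (P.map (QuotientGroup.mk' (pPrimeCore p G))) (hA.map _) (hP.map _)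
    · rintro _ ⟨a, ha, rfl⟩ _ ⟨x, hx, rfl⟩
      exact ⟨a * x * a⁻¹, hnorm a ha x hx, by simp⟩
    · have h1 : P.map (QuotientGroup.mk' (pPrimeCore p G)) ≤ pCore p (G ⧸ pPrimeCore p G) := by
        rw [Subgroup.map_le_iff_le_comap]; exact hle
      exact h1.trans (pCore_le_pPrimePCore p)
    · rw [hbot, bot_sup_eq]
      have : P.map (QuotientGroup.mk' (pPrimeCore p G)) =
          (pPrimeCore p G ⊔ P).map (QuotientGroup.mk' (pPrimeCore p G)) := by
        rw [Subgroup.map_sup]
        have : (pPrimeCore p G).map (QuotientGroup.mk' (pPrimeCore p G)) = ⊥ := by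
          rw [Subgroup.map_eq_bot_iff, QuotientGroup.ker_mk']
        rw [this, bot_sup_eq]
      rw [this]
      exact hN.map _ (QuotientGroup.mk'_surjective _)
    · rw [← Subgroup.map_commutator, ← Subgroup.map_commutator, hcomm, Subgroup.map_bot]

end main

end Cfsg.Agent.Lib.Helper17
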