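import Mathlib
import Cfsg.Prelude.Def_Local
import Cfsg.Agent.Lib.Helper17.PSolvBasic
import Cfsg.Agent.Lib.Helper2.CoprimeSylow
import Cfsg.Agent.Lib.Helper17.PStableQuot
import Cfsg.Agent.Lib.Helper17.McBride
import Cfsg.Agent.Lib.Helper17.OrbitIndex
import Cfsg.Agent.Lib.Helper20.CoprimeLift

/-!
If `G` is `p`- or `q`-solvable and `p` divides no class size of a `q`-element, then some Sylow
`p`-subgroup normalizes some Sylow `q`-subgroup (helper17).
-/

set_option autoImplicit false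

namespace Cfsg.Agent.Lib.Helper17

open Cfsg
open scoped Pointwise

universe u

section basics

variable {G : Type u} [Group G] [Finite G] {p : ℕ} [Fact p.Prime]

theorem normal_isPGroup_le_sylow (N : Subgroup G) [N.Normal] (hN : IsPGroup p N) (P : Sylow p G) :
    N ≤ (P : Subgroup G) := by
  have hsup : IsPGroup p (N ⊔ (P : Subgroup G) : Subgroup G) := hN.to_sup_of_normal_left P.2
  have := P.is_maximal' hsup le_sup_right
  rw [← this]; exact le_sup_left

theorem exists_sylow_le_of_not_dvd_index (C : Subgroup G) (hC : ¬ p ∣ C.index) :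
    ∃ P : Sylow p G, (P : Subgroup G) ≤ C := by
  obtain ⟨P₀⟩ : Nonempty (Sylow p ↥C) := inferInstance
  have hA : IsPGroup p ((P₀ : Subgroup ↥C).map C.subtype) := P₀.2.map _
  have hidx : ¬ p ∣ ((P₀ : Subgroup ↥C).map C.subtype).index := by
    rw [Subgroup.index_map_subtype]
    exact Nat.Prime.not_dvd_mul Fact.out P₀.not_dvd_index hC
  exact ⟨hA.toSylow hidx, Subgroup.map_subtype_le _⟩

/-- The finishing argument: if `P` normalizes `X ≥ Q` and `|X : N_X(Q)|` is prime to `p`, a
conjugate of `P` normalizes `Q`. -/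
theorem exists_sylow_le_normalizer_of_relIndex {q : ℕ} [Fact q.Prime] (P : Sylow p G)
    (Q : Sylow q G) (X : Subgroup G) (hQX : (Q : Subgroup G) ≤ X)
    (hPX : (P : Subgroup G) ≤ Subgroup.normalizer (X : Set G))
    (hidx : ¬ p ∣ (X ⊓ Subgroup.normalizer ((Q : Subgroup G) : Set G)).relIndex X) :
    ∃ (P' : Sylow p G) (Q' : Sylow q G),
      (P' : Subgroup G) ≤ Subgroup.normalizer ((Q' : Subgroup G) : Set G) := by
  obtain ⟨Y, hY⟩ : ∃ Y : Subgroup G, Y = X ⊔ (P : Subgroup G) := ⟨_, rfl⟩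
  have hXY : X ≤ Y := by rw [hY]; exact le_sup_left
  have hPY : (P : Subgroup G) ≤ Y := by rw [hY]; exact le_sup_right
  have hYN : Y ≤ Subgroup.normalizer (X : Set G) := by
    rw [hY]; exact sup_le Subgroup.le_normalizer hPX
  obtain ⟨T, hT⟩ : ∃ T : Subgroup G,
    T = Y ⊓ Subgroup.normalizer ((Q : Subgroup G) : Set G) := ⟨_, rfl⟩
  have hfr : Y ≤ X ⊔ T := by rw [hT]; exact frattini_sub Q hXY hYN hQX
  have hTY : T ≤ Y := by rw [hT]; exact inf_le_left
  have hXT : X ⊔ T = Y := le_antisymm (sup_le hXY hTY) hfr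
  have hTX : T ⊓ X = X ⊓ Subgroup.normalizer ((Q : Subgroup G) : Set G) := by
    rw [hT, inf_comm, ← inf_assoc, inf_eq_left.mpr hXY]
  have h1 : T.relIndex Y = (X ⊓ Subgroup.normalizer ((Q : Subgroup G) : Set G)).relIndex X := by
    rw [← hXT, relIndex_sup_of_le_normalizer X T (hTY.trans hYN), ← Subgroup.inf_relIndex_right,
      hTX]
  obtain ⟨A₀⟩ : Nonempty (Sylow p ↥T) := inferInstance
  obtain ⟨A, hAdef⟩ : ∃ A : Subgroup G, A = (A₀ : Subgroup ↥T).map T.subtype := ⟨_, rfl⟩
  have hAp : IsPGroup p A := by rw [hAdef]; exact A₀.2.map _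
  have hAT : A ≤ T := by rw [hAdef]; exact Subgroup.map_subtype_le _
  have h2 : A.relIndex T = (A₀ : Subgroup ↥T).index := by
    rw [hAdef, Subgroup.relIndex]
    congr 1
    exact Subgroup.comap_map_eq_self_of_injective T.subtype_injective _
  have h3 : ¬ p ∣ A.relIndex Y := by
    rw [← Subgroup.relIndex_mul_relIndex A T Y hAT hTY, h2, h1]
    exact Nat.Prime.not_dvd_mul Fact.out A₀.not_dvd_index hidx
  obtain ⟨k, hk, hconj⟩ := exists_conj_le_of_not_dvd_relIndex Y A (P : Subgroup G) hAp h3 P.2 hPY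
  refine ⟨k • P, Q, ?_⟩
  intro x hx
  rw [Sylow.coe_subgroup_smul, Subgroup.mem_pointwise_smul_iff_inv_smul_mem] at hx
  have h4 := hconj _ hx
  have h5 : k * ((MulAut.conj k)⁻¹ • x) * k⁻¹ = x := by
    simp [MulAut.smul_def, mul_assoc]
  rw [h5] at h4
  have h6 : x ∈ T := hAT h4
  rw [hT] at h6
  exact (Subgroup.mem_inf.mp h6).2

end basics

section cases

variable {G : Type u} [Group G] [Finite G] {p q : ℕ} [Fact p.Prime] [Fact q.Prime]

theorem relIndex_sup_normalizer_eq (N : Subgroup G) [N.Normal] (Q : Subgroup G) :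
    ((Q ⊔ N) ⊓ Subgroup.normalizer (Q : Set G)).relIndex (Q ⊔ N) =
      (N ⊓ Subgroup.normalizer (Q : Set G)).relIndex N := by
  obtain ⟨T', hT'⟩ : ∃ T' : Subgroup G, T' = (Q ⊔ N) ⊓ Subgroup.normalizer (Q : Set G) := ⟨_, rfl⟩
  have hQT : Q ≤ T' := by rw [hT']; exact le_inf le_sup_left Subgroup.le_normalizer
  have hT'X : T' ≤ Q ⊔ N := by rw [hT']; exact inf_le_left
  have hsup : N ⊔ T' = Q ⊔ N :=
    le_antisymm (sup_le le_sup_right hT'X) (sup_le (hQT.trans le_sup_right) le_sup_left)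
  have hTN : T' ≤ Subgroup.normalizer (N : Set G) := by
    rw [Subgroup.normalizer_eq_top]; exact le_top
  have hinf : T' ⊓ N = N ⊓ Subgroup.normalizer (Q : Set G) := by
    rw [hT']
    exact le_antisymm (le_inf inf_le_right (inf_le_left.trans inf_le_right))
      (le_inf (le_inf (inf_le_left.trans le_sup_right) inf_le_right) inf_le_left)
  rw [← hT', ← hsup, relIndex_sup_of_le_normalizer N T' hTN, ← Subgroup.inf_relIndex_right, hinf]

theorem q_element_of_mem_sylow (Q : Sylow q G) {y : G} (hy : y ∈ (Q : Subgroup G)) :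
    ∃ k : ℕ, orderOf y = q ^ k := by
  obtain ⟨k, hk⟩ := (IsPGroup.iff_orderOf.mp Q.2) ⟨y, hy⟩
  exact ⟨k, by rw [← hk, Subgroup.orderOf_mk]⟩

/-- Case: `N` is a normal `p`-subgroup. -/
theorem caseB (N : Subgroup G) [N.Normal] (hN : IsPGroup p N)
    (h : ∀ y : G, (∃ k : ℕ, orderOf y = q ^ k) →
      ¬ p ∣ (Subgroup.centralizer ({y} : Set G)).index) (Q : Sylow q G) :
    N ≤ Subgroup.normalizer ((Q : Subgroup G) : Set G) := by
  intro n hn
  apply Subgroup.centralizer_le_normalizer
  rw [Subgroup.mem_centralizer_iff]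
  intro y hy
  obtain ⟨P_y, hP_y⟩ := exists_sylow_le_of_not_dvd_index (p := p) (Subgroup.centralizer ({y} : Set G))
    (h y (q_element_of_mem_sylow Q hy))
  have h1 : n ∈ Subgroup.centralizer ({y} : Set G) :=
    hP_y (normal_isPGroup_le_sylow N hN P_y hn)
  exact Subgroup.mem_centralizer_iff.mp h1 y rfl

/-- Case: `N` is a normal `q'`-subgroup. -/
theorem caseD (N : Subgroup G) [N.Normal] (hN : ¬ q ∣ Nat.card N)
    (h : ∀ y : G, (∃ k : ℕ, orderOf y = q ^ k) →
      ¬ p ∣ (Subgroup.centralizer ({y} : Set G)).index) (Q : Sylow q G) :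
    ¬ p ∣ (N ⊓ Subgroup.normalizer ((Q : Subgroup G) : Set G)).relIndex N := by
  have hqN : (q : ℕ).Coprime (Nat.card N) := (Nat.Prime.coprime_iff_not_dvd Fact.out).mpr hN
  have hQN : (Q : Subgroup G) ≤ Subgroup.normalizer (N : Set G) := by
    rw [Subgroup.normalizer_eq_top]; exact le_top
  have hcop : (Nat.card (Q : Subgroup G)).Coprime (Nat.card N) := by
    obtain ⟨a, ha⟩ := IsPGroup.iff_card.mp Q.2
    rw [ha]; exact Nat.Coprime.pow_left a hqN
  haveI : Group.IsNilpotent ↥(Q : Subgroup G) := Q.2.isNilpotent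
  have hsolv : Group.IsSolvable ↥(Q : Subgroup G) := inferInstance
  obtain ⟨P₀, hP₀⟩ := Helper2.exists_invariant_sylow (Q : Subgroup G) N hQN hcop (Or.inl hsolv) p
  have hcent : (P₀ : Subgroup ↥N).map N.subtype ≤ Subgroup.centralizer ((Q : Subgroup G) : Set G) := by
    intro x hx
    rw [Subgroup.mem_centralizer_iff]
    intro y hy
    obtain ⟨k, hk⟩ := q_element_of_mem_sylow Q hy
    have hC := h y ⟨k, hk⟩
    obtain ⟨C, hCdef⟩ : ∃ C : Subgroup G, C = Subgroup.centralizer ({y} : Set G) := ⟨_, rfl⟩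
    rw [← hCdef] at hC
    have h1 : ¬ p ∣ (C ⊓ N).relIndex N := by
      rw [← Helper20.relIndex_sup_eq_inf_relIndex C N]
      exact fun hd => hC (hd.trans (Subgroup.relIndex_dvd_index_of_le le_sup_left))
    obtain ⟨B₀⟩ : Nonempty (Sylow p ↥(C ⊓ N)) := inferInstance
    obtain ⟨B, hBdef⟩ : ∃ B : Subgroup G, B = (B₀ : Subgroup ↥(C ⊓ N)).map (C ⊓ N).subtype :=
      ⟨_, rfl⟩
    have hBp : IsPGroup p B := by rw [hBdef]; exact B₀.2.map _
    have hBCN : B ≤ C ⊓ N := by rw [hBdef]; exact Subgroup.map_subtype_le _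
    have h2 : B.relIndex (C ⊓ N) = (B₀ : Subgroup ↥(C ⊓ N)).index := by
      rw [hBdef, Subgroup.relIndex]
      congr 1
      exact Subgroup.comap_map_eq_self_of_injective (C ⊓ N).subtype_injective _
    have h3 : ¬ p ∣ B.relIndex N := by
      rw [← Subgroup.relIndex_mul_relIndex B (C ⊓ N) N hBCN inf_le_right, h2]
      exact Nat.Prime.not_dvd_mul Fact.out B₀.not_dvd_index h1
    have hB' : IsPGroup p (B.subgroupOf N) := hBp.comap_subtype
    obtain ⟨P₁, hP₁⟩ : ∃ P₁ : Sylow p ↥N, (P₁ : Subgroup ↥N) = B.subgroupOf N :=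
      ⟨hB'.toSylow h3, rfl⟩
    have hP₁map : (P₁ : Subgroup ↥N).map N.subtype = B := by
      rw [hP₁, Subgroup.subgroupOf_map_subtype, inf_eq_left.mpr (hBCN.trans inf_le_right)]
    have hyC : ∀ b ∈ B, b * y = y * b := by
      intro b hb
      have hbC : b ∈ Subgroup.centralizer ({y} : Set G) := by
        rw [← hCdef]; exact (hBCN hb).1
      exact (Subgroup.mem_centralizer_iff.mp hbC y rfl).symm
    have hA_N : Subgroup.zpowers y ≤ Subgroup.normalizer (N : Set G) := by
      rw [Subgroup.normalizer_eq_top]; exact le_top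
    have hAcop : (Nat.card (Subgroup.zpowers y)).Coprime (Nat.card N) := by
      rw [Nat.card_zpowers, hk]; exact Nat.Coprime.pow_left k hqN
    have hAsolv : Group.IsSolvable ↥(Subgroup.zpowers y) := inferInstance
    have hA_P₀ : Subgroup.zpowers y ≤
        Subgroup.normalizer (((P₀ : Subgroup ↥N).map N.subtype : Subgroup G) : Set G) :=
      ((Subgroup.zpowers_le).mpr hy).trans hP₀
    have hA_P₁ : Subgroup.zpowers y ≤
        Subgroup.normalizer (((P₁ : Subgroup ↥N).map N.subtype : Subgroup G) : Set G) := by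
      rw [hP₁map]
      refine le_trans ?_ (Subgroup.centralizer_le_normalizer _)
      rw [Subgroup.zpowers_le, Subgroup.mem_centralizer_iff]
      intro b hb
      exact hyC b hb
    obtain ⟨c, hcA, hcP⟩ := Helper2.invariant_sylow_conj (Subgroup.zpowers y) N hA_N hAcop
      (Or.inl hAsolv) p P₁ P₀ hA_P₁ hA_P₀
    have hmap : (P₀ : Subgroup ↥N).map N.subtype = B.map (MulAut.conj (c : G)).toMonoidHom := by
      rw [← hcP, Sylow.pointwise_smul_def, Helper2.map_subtype_conj_smul, hP₁map]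
    rw [hmap] at hx
    obtain ⟨b, hb, rfl⟩ := hx
    have hcy : (c : G) * y = y * (c : G) :=
      (Subgroup.mem_centralizer_iff.mp hcA y (Subgroup.mem_zpowers y)).symm
    have hby := hyC b hb
    show y * ((c : G) * b * (c : G)⁻¹) = (c : G) * b * (c : G)⁻¹ * y
    have hcy' : (c : G)⁻¹ * y = y * (c : G)⁻¹ := by
      calc (c : G)⁻¹ * y = (c : G)⁻¹ * (y * (c : G)) * (c : G)⁻¹ := by group
        _ = (c : G)⁻¹ * ((c : G) * y) * (c : G)⁻¹ := by rw [hcy]
        _ = y * (c : G)⁻¹ := by group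
    calc y * ((c : G) * b * (c : G)⁻¹) = (y * (c : G)) * b * (c : G)⁻¹ := by group
      _ = ((c : G) * y) * b * (c : G)⁻¹ := by rw [hcy]
      _ = (c : G) * (y * b) * (c : G)⁻¹ := by group
      _ = (c : G) * (b * y) * (c : G)⁻¹ := by rw [hby]
      _ = (c : G) * b * (y * (c : G)⁻¹) := by group
      _ = (c : G) * b * ((c : G)⁻¹ * y) := by rw [hcy']
      _ = (c : G) * b * (c : G)⁻¹ * y := by group
  have hle : (P₀ : Subgroup ↥N).map N.subtype ≤
      N ⊓ Subgroup.normalizer ((Q : Subgroup G) : Set G) :=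
    le_inf (Subgroup.map_subtype_le _) (hcent.trans (Subgroup.centralizer_le_normalizer _))
  intro hd
  have h4 : (N ⊓ Subgroup.normalizer ((Q : Subgroup G) : Set G)).relIndex N ∣
      ((P₀ : Subgroup ↥N).map N.subtype).relIndex N := Subgroup.relIndex_dvd_of_le_left N hle
  have h5 : ((P₀ : Subgroup ↥N).map N.subtype).relIndex N = (P₀ : Subgroup ↥N).index := by
    rw [Subgroup.relIndex]
    congr 1
    exact Subgroup.comap_map_eq_self_of_injective N.subtype_injective _
  rw [h5] at h4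
  exact P₀.not_dvd_index (hd.trans h4)

end cases

section main

theorem class_size_sylow_aux (p q : ℕ) [Fact p.Prime] [Fact q.Prime] (n : ℕ) :
    ∀ (G : Type u) [Group G] [Finite G], Nat.card G = n →
      (IsPSolvable p G ∨ IsPSolvable q G) →
      (∀ y : G, (∃ k : ℕ, orderOf y = q ^ k) →
        ¬ p ∣ (Subgroup.centralizer ({y} : Set G)).index) →
      ∃ (P : Sylow p G) (Q : Sylow q G),
        (P : Subgroup G) ≤ Subgroup.normalizer ((Q : Subgroup G) : Set G) := by
  induction n using Nat.strong_induction_on with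
  | _ n ih =>
  intro G _ _ hcard hsolv h
  by_cases htriv : (⊤ : Subgroup G) = ⊥
  · obtain ⟨P⟩ : Nonempty (Sylow p G) := inferInstance
    obtain ⟨Q⟩ : Nonempty (Sylow q G) := inferInstance
    refine ⟨P, Q, fun x _ => ?_⟩
    have : x ∈ (⊤ : Subgroup G) := Subgroup.mem_top x
    rw [htriv, Subgroup.mem_bot] at this
    rw [this]; exact Subgroup.one_mem _
  · have hbt : (⊥ : Subgroup G) < ⊤ := lt_of_le_of_ne bot_le (Ne.symm htriv)
    obtain ⟨N, hNn, hNne, hNtype⟩ : ∃ N : Subgroup G, N.Normal ∧ N ≠ ⊥ ∧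
        ((IsPGroup p N ∨ ¬ p ∣ Nat.card N) ∨ (IsPGroup q N ∨ ¬ q ∣ Nat.card N)) := by
      rcases hsolv with hs | hs
      · obtain ⟨M, hMn, hlt, -, hM⟩ := PSolvBasic.exists_normal_between (Fact.out : p.Prime) hs
          (inferInstance : (⊥ : Subgroup G).Normal) (inferInstance : (⊤ : Subgroup G).Normal) hbt
        rw [Subgroup.relIndex_bot_left] at hM
        refine ⟨M, hMn, hlt.ne', Or.inl ?_⟩
        rcases hM with ⟨m, hm⟩ | hc
        · left; exact IsPGroup.of_card hm
        · right; exact (Nat.Prime.coprime_iff_not_dvd Fact.out).mp hc.symm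
      · obtain ⟨M, hMn, hlt, -, hM⟩ := PSolvBasic.exists_normal_between (Fact.out : q.Prime) hs
          (inferInstance : (⊥ : Subgroup G).Normal) (inferInstance : (⊤ : Subgroup G).Normal) hbt
        rw [Subgroup.relIndex_bot_left] at hM
        refine ⟨M, hMn, hlt.ne', Or.inr ?_⟩
        rcases hM with ⟨m, hm⟩ | hc
        · left; exact IsPGroup.of_card hm
        · right; exact (Nat.Prime.coprime_iff_not_dvd Fact.out).mp hc.symm
    haveI := hNn
    have hcardQ : Nat.card (G ⧸ N) < n := by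
      have h1 := Subgroup.card_mul_index N
      rw [hcard] at h1
      have h2 : 1 < Nat.card N := (Subgroup.one_lt_card_iff_ne_bot N).mpr hNne
      have h3 : 0 < N.index := Nat.pos_of_ne_zero Subgroup.index_ne_zero_of_finite
      show N.index < n
      nlinarith
    have hsolvQ : IsPSolvable p (G ⧸ N) ∨ IsPSolvable q (G ⧸ N) :=
      hsolv.imp (fun hs => PSolvBasic.isPSolvable_quotient Fact.out hs N)
        (fun hs => PSolvBasic.isPSolvable_quotient Fact.out hs N)
    have hQ : ∀ y : G ⧸ N, (∃ k : ℕ, orderOf y = q ^ k) →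
        ¬ p ∣ (Subgroup.centralizer ({y} : Set (G ⧸ N))).index := by
      rintro yb ⟨k, hk⟩
      have hB : IsPGroup q (Subgroup.zpowers yb) :=
        IsPGroup.of_card (n := k) (by rw [Nat.card_zpowers, hk])
      obtain ⟨A, hA, hAmap⟩ := exists_isPGroup_map_eq q (QuotientGroup.mk'_surjective N)
        (Subgroup.zpowers yb) hB
      have hyb : yb ∈ A.map (QuotientGroup.mk' N) := by
        rw [hAmap]; exact Subgroup.mem_zpowers yb
      obtain ⟨y, hyA, rfl⟩ := hyb
      obtain ⟨j, hj⟩ := IsPGroup.iff_orderOf.mp hA ⟨y, hyA⟩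
      rw [Subgroup.orderOf_mk] at hj
      have h1 := h y ⟨j, hj⟩
      intro hd
      apply h1
      have h2 : (Subgroup.centralizer ({y} : Set G)).map (QuotientGroup.mk' N) ≤
          Subgroup.centralizer ({QuotientGroup.mk' N y} : Set (G ⧸ N)) := by
        have := Subgroup.map_centralizer_le_centralizer_image ({y} : Set G) (QuotientGroup.mk' N)
        rwa [Set.image_singleton] at this
      exact (hd.trans (Subgroup.index_dvd_of_le h2)).trans
        (Subgroup.index_map_dvd _ (QuotientGroup.mk'_surjective N))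
    obtain ⟨Pb, Qb, hPQb⟩ := ih _ hcardQ (G ⧸ N) rfl hsolvQ hQ
    obtain ⟨P, hP⟩ := Sylow.mapSurjective_surjective (QuotientGroup.mk'_surjective N) p Pb
    obtain ⟨Q, hQ'⟩ := Sylow.mapSurjective_surjective (QuotientGroup.mk'_surjective N) q Qb
    have hPX : (P : Subgroup G) ≤
        Subgroup.normalizer (((Q : Subgroup G) ⊔ N : Subgroup G) : Set G) := by
      intro g hg
      have h1 : QuotientGroup.mk' N g ∈ (Pb : Subgroup (G ⧸ N)) := by
        rw [← hP]; exact Subgroup.mem_map_of_mem _ hg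
      have h2 := hPQb h1
      have h3 : ((Q : Subgroup G) ⊔ N : Subgroup G) =
          (Qb : Subgroup (G ⧸ N)).comap (QuotientGroup.mk' N) := by
        rw [← hQ']
        show _ = ((Q : Subgroup G).map (QuotientGroup.mk' N)).comap (QuotientGroup.mk' N)
        rw [Subgroup.comap_map_eq, QuotientGroup.ker_mk']
      rw [h3]
      exact Subgroup.le_normalizer_comap (QuotientGroup.mk' N)
        (show g ∈ (Subgroup.normalizer ((Qb : Subgroup (G ⧸ N)) : Set (G ⧸ N))).comap
          (QuotientGroup.mk' N) from h2)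
    have hp1 : ¬ p ∣ 1 := (Nat.Prime.one_lt Fact.out).ne' ∘ Nat.dvd_one.mp
    have hidx : ¬ p ∣ (((Q : Subgroup G) ⊔ N) ⊓
        Subgroup.normalizer ((Q : Subgroup G) : Set G)).relIndex ((Q : Subgroup G) ⊔ N) := by
      rw [relIndex_sup_normalizer_eq]
      rcases hNtype with (hN | hN) | (hN | hN)
      · have := caseB N hN h Q
        rw [inf_eq_left.mpr this, Subgroup.relIndex_self]
        exact hp1
      · exact fun hd => hN (hd.trans (Subgroup.relIndex_dvd_card _ _))
      · have := (normal_isPGroup_le_sylow N hN Q).trans Subgroup.le_normalizer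
        rw [inf_eq_left.mpr this, Subgroup.relIndex_self]
        exact hp1
      · exact caseD N hN h Q
    exact exists_sylow_le_normalizer_of_relIndex P Q ((Q : Subgroup G) ⊔ N) le_sup_left hPX hidx

theorem class_size_sylow {G : Type u} [Group G] [Finite G] (p q : ℕ) [Fact p.Prime] [Fact q.Prime]
    (hsolv : IsPSolvable p G ∨ IsPSolvable q G)
    (h : ∀ y : G, (∃ k : ℕ, orderOf y = q ^ k) →
      ¬ p ∣ (Subgroup.centralizer ({y} : Set G)).index) :
    ∃ (P : Sylow p G) (Q : Sylow q G),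
      (P : Subgroup G) ≤ Subgroup.normalizer ((Q : Subgroup G) : Set G) :=
  class_size_sylow_aux p q _ G rfl hsolv h

end main

end Cfsg.Agent.Lib.Helper17
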