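import Mathlib

set_option autoImplicit false

/-!
# Groups with central commutators and centre of order two: centralizer orders
-/

namespace Cfsg.Agent.Lib.Helper17

open scoped commutatorElement

section

variable {E : Type*} [Group E]

/-- In a group with central commutators, `h ↦ ⁅h, q⁆` is multiplicative. -/
theorem commutatorElement_mul_left_of_central (hcomm : ∀ a b : E, ⁅a, b⁆ ∈ Subgroup.center E)
    (h₁ h₂ q : E) : ⁅h₁ * h₂, q⁆ = ⁅h₁, q⁆ * ⁅h₂, q⁆ := by
  have hc : ∀ g : E, g * ⁅h₂, q⁆ = ⁅h₂, q⁆ * g :=
    fun g => (Subgroup.mem_center_iff.mp (hcomm h₂ q) g)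
  have e : ⁅h₁ * h₂, q⁆ = h₁ * ⁅h₂, q⁆ * h₁⁻¹ * ⁅h₁, q⁆ := by
    simp only [commutatorElement_def]
    group
  rw [e, hc h₁, mul_assoc ⁅h₂, q⁆, mul_inv_cancel, mul_one]
  exact (hc ⁅h₁, q⁆).symm

/-- The homomorphism `H → Z(E)`, `h ↦ ⁅h, q⁆`. -/
noncomputable def commHom (hcomm : ∀ a b : E, ⁅a, b⁆ ∈ Subgroup.center E) (H : Subgroup E) (q : E) :
    H →* Subgroup.center E where
  toFun h := ⟨⁅(h : E), q⁆, hcomm _ _⟩
  map_one' := by
    apply Subtype.ext
    show ⁅((1 : H) : E), q⁆ = 1
    rw [Subgroup.coe_one, commutatorElement_one_left]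
  map_mul' a b := by
    apply Subtype.ext
    show ⁅((a * b : H) : E), q⁆ = ⁅(a : E), q⁆ * ⁅(b : E), q⁆
    rw [Subgroup.coe_mul]
    exact commutatorElement_mul_left_of_central hcomm _ _ _

theorem two_mul_card_inf_centralizer [Finite E]
    (hZ : Nat.card (Subgroup.center E) = 2) (hcomm : ∀ a b : E, ⁅a, b⁆ ∈ Subgroup.center E)
    (H : Subgroup E) (q : E) [Decidable (H ≤ Subgroup.centralizer {q})] :
    2 * Nat.card ↥(H ⊓ Subgroup.centralizer {q}) =
      Nat.card H + (if H ≤ Subgroup.centralizer {q} then Nat.card H else 0) := by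
  by_cases hle : H ≤ Subgroup.centralizer {q}
  · rw [if_pos hle, inf_eq_left.mpr hle]
    ring
  · rw [if_neg hle, add_zero]
    set f := commHom hcomm H q with hf
    have hker : f.ker = (H ⊓ Subgroup.centralizer {q}).subgroupOf H := by
      ext h
      rw [MonoidHom.mem_ker, Subgroup.mem_subgroupOf, Subgroup.mem_inf,
        Subgroup.mem_centralizer_singleton_iff]
      constructor
      · intro h1
        have h2 : ⁅(h : E), q⁆ = 1 := congrArg Subtype.val h1
        rw [commutatorElement_eq_one_iff_mul_comm] at h2
        exact ⟨h.2, h2⟩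
      · rintro ⟨-, h2⟩
        apply Subtype.ext
        show ⁅(h : E), q⁆ = 1
        rw [commutatorElement_eq_one_iff_mul_comm]
        exact h2
    haveI : Fact (Nat.card (Subgroup.center E)).Prime := ⟨by rw [hZ]; exact Nat.prime_two⟩
    have hrange : f.range = ⊤ := by
      rcases Subgroup.eq_bot_or_eq_top_of_prime_card f.range with h | h
      · exfalso
        apply hle
        intro h' hh'
        rw [Subgroup.mem_centralizer_singleton_iff]
        have h1 : f ⟨h', hh'⟩ ∈ f.range := ⟨_, rfl⟩
        rw [h, Subgroup.mem_bot] at h1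
        have h2 : ⁅h', q⁆ = 1 := congrArg Subtype.val h1
        rw [commutatorElement_eq_one_iff_mul_comm] at h2
        exact h2
      · exact h
    have h1 := Subgroup.card_mul_index f.ker
    rw [Subgroup.index_ker, hrange, Subgroup.card_top, hZ, hker] at h1
    have h2 : Nat.card ↥((H ⊓ Subgroup.centralizer {q}).subgroupOf H) =
        Nat.card ↥(H ⊓ Subgroup.centralizer {q}) :=
      Nat.card_congr (Subgroup.subgroupOfEquivOfLe inf_le_left).toEquiv
    rw [h2] at h1
    omega

end

section Count

variable {E : Type*} [Group E] [Fintype E] [DecidableEq E]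

theorem card_filter_mem_subgroup (K : Subgroup E) [DecidablePred (· ∈ K)] :
    (Finset.univ.filter (· ∈ K)).card = Nat.card K := by
  rw [Nat.card_eq_fintype_card, Fintype.card_subtype]

/-- Double counting of commuting pairs: `|C_E(H)| · |H| = 2 |E|` when commutators are central,
the centre has order two and lies in `H`. -/
theorem card_centralizer_mul_card
    (hZ : Nat.card (Subgroup.center E) = 2) (hcomm : ∀ a b : E, ⁅a, b⁆ ∈ Subgroup.center E)
    (H : Subgroup E) (hZH : Subgroup.center E ≤ H) :
    Nat.card (Subgroup.centralizer (H : Set E)) * Nat.card H = 2 * Nat.card E := by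
  classical
  have key : ∑ a ∈ Finset.univ.filter (· ∈ H), (Finset.univ.filter (fun b : E => a * b = b * a)).card
      = ∑ b : E, ((Finset.univ.filter (· ∈ H)).filter (fun a => a * b = b * a)).card := by
    simp_rw [Finset.card_filter]
    exact Finset.sum_comm
  have hA : ∀ a : E, 2 * (Finset.univ.filter (fun b : E => a * b = b * a)).card
      = Nat.card E + (if a ∈ Subgroup.center E then Nat.card E else 0) := by
    intro a
    have h1 := two_mul_card_inf_centralizer hZ hcomm (⊤ : Subgroup E) a
    rw [top_inf_eq, Subgroup.card_top] at h1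
    have h2 : (Finset.univ.filter (fun b : E => a * b = b * a)) =
        Finset.univ.filter (· ∈ Subgroup.centralizer {a}) := by
      apply Finset.filter_congr
      intro b _
      rw [Subgroup.mem_centralizer_singleton_iff]
      exact eq_comm
    rw [h2, card_filter_mem_subgroup, h1]
    congr 1
    have h3 : (⊤ : Subgroup E) ≤ Subgroup.centralizer {a} ↔ a ∈ Subgroup.center E := by
      rw [Subgroup.mem_center_iff]
      constructor
      · intro h g
        have := h (Subgroup.mem_top g)
        rw [Subgroup.mem_centralizer_singleton_iff] at this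
        exact this
      · intro h g _
        rw [Subgroup.mem_centralizer_singleton_iff]
        exact h g
    simp only [h3]
  have hB : ∀ b : E, 2 * ((Finset.univ.filter (· ∈ H)).filter (fun a => a * b = b * a)).card
      = Nat.card H + (if b ∈ Subgroup.centralizer (H : Set E) then Nat.card H else 0) := by
    intro b
    have h1 := two_mul_card_inf_centralizer hZ hcomm H b
    have h2 : ((Finset.univ.filter (· ∈ H)).filter (fun a => a * b = b * a)) =
        Finset.univ.filter (· ∈ H ⊓ Subgroup.centralizer {b}) := by
      rw [Finset.filter_filter]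
      apply Finset.filter_congr
      intro a _
      rw [Subgroup.mem_inf, Subgroup.mem_centralizer_singleton_iff]
    rw [h2, card_filter_mem_subgroup, h1]
    congr 1
    have h3 : H ≤ Subgroup.centralizer {b} ↔ b ∈ Subgroup.centralizer (H : Set E) := by
      rw [Subgroup.mem_centralizer_iff]
      constructor
      · intro h g hg
        have := h hg
        rw [Subgroup.mem_centralizer_singleton_iff] at this
        exact this
      · intro h g hg
        rw [Subgroup.mem_centralizer_singleton_iff]
        exact h g hg
    simp only [h3]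
  have hL : 2 * ∑ a ∈ Finset.univ.filter (· ∈ H),
      (Finset.univ.filter (fun b : E => a * b = b * a)).card
      = Nat.card H * Nat.card E + 2 * Nat.card E := by
    rw [Finset.mul_sum]
    simp_rw [hA]
    rw [Finset.sum_add_distrib, Finset.sum_const, smul_eq_mul, card_filter_mem_subgroup,
      Finset.sum_ite, Finset.sum_const_zero, add_zero, Finset.sum_const, smul_eq_mul,
      Finset.filter_filter]
    have h4 : (Finset.univ.filter (fun a : E => a ∈ H ∧ a ∈ Subgroup.center E)) =
        Finset.univ.filter (· ∈ Subgroup.center E) := by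
      apply Finset.filter_congr
      intro a _
      exact ⟨fun h => h.2, fun h => ⟨hZH h, h⟩⟩
    rw [h4, card_filter_mem_subgroup, hZ]
  have hR : 2 * ∑ b : E, ((Finset.univ.filter (· ∈ H)).filter (fun a => a * b = b * a)).card
      = Nat.card E * Nat.card H + Nat.card (Subgroup.centralizer (H : Set E)) * Nat.card H := by
    rw [Finset.mul_sum]
    simp_rw [hB]
    rw [Finset.sum_add_distrib, Finset.sum_const, smul_eq_mul, Finset.card_univ,
      Finset.sum_ite, Finset.sum_const_zero, add_zero, Finset.sum_const, smul_eq_mul,
      card_filter_mem_subgroup, Nat.card_eq_fintype_card (α := E)]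
  rw [key, hR] at hL
  have e : Nat.card E * Nat.card H = Nat.card H * Nat.card E := mul_comm _ _
  omega

end Count

end Cfsg.Agent.Lib.Helper17
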