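import Mathlib
import Cfsg.Prelude.Def_Transfer
import Cfsg.Agent.Lib.Helper24.Thompson
import Cfsg.Agent.Lib.Helper17.Thompson

set_option autoImplicit false

namespace Cfsg.Agent.Lib.Helper17

open Subgroup

section
variable {G : Type*} [Group G]

theorem card_le_two_of_forall_eq {H : Type*} [One H]
    (h : ∀ v w : H, v ≠ 1 → w ≠ 1 → v = w) : Nat.card H ≤ 2 := by
  classical
  have hinj : Function.Injective (fun v : H => decide (v = 1)) := by
    intro v w hvw
    simp only [decide_eq_decide] at hvw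
    by_cases hv : v = 1
    · rw [hv, (hvw.1 hv)]
    · exact h v w hv (fun hw => hv (hvw.2 hw))
  have := Nat.card_le_card_of_injective _ hinj
  simpa using this

/-- If all conjugates of `y` commute with `y` and `y ^ 2 = 1`, the normal closure of `y` is an
elementary abelian 2-group. -/
theorem normalClosure_ea_of_conj_commute {y : G} (hy2 : y ^ 2 = 1)
    (hc : ∀ g : G, Commute (g * y * g⁻¹) y) :
    Cfsg.IsElementaryAbelian 2 (normalClosure ({y} : Set G)) := by
  have hmem : ∀ c ∈ Group.conjugatesOfSet ({y} : Set G), ∃ g : G, g * y * g⁻¹ = c := by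
    intro c hc'
    rw [Group.mem_conjugatesOfSet_iff] at hc'
    obtain ⟨b, hb, hbc⟩ := hc'
    rw [Set.mem_singleton_iff] at hb
    subst hb
    exact isConj_iff.1 hbc
  have hpair : ∀ c ∈ Group.conjugatesOfSet ({y} : Set G),
      ∀ d ∈ Group.conjugatesOfSet ({y} : Set G), d * c = c * d := by
    intro c hc' d hd'
    obtain ⟨g, rfl⟩ := hmem c hc'
    obtain ⟨h, rfl⟩ := hmem d hd'
    have h1 : Commute ((g⁻¹ * h) * y * (g⁻¹ * h)⁻¹) y := hc _
    have h2 : h * y * h⁻¹ = g * ((g⁻¹ * h) * y * (g⁻¹ * h)⁻¹) * g⁻¹ := by group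
    rw [h2]
    have h3 := h1.eq
    calc g * ((g⁻¹ * h) * y * (g⁻¹ * h)⁻¹) * g⁻¹ * (g * y * g⁻¹)
        = g * (((g⁻¹ * h) * y * (g⁻¹ * h)⁻¹) * y) * g⁻¹ := by group
      _ = g * (y * ((g⁻¹ * h) * y * (g⁻¹ * h)⁻¹)) * g⁻¹ := by rw [h3]
      _ = g * y * g⁻¹ * (g * ((g⁻¹ * h) * y * (g⁻¹ * h)⁻¹) * g⁻¹) := by group
  have h1 : normalClosure ({y} : Set G) ≤ centralizer (Group.conjugatesOfSet ({y} : Set G)) := by
    unfold normalClosure
    rw [closure_le]
    intro d hd
    rw [SetLike.mem_coe, mem_centralizer_iff]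
    intro c hc'
    exact (hpair d hd c hc')
  have hcomm : normalClosure ({y} : Set G) ≤ centralizer (normalClosure ({y} : Set G) : Set G) := by
    have h2 : Group.conjugatesOfSet ({y} : Set G) ⊆
        centralizer (normalClosure ({y} : Set G) : Set G) := by
      intro c hc'
      rw [SetLike.mem_coe, mem_centralizer_iff]
      intro a ha
      exact ((mem_centralizer_iff.1 (h1 ha)) c hc').symm
    unfold normalClosure at h2 ⊢
    exact (closure_le _).2 h2
  rw [ea_iff]
  refine ⟨hcomm, ?_⟩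
  intro a ha
  unfold normalClosure at ha
  induction ha using closure_induction with
  | mem c hc' =>
    obtain ⟨g, rfl⟩ := hmem c hc'
    rw [conj_pow, hy2]; group
  | one => exact one_pow 2
  | mul a b ha hb iha ihb =>
    have hab : Commute a b := by
      have ha' : a ∈ normalClosure ({y} : Set G) := ha
      have hb' : b ∈ normalClosure ({y} : Set G) := hb
      exact (mem_centralizer_iff.1 (hcomm hb')) a ha'
    rw [hab.mul_pow, iha, ihb, one_mul]
  | inv a ha iha => rw [inv_pow, iha, inv_one]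

/-- An involution acting on a normal elementary abelian 2-subgroup `Y`: `|Y| ≤ |C_Y(x)|²`. -/
theorem card_le_sq_card_centralizer_of_involution [Finite G] {Y : Subgroup G} [hYn : Y.Normal]
    (hY : Cfsg.IsElementaryAbelian 2 Y) {x : G} (hx2 : x * x = 1) :
    Nat.card Y ≤ Nat.card ((centralizer ({x} : Set G)).subgroupOf Y) ^ 2 := by
  have hYc : ∀ a ∈ Y, ∀ b ∈ Y, a * b = b * a := fun a ha b hb => ea_comm hY ha hb
  have hYsq : ∀ a ∈ Y, a * a = 1 := by
    intro a ha
    have := hY.2 a ha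
    rwa [pow_two] at this
  have hxinv : x⁻¹ = x := inv_eq_of_mul_eq_one_left hx2
  have hconj : ∀ a ∈ Y, x * a * x⁻¹ ∈ Y := fun a ha => hYn.conj_mem a ha x
  let φ : Y →* Y := MonoidHom.mk' (fun v => ⟨v * (x * v * x⁻¹), mul_mem v.2 (hconj v v.2)⟩) (by
    intro v w
    apply Subtype.ext
    show (v : G) * w * (x * (v * w) * x⁻¹) = v * (x * v * x⁻¹) * (w * (x * w * x⁻¹))
    have h1 : (w : G) * (x * v * x⁻¹) = (x * v * x⁻¹) * w := hYc _ w.2 _ (hconj v v.2)
    calc (v : G) * w * (x * (v * w) * x⁻¹)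
        = v * (w * (x * v * x⁻¹)) * (x * w * x⁻¹) := by group
      _ = v * ((x * v * x⁻¹) * w) * (x * w * x⁻¹) := by rw [h1]
      _ = v * (x * v * x⁻¹) * (w * (x * w * x⁻¹)) := by group)
  have hφ : ∀ v : Y, ((φ v : Y) : G) = v * (x * v * x⁻¹) := fun v => rfl
  set F := (centralizer ({x} : Set G)).subgroupOf Y with hF
  have hmemF : ∀ v : Y, v ∈ F ↔ x * (v : G) = v * x := by
    intro v
    rw [hF, mem_subgroupOf, mem_centralizer_iff]
    simp
  have hker : φ.ker ≤ F := by
    intro v hv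
    rw [MonoidHom.mem_ker] at hv
    have h1 : (v : G) * (x * v * x⁻¹) = 1 := by
      rw [← hφ, hv]; rfl
    rw [hmemF]
    -- x v x⁻¹ = v⁻¹ = v
    have h2 : x * v * x⁻¹ = (v : G) := by
      have h3 : x * v * x⁻¹ = (v : G)⁻¹ := (inv_eq_of_mul_eq_one_right h1).symm
      rw [h3]
      exact inv_eq_of_mul_eq_one_left (hYsq v v.2)
    calc x * (v : G) = (x * v * x⁻¹) * x := by group
      _ = v * x := by rw [h2]
  have hrange : φ.range ≤ F := by
    rintro _ ⟨v, rfl⟩
    rw [hmemF, hφ]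
    have h1 : (v : G) * (x * v * x⁻¹) = (x * v * x⁻¹) * v := hYc _ v.2 _ (hconj v v.2)
    calc x * ((v : G) * (x * v * x⁻¹)) = (x * v * x⁻¹) * (x * x) * v * x⁻¹ := by group
      _ = (x * v * x⁻¹) * v * x⁻¹ := by rw [hx2, mul_one]
      _ = v * (x * v * x⁻¹) * x := by rw [← h1, hxinv]
  have h4 := Subgroup.card_mul_index φ.ker
  rw [Subgroup.index_ker] at h4
  calc Nat.card Y = Nat.card φ.ker * Nat.card φ.range := h4.symm
    _ ≤ Nat.card F * Nat.card F :=
        Nat.mul_le_mul (Subgroup.card_le_of_le hker) (Subgroup.card_le_of_le hrange)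
    _ = Nat.card F ^ 2 := (pow_two _).symm

end

end Cfsg.Agent.Lib.Helper17
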