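import Mathlib
import Cfsg.Agent.Lib.Helper2.Cores
import Cfsg.Agent.Lib.Helper11.FibreFix
import Cfsg.Agent.Lib.Helper17.Thompson

set_option autoImplicit false

namespace Cfsg.Agent.Lib.Helper17

open Cfsg Subgroup
open scoped Pointwise

section CorefreeMaximal
variable {G : Type*} [Group G] {M : Subgroup G}

theorem cfm_sup_eq_top (hM : IsCoatom M) (hcore : M.normalCore = ⊥) {K : Subgroup G}
    (hK : K.Normal) (hne : K ≠ ⊥) : M ⊔ K = ⊤ := by
  apply hM.2
  refine lt_of_le_of_ne le_sup_left ?_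
  intro h
  apply hne
  have hKM : K ≤ M := by
    rw [h]; exact le_sup_right
  have := (Subgroup.normal_le_normalCore (H := M)).2 hKM
  rw [hcore] at this
  exact le_bot_iff.1 this

theorem cfm_eq_bot (hcore : M.normalCore = ⊥) {X K : Subgroup G} (hXM : X ≤ M)
    (hMX : M ≤ normalizer (X : Set G)) (hKX : K ≤ centralizer (X : Set G))
    (hMK : M ⊔ K = ⊤) : X = ⊥ := by
  haveI hn : X.Normal := by
    rw [← normalizer_eq_top_iff, eq_top_iff, ← hMK]
    exact sup_le hMX (hKX.trans (centralizer_le_normalizer _))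
  have := (Subgroup.normal_le_normalCore (H := M)).2 hXM
  rw [hcore] at this
  exact le_bot_iff.1 this

theorem cfm_le_of_sup_eq_top {L K : Subgroup G} [K.Normal] (hKL : K ≤ L) (hMK : M ⊔ K = ⊤)
    (hML : M ⊓ L = ⊥) : L ≤ K := by
  intro l hl
  have h1 : l ∈ ((M ⊔ K : Subgroup G) : Set G) := by rw [hMK]; exact Set.mem_univ l
  rw [mul_normal] at h1
  obtain ⟨m, hm, k, hk, rfl⟩ := Set.mem_mul.1 h1
  have hmL : m ∈ L := by
    have := mul_mem hl (inv_mem (hKL hk))
    simpa using this
  have h2 : m ∈ M ⊓ L := ⟨hm, hmL⟩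
  rw [hML, mem_bot] at h2
  rw [h2, one_mul]; exact hk

theorem cfm_le_normalizer_inf (M X : Subgroup G) [hX : X.Normal] :
    M ≤ normalizer ((M ⊓ X : Subgroup G) : Set G) := by
  rw [le_normalizer_iff]
  intro m hm x hx
  rw [Subgroup.mem_inf] at hx ⊢
  exact ⟨mul_mem (mul_mem hm hx.1) (inv_mem hm), hX.conj_mem x hx.2 m⟩

variable [Finite G] (p : ℕ) [Fact p.Prime]

theorem cfm_main (hL : pCore p G ≠ ⊥) (hM : IsCoatom M) (hcore : M.normalCore = ⊥) :
    M ⊓ pCore p G = ⊥ ∧ M ⊔ pCore p G = ⊤ ∧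
      pCore p G ≤ centralizer (pCore p G : Set G) ∧
      (∀ K : Subgroup G, K.Normal → K ≤ pCore p G → K = ⊥ ∨ K = pCore p G) ∧
      centralizer (pCore p G : Set G) = pCore p G := by
  set L := pCore p G with hLdef
  haveI hLn : L.Normal := Cfsg.Agent.Lib.Helper2.pCore_normal p
  have hLp : IsPGroup p L := Cfsg.Agent.Lib.Helper2.pCore_isPGroup p
  set A : Subgroup G := L ⊓ centralizer (L : Set G) with hAdef
  haveI hAn : A.Normal := inferInstance
  have hA_ne : A ≠ ⊥ := by
    haveI : Nontrivial L := (Subgroup.nontrivial_iff_ne_bot L).2 hL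
    haveI : Nontrivial (center L) := hLp.center_nontrivial
    obtain ⟨z, hz⟩ := exists_ne (1 : center L)
    intro hbot
    apply hz
    have hzA : ((z : L) : G) ∈ A := by
      rw [hAdef, Subgroup.mem_inf]
      refine ⟨(z : L).2, ?_⟩
      rw [mem_centralizer_iff]
      intro l hl
      have := (mem_center_iff.1 z.2) ⟨l, hl⟩
      exact congrArg Subtype.val this
    rw [hbot, mem_bot] at hzA
    apply Subtype.ext
    apply Subtype.ext
    exact hzA
  have hMA : M ⊔ A = ⊤ := cfm_sup_eq_top hM hcore hAn hA_ne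
  have hML : M ⊓ L = ⊥ := by
    refine cfm_eq_bot hcore inf_le_left (cfm_le_normalizer_inf M L) ?_ hMA
    exact inf_le_right.trans (centralizer_le (SetLike.coe_subset_coe.2 inf_le_right))
  have hLA : L ≤ A := cfm_le_of_sup_eq_top inf_le_left hMA hML
  have hLab : L ≤ centralizer (L : Set G) := hLA.trans inf_le_right
  have hML' : M ⊔ L = ⊤ := by
    rw [eq_top_iff, ← hMA]
    exact sup_le_sup_left inf_le_left M
  refine ⟨hML, hML', hLab, ?_, ?_⟩
  · intro K hK hKL
    by_cases hne : K = ⊥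
    · left; exact hne
    · right
      haveI := hK
      exact le_antisymm hKL (cfm_le_of_sup_eq_top hKL (cfm_sup_eq_top hM hcore hK hne) hML)
  · apply le_antisymm _ hLab
    haveI : (centralizer (L : Set G)).Normal := normal_centralizer
    have hMC : M ⊓ centralizer (L : Set G) = ⊥ := by
      refine cfm_eq_bot hcore inf_le_left (cfm_le_normalizer_inf M _) ?_ hML'
      intro l hl
      rw [mem_centralizer_iff]
      intro x hx
      have hx2 : x ∈ centralizer (L : Set G) := hx.2
      rw [mem_centralizer_iff] at hx2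
      exact (hx2 l hl).symm
    exact cfm_le_of_sup_eq_top hLab hML' hMC

theorem cfm_elementaryAbelian (hL : pCore p G ≠ ⊥) (hM : IsCoatom M) (hcore : M.normalCore = ⊥) :
    Cfsg.IsElementaryAbelian p (pCore p G) := by
  obtain ⟨hML, hML', hLab, hmin, hcent⟩ := cfm_main p hL hM hcore
  set L := pCore p G with hLdef
  haveI hLn : L.Normal := Cfsg.Agent.Lib.Helper2.pCore_normal p
  have hLp : IsPGroup p L := Cfsg.Agent.Lib.Helper2.pCore_isPGroup p
  let Ω : Subgroup G :=
    { carrier := {x | x ∈ L ∧ x ^ p = 1}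
      mul_mem' := by
        rintro a b ⟨ha, ha'⟩ ⟨hb, hb'⟩
        have hc : Commute a b := hLab hb a ha
        exact ⟨mul_mem ha hb, by rw [hc.mul_pow, ha', hb', one_mul]⟩
      one_mem' := ⟨one_mem _, one_pow _⟩
      inv_mem' := by
        rintro a ⟨ha, ha'⟩
        exact ⟨inv_mem ha, by rw [inv_pow, ha', inv_one]⟩ }
  have hΩn : Ω.Normal := by
    refine ⟨fun x hx g => ⟨hLn.conj_mem x hx.1 g, ?_⟩⟩
    rw [conj_pow, hx.2]
    group
  have hΩL : Ω ≤ L := fun x hx => hx.1
  have hΩne : Ω ≠ ⊥ := by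
    have hcard : p ∣ Nat.card L := by
      obtain ⟨k, hk⟩ := IsPGroup.iff_card.1 hLp
      have hk0 : k ≠ 0 := by
        rintro rfl
        rw [pow_zero] at hk
        exact hL (Subgroup.card_eq_one.1 hk)
      rw [hk]
      exact dvd_pow_self p hk0
    obtain ⟨x, hx⟩ := exists_prime_orderOf_dvd_card' p hcard
    intro hbot
    have hxΩ : (x : G) ∈ Ω := by
      refine ⟨x.2, ?_⟩
      have := pow_orderOf_eq_one x
      rw [hx] at this
      have h2 := congrArg Subtype.val this
      simpa using h2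
    rw [hbot, mem_bot] at hxΩ
    have hx1 : x = 1 := Subtype.ext hxΩ
    rw [hx1, orderOf_one] at hx
    exact (Fact.out : p.Prime).one_lt.ne hx
  have hΩeq : Ω = L := (hmin Ω hΩn hΩL).resolve_left hΩne
  rw [ea_iff]
  refine ⟨hLab, fun a ha => ?_⟩
  have : a ∈ Ω := by rw [hΩeq]; exact ha
  exact this.2

theorem cfm_q (hL : pCore p G ≠ ⊥) (hM : IsCoatom M) (hcore : M.normalCore = ⊥)
    (q : ℕ) [Fact q.Prime] (hQ : pCore q ↥M ≠ ⊥) :
    Nat.card (pCore p G) % q = 1 % q ∧ q ≠ p := by
  obtain ⟨hML, hML', hLab, hmin, hcent⟩ := cfm_main p hL hM hcore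
  set L := pCore p G with hLdef
  haveI hLn : L.Normal := Cfsg.Agent.Lib.Helper2.pCore_normal p
  have hLp : IsPGroup p L := Cfsg.Agent.Lib.Helper2.pCore_isPGroup p
  set Q : Subgroup G := (pCore q ↥M).map M.subtype with hQdef
  have hQM : Q ≤ M := map_subtype_le _
  have hQq : IsPGroup q Q := (Cfsg.Agent.Lib.Helper2.pCore_isPGroup (G := ↥M) q).map _
  have hQne : Q ≠ ⊥ := by
    intro h
    apply hQ
    exact (map_eq_bot_iff_of_injective _ M.subtype_injective).1 h
  have hMQ : M ≤ normalizer (Q : Set G) := by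
    rw [le_normalizer_iff]
    rintro m hm _ ⟨y, hy, rfl⟩
    have hn : (pCore q ↥M).Normal := Cfsg.Agent.Lib.Helper2.pCore_normal q
    refine ⟨⟨m, hm⟩ * y * ⟨m, hm⟩⁻¹, hn.conj_mem y hy ⟨m, hm⟩, ?_⟩
    simp
  have hQL : ¬ Q ≤ L := by
    intro h
    apply hQne
    rw [eq_bot_iff, ← hML]
    exact le_inf hQM h
  constructor
  · -- fixed points
    have hmod := Cfsg.Agent.Lib.Helper11.card_modEq_card_centralized L Q hQq
    set F : Subgroup G := L ⊓ centralizer (Q : Set G) with hFdef
    have hFn : F.Normal := by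
      rw [← normalizer_eq_top_iff, eq_top_iff, ← hML']
      refine sup_le ?_ ?_
      · rw [le_normalizer_iff]
        intro m hm f hf
        rw [hFdef, Subgroup.mem_inf] at hf ⊢
        refine ⟨hLn.conj_mem f hf.1 m, ?_⟩
        rw [mem_centralizer_iff]
        intro u hu
        have hu' : m⁻¹ * u * m ∈ Q := by
          have := (le_normalizer_iff.1 hMQ) m⁻¹ (inv_mem hm) u hu
          simpa using this
        have hc : (m⁻¹ * u * m) * f = f * (m⁻¹ * u * m) := (mem_centralizer_iff.1 hf.2) _ hu'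
        calc u * (m * f * m⁻¹) = m * ((m⁻¹ * u * m) * f) * m⁻¹ := by group
          _ = m * (f * (m⁻¹ * u * m)) * m⁻¹ := by rw [hc]
          _ = m * f * m⁻¹ * u := by group
      · refine le_trans ?_ (centralizer_le_normalizer _)
        exact hLab.trans (centralizer_le (SetLike.coe_subset_coe.2 inf_le_left))
    have hFbot : F = ⊥ := by
      rcases hmin F hFn inf_le_left with h | h
      · exact h
      · exfalso
        apply hQL
        have h1 : L ≤ centralizer (Q : Set G) := by
          rw [← h]; exact inf_le_right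
        rw [le_centralizer_iff] at h1
        rw [← hcent]
        exact h1
    have hone : Nat.card {g : G // g ∈ L ∧ ∀ k ∈ Q, k * g = g * k} = 1 := by
      rw [Nat.card_eq_one_iff_unique]
      refine ⟨⟨fun a b => ?_⟩, ⟨⟨1, one_mem _, fun k _ => by simp⟩⟩⟩
      have hmem : ∀ c : {g : G // g ∈ L ∧ ∀ k ∈ Q, k * g = g * k}, (c : G) = 1 := by
        intro c
        have hcF : (c : G) ∈ F := by
          rw [hFdef, Subgroup.mem_inf]
          refine ⟨c.2.1, ?_⟩
          rw [mem_centralizer_iff]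
          intro k hk
          exact c.2.2 k hk
        rw [hFbot, mem_bot] at hcF
        exact hcF
      apply Subtype.ext
      rw [hmem a, hmem b]
    rw [hone] at hmod
    exact hmod
  · intro hqp
    subst hqp
    apply hQL
    have hsup : IsPGroup q (L ⊔ Q : Subgroup G) := IsPGroup.to_sup_of_normal_left hLp hQq
    have hsn : (L ⊔ Q : Subgroup G).Normal := by
      rw [← normalizer_eq_top_iff, eq_top_iff, ← hML']
      refine sup_le ?_ (le_sup_left.trans le_normalizer)
      rw [le_normalizer_iff]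
      intro m hm x hx
      have hx' : x ∈ ((L ⊔ Q : Subgroup G) : Set G) := hx
      rw [normal_mul] at hx'
      obtain ⟨l, hl, u, hu, rfl⟩ := Set.mem_mul.1 hx'
      have h1 : m * l * m⁻¹ ∈ L := hLn.conj_mem l hl m
      have h2 : m * u * m⁻¹ ∈ Q := (le_normalizer_iff.1 hMQ) m hm u hu
      have : m * (l * u) * m⁻¹ = (m * l * m⁻¹) * (m * u * m⁻¹) := by group
      rw [this]
      exact mul_mem (le_sup_left (a := L) (b := Q) h1) (le_sup_right (a := L) (b := Q) h2)
    have := Cfsg.Agent.Lib.Helper2.le_pCore hsn hsup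
    exact le_sup_right.trans this

end CorefreeMaximal

end Cfsg.Agent.Lib.Helper17
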