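import Mathlib

set_option autoImplicit false

namespace Cfsg.Agent.Lib.Helper17.CycMod

open scoped IsMulCommutative
open Polynomial

variable {F : Type*} [Field F] {H : Type*} [CommGroup H] {V : Type*} [AddCommGroup V] [Module F V]

/-- irreducibility hypothesis, as in the statement -/
def Irr (ρ : Representation F H V) : Prop :=
  ∀ U : Submodule F V, (∀ h : H, ∀ u ∈ U, ρ h u ∈ U) → U = ⊥ ∨ U = ⊤

/-- the kernel of an operator commuting with the action is invariant -/
theorem ker_invariant (ρ : Representation F H V) {e : Module.End F V}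
    (he : ∀ h : H, e * ρ h = ρ h * e) : ∀ h : H, ∀ u ∈ LinearMap.ker e, ρ h u ∈ LinearMap.ker e := by
  intro h u hu
  rw [LinearMap.mem_ker] at hu ⊢
  have := congrArg (fun f => f u) (he h)
  simp only [Module.End.mul_apply] at this
  rw [this, hu, map_zero]

theorem isCyclic_of_irr [Finite H] [Nontrivial V] (ρ : Representation F H V)
    (hfaith : Function.Injective ρ) (hirr : Irr ρ) : IsCyclic H := by
  classical
  have hcomm : ∀ a ∈ Set.range ρ, ∀ b ∈ Set.range ρ, a * b = b * a := by
    rintro _ ⟨h, rfl⟩ _ ⟨h', rfl⟩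
    rw [← map_mul, ← map_mul, mul_comm]
  haveI := Algebra.isMulCommutative_adjoin F hcomm
  have hcomm2 : ∀ e ∈ Algebra.adjoin F (Set.range ρ), ∀ h : H, e * ρ h = ρ h * e := by
    intro e he h
    have h1 : ρ h ∈ Algebra.adjoin F (Set.range ρ) := Algebra.subset_adjoin ⟨h, rfl⟩
    have := mul_comm (⟨e, he⟩ : Algebra.adjoin F (Set.range ρ)) ⟨ρ h, h1⟩
    exact congrArg Subtype.val this
  haveI : NoZeroDivisors (Algebra.adjoin F (Set.range ρ)) := by
    refine ⟨fun {a b} hab => ?_⟩
    rcases hirr (LinearMap.ker a.1) (ker_invariant ρ (hcomm2 a.1 a.2)) with h0 | h1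
    · right
      apply Subtype.ext
      have hab' : a.1 * b.1 = 0 := congrArg Subtype.val hab
      ext v
      have : a.1 (b.1 v) = 0 := by
        have := congrArg (fun f => f v) hab'
        simpa using this
      have : b.1 v ∈ LinearMap.ker a.1 := this
      rw [h0] at this
      simpa using this
    · left
      apply Subtype.ext
      exact LinearMap.ker_eq_top.1 h1
  haveI : IsDomain (Algebra.adjoin F (Set.range ρ)) := NoZeroDivisors.to_isDomain _
  let f : H →* Algebra.adjoin F (Set.range ρ) :=
    { toFun := fun h => ⟨ρ h, Algebra.subset_adjoin ⟨h, rfl⟩⟩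
      map_one' := by apply Subtype.ext; simp
      map_mul' := fun a b => by apply Subtype.ext; simp }
  refine isCyclic_of_injective_ringHom f ?_
  intro a b hab
  apply hfaith
  exact congrArg Subtype.val hab

/-! ### a single irreducible operator -/

/-- irreducible operator -/
def OpIrr (T : Module.End F V) : Prop :=
  ∀ U : Submodule F V, (∀ u ∈ U, T u ∈ U) → U = ⊥ ∨ U = ⊤

theorem aeval_comm (T : Module.End F V) (f : F[X]) : aeval T f * T = T * aeval T f := by
  have h1 : aeval T (f * X) = aeval T f * T := by rw [map_mul, aeval_X]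
  have h2 : aeval T (X * f) = T * aeval T f := by rw [map_mul, aeval_X]
  rw [← h1, ← h2, mul_comm]

theorem ker_aeval_invariant (T : Module.End F V) (f : F[X]) :
    ∀ u ∈ LinearMap.ker (aeval T f), T u ∈ LinearMap.ker (aeval T f) := by
  intro u hu
  rw [LinearMap.mem_ker] at hu ⊢
  have := congrArg (fun g => g u) (aeval_comm T f)
  simp only [Module.End.mul_apply] at this
  rw [this, hu, map_zero]

/-- for an irreducible operator, `f(T)` kills one nonzero vector iff it is zero -/
theorem aeval_eq_zero_of_apply {T : Module.End F V} (hT : OpIrr T) {f : F[X]} {v : V} (hv : v ≠ 0)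
    (h : aeval T f v = 0) : aeval T f = 0 := by
  rcases hT _ (ker_aeval_invariant T f) with h0 | h1
  · exfalso
    have : v ∈ LinearMap.ker (aeval T f) := h
    rw [h0] at this
    exact hv (by simpa using this)
  · exact LinearMap.ker_eq_top.1 h1

theorem minpoly_irreducible [FiniteDimensional F V] [Nontrivial V] {T : Module.End F V}
    (hT : OpIrr T) : Irreducible (minpoly F T) := by
  have hint : IsIntegral F T := Algebra.IsIntegral.isIntegral T
  have hm0 : minpoly F T ≠ 0 := minpoly.ne_zero hint
  rw [irreducible_iff]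
  refine ⟨minpoly.not_isUnit F T, fun a b hab => ?_⟩
  have hprod : aeval T a * aeval T b = 0 := by
    rw [← map_mul, ← hab, minpoly.aeval]
  have ha0 : a ≠ 0 := by rintro rfl; rw [zero_mul] at hab; exact hm0 hab
  have hb0 : b ≠ 0 := by rintro rfl; rw [mul_zero] at hab; exact hm0 hab
  rcases hT _ (ker_aeval_invariant T a) with h0 | h1
  · -- a(T) injective, so b(T) = 0
    left
    have hb : aeval T b = 0 := by
      ext v
      have : aeval T a (aeval T b v) = 0 := by
        have := congrArg (fun g => g v) hprod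
        simpa using this
      have : aeval T b v ∈ LinearMap.ker (aeval T a) := this
      rw [h0] at this
      simpa using this
    obtain ⟨c, hc⟩ := minpoly.dvd F T hb
    -- m = a * (m * c), so a * c = 1
    have : minpoly F T * 1 = minpoly F T * (a * c) := by
      rw [mul_one]
      conv_lhs => rw [hab, hc]
      ring
    have := mul_left_cancel₀ hm0 this
    exact IsUnit.of_mul_eq_one c this.symm
  · right
    have ha : aeval T a = 0 := LinearMap.ker_eq_top.1 h1
    obtain ⟨c, hc⟩ := minpoly.dvd F T ha
    have : minpoly F T * 1 = minpoly F T * (b * c) := by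
      rw [mul_one]
      conv_lhs => rw [hab, hc]
      ring
    have := mul_left_cancel₀ hm0 this
    exact IsUnit.of_mul_eq_one c this.symm

/-- every vector is `f(T) v` -/
theorem exists_aeval_apply_eq {T : Module.End F V} (hT : OpIrr T) {v : V} (hv : v ≠ 0) (x : V) :
    ∃ f : F[X], aeval T f v = x := by
  let U : Submodule F V :=
    { carrier := {x | ∃ f : F[X], aeval T f v = x}
      add_mem' := by
        rintro _ _ ⟨f, rfl⟩ ⟨g, rfl⟩
        exact ⟨f + g, by rw [map_add, LinearMap.add_apply]⟩
      zero_mem' := ⟨0, by simp⟩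
      smul_mem' := by
        rintro c _ ⟨f, rfl⟩
        exact ⟨C c * f, by rw [map_mul, aeval_C, Module.End.mul_apply]; simp⟩ }
  have hinv : ∀ u ∈ U, T u ∈ U := by
    rintro _ ⟨f, rfl⟩
    exact ⟨X * f, by rw [map_mul, aeval_X, Module.End.mul_apply]⟩
  have hvU : v ∈ U := ⟨1, by simp⟩
  rcases hT U hinv with h0 | h1
  · exfalso
    rw [h0] at hvU
    exact hv (by simpa using hvU)
  · have : x ∈ U := by rw [h1]; exact Submodule.mem_top
    exact this

/-- the model: `V ≅ F[X]/(m)` -/
theorem exists_model [FiniteDimensional F V] [Nontrivial V] {T : Module.End F V} (hT : OpIrr T) :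
    ∃ ψ : AdjoinRoot (minpoly F T) ≃ₗ[F] V,
      ∀ k, ψ (AdjoinRoot.root (minpoly F T) * k) = T (ψ k) := by
  obtain ⟨v, hv⟩ := exists_ne (0 : V)
  let w : Module.AEval' T := Module.AEval'.of T v
  let φ : F[X] →ₗ[F[X]] Module.AEval' T := LinearMap.toSpanSingleton F[X] (Module.AEval' T) w
  have hφ : ∀ f, φ f = Module.AEval'.of T (aeval T f v) := fun f => rfl
  have hker : LinearMap.ker φ = Ideal.span {minpoly F T} := by
    have hmax : (Ideal.span {minpoly F T}).IsMaximal :=
      PrincipalIdealRing.isMaximal_of_irreducible (minpoly_irreducible hT)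
    symm
    apply hmax.eq_of_le
    · intro h
      have : (1 : F[X]) ∈ LinearMap.ker φ := by rw [h]; trivial
      rw [LinearMap.mem_ker, hφ] at this
      simp at this
      exact hv this
    · rw [Ideal.span_le]
      intro f hf
      rw [Set.mem_singleton_iff] at hf
      subst hf
      show _ ∈ LinearMap.ker φ
      rw [LinearMap.mem_ker, hφ, minpoly.aeval]
      simp
  have hsurj : Function.Surjective φ := by
    intro x
    obtain ⟨f, hf⟩ := exists_aeval_apply_eq hT hv ((Module.AEval'.of T).symm x)
    exact ⟨f, by rw [hφ, hf]; simp⟩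
  let e1 : (F[X] ⧸ LinearMap.ker φ) ≃ₗ[F[X]] Module.AEval' T := φ.quotKerEquivOfSurjective hsurj
  let e2 : (F[X] ⧸ Ideal.span {minpoly F T}) ≃ₗ[F[X]] (F[X] ⧸ LinearMap.ker φ) :=
    Submodule.quotEquivOfEq _ _ hker.symm
  let e : AdjoinRoot (minpoly F T) ≃ₗ[F] V :=
    ((e2.trans e1).restrictScalars F).trans (Module.AEval'.of T).symm
  have he : ∀ g : F[X], e (AdjoinRoot.mk (minpoly F T) g) = aeval T g v := fun g => rfl
  refine ⟨e, fun k => ?_⟩
  obtain ⟨f, rfl⟩ := AdjoinRoot.mk_surjective k
  have : AdjoinRoot.root (minpoly F T) * AdjoinRoot.mk (minpoly F T) f =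
      AdjoinRoot.mk (minpoly F T) (X * f) := by
    rw [map_mul, AdjoinRoot.mk_X]
  rw [this, he, he, map_mul, aeval_X, Module.End.mul_apply]

/-- transfer between the operator and the root of its minimal polynomial -/
theorem aeval_root_eq_zero_iff (T : Module.End F V) (f : F[X]) :
    aeval (AdjoinRoot.root (minpoly F T)) f = 0 ↔ aeval T f = 0 := by
  rw [AdjoinRoot.aeval_eq, AdjoinRoot.mk_eq_zero, minpoly.dvd_iff]

theorem root_pow_eq_one_iff (T : Module.End F V) (k : ℕ) :
    AdjoinRoot.root (minpoly F T) ^ k = 1 ↔ T ^ k = 1 := by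
  have h := aeval_root_eq_zero_iff T (X ^ k - 1)
  simp only [map_sub, map_pow, aeval_X, map_one, sub_eq_zero] at h
  exact h

/-- adjoint of a polynomial in `T` -/
theorem form_aeval {T S : Module.End F V} (hTS : T * S = 1) (B : LinearMap.BilinForm F V)
    (hinv : ∀ x y, B (T x) (T y) = B x y) (f : F[X]) :
    ∀ x y, B (aeval T f x) y = B x (aeval S f y) := by
  have hTS' : ∀ y, T (S y) = y := fun y => by
    have := congrArg (fun g => g y) hTS
    simpa using this
  induction f using Polynomial.induction_on with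
  | C a =>
    intro x y
    simp only [aeval_C, Module.algebraMap_end_apply, map_smul, LinearMap.smul_apply]
  | add p q hp hq =>
    intro x y
    simp only [map_add, LinearMap.add_apply, hp, hq]
  | monomial n a ih =>
    intro x y
    have h1 : aeval T (C a * X ^ (n + 1)) x = aeval T (C a * X ^ n) (T x) := by
      rw [pow_succ, ← mul_assoc, map_mul, aeval_X, Module.End.mul_apply]
    have h2 : aeval S (C a * X ^ (n + 1)) y = S (aeval S (C a * X ^ n) y) := by
      have : C a * X ^ (n + 1) = X * (C a * X ^ n) := by rw [pow_succ]; ring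
      rw [this, map_mul, aeval_X, Module.End.mul_apply]
    rw [h1, h2, ih, ← hinv x, hTS']

theorem forward_op [Fintype F] [FiniteDimensional F V] [Nontrivial V] {T : Module.End F V}
    (hT : OpIrr T) {e : ℕ} (he : 0 < e) (hTe : T ^ e = 1)
    (B : LinearMap.BilinForm F V) (hB : B.Nondegenerate) (hinv : ∀ x y, B (T x) (T y) = B x y)
    (h2 : 2 ≤ Module.finrank F V) :
    Even (Module.finrank F V) ∧ T ^ (Fintype.card F ^ (Module.finrank F V / 2) + 1) = 1 := by
  classical
  haveI : Fact (Irreducible (minpoly F T)) := ⟨minpoly_irreducible hT⟩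
  have hint : IsIntegral F T := Algebra.IsIntegral.isIntegral T
  have hm0 : minpoly F T ≠ 0 := minpoly.ne_zero hint
  obtain ⟨ψ, hψ⟩ := exists_model hT
  have hfr : Module.finrank F (AdjoinRoot (minpoly F T)) = Module.finrank F V := ψ.finrank_eq
  have hdeg : Module.finrank F (AdjoinRoot (minpoly F T)) = (minpoly F T).natDegree :=
    finrank_quotient_span_eq_natDegree
  haveI : FiniteDimensional F (AdjoinRoot (minpoly F T)) :=
    Module.finite_of_finrank_pos (by rw [hfr]; omega)
  haveI : Finite (AdjoinRoot (minpoly F T)) := Module.finite_of_finite F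
  set lam := AdjoinRoot.root (minpoly F T) with hlam
  -- the inverse operator
  obtain ⟨e', rfl⟩ : ∃ e', e = e' + 1 := ⟨e - 1, by omega⟩
  have hTS : T * T ^ e' = 1 := by rw [← pow_succ', hTe]
  have hlam_e : lam ^ (e' + 1) = 1 := (root_pow_eq_one_iff T _).2 hTe
  have hlam_inv : lam ^ e' * lam = 1 := by rw [← pow_succ, hlam_e]
  -- m(S) = 0
  have hS : aeval (T ^ e') (minpoly F T) = 0 := by
    ext y
    apply hB.2
    intro x
    rw [← form_aeval hTS B hinv, minpoly.aeval]
    simp
  have hS' : aeval T ((minpoly F T).comp (X ^ e')) = 0 := by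
    rw [aeval_comp, map_pow, aeval_X, hS]
  have hroot : aeval (lam ^ e') (minpoly F T) = 0 := by
    have := (aeval_root_eq_zero_iff T _).2 hS'
    rwa [aeval_comp, map_pow, aeval_X] at this
  -- the automorphism
  let σ : AdjoinRoot (minpoly F T) →ₐ[F] AdjoinRoot (minpoly F T) :=
    AdjoinRoot.liftAlgHom (minpoly F T) (Algebra.ofId F _) (lam ^ e') hroot
  have hσ : σ lam = lam ^ e' := AdjoinRoot.liftAlgHom_root _ _ _ _
  obtain ⟨⟨j, hj⟩, hjσ⟩ := (FiniteField.bijective_frobeniusAlgHom_pow F
    (AdjoinRoot (minpoly F T))).2 σ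
  simp only at hjσ
  have hσpow : ∀ x, σ x = x ^ (Fintype.card F ^ j) := by
    intro x
    rw [← hjσ, AlgHom.coe_pow, FiniteField.coe_frobeniusAlgHom, pow_iterate]
  have hlamq : lam ^ (Fintype.card F ^ j + 1) = 1 := by
    rw [pow_succ, ← hσpow, hσ, hlam_inv]
  have hσσ : σ (σ lam) = lam := by
    have h1 : σ (σ lam) * σ lam = 1 := by
      rw [← map_mul, hσ, hlam_inv, map_one]
    calc σ (σ lam) = σ (σ lam) * (lam ^ e' * lam) := by rw [hlam_inv, mul_one]
      _ = (σ (σ lam) * σ lam) * lam := by rw [hσ]; ring
      _ = lam := by rw [h1, one_mul]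
  have hσ2 : σ * σ = 1 := by
    apply AdjoinRoot.algHom_ext
    show σ (σ (AdjoinRoot.root _)) = AdjoinRoot.root _
    exact hσσ
  have hdvd : Module.finrank F (AdjoinRoot (minpoly F T)) ∣ 2 * j := by
    rw [← FiniteField.orderOf_frobeniusAlgHom F (AdjoinRoot (minpoly F T))]
    apply orderOf_dvd_of_pow_eq_one
    rw [mul_comm, pow_mul, hjσ, pow_two, hσ2]
  rw [hfr] at hdvd hj
  have hTq : T ^ (Fintype.card F ^ j + 1) = 1 := (root_pow_eq_one_iff T _).1 hlamq
  obtain ⟨c, hc⟩ := hdvd
  have hcases : j = 0 ∨ 2 * j = Module.finrank F V := by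
    rcases Nat.eq_zero_or_pos c with h0 | hpos
    · left; rw [h0] at hc; omega
    · right
      have : c = 1 := by
        by_contra hc1
        have : 2 ≤ c := by omega
        have : 2 * Module.finrank F V ≤ Module.finrank F V * c := by
          rw [mul_comm]; exact Nat.mul_le_mul_left _ this
        omega
      rw [this, mul_one] at hc
      exact hc
  rcases hcases with h0 | h2j
  · exfalso
    subst h0
    simp only [pow_zero] at hlamq
    have hl2 : (lam - 1) * (lam + 1) = 0 := by
      have : lam ^ 2 = 1 := hlamq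
      linear_combination this
    have hdeg1 : (minpoly F T).natDegree ≤ 1 := by
      rcases mul_eq_zero.1 hl2 with h | h
      · have h' : aeval lam (X - C (1 : F)) = 0 := by simpa using h
        have := minpoly.dvd F T ((aeval_root_eq_zero_iff T _).1 h')
        have := Polynomial.natDegree_le_of_dvd this (X_sub_C_ne_zero 1)
        rwa [natDegree_X_sub_C] at this
      · have h' : aeval lam (X + C (1 : F)) = 0 := by simpa using h
        have := minpoly.dvd F T ((aeval_root_eq_zero_iff T _).1 h')
        have := Polynomial.natDegree_le_of_dvd this (X_add_C_ne_zero 1)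
        rwa [natDegree_X_add_C] at this
    omega
  · refine ⟨⟨j, by omega⟩, ?_⟩
    have : Module.finrank F V / 2 = j := by omega
    rw [this]
    exact hTq

theorem backward_op [Fintype F] [FiniteDimensional F V] [Nontrivial V] {T : Module.End F V}
    (hT : OpIrr T) (j : ℕ) (hTq : T ^ (Fintype.card F ^ j + 1) = 1) :
    ∃ B : LinearMap.BilinForm F V, B.Nondegenerate ∧ ∀ x y, B (T x) (T y) = B x y := by
  classical
  haveI : Fact (Irreducible (minpoly F T)) := ⟨minpoly_irreducible hT⟩
  obtain ⟨ψ, hψ⟩ := exists_model hT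
  have hfr : Module.finrank F (AdjoinRoot (minpoly F T)) = Module.finrank F V := ψ.finrank_eq
  haveI : FiniteDimensional F (AdjoinRoot (minpoly F T)) :=
    Module.finite_of_finrank_pos (by rw [hfr]; exact Module.finrank_pos)
  haveI : Finite (AdjoinRoot (minpoly F T)) := Module.finite_of_finite F
  set lam := AdjoinRoot.root (minpoly F T) with hlam
  have hlamq : lam ^ (Fintype.card F ^ j + 1) = 1 := (root_pow_eq_one_iff T _).2 hTq
  let φ : AdjoinRoot (minpoly F T) →ₐ[F] AdjoinRoot (minpoly F T) :=
    (FiniteField.frobeniusAlgHom F (AdjoinRoot (minpoly F T))) ^ j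
  have hφ : ∀ x, φ x = x ^ (Fintype.card F ^ j) := by
    intro x
    show ((FiniteField.frobeniusAlgHom F (AdjoinRoot (minpoly F T))) ^ j) x = _
    rw [AlgHom.coe_pow, FiniteField.coe_frobeniusAlgHom, pow_iterate]
  have hφinj : Function.Injective φ := φ.toRingHom.injective
  have hφsurj : Function.Surjective φ := Finite.surjective_of_injective hφinj
  let BK : LinearMap.BilinForm F (AdjoinRoot (minpoly F T)) :=
    (Algebra.traceForm F (AdjoinRoot (minpoly F T))).compRight φ.toLinearMap
  have hBK : ∀ x y, BK x y = Algebra.trace F (AdjoinRoot (minpoly F T)) (x * y ^ (Fintype.card F ^ j)) := by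
    intro x y
    show (Algebra.traceForm F _) x (φ y) = _
    rw [Algebra.traceForm_apply, hφ]
  have htr := traceForm_nondegenerate F (AdjoinRoot (minpoly F T))
  have hBKnd : BK.Nondegenerate := by
    constructor
    · intro x hx
      apply htr.1
      intro z
      obtain ⟨y, rfl⟩ := hφsurj z
      exact hx y
    · intro y hy
      have : φ y = 0 := by
        apply htr.2
        intro x
        exact hy x
      exact hφinj (by rw [this, map_zero])
  refine ⟨LinearMap.BilinForm.congr ψ BK, LinearMap.BilinForm.Nondegenerate.congr ψ hBKnd, ?_⟩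
  intro x y
  have hT' : ∀ z, ψ.symm (T z) = lam * ψ.symm z := by
    intro z
    apply ψ.injective
    rw [hψ, LinearEquiv.apply_symm_apply, LinearEquiv.apply_symm_apply]
  rw [LinearMap.BilinForm.congr_apply, LinearMap.BilinForm.congr_apply, hT', hT', hBK, hBK]
  congr 1
  have : lam * ψ.symm x * (lam * ψ.symm y) ^ (Fintype.card F ^ j) =
      lam ^ (Fintype.card F ^ j + 1) * (ψ.symm x * (ψ.symm y) ^ (Fintype.card F ^ j)) := by
    rw [mul_pow, pow_succ]; ring
  rw [this, hlamq, one_mul]

/-! ### the group-level statement -/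

theorem card_le_two_of_finrank_one [Finite H] (ρ : Representation F H V)
    (hfaith : Function.Injective ρ) (hirr : Irr ρ) (h1 : Module.finrank F V = 1)
    (B : LinearMap.BilinForm F V) (hB : B.Nondegenerate)
    (hinv : ∀ h : H, ∀ x y : V, B (ρ h x) (ρ h y) = B x y) : Nat.card H ≤ 2 := by
  classical
  haveI : Nontrivial V := Module.nontrivial_of_finrank_pos (R := F) (by omega)
  haveI := isCyclic_of_irr ρ hfaith hirr
  obtain ⟨v, hv, hspan⟩ := finrank_eq_one_iff'.1 h1
  obtain ⟨y, hy⟩ : ∃ y, B v y ≠ 0 := by
    by_contra hcon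
    push Not at hcon
    exact hv (hB.1 v hcon)
  have hsq : ∀ h : H, h * h = 1 := by
    intro h
    obtain ⟨c, hc⟩ := hspan (ρ h v)
    have hscal : ∀ x, ρ h x = c • x := by
      intro x
      obtain ⟨a, rfl⟩ := hspan x
      rw [map_smul, ← hc, smul_comm]
    have hc2 : c * c = 1 := by
      have := hinv h v y
      simp only [hscal, map_smul, LinearMap.smul_apply, smul_eq_mul] at this
      rw [← mul_assoc] at this
      have h2 : (c * c - 1) * B v y = 0 := by rw [sub_mul, this, one_mul, sub_self]
      rcases mul_eq_zero.1 h2 with h3 | h3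
      · exact sub_eq_zero.1 h3
      · exact absurd h3 hy
    apply hfaith
    rw [map_mul, map_one]
    ext x
    rw [Module.End.mul_apply, hscal, hscal, smul_smul, hc2, one_smul, Module.End.one_apply]
  obtain ⟨g, hg⟩ := IsCyclic.exists_generator (α := H)
  rw [← orderOf_eq_card_of_forall_mem_zpowers hg]
  apply Nat.le_of_dvd (by norm_num)
  apply orderOf_dvd_of_pow_eq_one
  rw [pow_two, hsq]

theorem main [Fintype F] [Finite H] [FiniteDimensional F V] (ρ : Representation F H V)
    (hfaith : Function.Injective ρ) (hirr : Irr ρ) (h2 : 2 ≤ Module.finrank F V) :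
    (∃ B : LinearMap.BilinForm F V, B.Nondegenerate ∧
        ∀ h : H, ∀ x y : V, B (ρ h x) (ρ h y) = B x y) ↔
      (Even (Module.finrank F V) ∧
        Nat.card H ∣ Fintype.card F ^ (Module.finrank F V / 2) + 1) := by
  classical
  haveI : Nontrivial V := Module.nontrivial_of_finrank_pos (R := F) (by omega)
  haveI := isCyclic_of_irr ρ hfaith hirr
  obtain ⟨g, hg⟩ := IsCyclic.exists_generator (α := H)
  have hcard : orderOf g = Nat.card H := orderOf_eq_card_of_forall_mem_zpowers hg
  have hpow : ∀ h : H, ∃ k : ℕ, g ^ k = h := by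
    intro h
    have := mem_powers_iff_mem_zpowers.2 (hg h)
    exact Submonoid.mem_powers_iff _ _ |>.1 this
  have hT : OpIrr (ρ g) := by
    intro U hU
    apply hirr U
    intro h u hu
    obtain ⟨k, rfl⟩ := hpow h
    rw [map_pow]
    clear hpow
    induction k generalizing u with
    | zero => simpa using hu
    | succ k ih =>
      rw [pow_succ, Module.End.mul_apply]
      exact ih _ (hU u hu)
  have hρpow : ∀ k : ℕ, (ρ g) ^ k = 1 ↔ orderOf g ∣ k := by
    intro k
    rw [orderOf_dvd_iff_pow_eq_one, ← map_pow]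
    constructor
    · intro h
      apply hfaith
      rw [h, map_one]
    · intro h
      rw [h, map_one]
  constructor
  · rintro ⟨B, hB, hinv⟩
    have he : 0 < orderOf g := orderOf_pos g
    have := forward_op hT he ((hρpow _).2 dvd_rfl) B hB (hinv g) h2
    refine ⟨this.1, ?_⟩
    rw [← hcard]
    exact (hρpow _).1 this.2
  · rintro ⟨_, hdvd⟩
    rw [← hcard] at hdvd
    obtain ⟨B, hB, hinvT⟩ := backward_op hT (Module.finrank F V / 2) ((hρpow _).2 hdvd)
    refine ⟨B, hB, ?_⟩
    intro h
    obtain ⟨k, rfl⟩ := hpow h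
    rw [map_pow]
    clear hpow
    induction k with
    | zero => intro x y; simp
    | succ k ih =>
      intro x y
      rw [pow_succ, Module.End.mul_apply, Module.End.mul_apply, ih, hinvT]

end Cfsg.Agent.Lib.Helper17.CycMod
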