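import Mathlib
import Cfsg.Agent.Lib.Helper17.CycMod

set_option autoImplicit false

namespace Cfsg.Agent.Lib.Helper17.SympSemi

open Polynomial Cfsg.Agent.Lib.Helper17.CycMod

universe u

variable {F : Type*} [Field F]

/-- an irreducible operator of finite order on a space of `q^d` elements has order dividing
`q^d - 1` -/
theorem pow_card_sub_one_eq_one {V : Type*} [AddCommGroup V] [Module F V] [Fintype F]
    [FiniteDimensional F V] [Nontrivial V] {T : Module.End F V}
    (hT : OpIrr T) {e : ℕ} (he : 0 < e) (hTe : T ^ e = 1) :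
    T ^ (Fintype.card F ^ Module.finrank F V - 1) = 1 := by
  classical
  haveI : Fact (Irreducible (minpoly F T)) := ⟨minpoly_irreducible hT⟩
  obtain ⟨ψ, hψ⟩ := exists_model hT
  have hfr : Module.finrank F (AdjoinRoot (minpoly F T)) = Module.finrank F V := ψ.finrank_eq
  haveI : FiniteDimensional F (AdjoinRoot (minpoly F T)) :=
    Module.finite_of_finrank_pos (by rw [hfr]; exact Module.finrank_pos)
  haveI : Finite (AdjoinRoot (minpoly F T)) := Module.finite_of_finite F
  haveI : Fintype (AdjoinRoot (minpoly F T)) := Fintype.ofFinite _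
  have hlam_e : AdjoinRoot.root (minpoly F T) ^ e = 1 := (root_pow_eq_one_iff T _).2 hTe
  have hlam0 : AdjoinRoot.root (minpoly F T) ≠ 0 := by
    intro h0
    rw [h0, zero_pow (by omega)] at hlam_e
    exact zero_ne_one hlam_e
  have := FiniteField.pow_card_sub_one_eq_one (AdjoinRoot.root (minpoly F T)) hlam0
  rw [Module.card_eq_pow_finrank (K := F), hfr] at this
  exact (root_pow_eq_one_iff T _).1 this

/-- the hypotheses: an isometry of finite order acting semiregularly on a symplectic space -/
structure Hyp {V : Type u} [AddCommGroup V] [Module F V] (T : Module.End F V) (e : ℕ)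
    (B : LinearMap.BilinForm F V) : Prop where
  pow : T ^ e = 1
  semi : ∀ k : ℕ, (∃ v : V, v ≠ 0 ∧ (T ^ k) v = v) → e ∣ k
  nd : B.Nondegenerate
  alt : ∀ x, B x x = 0
  inv : ∀ x y, B (T x) (T y) = B x y

section

variable {V : Type u} [AddCommGroup V] [Module F V]

theorem restrict_pow_apply {T : Module.End F V} {W : Submodule F V} (hW : ∀ w ∈ W, T w ∈ W)
    (k : ℕ) (w : W) : (((T.restrict hW) ^ k) w : V) = (T ^ k) w := by
  induction k generalizing w with
  | zero => simp
  | succ k ih =>
    rw [pow_succ, pow_succ, Module.End.mul_apply, Module.End.mul_apply, ih]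
    rfl

theorem Hyp.isRefl {T : Module.End F V} {e : ℕ} {B : LinearMap.BilinForm F V} (h : Hyp T e B) :
    B.IsRefl := by
  have halt : B.IsAlt := h.alt
  exact halt.isRefl

theorem Hyp.restrict {T : Module.End F V} {e : ℕ} {B : LinearMap.BilinForm F V} (h : Hyp T e B)
    {W : Submodule F V} (hW : ∀ w ∈ W, T w ∈ W) (hd : Disjoint W (B.orthogonal W)) :
    Hyp (T.restrict hW) e (B.restrict W) where
  pow := by
    ext w
    rw [restrict_pow_apply, h.pow]
    rfl
  semi := by
    rintro k ⟨v, hv, hkv⟩
    apply h.semi k
    refine ⟨v, fun h0 => hv (Subtype.ext h0), ?_⟩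
    rw [← restrict_pow_apply hW, hkv]
  nd := LinearMap.BilinForm.nondegenerate_restrict_of_disjoint_orthogonal B h.isRefl hd
  alt := fun x => h.alt x
  inv := fun x y => h.inv x y

end

/-- the main induction -/
theorem main_lin [Fintype F] (e : ℕ) (he : (e : F) ≠ 0) :
    ∀ (n : ℕ) (V : Type u) [AddCommGroup V] [Module F V] [FiniteDimensional F V]
      (T : Module.End F V) (B : LinearMap.BilinForm F V), Hyp T e B →
      Module.finrank F V = 2 * n →
      ((Fintype.card F : ZMod e) ^ n = 1 ∨ (Fintype.card F : ZMod e) ^ n = -1) := by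
  classical
  have he0 : 0 < e := by
    rcases Nat.eq_zero_or_pos e with h | h
    · subst h; simp at he
    · exact h
  obtain ⟨e', rfl⟩ : ∃ e', e = e' + 1 := ⟨e - 1, by omega⟩
  intro n
  induction n using Nat.strong_induction_on with
  | _ n ih =>
    intro V _ _ _ T B h hfr
    rcases Nat.eq_zero_or_pos n with hn0 | hnpos
    · left; subst hn0; simp
    haveI : Nontrivial V := Module.nontrivial_of_finrank_pos (R := F) (by omega)
    have hrefl := h.isRefl
    have hTinv : ∀ v, T ((T ^ e') v) = v := by
      intro v
      have := congrArg (fun f => f v) h.pow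
      simpa [pow_succ'] using this
    have hTinv' : ∀ v, (T ^ e') (T v) = v := by
      intro v
      have := congrArg (fun f => f v) h.pow
      simpa [pow_succ] using this
    -- semisimple
    have hss : T.IsSemisimple := by
      apply Module.End.isSemisimple_of_squarefree_aeval_eq_zero (p := X ^ (e' + 1) - C (1 : F))
      · exact (separable_X_pow_sub_C (1 : F) he one_ne_zero).squarefree
      · simp [h.pow]
    -- a minimal invariant subspace
    have hex : ∃ d, ∃ U : Submodule F V, U ≠ ⊥ ∧ (∀ u ∈ U, T u ∈ U) ∧ Module.finrank F U = d :=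
      ⟨_, ⊤, top_ne_bot, fun _ _ => Submodule.mem_top, rfl⟩
    obtain ⟨U, hU0, hU, hUd⟩ := Nat.find_spec hex
    have hUmin : ∀ U' : Submodule F V, U' ≠ ⊥ → (∀ u ∈ U', T u ∈ U') →
        Module.finrank F U ≤ Module.finrank F U' := by
      intro U' h0 hinv
      rw [hUd]
      exact Nat.find_min' hex ⟨U', h0, hinv, rfl⟩
    have hUmin' : ∀ U' : Submodule F V, U' ≤ U → (∀ u ∈ U', T u ∈ U') → U' = ⊥ ∨ U' = U := by
      intro U' hle hinv
      by_cases h0 : U' = ⊥
      · left; exact h0
      · right
        exact Submodule.eq_of_le_of_finrank_le hle (hUmin U' h0 hinv)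
    have hdpos : 0 < Module.finrank F U := by
      rw [Module.finrank_pos_iff]
      exact Submodule.nontrivial_iff_ne_bot.2 hU0
    haveI : Nontrivial U := Submodule.nontrivial_iff_ne_bot.2 hU0
    have hTpowU : ∀ k : ℕ, ∀ u ∈ U, (T ^ k) u ∈ U := fun k =>
      Module.End.pow_apply_mem_of_forall_mem k hU
    -- the restriction is irreducible
    have hTU : OpIrr (T.restrict hU) := by
      intro U₁ hU₁
      have hinv : ∀ u ∈ U₁.map U.subtype, T u ∈ U₁.map U.subtype := by
        rintro _ ⟨w, hw, rfl⟩
        exact ⟨T.restrict hU w, hU₁ w hw, rfl⟩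
      rcases hUmin' _ (Submodule.map_subtype_le U U₁) hinv with h0 | h1
      · left
        rw [eq_bot_iff]
        intro w hw
        have : (w : V) ∈ U₁.map U.subtype := ⟨w, hw, rfl⟩
        rw [h0, Submodule.mem_bot] at this
        exact (Submodule.mem_bot F).2 (Subtype.ext this)
      · right
        rw [eq_top_iff]
        intro w _
        have : (w : V) ∈ U₁.map U.subtype := by rw [h1]; exact w.2
        obtain ⟨w', hw', hww'⟩ := this
        have : w' = w := Subtype.ext hww'
        rwa [this] at hw'
    have hTUe : (T.restrict hU) ^ (e' + 1) = 1 := by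
      ext w
      rw [restrict_pow_apply, h.pow]
      rfl
    -- the orthogonal complement is invariant
    have hUperp : ∀ x ∈ B.orthogonal U, T x ∈ B.orthogonal U := by
      intro x hx u hu
      show B u (T x) = 0
      rw [← hTinv u, h.inv]
      exact hx _ (hTpowU e' u hu)
    have hmeet : ∀ u ∈ U ⊓ B.orthogonal U, T u ∈ U ⊓ B.orthogonal U := fun u hu =>
      ⟨hU u hu.1, hUperp u hu.2⟩
    have hfinperp : Module.finrank F (B.orthogonal U) = 2 * n - Module.finrank F U := by
      rw [LinearMap.BilinForm.finrank_orthogonal h.nd, hfr]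
    have hUle : Module.finrank F U ≤ 2 * n := by
      rw [← hfr]; exact Submodule.finrank_le U
    obtain ⟨u₀, hu₀⟩ := exists_ne (0 : U)
    have hsemiU : ∀ k : ℕ, (T.restrict hU) ^ k = 1 → e' + 1 ∣ k := by
      intro k hk
      apply h.semi k
      refine ⟨u₀, fun h0 => hu₀ (Subtype.ext h0), ?_⟩
      rw [← restrict_pow_apply hU, hk]
      rfl
    rcases hUmin' _ inf_le_left hmeet with hA | hB
    · -- `U` is nondegenerate
      have hdisj : Disjoint U (B.orthogonal U) := disjoint_iff.2 hA
      have hHU := h.restrict hU hdisj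
      have h2 : 2 ≤ Module.finrank F U := by
        by_contra hlt
        have h1 : Module.finrank F U = 1 := by omega
        obtain ⟨v, hv, hspan⟩ := finrank_eq_one_iff'.1 h1
        apply hv
        apply hHU.nd.1
        intro w
        obtain ⟨c, rfl⟩ := hspan w
        rw [map_smul, hHU.alt, smul_zero]
      obtain ⟨heven, hpow⟩ := forward_op hTU (Nat.succ_pos e') hTUe (B.restrict U) hHU.nd hHU.inv h2
      obtain ⟨m, hm⟩ := heven
      have hm1 : 1 ≤ m := by omega
      have hdiv : Module.finrank F U / 2 = m := by omega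
      rw [hdiv] at hpow
      have hqm : (Fintype.card F : ZMod (e' + 1)) ^ m = -1 := by
        have := hsemiU _ hpow
        have := (ZMod.natCast_eq_zero_iff _ _).2 this
        push_cast at this
        exact eq_neg_of_add_eq_zero_left this
      -- the orthogonal complement
      have hdisj' : Disjoint (B.orthogonal U) (B.orthogonal (B.orthogonal U)) := by
        rw [LinearMap.BilinForm.orthogonal_orthogonal h.nd hrefl]
        exact hdisj.symm
      have hH' := h.restrict hUperp hdisj'
      have hfr' : Module.finrank F (B.orthogonal U) = 2 * (n - m) := by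
        rw [hfinperp]; omega
      have := ih (n - m) (by omega) (B.orthogonal U) _ _ hH' hfr'
      have hsplit : (Fintype.card F : ZMod (e' + 1)) ^ n =
          (Fintype.card F : ZMod (e' + 1)) ^ (n - m) * (Fintype.card F : ZMod (e' + 1)) ^ m := by
        rw [← pow_add]; congr 1; omega
      rw [hsplit, hqm]
      rcases this with h1 | h1
      · right; rw [h1, one_mul]
      · left; rw [h1]; ring
    · -- `U` is totally isotropic
      have hUle' : U ≤ B.orthogonal U := by
        intro u hu
        have : u ∈ U ⊓ B.orthogonal U := by rw [hB]; exact hu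
        exact this.2
      have hqd : (Fintype.card F : ZMod (e' + 1)) ^ (Module.finrank F U) = 1 := by
        have := hsemiU _ (pow_card_sub_one_eq_one hTU (Nat.succ_pos e') hTUe)
        have := (ZMod.natCast_eq_zero_iff _ _).2 this
        rw [Nat.cast_sub (Nat.one_le_pow _ _ Fintype.card_pos)] at this
        push_cast at this
        exact sub_eq_zero.1 this
      obtain ⟨C, hC, hUC⟩ := (Module.End.isSemisimple_iff.1 hss) U
        ((Module.End.mem_invtSubmodule T).2 (fun u hu => hU u hu))
      have hC' : ∀ c ∈ C, T c ∈ C := fun c hc => ((Module.End.mem_invtSubmodule T).1 hC) hc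
      have hW : ∀ w ∈ C ⊓ B.orthogonal U, T w ∈ C ⊓ B.orthogonal U := fun w hw =>
        ⟨hC' w hw.1, hUperp w hw.2⟩
      have hsup : U ⊔ (C ⊓ B.orthogonal U) = B.orthogonal U := by
        rw [← sup_inf_assoc_of_le C hUle', hUC.sup_eq_top, top_inf_eq]
      have hinf : U ⊓ (C ⊓ B.orthogonal U) = ⊥ := by
        rw [← inf_assoc, hUC.inf_eq_bot, bot_inf_eq]
      have hfrW : Module.finrank F ↥(C ⊓ B.orthogonal U) = 2 * n - 2 * Module.finrank F U := by
        have := Submodule.finrank_sup_add_finrank_inf_eq U (C ⊓ B.orthogonal U)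
        rw [hsup, hinf, finrank_bot, hfinperp] at this
        omega
      have hdn : Module.finrank F U ≤ n := by
        have := Submodule.finrank_mono hUle'
        rw [hfinperp] at this
        omega
      have hdisjW : Disjoint (C ⊓ B.orthogonal U) (B.orthogonal (C ⊓ B.orthogonal U)) := by
        rw [disjoint_iff, eq_bot_iff]
        rintro x ⟨hx1, hx2⟩
        have hxU : x ∈ B.orthogonal (B.orthogonal U) := by
          intro y hy
          rw [← hsup] at hy
          obtain ⟨u, hu, w, hw, rfl⟩ := Submodule.mem_sup.1 hy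
          show B (u + w) x = 0
          rw [map_add, LinearMap.add_apply, hx1.2 u hu, hx2 w hw, add_zero]
        rw [LinearMap.BilinForm.orthogonal_orthogonal h.nd hrefl] at hxU
        have : x ∈ U ⊓ C := ⟨hxU, hx1.1⟩
        rwa [hUC.inf_eq_bot] at this
      have hH' := h.restrict hW hdisjW
      have hfr' : Module.finrank F ↥(C ⊓ B.orthogonal U) = 2 * (n - Module.finrank F U) := by
        rw [hfrW]; omega
      have := ih (n - Module.finrank F U) (by omega) ↥(C ⊓ B.orthogonal U) _ _ hH' hfr'
      have hsplit : (Fintype.card F : ZMod (e' + 1)) ^ n =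
          (Fintype.card F : ZMod (e' + 1)) ^ (n - Module.finrank F U) *
            (Fintype.card F : ZMod (e' + 1)) ^ (Module.finrank F U) := by
        rw [← pow_add]; congr 1; omega
      rw [hsplit, hqd, mul_one]
      exact this

end Cfsg.Agent.Lib.Helper17.SympSemi
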