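import Mathlib
import Cfsg.Prelude.Def_Transfer
import Cfsg.Agent.Lib.Helper24.Extraspecial
import Cfsg.Agent.Lib.Helper17.SympSemi

set_option autoImplicit false

namespace Cfsg.Agent.Lib.Helper17.ESymp

open Cfsg.Agent.Lib.Helper24

universe u

/-- The centre of `E` has order `p` and contains all commutators. -/
def IsES (p : ℕ) (E : Type*) [Group E] : Prop :=
  Nat.card (Subgroup.center E) = p ∧ ∀ a b : E, a * b * a⁻¹ * b⁻¹ ∈ Subgroup.center E

theorem isES_of_isExtraspecial {p : ℕ} {E : Type*} [Group E] (h : Cfsg.IsExtraspecial p E) :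
    IsES p E := by
  obtain ⟨⟨_, _, hcomm⟩, hZ⟩ := h
  refine ⟨hZ, ?_⟩
  intro a b
  rw [← hcomm, commutator_def, ← commutatorElement_def]
  exact Subgroup.commutator_mem_commutator (Subgroup.mem_top a) (Subgroup.mem_top b)

/-- A central element has `p`-th power one. -/
theorem IsES.pow_eq_one_of_mem_center {p : ℕ} {E : Type u} [Group E] (h : IsES p E) {z : E}
    (hz : z ∈ Subgroup.center E) : z ^ p = 1 := by
  have := pow_card_eq_one' (G := Subgroup.center E) (x := ⟨z, hz⟩)
  rw [h.1] at this
  simpa using congrArg Subtype.val this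

/-- `p`-th powers are central. -/
theorem IsES.pow_mem_center {p : ℕ} {E : Type u} [Group E] (h : IsES p E) (g : E) :
    g ^ p ∈ Subgroup.center E := by
  rw [Subgroup.mem_center_iff]
  intro a
  obtain ⟨hZ, hc⟩ := h
  have h1 : commHom hc a (g ^ p) = 1 := by
    rw [map_pow]
    have := pow_card_eq_one' (G := Subgroup.center E) (x := commHom hc a g)
    rwa [hZ] at this
  exact (mem_ker_commHom hc a (g ^ p)).mp h1

section Pairing

variable {E : Type u} [Group E] (hc : ∀ a b : E, a * b * a⁻¹ * b⁻¹ ∈ Subgroup.center E)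

/-- multiplicativity of the commutator in the first variable -/
theorem commHom_mul_left (w w' g : E) :
    commHom hc (w * w') g = commHom hc w g * commHom hc w' g := by
  apply Subtype.ext
  simp only [Subgroup.coe_mul, commHom_apply]
  have hcen := hc w' g
  rw [Subgroup.mem_center_iff] at hcen
  have h1 := hcen (w)
  calc w * w' * g * (w * w')⁻¹ * g⁻¹
      = (w * (w' * g * w'⁻¹ * g⁻¹)) * g * w⁻¹ * g⁻¹ := by group
    _ = ((w' * g * w'⁻¹ * g⁻¹) * w) * g * w⁻¹ * g⁻¹ := by rw [h1]
    _ = (w' * g * w'⁻¹ * g⁻¹) * (w * g * w⁻¹ * g⁻¹) := by group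
    _ = w * g * w⁻¹ * g⁻¹ * (w' * g * w'⁻¹ * g⁻¹) := by
        have := (Subgroup.mem_center_iff.1 (hc w' g)) (w * g * w⁻¹ * g⁻¹)
        exact this.symm

variable {A : Type*} [CommGroup A] (ι : Subgroup.center E →* A)

/-- the commutator pairing on the abelianization -/
noncomputable def pairing : Abelianization E →* (Abelianization E →* A) :=
  Abelianization.lift
    { toFun := fun w => Abelianization.lift (ι.comp (commHom hc w))
      map_one' := by
        apply Abelianization.hom_ext
        ext g
        simp only [MonoidHom.coe_comp, Function.comp_apply, Abelianization.lift_apply_of,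
          MonoidHom.one_apply]
        have : commHom hc 1 g = 1 := by
          apply Subtype.ext
          simp [commHom_apply]
        rw [this, map_one]
      map_mul' := by
        intro w w'
        apply Abelianization.hom_ext
        ext g
        simp only [MonoidHom.coe_comp, Function.comp_apply, Abelianization.lift_apply_of,
          MonoidHom.mul_apply]
        rw [commHom_mul_left, map_mul] }

theorem pairing_of (x y : E) :
    pairing hc ι (Abelianization.of x) (Abelianization.of y) = ι (commHom hc x y) := by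
  simp [pairing]

end Pairing

section Main

variable {G : Type u} [Group G]

/-- conjugation by a normalizing element -/
def conjAut (P : Subgroup G) {g : G} (hg : g ∈ Subgroup.normalizer (P : Set G)) : P ≃* P where
  toFun x := ⟨g * x * g⁻¹, (Subgroup.mem_normalizer_iff.1 hg x).1 x.2⟩
  invFun x := ⟨g⁻¹ * x * g, by
    apply (Subgroup.mem_normalizer_iff.1 hg _).2
    have : g * (g⁻¹ * ↑x * g) * g⁻¹ = x := by group
    rw [this]
    exact x.2⟩
  left_inv x := by apply Subtype.ext; simp [mul_assoc]
  right_inv x := by apply Subtype.ext; simp [mul_assoc]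
  map_mul' x y := by apply Subtype.ext; simp [mul_assoc]

theorem conjAut_coe (P : Subgroup G) {g : G} (hg : g ∈ Subgroup.normalizer (P : Set G)) (x : P) :
    ((conjAut P hg x : P) : G) = g * x * g⁻¹ := rfl

/-- if `h x h⁻¹ = x z` with `z` commuting with `h` and `x`-central, then `h^j x h^-j = x z^j` -/
theorem conj_pow_eq {h x z : G} (hz : h * z = z * h) (hx : h * x * h⁻¹ = x * z) (j : ℕ) :
    h ^ j * x * (h ^ j)⁻¹ = x * z ^ j := by
  induction j with
  | zero => simp
  | succ j ih =>
    have hz' : h * z ^ j = z ^ j * h := by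
      induction j with
      | zero => simp
      | succ i ihi =>
        have : h * z ^ i = z ^ i * h := by
          clear ih ihi
          induction i with
          | zero => simp
          | succ i ih2 => rw [pow_succ, ← mul_assoc, ih2, mul_assoc, hz, ← mul_assoc]
        rw [pow_succ, ← mul_assoc, this, mul_assoc, hz, ← mul_assoc]
    calc h ^ (j + 1) * x * (h ^ (j + 1))⁻¹ = h * (h ^ j * x * (h ^ j)⁻¹) * h⁻¹ := by
          rw [pow_succ']; group
      _ = h * (x * z ^ j) * h⁻¹ := by rw [ih]
      _ = (h * x * h⁻¹) * (h * z ^ j * h⁻¹) := by group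
      _ = (x * z) * (z ^ j * h * h⁻¹) := by rw [hx, hz']
      _ = x * z ^ (j + 1) := by rw [pow_succ']; group

theorem core [Finite G] {p : ℕ} [Fact p.Prime] (P H : Subgroup G)
    [instM : Module (ZMod p) (Additive (Abelianization P))]
    (hP : Cfsg.IsExtraspecial p ↥P) (n : ℕ) (hn : Nat.card P = p ^ (2 * n + 1))
    (hH : IsCyclic H) (hcop : (Nat.card H).Coprime p)
    (hHP : H ≤ Subgroup.normalizer (P : Set G))
    (hfix : ∀ x ∈ H, x ≠ 1 →
      P ⊓ Subgroup.centralizer {x} = (Subgroup.center ↥P).map P.subtype) :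
    Nat.card H ∣ p ^ n + 1 ∨ Nat.card H ∣ p ^ n - 1 := by
  classical
  have hp : p.Prime := Fact.out
  have hES : IsES p P := isES_of_isExtraspecial hP
  have hc := hES.2
  have hZ := hES.1
  have hcomm : commutator P = Subgroup.center P := hP.1.2.2
  -- generator
  obtain ⟨g, hg⟩ := IsCyclic.exists_generator (α := H)
  have hcard : orderOf g = Nat.card H := orderOf_eq_card_of_forall_mem_zpowers hg
  have hcardG : orderOf (g : G) = Nat.card H := by rw [Subgroup.orderOf_coe, hcard]
  have hgN : (g : G) ∈ Subgroup.normalizer (P : Set G) := hHP g.2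
  -- `H` centralizes `Z(P)`
  have hcent : ∀ h ∈ H, ∀ z : P, z ∈ Subgroup.center P → h * (z : G) = z * h := by
    intro h hh z hz
    by_cases h1 : h = 1
    · subst h1; simp
    · have : (z : G) ∈ (Subgroup.center ↥P).map P.subtype := ⟨z, hz, rfl⟩
      rw [← hfix h hh h1] at this
      have h2 : (z : G) ∈ Subgroup.centralizer ({h} : Set G) := this.2
      rw [Subgroup.mem_centralizer_iff] at h2
      exact h2 h (Set.mem_singleton h)
  have hof1 : ∀ x : P, Abelianization.of x = 1 ↔ x ∈ Subgroup.center P := by
    intro x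
    rw [← hcomm, ← Abelianization.ker_of, MonoidHom.mem_ker]
  have hsurj : ∀ v : Additive (Abelianization P), ∃ x : P, v = Additive.ofMul (Abelianization.of x) := by
    intro v
    obtain ⟨x, hx⟩ := QuotientGroup.mk_surjective (Additive.toMul v)
    refine ⟨x, ?_⟩
    apply Additive.toMul.injective
    exact hx.symm
  haveI : Module.Finite (ZMod p) (Additive (Abelianization P)) := Module.Finite.of_finite
  -- dimension
  have hfr : Module.finrank (ZMod p) (Additive (Abelianization P)) = 2 * n := by
    have h1 : Nat.card (Additive (Abelianization P)) = p ^ (2 * n) := by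
      have h2 : Nat.card (Additive (Abelianization P)) = (commutator P).index := by
        rw [Subgroup.index_eq_card]; rfl
      have h3 := Subgroup.card_mul_index (commutator P)
      rw [hcomm, hZ, hn, pow_succ, mul_comm] at h3
      rw [h2, hcomm]
      exact Nat.eq_of_mul_eq_mul_right hp.pos h3
    rw [Module.natCard_eq_pow_finrank (K := ZMod p) (V := Additive (Abelianization P)),
      Nat.card_zmod] at h1
    exact Nat.pow_right_injective hp.two_le h1
  -- the operator
  let T : Additive (Abelianization P) →ₗ[ZMod p] Additive (Abelianization P) :=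
    (MonoidHom.toAdditive ((conjAut P hgN).abelianizationCongr.toMonoidHom)).toZModLinearMap p
  have hTof : ∀ x : P, T (Additive.ofMul (Abelianization.of x)) =
      Additive.ofMul (Abelianization.of (conjAut P hgN x)) := fun x => rfl
  have hTpow : ∀ (k : ℕ) (x : P), ∃ y : P, (y : G) = (g : G) ^ k * x * ((g : G) ^ k)⁻¹ ∧
      (T ^ k) (Additive.ofMul (Abelianization.of x)) = Additive.ofMul (Abelianization.of y) := by
    intro k
    induction k with
    | zero => intro x; exact ⟨x, by simp, by simp⟩
    | succ k ih =>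
      intro x
      obtain ⟨y, hy1, hy2⟩ := ih x
      refine ⟨conjAut P hgN y, ?_, ?_⟩
      · rw [conjAut_coe, hy1, pow_succ']; group
      · rw [pow_succ', Module.End.mul_apply, hy2, hTof]
  -- the form
  have hcardM : Nat.card (Multiplicative (ZMod p)) = p := by
    rw [Nat.card_congr Multiplicative.toAdd, Nat.card_zmod]
  let ι : Subgroup.center P →* Multiplicative (ZMod p) :=
    (mulEquivOfPrimeCardEq hZ hcardM).toMonoidHom
  have hι : Function.Injective ι := (mulEquivOfPrimeCardEq hZ hcardM).injective
  let inner : Additive (Abelianization P) →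
      (Additive (Abelianization P) →ₗ[ZMod p] ZMod p) := fun v =>
    (MonoidHom.toAdditiveLeft (pairing hc ι (Additive.toMul v))).toZModLinearMap p
  have hinner : ∀ v w, inner v w =
      Multiplicative.toAdd (pairing hc ι (Additive.toMul v) (Additive.toMul w)) := fun v w => rfl
  let outer : Additive (Abelianization P) →+
      (Additive (Abelianization P) →ₗ[ZMod p] ZMod p) :=
    AddMonoidHom.mk' inner (fun a b => by
      ext w
      rw [LinearMap.add_apply, hinner, hinner, hinner, toMul_add, map_mul, MonoidHom.mul_apply,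
        toAdd_mul])
  let B : LinearMap.BilinForm (ZMod p) (Additive (Abelianization P)) := outer.toZModLinearMap p
  have hB : ∀ x y : P, B (Additive.ofMul (Abelianization.of x)) (Additive.ofMul (Abelianization.of y))
      = Multiplicative.toAdd (ι (commHom hc x y)) := by
    intro x y
    show inner _ _ = _
    rw [hinner, toMul_ofMul, toMul_ofMul, pairing_of]
  have he0 : 0 < Nat.card H := Nat.card_pos
  have hgpow : (g : G) ^ Nat.card H = 1 := by rw [← hcardG]; exact pow_orderOf_eq_one _
  -- `T ^ e = 1`
  have hTe : T ^ Nat.card H = 1 := by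
    ext v
    obtain ⟨x, rfl⟩ := hsurj v
    obtain ⟨y, hy1, hy2⟩ := hTpow (Nat.card H) x
    rw [hy2]
    have : y = x := Subtype.ext (by rw [hy1, hgpow]; simp)
    rw [this]; rfl
  -- semiregularity
  have hsemi : ∀ k : ℕ, (∃ v : Additive (Abelianization P), v ≠ 0 ∧ (T ^ k) v = v) →
      Nat.card H ∣ k := by
    rintro k ⟨v, hv0, hv⟩
    by_contra hnd
    obtain ⟨x, rfl⟩ := hsurj v
    obtain ⟨y, hy1, hy2⟩ := hTpow k x
    rw [hy2] at hv
    have hyx : Abelianization.of y = Abelianization.of x := Additive.ofMul.injective hv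
    have hhH : (g : G) ^ k ∈ H := H.pow_mem g.2 k
    have hh1 : (g : G) ^ k ≠ 1 := by
      intro h1
      apply hnd
      rw [← hcardG]
      exact orderOf_dvd_of_pow_eq_one h1
    have hz : x⁻¹ * y ∈ Subgroup.center P := by
      rw [← hof1, map_mul, map_inv, hyx, inv_mul_cancel]
    have hzG : (g : G) ^ k * (x : G) * ((g : G) ^ k)⁻¹ = x * ((x⁻¹ * y : P) : G) := by
      rw [← hy1]; simp
    have hcz := hcent _ hhH _ hz
    have hpow := conj_pow_eq hcz hzG (orderOf ((g : G) ^ k))
    rw [pow_orderOf_eq_one] at hpow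
    have hz1 : ((x⁻¹ * y : P) : G) ^ orderOf ((g : G) ^ k) = 1 := by
      have : (x : G) = x * ((x⁻¹ * y : P) : G) ^ orderOf ((g : G) ^ k) := by
        simpa using hpow
      exact (mul_eq_left.1 this.symm)
    have hz2 : ((x⁻¹ * y : P) : G) ^ p = 1 := by
      have := hES.pow_eq_one_of_mem_center hz
      exact_mod_cast congrArg Subtype.val this
    have hcop' : Nat.Coprime (orderOf ((g : G) ^ k)) p := by
      apply Nat.Coprime.coprime_dvd_left _ hcop
      have : orderOf ((g : G) ^ k) ∣ orderOf (g : G) := orderOf_pow_dvd k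
      rwa [hcardG] at this
    have hz3 : ((x⁻¹ * y : P) : G) = 1 := by
      have := pow_gcd_eq_one.2 ⟨hz1, hz2⟩
      rwa [Nat.Coprime.gcd_eq_one hcop', pow_one] at this
    have hxc : (x : G) ∈ P ⊓ Subgroup.centralizer ({(g : G) ^ k} : Set G) := by
      refine ⟨x.2, ?_⟩
      show (x : G) ∈ Subgroup.centralizer ({(g : G) ^ k} : Set G)
      rw [Subgroup.mem_centralizer_iff]
      intro h hh
      rw [Set.mem_singleton_iff] at hh
      subst hh
      rw [hz3, mul_one] at hzG
      calc (g : G) ^ k * x = ((g : G) ^ k * x * ((g : G) ^ k)⁻¹) * (g : G) ^ k := by group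
        _ = x * (g : G) ^ k := by rw [hzG]
    rw [hfix _ hhH hh1] at hxc
    obtain ⟨x', hx', hxx'⟩ := hxc
    have : x' = x := Subtype.ext hxx'
    have hx'' : x' ∈ Subgroup.center P := hx'
    rw [this, ← hof1] at hx''
    apply hv0
    rw [hx'']
    rfl
  -- nondegeneracy
  have htoAdd : ∀ a : Multiplicative (ZMod p), Multiplicative.toAdd a = 0 → a = 1 := by
    intro a ha
    exact Multiplicative.toAdd.injective ha
  have hnd : B.Nondegenerate := by
    constructor
    · intro v hv
      obtain ⟨x, rfl⟩ := hsurj v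
      have : x ∈ Subgroup.center P := by
        rw [Subgroup.mem_center_iff]
        intro y
        have := hv (Additive.ofMul (Abelianization.of y))
        rw [hB] at this
        have h1 : ι (commHom hc x y) = 1 := htoAdd _ this
        have h2 : commHom hc x y = 1 := hι (by rw [h1, map_one])
        exact ((mem_ker_commHom hc x y).1 h2).symm
      rw [← hof1] at this
      rw [this]; rfl
    · intro w hw
      obtain ⟨y, rfl⟩ := hsurj w
      have : y ∈ Subgroup.center P := by
        rw [Subgroup.mem_center_iff]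
        intro x
        have := hw (Additive.ofMul (Abelianization.of x))
        rw [hB] at this
        have h1 : ι (commHom hc x y) = 1 := htoAdd _ this
        have h2 : commHom hc x y = 1 := hι (by rw [h1, map_one])
        exact (mem_ker_commHom hc x y).1 h2
      rw [← hof1] at this
      rw [this]; rfl
  have halt : ∀ v, B v v = 0 := by
    intro v
    obtain ⟨x, rfl⟩ := hsurj v
    rw [hB]
    have : commHom hc x x = 1 := (mem_ker_commHom hc x x).2 rfl
    rw [this, map_one]; rfl
  have hinv : ∀ v w, B (T v) (T w) = B v w := by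
    intro v w
    obtain ⟨x, rfl⟩ := hsurj v
    obtain ⟨y, rfl⟩ := hsurj w
    rw [hTof, hTof, hB, hB]
    congr 2
    apply Subtype.ext
    apply Subtype.ext
    rw [commHom_apply, commHom_apply]
    have hcz := hcent (g : G) g.2 _ (hc x y)
    simp only [Subgroup.coe_mul, Subgroup.coe_inv, conjAut_coe]
    simp only [Subgroup.coe_mul, Subgroup.coe_inv] at hcz
    calc (g : G) * x * (g : G)⁻¹ * ((g : G) * y * (g : G)⁻¹) * ((g : G) * x * (g : G)⁻¹)⁻¹ *
          ((g : G) * y * (g : G)⁻¹)⁻¹
        = ((g : G) * ((x : G) * y * (x : G)⁻¹ * (y : G)⁻¹)) * (g : G)⁻¹ := by group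
      _ = ((x : G) * y * (x : G)⁻¹ * (y : G)⁻¹) * (g : G) * (g : G)⁻¹ := by rw [hcz]
      _ = (x : G) * y * (x : G)⁻¹ * (y : G)⁻¹ := by group
  have hyp : SympSemi.Hyp T (Nat.card H) B := ⟨hTe, hsemi, hnd, halt, hinv⟩
  have heF : ((Nat.card H : ℕ) : ZMod p) ≠ 0 := by
    rw [Ne, ZMod.natCast_eq_zero_iff]
    intro hdvd
    have := Nat.Coprime.eq_one_of_dvd hcop.symm hdvd
    exact hp.one_lt.ne' this
  have hfin := SympSemi.main_lin (F := ZMod p) (Nat.card H) heF n
    (Additive (Abelianization P)) T B hyp hfr
  rw [ZMod.card] at hfin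
  rcases hfin with h1 | h1
  · right
    rw [← ZMod.natCast_eq_zero_iff, Nat.cast_sub (Nat.one_le_pow _ _ hp.pos)]
    push_cast
    rw [h1, sub_self]
  · left
    rw [← ZMod.natCast_eq_zero_iff]
    push_cast
    rw [h1]
    simp

theorem main [Finite G] {p : ℕ} [Fact p.Prime] (P H : Subgroup G)
    (hP : Cfsg.IsExtraspecial p ↥P) (n : ℕ) (hn : Nat.card P = p ^ (2 * n + 1))
    (hH : IsCyclic H) (hcop : (Nat.card H).Coprime p)
    (hHP : H ≤ Subgroup.normalizer (P : Set G))
    (hfix : ∀ x ∈ H, x ≠ 1 →
      P ⊓ Subgroup.centralizer {x} = (Subgroup.center ↥P).map P.subtype) :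
    Nat.card H ∣ p ^ n + 1 ∨ Nat.card H ∣ p ^ n - 1 := by
  have hES : IsES p P := isES_of_isExtraspecial hP
  have hcomm : commutator P = Subgroup.center P := hP.1.2.2
  have hof1 : ∀ x : P, Abelianization.of x = 1 ↔ x ∈ Subgroup.center P := by
    intro x
    rw [← hcomm, ← Abelianization.ker_of, MonoidHom.mem_ker]
  have hexp' : ∀ w : Abelianization P, w ^ p = 1 := by
    intro w
    obtain ⟨x, rfl⟩ := QuotientGroup.mk_surjective w
    show Abelianization.of x ^ p = 1
    rw [← map_pow, hof1]
    exact hES.pow_mem_center x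
  have hexp : ∀ v : Additive (Abelianization P), p • v = 0 := by
    intro v
    show Additive.ofMul ((Additive.toMul v) ^ p) = 0
    rw [hexp']; rfl
  exact core (instM := AddCommGroup.zmodModule hexp) P H hP n hn hH hcop hHP hfix

end Main

end Cfsg.Agent.Lib.Helper17.ESymp
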