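import Cfsg.Agent.Lib.Helper17.ClassTwoP
import Cfsg.Agent.Lib.Helper11.PGroupFrattini
import Cfsg.Agent.Lib.Helper2.NilpotentBasic
import Cfsg.Agent.Lib.Helper24.Extraspecial
import Cfsg.Prelude.Def_Transfer

set_option autoImplicit false

/-!
# A `p`-group with an extraspecial subgroup of index `p`
-/

namespace Cfsg.Agent.Lib.Helper17

open scoped commutatorElement

section

variable {S : Type*} [Group S] [Finite S] {p : ℕ} [Fact p.Prime]

/-- Basic facts: `Q` is maximal and normal, `Z(Q) ≤ Z(S)`, `Q ∩ Z(S) = Z(Q)`, `|Q| = p^(2n+1)`. -/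
theorem extraspecial_index_p_basic (hS : IsPGroup p S) (Q : Subgroup S)
    (hQ : Cfsg.IsExtraspecial p ↥Q) (hQi : Q.index = p) :
    IsCoatom Q ∧ Q.Normal ∧ ((Subgroup.center ↥Q).map Q.subtype).Normal ∧
      Nat.card ((Subgroup.center ↥Q).map Q.subtype) = p ∧
      (Subgroup.center ↥Q).map Q.subtype ≤ Subgroup.center S ∧
      Q ⊓ Subgroup.center S = (Subgroup.center ↥Q).map Q.subtype ∧
      ∃ n : ℕ, 1 ≤ n ∧ Nat.card Q = p ^ (2 * n + 1) := by
  classical
  have hp : p.Prime := Fact.out
  obtain ⟨⟨hP, hfr, hco⟩, hZ⟩ := hQ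
  have hcoatom : IsCoatom Q := isCoatom_of_index_prime' hp hQi
  haveI hQn : Q.Normal := Cfsg.Agent.Lib.Helper11.coatom_normal_of_isPGroup hS Q hcoatom
  have hcommE : ∀ a b : Q, a * b * a⁻¹ * b⁻¹ ∈ Subgroup.center Q := by
    intro a b
    rw [← hco, commutator_def]
    exact Subgroup.commutator_mem_commutator (Subgroup.mem_top a) (Subgroup.mem_top b)
  have hcard : ∃ n : ℕ, 1 ≤ n ∧ Nat.card Q = p ^ (2 * n + 1) := by
    obtain ⟨n, hn⟩ := Cfsg.Agent.Lib.Helper24.card_eq_prime_pow_odd p (Nat.card Q) Q rfl hZ hcommE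
    refine ⟨n, ?_, hn⟩
    by_contra hn0
    have hn0' : n = 0 := by omega
    rw [hn0', Nat.mul_zero, Nat.zero_add, pow_one] at hn
    have htop : Subgroup.center Q = ⊤ :=
      Subgroup.eq_top_of_card_eq _ (by rw [hZ, hn])
    have hbot : commutator Q = ⊥ := by
      rw [commutator_def, Subgroup.commutator_eq_bot_iff_le_centralizer]
      intro a _
      rw [Subgroup.mem_centralizer_iff]
      intro b _
      have : a ∈ Subgroup.center Q := htop ▸ Subgroup.mem_top a
      exact Subgroup.mem_center_iff.mp this b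
    rw [hbot] at hco
    rw [← hco, Subgroup.card_bot] at hZ
    exact hp.one_lt.ne hZ
  have hZQn : ((Subgroup.center ↥Q).map Q.subtype).Normal := inferInstance
  have hZQcard : Nat.card ((Subgroup.center ↥Q).map Q.subtype) = p := by
    rw [Subgroup.card_map_of_injective Q.subtype_injective, hZ]
  have hZQne : (Subgroup.center ↥Q).map Q.subtype ≠ ⊥ := by
    intro h
    rw [h, Subgroup.card_bot] at hZQcard
    exact hp.one_lt.ne hZQcard
  haveI : Group.IsNilpotent S := hS.isNilpotent
  have hmeet := Cfsg.Agent.Lib.Helper2.normal_inf_center_ne_bot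
    ((Subgroup.center ↥Q).map Q.subtype) hZQne
  have hZQle : (Subgroup.center ↥Q).map Q.subtype ≤ Subgroup.center S := by
    have h1 : Nat.card ↥((Subgroup.center ↥Q).map Q.subtype ⊓ Subgroup.center S) ∣ p := by
      rw [← hZQcard]
      exact Subgroup.card_dvd_of_le inf_le_left
    rcases (Nat.dvd_prime hp).mp h1 with h | h
    · exfalso
      exact hmeet (Subgroup.card_eq_one.mp h)
    · have h2 : (Subgroup.center ↥Q).map Q.subtype ⊓ Subgroup.center S =
          (Subgroup.center ↥Q).map Q.subtype :=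
        Subgroup.eq_of_le_of_card_ge inf_le_left (by rw [h, hZQcard])
      rw [← h2]
      exact inf_le_right
  have hinf : Q ⊓ Subgroup.center S = (Subgroup.center ↥Q).map Q.subtype := by
    apply le_antisymm
    · rintro z ⟨hzQ, hzZ⟩
      refine ⟨⟨z, hzQ⟩, ?_, rfl⟩
      rw [SetLike.mem_coe, Subgroup.mem_center_iff]
      intro g
      apply Subtype.ext
      exact Subgroup.mem_center_iff.mp hzZ g
    · refine le_inf ?_ hZQle
      rintro _ ⟨z, -, rfl⟩
      exact z.2
  exact ⟨hcoatom, hQn, hZQn, hZQcard, hZQle, hinf, hcard⟩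

/-- If `S` has an abelian subgroup of index `p`, then `|S| = p^4`. -/
theorem card_eq_of_abelian_index_p (hS : IsPGroup p S) (Q : Subgroup S)
    (hQ : Cfsg.IsExtraspecial p ↥Q) (hQi : Q.index = p)
    (A : Subgroup S) (hAc : IsMulCommutative ↥A) (hAi : A.index = p) : Nat.card S = p ^ 4 := by
  classical
  have hp : p.Prime := Fact.out
  obtain ⟨-, -, -, -, -, -, n, hn1, hn⟩ := extraspecial_index_p_basic hS Q hQ hQi
  obtain ⟨⟨hP, hfr, hco⟩, hZ⟩ := hQ
  have hcommE : ∀ a b : Q, ⁅a, b⁆ ∈ Subgroup.center Q := by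
    intro a b
    rw [← hco, commutator_def]
    exact Subgroup.commutator_mem_commutator (Subgroup.mem_top a) (Subgroup.mem_top b)
  have hAcoatom : IsCoatom A := isCoatom_of_index_prime' hp hAi
  haveI hAn : A.Normal := Cfsg.Agent.Lib.Helper11.coatom_normal_of_isPGroup hS A hAcoatom
  have hrel : A.relIndex Q ∣ p := hAi ▸ Subgroup.relIndex_dvd_index_of_normal A Q
  have hAcomm : A ≤ Subgroup.centralizer (A : Set S) :=
    Subgroup.le_centralizer_iff_isMulCommutative.mpr hAc
  -- the abelian subgroup B' = (A ∩ Q) Z(Q) of Q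
  have hBidx : (A.subgroupOf Q).index ∣ p := hrel
  have hB'comm : A.subgroupOf Q ⊔ Subgroup.center Q ≤
      Subgroup.centralizer ((A.subgroupOf Q ⊔ Subgroup.center Q : Subgroup Q) : Set Q) := by
    have h1 : A.subgroupOf Q ≤ Subgroup.centralizer ((A.subgroupOf Q : Subgroup Q) : Set Q) := by
      intro a ha
      rw [Subgroup.mem_centralizer_iff]
      intro b hb
      apply Subtype.ext
      exact Subgroup.mem_centralizer_iff.mp (hAcomm (Subgroup.mem_subgroupOf.mp ha)) b
        (Subgroup.mem_subgroupOf.mp hb)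
    have h2 : Subgroup.center Q ≤ Subgroup.centralizer ((A.subgroupOf Q : Subgroup Q) : Set Q) := by
      rw [← Subgroup.centralizer_univ]
      exact Subgroup.centralizer_le (Set.subset_univ _)
    have h3 : Subgroup.center Q ≤ Subgroup.centralizer ((Subgroup.center Q : Subgroup Q) : Set Q) := by
      rw [← Subgroup.centralizer_univ]
      exact Subgroup.centralizer_le (Set.subset_univ _)
    apply sup_le
    · rw [Subgroup.le_centralizer_iff]
      exact sup_le h1 h2
    · rw [Subgroup.le_centralizer_iff]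
      exact sup_le (Subgroup.le_centralizer_iff.mp h2) h3
  haveI : Fintype Q := Fintype.ofFinite Q
  have hperp := card_centralizer_mul_card_prime hZ hcommE
    (A.subgroupOf Q ⊔ Subgroup.center Q) le_sup_right
  have h1 : Nat.card ↥(A.subgroupOf Q ⊔ Subgroup.center Q) ≤
      Nat.card (Subgroup.centralizer ((A.subgroupOf Q ⊔ Subgroup.center Q : Subgroup Q) : Set Q)) :=
    Subgroup.card_le_of_le hB'comm
  have h2 : Nat.card ↥(A.subgroupOf Q) ≤ Nat.card ↥(A.subgroupOf Q ⊔ Subgroup.center Q) :=
    Subgroup.card_le_of_le le_sup_left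
  have h3 : Nat.card ↥(A.subgroupOf Q) * (A.subgroupOf Q).index = Nat.card Q :=
    Subgroup.card_mul_index _
  have h4 : (A.subgroupOf Q).index ≤ p := Nat.le_of_dvd hp.pos hBidx
  -- |Q| ≤ p^3
  have h5 : Nat.card Q ≤ p ^ 3 := by
    set b' := Nat.card ↥(A.subgroupOf Q ⊔ Subgroup.center Q) with hb'
    set c' := Nat.card (Subgroup.centralizer
      ((A.subgroupOf Q ⊔ Subgroup.center Q : Subgroup Q) : Set Q)) with hc'
    set b := Nat.card ↥(A.subgroupOf Q) with hb
    set e := Nat.card Q with he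
    have hepos : 0 < e := Nat.card_pos
    have h6 : e ≤ b' * p := by
      calc e = b * (A.subgroupOf Q).index := h3.symm
        _ ≤ b' * p := Nat.mul_le_mul h2 h4
    have h7 : b' * b' ≤ p * e := by
      calc b' * b' ≤ c' * b' := Nat.mul_le_mul_right _ h1
        _ = p * e := hperp
    have h8 : e * e ≤ p ^ 3 * e := by
      calc e * e ≤ (b' * p) * (b' * p) := Nat.mul_le_mul h6 h6
        _ = (b' * b') * (p * p) := by ring
        _ ≤ (p * e) * (p * p) := Nat.mul_le_mul_right _ h7
        _ = p ^ 3 * e := by ring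
    exact Nat.le_of_mul_le_mul_right h8 hepos
  rw [hn] at h5
  have h6 : 2 * n + 1 ≤ 3 := (Nat.pow_le_pow_iff_right hp.one_lt).mp h5
  have hn' : n = 1 := by omega
  rw [← Subgroup.card_mul_index Q, hQi, hn, hn']
  ring

/-- If `|S| = p^4`, then `S` has an abelian subgroup of index `p`. -/
theorem exists_abelian_index_p_of_card (hS : IsPGroup p S) (Q : Subgroup S)
    (hQ : Cfsg.IsExtraspecial p ↥Q) (hQi : Q.index = p) (hcard : Nat.card S = p ^ 4) :
    ∃ A : Subgroup S, IsMulCommutative ↥A ∧ A.index = p := by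
  classical
  have hp : p.Prime := Fact.out
  obtain ⟨hcoatom, hQn, hZQn, hZQcard, hZQle, hinf, -⟩ := extraspecial_index_p_basic hS Q hQ hQi
  haveI := hQn
  haveI := hZQn
  have hQcard : Nat.card Q = p ^ 3 := by
    have h0 := Subgroup.card_mul_index Q
    rw [hQi, hcard] at h0
    have h : Nat.card Q * p = p ^ 3 * p := by rw [h0]; ring
    exact Nat.eq_of_mul_eq_mul_right hp.pos h
  -- the quotient by Z(Q)
  have hqP : IsPGroup p (S ⧸ (Subgroup.center ↥Q).map Q.subtype) := hS.to_quotient _
  haveI : Group.IsNilpotent (S ⧸ (Subgroup.center ↥Q).map Q.subtype) := hqP.isNilpotent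
  haveI : (Q.map (QuotientGroup.mk' ((Subgroup.center ↥Q).map Q.subtype))).Normal :=
    Subgroup.Normal.map hQn _ (QuotientGroup.mk'_surjective _)
  have hQbar : Q.map (QuotientGroup.mk' ((Subgroup.center ↥Q).map Q.subtype)) ≠ ⊥ := by
    intro h
    have hle : Q ≤ (Subgroup.center ↥Q).map Q.subtype := by
      intro q hq
      have h1 : QuotientGroup.mk' ((Subgroup.center ↥Q).map Q.subtype) q ∈
          Q.map (QuotientGroup.mk' ((Subgroup.center ↥Q).map Q.subtype)) :=
        Subgroup.mem_map_of_mem _ hq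
      rw [h, Subgroup.mem_bot] at h1
      exact (QuotientGroup.eq_one_iff q).mp h1
    have h2 := Subgroup.card_le_of_le hle
    rw [hQcard, hZQcard] at h2
    have h3 : p ^ 3 ≤ p ^ 1 := by rwa [pow_one]
    have h4 := (Nat.pow_le_pow_iff_right hp.one_lt).mp h3
    omega
  have hmeet := Cfsg.Agent.Lib.Helper2.normal_inf_center_ne_bot
    (Q.map (QuotientGroup.mk' ((Subgroup.center ↥Q).map Q.subtype))) hQbar
  obtain ⟨⟨c, hc⟩, hc1⟩ := (Subgroup.ne_bot_iff_exists_ne_one).mp hmeet
  obtain ⟨⟨b, hbQ, rfl⟩, hcZ⟩ := hc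
  have hbZQ : b ∉ (Subgroup.center ↥Q).map Q.subtype := by
    intro h
    apply hc1
    apply Subtype.ext
    exact (QuotientGroup.eq_one_iff b).mpr h
  have hbcomm : ∀ s : S, ⁅s, b⁆ ∈ (Subgroup.center ↥Q).map Q.subtype := by
    intro s
    rw [← QuotientGroup.eq_one_iff]
    change QuotientGroup.mk' ((Subgroup.center ↥Q).map Q.subtype) ⁅s, b⁆ = 1
    rw [map_commutatorElement, commutatorElement_eq_one_iff_mul_comm]
    exact Subgroup.mem_center_iff.mp hcZ _
  have hbZS : b ∉ Subgroup.center S := by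
    intro h
    apply hbZQ
    rw [← hinf]
    exact ⟨hbQ, h⟩
  -- the homomorphism s ↦ ⁅s, b⁆
  let φ : S →* Subgroup.center S :=
    { toFun := fun s => ⟨⁅s, b⁆, hZQle (hbcomm s)⟩
      map_one' := by
        apply Subtype.ext
        show ⁅(1 : S), b⁆ = 1
        rw [commutatorElement_one_left]
      map_mul' := by
        intro s t
        apply Subtype.ext
        show ⁅s * t, b⁆ = ⁅s, b⁆ * ⁅t, b⁆
        have hc : ∀ g : S, g * ⁅t, b⁆ = ⁅t, b⁆ * g :=
          fun g => Subgroup.mem_center_iff.mp (hZQle (hbcomm t)) g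
        have e : ⁅s * t, b⁆ = s * ⁅t, b⁆ * s⁻¹ * ⁅s, b⁆ := by
          simp only [commutatorElement_def]
          group
        rw [e, hc s, mul_assoc ⁅t, b⁆, mul_inv_cancel, mul_one]
        exact (hc ⁅s, b⁆).symm }
  have hker : φ.ker = Subgroup.centralizer {b} := by
    ext s
    rw [MonoidHom.mem_ker, Subgroup.mem_centralizer_singleton_iff]
    constructor
    · intro h
      have h2 : ⁅s, b⁆ = 1 := congrArg Subtype.val h
      rwa [commutatorElement_eq_one_iff_mul_comm] at h2
    · intro h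
      apply Subtype.ext
      show ⁅s, b⁆ = 1
      rwa [commutatorElement_eq_one_iff_mul_comm]
  have hrange : Nat.card φ.range = p := by
    have hle : φ.range ≤ ((Subgroup.center ↥Q).map Q.subtype).subgroupOf (Subgroup.center S) := by
      rintro _ ⟨s, rfl⟩
      exact hbcomm s
    have h1 : Nat.card φ.range ∣ p := by
      have h2 := Subgroup.card_dvd_of_le hle
      have h3 : Nat.card ↥(((Subgroup.center ↥Q).map Q.subtype).subgroupOf (Subgroup.center S)) =
          p := by
        rw [← hZQcard]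
        exact Nat.card_congr (Subgroup.subgroupOfEquivOfLe hZQle).toEquiv
      rwa [h3] at h2
    rcases (Nat.dvd_prime hp).mp h1 with h | h
    · exfalso
      apply hbZS
      rw [Subgroup.mem_center_iff]
      intro s
      have h2 : φ s ∈ φ.range := ⟨s, rfl⟩
      rw [Subgroup.card_eq_one.mp h, Subgroup.mem_bot] at h2
      have h3 : ⁅s, b⁆ = 1 := congrArg Subtype.val h2
      rwa [commutatorElement_eq_one_iff_mul_comm] at h3
    · exact h
  have hAidx : (Subgroup.centralizer ({b} : Set S)).index = p := by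
    rw [← hker, Subgroup.index_ker, hrange]
  have hAcard : Nat.card (Subgroup.centralizer ({b} : Set S)) = p ^ 3 := by
    have h0 := Subgroup.card_mul_index (Subgroup.centralizer ({b} : Set S))
    rw [hAidx, hcard] at h0
    have h : Nat.card (Subgroup.centralizer ({b} : Set S)) * p = p ^ 3 * p := by rw [h0]; ring
    exact Nat.eq_of_mul_eq_mul_right hp.pos h
  refine ⟨Subgroup.centralizer ({b} : Set S), ?_, hAidx⟩
  rw [← Subgroup.le_centralizer_iff_isMulCommutative]
  -- D = Z(Q)⟨b⟩ is central in A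
  have hbA : b ∈ Subgroup.centralizer ({b} : Set S) := by
    rw [Subgroup.mem_centralizer_singleton_iff]
  have hDA : (Subgroup.center ↥Q).map Q.subtype ⊔ Subgroup.zpowers b ≤
      Subgroup.centralizer ({b} : Set S) := by
    apply sup_le
    · refine hZQle.trans ?_
      rw [← Subgroup.centralizer_univ]
      exact Subgroup.centralizer_le (Set.subset_univ _)
    · exact Subgroup.zpowers_le.mpr hbA
  have hDcen : (Subgroup.center ↥Q).map Q.subtype ⊔ Subgroup.zpowers b ≤
      Subgroup.centralizer ((Subgroup.centralizer ({b} : Set S) : Subgroup S) : Set S) := by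
    apply sup_le
    · refine hZQle.trans ?_
      rw [← Subgroup.centralizer_univ]
      exact Subgroup.centralizer_le (Set.subset_univ _)
    · rw [Subgroup.zpowers_le, Subgroup.mem_centralizer_iff]
      intro a ha
      rw [SetLike.mem_coe, Subgroup.mem_centralizer_singleton_iff] at ha
      exact ha
  -- |D| ≥ p^2
  obtain ⟨d, hd⟩ := IsPGroup.iff_card.mp
    (hS.to_subgroup ((Subgroup.center ↥Q).map Q.subtype ⊔ Subgroup.zpowers b))
  have hd2 : 2 ≤ d := by
    by_contra hlt
    have hd1 : d ≤ 1 := by omega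
    have h1 : Nat.card ↥((Subgroup.center ↥Q).map Q.subtype ⊔ Subgroup.zpowers b) ≤ p := by
      rw [hd]
      calc p ^ d ≤ p ^ 1 := Nat.pow_le_pow_right hp.pos hd1
        _ = p := pow_one p
    have h2 : (Subgroup.center ↥Q).map Q.subtype =
        (Subgroup.center ↥Q).map Q.subtype ⊔ Subgroup.zpowers b :=
      Subgroup.eq_of_le_of_card_ge le_sup_left (by rw [hZQcard]; exact h1)
    apply hbZQ
    rw [h2]
    exact (le_sup_right : Subgroup.zpowers b ≤ _) (Subgroup.mem_zpowers b)
  intro a₁ ha₁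
  by_cases ha₁D : a₁ ∈ (Subgroup.center ↥Q).map Q.subtype ⊔ Subgroup.zpowers b
  · exact hDcen ha₁D
  · -- D ⊔ ⟨a₁⟩ = A
    have hD'A : (Subgroup.center ↥Q).map Q.subtype ⊔ Subgroup.zpowers b ⊔ Subgroup.zpowers a₁ ≤
        Subgroup.centralizer ({b} : Set S) :=
      sup_le hDA (Subgroup.zpowers_le.mpr ha₁)
    obtain ⟨e, he⟩ := IsPGroup.iff_card.mp (hS.to_subgroup
      ((Subgroup.center ↥Q).map Q.subtype ⊔ Subgroup.zpowers b ⊔ Subgroup.zpowers a₁))
    have hde : d < e := by
      by_contra hle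
      have hed : e ≤ d := by omega
      have h1 : Nat.card ↥((Subgroup.center ↥Q).map Q.subtype ⊔ Subgroup.zpowers b ⊔
          Subgroup.zpowers a₁) ≤
          Nat.card ↥((Subgroup.center ↥Q).map Q.subtype ⊔ Subgroup.zpowers b) := by
        rw [he, hd]
        exact Nat.pow_le_pow_right hp.pos hed
      have h2 := Subgroup.eq_of_le_of_card_ge
        (le_sup_left : (Subgroup.center ↥Q).map Q.subtype ⊔ Subgroup.zpowers b ≤
          (Subgroup.center ↥Q).map Q.subtype ⊔ Subgroup.zpowers b ⊔ Subgroup.zpowers a₁) h1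
      apply ha₁D
      rw [h2]
      exact (le_sup_right : Subgroup.zpowers a₁ ≤ _) (Subgroup.mem_zpowers a₁)
    have hD'eq : (Subgroup.center ↥Q).map Q.subtype ⊔ Subgroup.zpowers b ⊔ Subgroup.zpowers a₁ =
        Subgroup.centralizer ({b} : Set S) := by
      apply Subgroup.eq_of_le_of_card_ge hD'A
      rw [hAcard, he]
      exact Nat.pow_le_pow_right hp.pos (by omega)
    have hD'cen : (Subgroup.center ↥Q).map Q.subtype ⊔ Subgroup.zpowers b ⊔ Subgroup.zpowers a₁ ≤
        Subgroup.centralizer ({a₁} : Set S) := by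
      apply sup_le
      · refine hDcen.trans (Subgroup.centralizer_le ?_)
        intro x hx
        rw [Set.mem_singleton_iff] at hx
        rw [hx]
        exact ha₁
      · rw [Subgroup.zpowers_le, Subgroup.mem_centralizer_singleton_iff]
    rw [Subgroup.mem_centralizer_iff]
    intro a₂ ha₂
    rw [SetLike.mem_coe, ← hD'eq] at ha₂
    have := hD'cen ha₂
    rw [Subgroup.mem_centralizer_singleton_iff] at this
    exact this

end

end Cfsg.Agent.Lib.Helper17
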