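import Cfsg.Prelude.Def_FusionSystem

set_option autoImplicit false

/-!
# Helpers for the normalizer and centralizer fusion systems
-/

namespace Cfsg.Agent.Lib.Helper17

open Cfsg

variable {Ω : Type*} [Group Ω] {S : Subgroup Ω}

/-- Restriction of a map of the system to a smaller subgroup is a map of the system. -/
theorem fs_restrict_mem (F : FusionSystem S) {R R' : Subgroup Ω} (h : R ≤ R') {ψ : R' →* Ω}
    (hψ : ψ ∈ F.Hom R') : ψ.comp (Subgroup.inclusion h) ∈ F.Hom R := by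
  have hR'S : R' ≤ S := (F.le_of_mem hψ).1
  have h1 : conjHom R 1 ∈ F.Hom R := F.conj_mem (h.trans hR'S) S.one_mem
  have h2 : ∀ x : R, conjHom R 1 x ∈ R' := by
    intro x
    show 1 * (x : Ω) * 1⁻¹ ∈ R'
    rw [one_mul, inv_one, mul_one]
    exact h x.2
  have h3 := F.comp_mem h1 hψ h2
  have h4 : ψ.comp ((conjHom R 1).codRestrict R' h2) = ψ.comp (Subgroup.inclusion h) := by
    ext x
    show ψ ⟨1 * (x : Ω) * 1⁻¹, _⟩ = ψ ⟨x, _⟩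
    congr 1
    apply Subtype.ext
    show 1 * (x : Ω) * 1⁻¹ = x
    rw [one_mul, inv_one, mul_one]
  rwa [h4] at h3

/-- A homomorphism on `P ⊔ Q` carrying `P` into `P'` and `Q` into `Q'` has values in `P' ⊔ Q'`. -/
theorem sup_hom_mem {P Q P' Q' : Subgroup Ω} (ψ : ↥(P ⊔ Q) →* Ω)
    (hP : ∀ x : P, ψ (Subgroup.inclusion le_sup_left x) ∈ P')
    (hQ : ∀ x : Q, ψ (Subgroup.inclusion le_sup_right x) ∈ Q') :
    ∀ y : ↥(P ⊔ Q), ψ y ∈ P' ⊔ Q' := by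
  have h1 : P.subgroupOf (P ⊔ Q) ≤ (P' ⊔ Q').comap ψ := by
    intro y hy
    have hy' : (y : Ω) ∈ P := hy
    have e : y = Subgroup.inclusion le_sup_left ⟨(y : Ω), hy'⟩ := Subtype.ext rfl
    show ψ y ∈ P' ⊔ Q'
    rw [e]
    exact Subgroup.mem_sup_left (hP _)
  have h2 : Q.subgroupOf (P ⊔ Q) ≤ (P' ⊔ Q').comap ψ := by
    intro y hy
    have hy' : (y : Ω) ∈ Q := hy
    have e : y = Subgroup.inclusion le_sup_right ⟨(y : Ω), hy'⟩ := Subtype.ext rfl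
    show ψ y ∈ P' ⊔ Q'
    rw [e]
    exact Subgroup.mem_sup_right (hQ _)
  have h3 : (⊤ : Subgroup ↥(P ⊔ Q)) ≤ (P' ⊔ Q').comap ψ := by
    rw [← Subgroup.subgroupOf_self (P ⊔ Q), Subgroup.subgroupOf_sup le_sup_left le_sup_right]
    exact sup_le h1 h2
  intro y
  exact h3 (Subgroup.mem_top y)

/-- Elementwise form of `(Q.subgroupOf (P ⊔ Q)).map ψ = Q`. -/
theorem map_subgroupOf_sup_eq_iff {P Q : Subgroup Ω} (ψ : ↥(P ⊔ Q) →* Ω) :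
    (Q.subgroupOf (P ⊔ Q)).map ψ = Q ↔
      (∀ q : Q, ψ (Subgroup.inclusion le_sup_right q) ∈ Q) ∧
        ∀ q ∈ Q, ∃ q' : Q, ψ (Subgroup.inclusion le_sup_right q') = q := by
  constructor
  · intro h
    refine ⟨?_, ?_⟩
    · intro q
      have h0 : ψ (Subgroup.inclusion le_sup_right q) ∈ (Q.subgroupOf (P ⊔ Q)).map ψ :=
        Subgroup.mem_map_of_mem _
          (show ((Subgroup.inclusion le_sup_right q : ↥(P ⊔ Q)) : Ω) ∈ Q from q.2)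
      exact (SetLike.ext_iff.mp h _).mp h0
    · intro q hq
      have hq0 : q ∈ (Q.subgroupOf (P ⊔ Q)).map ψ := (SetLike.ext_iff.mp h _).mpr hq
      obtain ⟨y, hy, rfl⟩ := hq0
      have hy' : (y : Ω) ∈ Q := hy
      exact ⟨⟨(y : Ω), hy'⟩, by congr 1⟩
  · rintro ⟨h1, h2⟩
    ext z
    constructor
    · rintro ⟨y, hy, rfl⟩
      have hy' : (y : Ω) ∈ Q := hy
      have e : y = Subgroup.inclusion le_sup_right ⟨(y : Ω), hy'⟩ := Subtype.ext rfl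
      rw [e]
      exact h1 _
    · intro hz
      obtain ⟨q', hq'⟩ := h2 z hz
      exact ⟨Subgroup.inclusion le_sup_right q', q'.2, hq'⟩

/-! ### The normalizer system -/

theorem normalizerHom_conj_mem (F : FusionSystem S) {Q : Subgroup Ω} (hQ : Q ≤ S) {P : Subgroup Ω}
    {g : Ω} (hP : P ≤ FusionSystem.normalizerIn S Q) (hg : g ∈ FusionSystem.normalizerIn S Q) :
    conjHom P g ∈ F.normalizerHom Q P := by
  have hPS : P ≤ S := hP.trans inf_le_left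
  refine ⟨F.conj_mem hPS hg.1, hP, ?_, conjHom (P ⊔ Q) g, F.conj_mem (sup_le hPS hQ) hg.1,
    fun x => rfl, ?_⟩
  · intro x
    show g * (x : Ω) * g⁻¹ ∈ _
    exact mul_mem (mul_mem hg (hP x.2)) (inv_mem hg)
  · rw [map_subgroupOf_sup_eq_iff]
    refine ⟨?_, ?_⟩
    · intro q
      show g * (q : Ω) * g⁻¹ ∈ Q
      exact (Subgroup.mem_normalizer_iff.mp hg.2 q).mp q.2
    · intro q hq
      have hq' : g⁻¹ * q * g ∈ Q := by
        apply (Subgroup.mem_normalizer_iff.mp hg.2 (g⁻¹ * q * g)).mpr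
        have e : g * (g⁻¹ * q * g) * g⁻¹ = q := by group
        rw [e]
        exact hq
      refine ⟨⟨g⁻¹ * q * g, hq'⟩, ?_⟩
      show g * (g⁻¹ * q * g) * g⁻¹ = q
      group

theorem normalizerHom_comp_mem (F : FusionSystem S) {Q P P' : Subgroup Ω} {φ : P →* Ω}
    {ψ : P' →* Ω} (hφ : φ ∈ F.normalizerHom Q P) (hψ : ψ ∈ F.normalizerHom Q P')
    (h : ∀ x : P, φ x ∈ P') : ψ.comp (φ.codRestrict P' h) ∈ F.normalizerHom Q P := by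
  obtain ⟨hφF, hPN, hφN, φ', hφ'F, hφ'P, hφ'Q⟩ := hφ
  obtain ⟨hψF, hP'N, hψN, ψ', hψ'F, hψ'P, hψ'Q⟩ := hψ
  rw [map_subgroupOf_sup_eq_iff] at hφ'Q hψ'Q
  have hmem : ∀ y : ↥(P ⊔ Q), φ' y ∈ P' ⊔ Q :=
    sup_hom_mem φ' (fun x => by rw [hφ'P]; exact h x) hφ'Q.1
  refine ⟨F.comp_mem hφF hψF h, hPN, fun x => hψN _, ψ'.comp (φ'.codRestrict (P' ⊔ Q) hmem),
    F.comp_mem hφ'F hψ'F hmem, ?_, ?_⟩
  · intro x
    show ψ' ⟨φ' (Subgroup.inclusion le_sup_left x), _⟩ = ψ ⟨φ x, _⟩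
    rw [← hψ'P ⟨φ x, h x⟩]
    congr 1
    apply Subtype.ext
    exact hφ'P x
  · rw [map_subgroupOf_sup_eq_iff]
    refine ⟨?_, ?_⟩
    · intro q
      show ψ' ⟨φ' (Subgroup.inclusion le_sup_right q), _⟩ ∈ Q
      have h1 := hψ'Q.1 ⟨φ' (Subgroup.inclusion le_sup_right q), hφ'Q.1 q⟩
      have e : (⟨φ' (Subgroup.inclusion le_sup_right q), hmem _⟩ : ↥(P' ⊔ Q)) =
          Subgroup.inclusion le_sup_right
            (⟨φ' (Subgroup.inclusion le_sup_right q), hφ'Q.1 q⟩ : Q) := Subtype.ext rfl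
      rw [e]
      exact h1
    · intro q hq
      obtain ⟨q1, hq1⟩ := hψ'Q.2 q hq
      obtain ⟨q2, hq2⟩ := hφ'Q.2 q1 q1.2
      refine ⟨q2, ?_⟩
      show ψ' ⟨φ' (Subgroup.inclusion le_sup_right q2), _⟩ = q
      rw [← hq1]
      congr 1
      apply Subtype.ext
      exact hq2

theorem normalizerHom_inv_mem (F : FusionSystem S) {Q P : Subgroup Ω} {φ : P →* Ω}
    (hφ : φ ∈ F.normalizerHom Q P) :
    ∃ ψ ∈ F.normalizerHom Q φ.range, ∀ x : P, ψ ⟨φ x, ⟨x, rfl⟩⟩ = (x : Ω) := by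
  obtain ⟨hφF, hPN, hφN, φ', hφ'F, hφ'P, hφ'Q⟩ := hφ
  rw [map_subgroupOf_sup_eq_iff] at hφ'Q
  obtain ⟨ψ₀, hψ₀F, hψ₀⟩ := F.inv_mem hφF
  obtain ⟨θ, hθF, hθ⟩ := F.inv_mem hφ'F
  have hle : φ.range ⊔ Q ≤ φ'.range := by
    apply sup_le
    · rintro _ ⟨x, rfl⟩
      exact ⟨Subgroup.inclusion le_sup_left x, hφ'P x⟩
    · intro q hq
      obtain ⟨q', hq'⟩ := hφ'Q.2 q hq
      exact ⟨_, hq'⟩
  refine ⟨ψ₀, ⟨hψ₀F, ?_, ?_, θ.comp (Subgroup.inclusion hle), fs_restrict_mem F hle hθF, ?_, ?_⟩,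
    hψ₀⟩
  · rintro _ ⟨x, rfl⟩
    exact hφN x
  · rintro ⟨_, x, rfl⟩
    rw [hψ₀ x]
    exact hPN x.2
  · rintro ⟨_, x, rfl⟩
    show θ ⟨φ x, _⟩ = ψ₀ ⟨φ x, _⟩
    rw [hψ₀ x]
    have e : (⟨φ x, hle (Subgroup.mem_sup_left ⟨x, rfl⟩)⟩ : φ'.range) =
        ⟨φ' (Subgroup.inclusion le_sup_left x), ⟨_, rfl⟩⟩ := Subtype.ext (hφ'P x).symm
    rw [e, hθ]
    rfl
  · rw [map_subgroupOf_sup_eq_iff]
    refine ⟨?_, ?_⟩
    · intro q
      obtain ⟨q', hq'⟩ := hφ'Q.2 q q.2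
      show θ ⟨(q : Ω), _⟩ ∈ Q
      have e : (⟨(q : Ω), hle (Subgroup.mem_sup_right q.2)⟩ : φ'.range) =
          ⟨φ' (Subgroup.inclusion le_sup_right q'), ⟨_, rfl⟩⟩ := Subtype.ext hq'.symm
      rw [e, hθ]
      exact q'.2
    · intro q hq
      refine ⟨⟨φ' (Subgroup.inclusion le_sup_right ⟨q, hq⟩), hφ'Q.1 ⟨q, hq⟩⟩, ?_⟩
      show θ ⟨φ' (Subgroup.inclusion le_sup_right ⟨q, hq⟩), _⟩ = q
      rw [hθ]
      rfl

/-! ### The centralizer system -/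

theorem centralizerHom_conj_mem (F : FusionSystem S) {Q : Subgroup Ω} (hQ : Q ≤ S) {P : Subgroup Ω}
    {g : Ω} (hP : P ≤ FusionSystem.centralizerIn S Q) (hg : g ∈ FusionSystem.centralizerIn S Q) :
    conjHom P g ∈ F.centralizerHom Q P := by
  have hPS : P ≤ S := hP.trans inf_le_left
  refine ⟨F.conj_mem hPS hg.1, hP, ?_, conjHom (P ⊔ Q) g, F.conj_mem (sup_le hPS hQ) hg.1,
    fun x => rfl, ?_⟩
  · intro x
    show g * (x : Ω) * g⁻¹ ∈ _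
    exact mul_mem (mul_mem hg (hP x.2)) (inv_mem hg)
  · intro q
    show g * (q : Ω) * g⁻¹ = q
    have h1 : (q : Ω) * g = g * q := Subgroup.mem_centralizer_iff.mp hg.2 q q.2
    rw [← h1, mul_inv_cancel_right]

theorem centralizerHom_comp_mem (F : FusionSystem S) {Q P P' : Subgroup Ω} {φ : P →* Ω}
    {ψ : P' →* Ω} (hφ : φ ∈ F.centralizerHom Q P) (hψ : ψ ∈ F.centralizerHom Q P')
    (h : ∀ x : P, φ x ∈ P') : ψ.comp (φ.codRestrict P' h) ∈ F.centralizerHom Q P := by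
  obtain ⟨hφF, hPN, hφN, φ', hφ'F, hφ'P, hφ'Q⟩ := hφ
  obtain ⟨hψF, hP'N, hψN, ψ', hψ'F, hψ'P, hψ'Q⟩ := hψ
  have hmem : ∀ y : ↥(P ⊔ Q), φ' y ∈ P' ⊔ Q :=
    sup_hom_mem φ' (fun x => by rw [hφ'P]; exact h x) (fun q => by rw [hφ'Q]; exact q.2)
  refine ⟨F.comp_mem hφF hψF h, hPN, fun x => hψN _, ψ'.comp (φ'.codRestrict (P' ⊔ Q) hmem),
    F.comp_mem hφ'F hψ'F hmem, ?_, ?_⟩
  · intro x
    show ψ' ⟨φ' (Subgroup.inclusion le_sup_left x), _⟩ = ψ ⟨φ x, _⟩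
    rw [← hψ'P ⟨φ x, h x⟩]
    congr 1
    apply Subtype.ext
    exact hφ'P x
  · intro q
    show ψ' ⟨φ' (Subgroup.inclusion le_sup_right q), _⟩ = q
    have e : (⟨φ' (Subgroup.inclusion le_sup_right q), hmem _⟩ : ↥(P' ⊔ Q)) =
        Subgroup.inclusion le_sup_right q := Subtype.ext (hφ'Q q)
    rw [e]
    exact hψ'Q q

theorem centralizerHom_inv_mem (F : FusionSystem S) {Q P : Subgroup Ω} {φ : P →* Ω}
    (hφ : φ ∈ F.centralizerHom Q P) :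
    ∃ ψ ∈ F.centralizerHom Q φ.range, ∀ x : P, ψ ⟨φ x, ⟨x, rfl⟩⟩ = (x : Ω) := by
  obtain ⟨hφF, hPN, hφN, φ', hφ'F, hφ'P, hφ'Q⟩ := hφ
  obtain ⟨ψ₀, hψ₀F, hψ₀⟩ := F.inv_mem hφF
  obtain ⟨θ, hθF, hθ⟩ := F.inv_mem hφ'F
  have hle : φ.range ⊔ Q ≤ φ'.range := by
    apply sup_le
    · rintro _ ⟨x, rfl⟩
      exact ⟨Subgroup.inclusion le_sup_left x, hφ'P x⟩
    · intro q hq
      exact ⟨Subgroup.inclusion le_sup_right ⟨q, hq⟩, hφ'Q ⟨q, hq⟩⟩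
  refine ⟨ψ₀, ⟨hψ₀F, ?_, ?_, θ.comp (Subgroup.inclusion hle), fs_restrict_mem F hle hθF, ?_, ?_⟩,
    hψ₀⟩
  · rintro _ ⟨x, rfl⟩
    exact hφN x
  · rintro ⟨_, x, rfl⟩
    rw [hψ₀ x]
    exact hPN x.2
  · rintro ⟨_, x, rfl⟩
    show θ ⟨φ x, _⟩ = ψ₀ ⟨φ x, _⟩
    rw [hψ₀ x]
    have e : (⟨φ x, hle (Subgroup.mem_sup_left ⟨x, rfl⟩)⟩ : φ'.range) =
        ⟨φ' (Subgroup.inclusion le_sup_left x), ⟨_, rfl⟩⟩ := Subtype.ext (hφ'P x).symm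
    rw [e, hθ]
    rfl
  · intro q
    show θ ⟨(q : Ω), _⟩ = q
    have e : (⟨(q : Ω), hle (Subgroup.mem_sup_right q.2)⟩ : φ'.range) =
        ⟨φ' (Subgroup.inclusion le_sup_right q), ⟨_, rfl⟩⟩ := Subtype.ext (hφ'Q q).symm
    rw [e, hθ]
    rfl

end Cfsg.Agent.Lib.Helper17
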