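import Cfsg.Agent.Lib.Helper29.FusionAut
import Cfsg.Agent.Lib.Helper29.GroupFusion
import Cfsg.Agent.Lib.Helper20.Transport
import Cfsg.Agent.Lib.Helper2.Cores
import Cfsg.Prelude.Def_LocalEven

set_option autoImplicit false

namespace Cfsg.Agent.Lib.Helper17

open Cfsg Cfsg.Agent.Lib.Helper29
open scoped commutatorElement

section autgroup

variable {G : Type*} [Group G]

theorem mem_autGroup_groupFusionSystem_iff {S Q : Subgroup G} (hQ : Q ≤ S) (α : MulAut Q) :
    α ∈ (groupFusionSystem S).autGroup Q ↔ ∃ g : G, ∀ x : Q, ((α x : Q) : G) = g * x * g⁻¹ := by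
  rw [mem_autGroup_iff _ hQ]
  constructor
  · rintro ⟨-, -, g, hg⟩
    exact ⟨g, fun x => hg x⟩
  · rintro ⟨g, hg⟩
    exact ⟨hQ, fun x => hQ (α x).2, g, fun x => hg x⟩

theorem autGroup_groupFusionSystem_eq_range {S Q : Subgroup G} (hQ : Q ≤ S) :
    (groupFusionSystem S).autGroup Q = Q.normalizerMonoidHom.range := by
  ext α
  rw [mem_autGroup_groupFusionSystem_iff hQ]
  constructor
  · rintro ⟨g, hg⟩
    have hgN : g ∈ Subgroup.normalizer (Q : Set G) := by
      rw [Subgroup.mem_normalizer_iff]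
      intro h
      constructor
      · intro hh
        have := hg ⟨h, hh⟩
        rw [← this]; exact (α _).2
      · intro hh
        obtain ⟨x, hx⟩ := α.surjective ⟨g * h * g⁻¹, hh⟩
        have h1 := hg x
        rw [hx] at h1
        have h2 : h = x := mul_left_cancel (mul_right_cancel h1)
        rw [h2]; exact x.2
    refine ⟨⟨g, hgN⟩, ?_⟩
    ext x
    rw [hg x]
    rfl
  · rintro ⟨n, rfl⟩
    exact ⟨n, fun x => rfl⟩

theorem map_mem_pCore_range_iff {N A : Type*} [Group N] [Group A] (p : ℕ) (f : N →* A)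
    (K : Subgroup N) [K.Normal] (hK : f.ker = K) (n : N) :
    f n ∈ (pCore p ↥f.range).map f.range.subtype ↔
      (QuotientGroup.mk n : N ⧸ K) ∈ pCore p (N ⧸ K) := by
  subst hK
  have h := Helper20.pCore_map_mulEquiv p (QuotientGroup.quotientKerEquivRange f)
  rw [← h]
  constructor
  · rintro ⟨_, ⟨x, hx, rfl⟩, hx2⟩
    have : x = (QuotientGroup.mk n : N ⧸ f.ker) := by
      apply (QuotientGroup.quotientKerEquivRange f).injective
      apply Subtype.ext
      exact hx2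
    rw [← this]; exact hx
  · intro hn
    exact ⟨_, ⟨_, hn, rfl⟩, rfl⟩

end autgroup

section good

variable {G : Type*} [Group G]

/-- intrinsic form of "the image of `g` in `N(Q)/C(Q)` lies in `O_p`". -/
def AutGood (p : ℕ) (Q : Subgroup G) (g : G) : Prop :=
  ∃ K : Subgroup G, K ≤ Subgroup.normalizer (Q : Set G) ∧
    Subgroup.normalizer (Q : Set G) ≤ Subgroup.normalizer (K : Set G) ∧ g ∈ K ∧
    ∀ k ∈ K, ∃ n : ℕ, k ^ (p ^ n) ∈ Subgroup.centralizer (Q : Set G)

theorem AutGood.conj {p : ℕ} {Q : Subgroup G} {g : G} (h : AutGood p Q g) (y : G) :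
    AutGood p (cj y Q) (y * g * y⁻¹) := by
  obtain ⟨K, h1, h2, h3, h4⟩ := h
  refine ⟨cj y K, ?_, ?_, conj_mem_cj h3, ?_⟩
  · rw [← cj_normalizer]; exact cj_mono h1
  · rw [← cj_normalizer, ← cj_normalizer]; exact cj_mono h2
  · intro k hk
    rw [mem_cj] at hk
    obtain ⟨n, hn⟩ := h4 _ hk
    refine ⟨n, ?_⟩
    rw [← cj_centralizer, mem_cj]
    have : y⁻¹ * k ^ (p ^ n) * y = (y⁻¹ * k * y) ^ (p ^ n) := by
      have := conj_pow (a := y⁻¹) (b := k) (i := p ^ n)
      rw [inv_inv] at this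
      exact this.symm
    rw [this]; exact hn

theorem autGood_of_mem_pCore {p : ℕ} {Q : Subgroup G} {g : G}
    (hg : g ∈ Subgroup.normalizer (Q : Set G))
    (h : (QuotientGroup.mk (s := (Subgroup.centralizer (Q : Set G)).subgroupOf
          (Subgroup.normalizer (Q : Set G)))
          (⟨g, hg⟩ : ↥(Subgroup.normalizer (Q : Set G)))) ∈
        pCore p (↥(Subgroup.normalizer (Q : Set G)) ⧸
          (Subgroup.centralizer (Q : Set G)).subgroupOf (Subgroup.normalizer (Q : Set G)))) :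
    AutGood p Q g := by
  obtain ⟨N, hN⟩ : ∃ N : Subgroup G, N = Subgroup.normalizer (Q : Set G) := ⟨_, rfl⟩
  have hpn : (pCore p (↥(Subgroup.normalizer (Q : Set G)) ⧸
          (Subgroup.centralizer (Q : Set G)).subgroupOf (Subgroup.normalizer (Q : Set G)))).Normal :=
    Helper2.pCore_normal p
  refine ⟨((pCore p (↥(Subgroup.normalizer (Q : Set G)) ⧸
          (Subgroup.centralizer (Q : Set G)).subgroupOf (Subgroup.normalizer (Q : Set G)))).comap
            (QuotientGroup.mk' ((Subgroup.centralizer (Q : Set G)).subgroupOf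
              (Subgroup.normalizer (Q : Set G))))).map
            (Subgroup.normalizer (Q : Set G)).subtype, ?_, ?_, ?_, ?_⟩
  · exact Subgroup.map_subtype_le _
  · intro n hn
    rw [Subgroup.mem_normalizer_iff]
    have key : ∀ (m : G) (hm : m ∈ Subgroup.normalizer (Q : Set G)) (k : G),
        k ∈ ((pCore p (↥(Subgroup.normalizer (Q : Set G)) ⧸
          (Subgroup.centralizer (Q : Set G)).subgroupOf (Subgroup.normalizer (Q : Set G)))).comap
            (QuotientGroup.mk' ((Subgroup.centralizer (Q : Set G)).subgroupOf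
              (Subgroup.normalizer (Q : Set G))))).map
            (Subgroup.normalizer (Q : Set G)).subtype →
        m * k * m⁻¹ ∈ ((pCore p (↥(Subgroup.normalizer (Q : Set G)) ⧸
          (Subgroup.centralizer (Q : Set G)).subgroupOf (Subgroup.normalizer (Q : Set G)))).comap
            (QuotientGroup.mk' ((Subgroup.centralizer (Q : Set G)).subgroupOf
              (Subgroup.normalizer (Q : Set G))))).map
            (Subgroup.normalizer (Q : Set G)).subtype := by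
      rintro m hm _ ⟨k', hk', rfl⟩
      refine ⟨⟨m, hm⟩ * k' * ⟨m, hm⟩⁻¹, ?_, rfl⟩
      rw [SetLike.mem_coe, Subgroup.mem_comap] at hk' ⊢
      rw [map_mul, map_mul, map_inv]
      exact hpn.conj_mem _ hk' _
    intro k
    constructor
    · exact key n hn k
    · intro hk
      have := key n⁻¹ (Subgroup.inv_mem _ hn) _ hk
      have e : n⁻¹ * (n * k * n⁻¹) * n⁻¹⁻¹ = k := by group
      rwa [e] at this
  · exact ⟨⟨g, hg⟩, h, rfl⟩
  · rintro _ ⟨k', hk', rfl⟩
    rw [SetLike.mem_coe, Subgroup.mem_comap] at hk'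
    obtain ⟨n, hn⟩ := (Helper2.pCore_isPGroup p) ⟨_, hk'⟩
    refine ⟨n, ?_⟩
    have h1 : ((QuotientGroup.mk' ((Subgroup.centralizer (Q : Set G)).subgroupOf
              (Subgroup.normalizer (Q : Set G)))) k') ^ (p ^ n) = 1 := by
      have := congrArg Subtype.val hn
      simpa using this
    rw [← map_pow, QuotientGroup.mk'_apply, QuotientGroup.eq_one_iff, Subgroup.mem_subgroupOf] at h1
    simpa using h1

theorem mem_pCore_of_autGood {p : ℕ} {Q : Subgroup G} {g : G} (h : AutGood p Q g)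
    (hg : g ∈ Subgroup.normalizer (Q : Set G)) :
    (QuotientGroup.mk (s := (Subgroup.centralizer (Q : Set G)).subgroupOf
          (Subgroup.normalizer (Q : Set G)))
          (⟨g, hg⟩ : ↥(Subgroup.normalizer (Q : Set G)))) ∈
        pCore p (↥(Subgroup.normalizer (Q : Set G)) ⧸
          (Subgroup.centralizer (Q : Set G)).subgroupOf (Subgroup.normalizer (Q : Set G))) := by
  obtain ⟨K, h1, h2, h3, h4⟩ := h
  have hKn : (K.subgroupOf (Subgroup.normalizer (Q : Set G))).Normal :=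
    (Subgroup.normal_subgroupOf_iff_le_normalizer h1).mpr h2
  have hn : ((K.subgroupOf (Subgroup.normalizer (Q : Set G))).map
      (QuotientGroup.mk' ((Subgroup.centralizer (Q : Set G)).subgroupOf
              (Subgroup.normalizer (Q : Set G))))).Normal :=
    hKn.map _ (QuotientGroup.mk'_surjective _)
  have hp : IsPGroup p ((K.subgroupOf (Subgroup.normalizer (Q : Set G))).map
      (QuotientGroup.mk' ((Subgroup.centralizer (Q : Set G)).subgroupOf
              (Subgroup.normalizer (Q : Set G))))) := by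
    rintro ⟨_, ⟨k, hk, rfl⟩⟩
    rw [SetLike.mem_coe, Subgroup.mem_subgroupOf] at hk
    obtain ⟨n, hn⟩ := h4 _ hk
    refine ⟨n, ?_⟩
    apply Subtype.ext
    show ((QuotientGroup.mk' ((Subgroup.centralizer (Q : Set G)).subgroupOf
              (Subgroup.normalizer (Q : Set G)))) k) ^ (p ^ n) = 1
    rw [← map_pow, QuotientGroup.mk'_apply, QuotientGroup.eq_one_iff, Subgroup.mem_subgroupOf]
    simpa using hn
  apply Helper2.le_pCore hn hp
  refine ⟨⟨g, hg⟩, ?_, rfl⟩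
  show (⟨g, hg⟩ : ↥(Subgroup.normalizer (Q : Set G))) ∈ K.subgroupOf _
  rw [Subgroup.mem_subgroupOf]; exact h3

end good

section quad

variable {G : Type*} [Group G]

/-- quadratic action in element form implies `[Q, g, g] = 1`. -/
theorem comm_comm_eq_bot_of_quad {Q : Subgroup G} {g : G}
    (hquad : ∀ a ∈ Q, (g * a⁻¹ * g⁻¹) * a * (g * a⁻¹ * g⁻¹) * (g * (g * a * g⁻¹) * g⁻¹) = 1) :
    ⁅⁅Q, Subgroup.zpowers g⁆, Subgroup.zpowers g⁆ = ⊥ := by
  -- `c a = a⁻¹ * (g a g⁻¹)` commutes with `g`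
  have hc : ∀ a ∈ Q, g * (a⁻¹ * (g * a * g⁻¹)) * g⁻¹ = a⁻¹ * (g * a * g⁻¹) := by
    intro a ha
    have := hquad a ha
    calc g * (a⁻¹ * (g * a * g⁻¹)) * g⁻¹
        = (g * a⁻¹ * g⁻¹ * a)⁻¹ *
          ((g * a⁻¹ * g⁻¹) * a * (g * a⁻¹ * g⁻¹) * (g * (g * a * g⁻¹) * g⁻¹)) := by group
      _ = a⁻¹ * (g * a * g⁻¹) := by rw [this]; group
  have hZ : ∀ a ∈ Q, ⁅a, g⁆ ∈ Subgroup.centralizer (Subgroup.zpowers g : Set G) := by
    intro a ha
    rw [Subgroup.mem_centralizer_iff]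
    intro h hh
    rw [SetLike.mem_coe, Subgroup.mem_zpowers_iff] at hh
    obtain ⟨k, rfl⟩ := hh
    have h1 := hc a⁻¹ (Subgroup.inv_mem _ ha)
    rw [inv_inv] at h1
    have h2 : Commute g ⁅a, g⁆ := by
      show g * ⁅a, g⁆ = ⁅a, g⁆ * g
      rw [commutatorElement_def]
      calc g * (a * g * a⁻¹ * g⁻¹) = (g * (a * (g * a⁻¹ * g⁻¹)) * g⁻¹) * g := by group
        _ = (a * (g * a⁻¹ * g⁻¹)) * g := by rw [h1]
        _ = a * g * a⁻¹ * g⁻¹ * g := by group
    exact (h2.zpow_left k).eq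
  rw [Subgroup.commutator_eq_bot_iff_le_centralizer]
  -- the subgroup of `x ∈ zpowers g` with `[a, x] ∈ Z` for all `a ∈ Q`
  let M : Subgroup G :=
    { carrier := {x | x ∈ Subgroup.zpowers g ∧
        ∀ a ∈ Q, ⁅a, x⁆ ∈ Subgroup.centralizer (Subgroup.zpowers g : Set G)}
      one_mem' := ⟨Subgroup.one_mem _, fun a _ => by
        rw [commutatorElement_one_right]; exact Subgroup.one_mem _⟩
      mul_mem' := by
        rintro x y ⟨hx, hx2⟩ ⟨hy, hy2⟩
        refine ⟨Subgroup.mul_mem _ hx hy, fun a ha => ?_⟩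
        have e : ⁅a, x * y⁆ = ⁅a, x⁆ * (x * ⁅a, y⁆ * x⁻¹) := by
          simp only [commutatorElement_def]; group
        have e2 : x * ⁅a, y⁆ * x⁻¹ = ⁅a, y⁆ := by
          have := (Subgroup.mem_centralizer_iff.mp (hy2 a ha)) x hx
          rw [this]; group
        rw [e, e2]
        exact Subgroup.mul_mem _ (hx2 a ha) (hy2 a ha)
      inv_mem' := by
        rintro x ⟨hx, hx2⟩
        refine ⟨Subgroup.inv_mem _ hx, fun a ha => ?_⟩
        have e : ⁅a, x⁻¹⁆ = x⁻¹ * ⁅a, x⁆⁻¹ * x := by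
          simp only [commutatorElement_def]; group
        have e2 : x⁻¹ * ⁅a, x⁆⁻¹ * x = ⁅a, x⁆⁻¹ := by
          have := (Subgroup.mem_centralizer_iff.mp
            (Subgroup.inv_mem _ (hx2 a ha))) x hx
          rw [mul_assoc, ← this]; group
        rw [e, e2]
        exact Subgroup.inv_mem _ (hx2 a ha) }
  have hgM : g ∈ M := ⟨Subgroup.mem_zpowers g, hZ⟩
  have hle : Subgroup.zpowers g ≤ M := (Subgroup.zpowers_le).mpr hgM
  rw [Subgroup.commutator_le]
  intro a ha x hx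
  exact (hle hx).2 a ha

/-- `[P₀, g, g] = 1` gives the element form of quadratic action, for a conjugate. -/
theorem quad_conj_of_comm_comm_eq_bot {P₀ : Subgroup G} {g : G}
    (h : ⁅⁅P₀, Subgroup.zpowers g⁆, Subgroup.zpowers g⁆ = ⊥) (y a : G)
    (ha : y⁻¹ * a * y ∈ P₀) :
    ((y * g * y⁻¹) * a⁻¹ * (y * g * y⁻¹)⁻¹) * a * ((y * g * y⁻¹) * a⁻¹ * (y * g * y⁻¹)⁻¹) *
      ((y * g * y⁻¹) * ((y * g * y⁻¹) * a * (y * g * y⁻¹)⁻¹) * (y * g * y⁻¹)⁻¹) = 1 := by
  have hb : (y⁻¹ * a * y)⁻¹ ∈ P₀ := Subgroup.inv_mem _ ha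
  have hc1 : ⁅(y⁻¹ * a * y)⁻¹, g⁆ ∈ ⁅P₀, Subgroup.zpowers g⁆ :=
    Subgroup.commutator_mem_commutator hb (Subgroup.mem_zpowers g)
  have hc2 : ⁅⁅(y⁻¹ * a * y)⁻¹, g⁆, g⁆ ∈ ⁅⁅P₀, Subgroup.zpowers g⁆, Subgroup.zpowers g⁆ :=
    Subgroup.commutator_mem_commutator hc1 (Subgroup.mem_zpowers g)
  rw [h, Subgroup.mem_bot, commutatorElement_eq_one_iff_commute] at hc2
  have hc3 : g * ⁅(y⁻¹ * a * y)⁻¹, g⁆ * g⁻¹ = ⁅(y⁻¹ * a * y)⁻¹, g⁆ := by
    rw [← hc2.eq]; group
  calc ((y * g * y⁻¹) * a⁻¹ * (y * g * y⁻¹)⁻¹) * a * ((y * g * y⁻¹) * a⁻¹ * (y * g * y⁻¹)⁻¹) *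
      ((y * g * y⁻¹) * ((y * g * y⁻¹) * a * (y * g * y⁻¹)⁻¹) * (y * g * y⁻¹)⁻¹)
      = y * (⁅(y⁻¹ * a * y)⁻¹, g⁆⁻¹ * (g * ⁅(y⁻¹ * a * y)⁻¹, g⁆ * g⁻¹)) * y⁻¹ := by
        simp only [commutatorElement_def]; group
    _ = 1 := by rw [hc3]; group

end quad

section fullynormalized

variable {G : Type*} [Group G] [Finite G]

theorem exists_fullyNormalized_conj {p : ℕ} [Fact p.Prime] (P : Sylow p G) {P₀ : Subgroup G}
    (hP₀ : IsPGroup p P₀) :
    ∃ y : G, cj y P₀ ≤ (P : Subgroup G) ∧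
      (groupFusionSystem (P : Subgroup G)).IsFullyNormalized (cj y P₀) := by
  obtain ⟨y₀, hy₀⟩ := exists_cj_le_sylow P hP₀
  haveI : Nonempty {y : G // cj y P₀ ≤ (P : Subgroup G)} := ⟨⟨y₀, hy₀⟩⟩
  obtain ⟨⟨y, hy⟩, hmax⟩ := Finite.exists_max
    (fun y : {y : G // cj y P₀ ≤ (P : Subgroup G)} =>
      Nat.card (FusionSystem.normalizerIn (P : Subgroup G) (cj y.1 P₀)))
  refine ⟨y, hy, hy, ?_⟩
  intro Q' hconj
  rw [groupFusionSystem_isConj_iff] at hconj
  obtain ⟨-, hQ', h, rfl⟩ := hconj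
  rw [cj_cj] at hQ' ⊢
  exact hmax ⟨h * y, hQ'⟩

end fullynormalized

section main

variable {G : Type*} [Group G] [Finite G]

theorem normalizerPStable_iff_fusion {p : ℕ} [Fact p.Prime] (P : Sylow p G) :
    IsNormalizerPStable p G ↔
    (∀ Q : Subgroup G, (groupFusionSystem (P : Subgroup G)).IsFullyNormalized Q →
      ∀ χ : MulAut ↥Q, χ ∈ (groupFusionSystem (P : Subgroup G)).autGroup Q →
      (∀ a : ↥Q, (χ a⁻¹) * a * (χ a⁻¹) * (χ (χ a)) = 1) →
      χ ∈ ((pCore p ↥((groupFusionSystem (P : Subgroup G)).autGroup Q)).map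
        ((groupFusionSystem (P : Subgroup G)).autGroup Q).subtype : Subgroup (MulAut ↥Q))) := by
  constructor
  · intro hst Q hfn χ hχ hquad
    have hQP : Q ≤ (P : Subgroup G) := hfn.1
    have hQp : IsPGroup p Q := P.2.to_le hQP
    rw [autGroup_groupFusionSystem_eq_range hQP] at hχ ⊢
    obtain ⟨⟨g, hg⟩, rfl⟩ := hχ
    have hq : ∀ a ∈ Q,
        (g * a⁻¹ * g⁻¹) * a * (g * a⁻¹ * g⁻¹) * (g * (g * a * g⁻¹) * g⁻¹) = 1 := by
      intro a ha
      have := congrArg Subtype.val (hquad ⟨a, ha⟩)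
      exact this
    have h3 := hst Q hQp g hg (comm_comm_eq_bot_of_quad hq)
    exact (map_mem_pCore_range_iff p Q.normalizerMonoidHom _ Q.normalizerMonoidHom_ker
      ⟨g, hg⟩).mpr h3
  · intro hF P₀ hP₀ g hg hquad
    obtain ⟨y, hy, hfn⟩ := exists_fullyNormalized_conj P hP₀
    have hg' : y * g * y⁻¹ ∈ Subgroup.normalizer ((cj y P₀ : Subgroup G) : Set G) := by
      rw [← cj_normalizer]; exact conj_mem_cj hg
    have hχ : (cj y P₀).normalizerMonoidHom ⟨y * g * y⁻¹, hg'⟩ ∈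
        (groupFusionSystem (P : Subgroup G)).autGroup (cj y P₀) := by
      rw [autGroup_groupFusionSystem_eq_range hy]; exact ⟨_, rfl⟩
    have hq : ∀ a : ↥(cj y P₀),
        ((cj y P₀).normalizerMonoidHom ⟨y * g * y⁻¹, hg'⟩ a⁻¹) * a *
          ((cj y P₀).normalizerMonoidHom ⟨y * g * y⁻¹, hg'⟩ a⁻¹) *
          ((cj y P₀).normalizerMonoidHom ⟨y * g * y⁻¹, hg'⟩
            ((cj y P₀).normalizerMonoidHom ⟨y * g * y⁻¹, hg'⟩ a)) = 1 := by
      intro a
      apply Subtype.ext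
      have := quad_conj_of_comm_comm_eq_bot hquad y a.1 (mem_cj.mp a.2)
      exact this
    have h1 := hF (cj y P₀) hfn _ hχ hq
    rw [autGroup_groupFusionSystem_eq_range hy] at h1
    have h2 := (map_mem_pCore_range_iff p (cj y P₀).normalizerMonoidHom _
      (cj y P₀).normalizerMonoidHom_ker ⟨_, hg'⟩).mp h1
    have h3 := (autGood_of_mem_pCore hg' h2).conj y⁻¹
    rw [cj_inv_cj] at h3
    have e : y⁻¹ * (y * g * y⁻¹) * y⁻¹⁻¹ = g := by group
    rw [e] at h3
    exact mem_pCore_of_autGood h3 hg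

end main

end Cfsg.Agent.Lib.Helper17
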