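import Mathlib
import Cfsg.Prelude.Def_TwoFusion
import Cfsg.Agent.Lib.Helper25.ZStarD
import Cfsg.Agent.Lib.Helper2.NilpotentBasic
import Cfsg.Agent.Lib.Helper20.Cores
import Cfsg.Agent.Lib.Helper13.SZBasic

/-!
# Goldschmidt's lemma on strongly closed 2-subgroups (helper17)

Follower of Glauberman's Z*-theorem (helper25's `ZStar` library, which takes the statement of the
Brauer-Suzuki theorem as a hypothesis `BSStmt`).

If `A` is strongly closed in the Sylow 2-subgroup `S` of `G`, `A` normalises `H`, `A ∩ H = 1` and `H` has no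
nontrivial `H`-invariant subgroup of odd order, then `A` centralises `H`.
-/

set_option autoImplicit false

namespace Cfsg.Agent.Lib.Helper17.GoldschmidtLemma

open Cfsg Subgroup Cfsg.Agent.Lib.Helper25.ZStar Cfsg.Agent.Lib.Helper13 Cfsg.Agent.Lib.Helper20
open scoped Pointwise

universe u

/-- `H` has no non-trivial subgroup of odd order normalised by `H` -/
def OddFree {G : Type u} [Group G] (H : Subgroup G) : Prop :=
  ∀ N : Subgroup G, N ≤ H → H ≤ normalizer (N : Set G) → Odd (Nat.card N) → N = ⊥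

/-- the case `G = HA` -/
theorem main_top (hBS : BSStmt.{u}) : ∀ n : ℕ, ∀ (G : Type u) [Group G] [Finite G], Nat.card G ≤ n →
    ∀ (S : Sylow 2 G) (A H : Subgroup G), IsStronglyClosed A (S : Subgroup G) → H.Normal → H ⊔ A = ⊤ →
      OddFree H → A ⊓ H = ⊥ → A ≤ centralizer (H : Set G) := by
  intro n
  induction n with
  | zero =>
    intro G _ _ hcard
    have : 0 < Nat.card G := Nat.card_pos
    omega
  | succ n ih =>
    intro G _ _ hcard S A H hA hHn htop hO hdisj
    by_cases hA1 : A = ⊥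
    · rw [hA1]; exact bot_le
    have hAS : A ≤ (S : Subgroup G) := hA.1
    -- decomposition `g = h * a`
    have hdecomp : ∀ g : G, ∃ h ∈ H, ∃ a ∈ A, h * a = g := by
      intro g
      have hg : g ∈ H ⊔ A := by rw [htop]; exact Subgroup.mem_top g
      haveI := hHn
      exact Subgroup.mem_sup_of_normal_left.mp hg
    -- key: conjugates of elements of `A` inside `A` are `A`-conjugates
    have hkey : ∀ x ∈ A, ∀ h ∈ H, ∀ a ∈ A, (h * a) * x * (h * a)⁻¹ ∈ A →
        (h * a) * x * (h * a)⁻¹ = a * x * a⁻¹ := by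
      intro x hx h hh a ha hmem
      have hy : a * x * a⁻¹ ∈ A := A.mul_mem (A.mul_mem ha hx) (A.inv_mem ha)
      have e1 : (h * a) * x * (h * a)⁻¹ = h * (a * x * a⁻¹) * h⁻¹ := by group
      have h1 : (h * (a * x * a⁻¹) * h⁻¹) * (a * x * a⁻¹)⁻¹ ∈ H := by
        have : (h * (a * x * a⁻¹) * h⁻¹) * (a * x * a⁻¹)⁻¹ =
            h * ((a * x * a⁻¹) * h⁻¹ * (a * x * a⁻¹)⁻¹) := by group
        rw [this]
        exact H.mul_mem hh (hHn.conj_mem _ (H.inv_mem hh) _)
      have h2 : (h * (a * x * a⁻¹) * h⁻¹) * (a * x * a⁻¹)⁻¹ ∈ A := by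
        rw [← e1]
        exact A.mul_mem hmem (A.inv_mem hy)
      have h3 : (h * (a * x * a⁻¹) * h⁻¹) * (a * x * a⁻¹)⁻¹ ∈ A ⊓ H := ⟨h2, h1⟩
      rw [hdisj, Subgroup.mem_bot] at h3
      rw [e1]
      exact mul_inv_eq_one.mp h3
    -- an involution `z` in `A ∩ Z(S)`
    haveI : Group.IsNilpotent ↥(S : Subgroup G) := S.2.isNilpotent
    haveI hAn : (A.subgroupOf (S : Subgroup G)).Normal := by
      refine ⟨fun x hx s => ?_⟩
      rw [Subgroup.mem_subgroupOf] at hx ⊢
      have : ((s * x * s⁻¹ : ↥(S : Subgroup G)) : G) = (s : G) * (x : G) * (s : G)⁻¹ := by simp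
      rw [this]
      apply hA.2 _ hx
      exact (S : Subgroup G).mul_mem ((S : Subgroup G).mul_mem s.2 x.2) ((S : Subgroup G).inv_mem s.2)
    have hAS1 : A.subgroupOf (S : Subgroup G) ≠ ⊥ := by
      intro hb
      rw [Subgroup.subgroupOf_eq_bot] at hb
      apply hA1
      rw [eq_bot_iff]
      intro x hx
      have := hb.le_bot ⟨hx, hAS hx⟩
      exact this
    have hW := Cfsg.Agent.Lib.Helper2.normal_inf_center_ne_bot (A.subgroupOf (S : Subgroup G)) hAS1
    have hW2 : IsPGroup 2 ↥(A.subgroupOf (S : Subgroup G) ⊓ Subgroup.center ↥(S : Subgroup G)) :=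
      (S.2).to_subgroup _
    obtain ⟨k, hk⟩ := IsPGroup.iff_card.mp hW2
    have hk0 : k ≠ 0 := by
      intro h0
      rw [h0, pow_zero] at hk
      exact hW (Subgroup.card_eq_one.mp hk)
    have hdvd : 2 ∣ Nat.card ↥(A.subgroupOf (S : Subgroup G) ⊓ Subgroup.center ↥(S : Subgroup G)) := by
      rw [hk]; exact dvd_pow_self 2 hk0
    obtain ⟨w, hw⟩ := exists_prime_orderOf_dvd_card' 2 hdvd
    obtain ⟨z, hzdef⟩ : ∃ z : G, z = ((w : ↥(S : Subgroup G)) : G) := ⟨_, rfl⟩
    have hz2 : orderOf z = 2 := by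
      rw [hzdef, Subgroup.orderOf_coe, Subgroup.orderOf_coe]; exact hw
    have hzA : z ∈ A := by
      rw [hzdef]; exact Subgroup.mem_subgroupOf.mp w.2.1
    have hzS : z ∈ (S : Subgroup G) := hAS hzA
    have hzc : ∀ s ∈ (S : Subgroup G), s * z = z * s := by
      intro s hs
      have := (Subgroup.mem_center_iff.mp w.2.2) ⟨s, hs⟩
      have := congrArg Subtype.val this
      rw [hzdef]
      simpa using this
    have hz1 : z ≠ 1 := by
      intro h1
      rw [h1, orderOf_one] at hz2
      omega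
    -- a conjugate of `z` inside `S` equals `z`
    have hfix : ∀ g : G, g * z * g⁻¹ ∈ (S : Subgroup G) → g * z * g⁻¹ = z := by
      intro g hg
      have hgA : g * z * g⁻¹ ∈ A := hA.2 z hzA g hg
      obtain ⟨h, hh, a, ha, rfl⟩ := hdecomp g
      rw [hkey z hzA h hh a ha hgA]
      have := hzc a (hAS ha)
      rw [this]; group
    -- `z` is isolated
    have hiso : IsIsolatedInvolution z := by
      refine ⟨hz2, fun g hcomm => ?_⟩
      have hp1 : IsPGroup 2 (Subgroup.zpowers z) := by
        apply IsPGroup.of_card (n := 1)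
        rw [Nat.card_zpowers, hz2, pow_one]
      have hp2 : IsPGroup 2 (Subgroup.zpowers (g * z * g⁻¹)) := by
        apply IsPGroup.of_card (n := 1)
        rw [Nat.card_zpowers]
        have : orderOf (g * z * g⁻¹) = orderOf z := by
          have := (MulEquiv.orderOf_eq (MulAut.conj g) z)
          simpa using this
        rw [this, hz2, pow_one]
      have hnorm : Subgroup.zpowers z ≤ normalizer ((Subgroup.zpowers (g * z * g⁻¹) : Subgroup G) : Set G) := by
        rw [Subgroup.zpowers_le]
        rw [Subgroup.mem_normalizer_iff]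
        intro y
        have e : z * y * z⁻¹ ∈ Subgroup.zpowers (g * z * g⁻¹) ↔ y ∈ Subgroup.zpowers (g * z * g⁻¹) := by
          constructor
          · intro hy
            obtain ⟨i, hi⟩ := Subgroup.mem_zpowers_iff.mp hy
            rw [Subgroup.mem_zpowers_iff]
            refine ⟨i, ?_⟩
            have hc : z⁻¹ * (g * z * g⁻¹) ^ i * z = (g * z * g⁻¹) ^ i := by
              have := (hcomm.symm.zpow_left i)
              have h' : (g * z * g⁻¹) ^ i * z = z * (g * z * g⁻¹) ^ i := this.eq
              rw [mul_assoc, h']; group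
            have : y = z⁻¹ * (z * y * z⁻¹) * z := by group
            rw [this, ← hi, hc]
          · intro hy
            obtain ⟨i, hi⟩ := Subgroup.mem_zpowers_iff.mp hy
            rw [Subgroup.mem_zpowers_iff]
            refine ⟨i, ?_⟩
            have h' : (g * z * g⁻¹) ^ i * z = z * (g * z * g⁻¹) ^ i := (hcomm.symm.zpow_left i).eq
            rw [← hi, ← h']; group
        exact e.symm
      have hE := hp1.to_sup_of_normal_right' hp2 hnorm
      obtain ⟨Q, hQ⟩ := hE.exists_le_sylow
      obtain ⟨c, hc⟩ := MulAction.exists_smul_eq G S Q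
      have hzQ : z ∈ (Q : Subgroup G) := hQ (Subgroup.mem_sup_left (Subgroup.mem_zpowers z))
      have hz'Q : g * z * g⁻¹ ∈ (Q : Subgroup G) :=
        hQ (Subgroup.mem_sup_right (Subgroup.mem_zpowers _))
      rw [← hc, Sylow.coe_subgroup_smul, mem_cj] at hzQ hz'Q
      have e1 : c⁻¹ * z * c = z := by
        have := hfix c⁻¹ (by simpa using hzQ)
        simpa using this
      have e2 : c⁻¹ * (g * z * g⁻¹) * c = z := by
        have h1 : (c⁻¹ * g) * z * (c⁻¹ * g)⁻¹ = c⁻¹ * (g * z * g⁻¹) * c := by group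
        have := hfix (c⁻¹ * g) (by rw [h1]; exact hz'Q)
        rw [← h1]; exact this
      calc g * z * g⁻¹ = c * (c⁻¹ * (g * z * g⁻¹) * c) * c⁻¹ := by group
        _ = c * z * c⁻¹ := by rw [e2]
        _ = c * (c⁻¹ * z * c) * c⁻¹ := by rw [e1]
        _ = z := by group
    -- Z*: `z` centralises `H`
    have hZ := zstar_of_bsStmt hBS G z hiso
    haveI hOn : (pPrimeCore 2 G).Normal := by
      haveI := pPrimeCore_characteristic (G := G) 2
      exact Subgroup.normal_of_characteristic _
    have hzH : z ∈ centralizer (H : Set G) := by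
      rw [Subgroup.mem_centralizer_iff]
      intro h hh
      have h1 : z * h * z⁻¹ * h⁻¹ ∈ pPrimeCore 2 G ⊓ H := by
        refine ⟨hZ h, ?_⟩
        exact H.mul_mem (hHn.conj_mem h hh z) (H.inv_mem hh)
      have hN : pPrimeCore 2 G ⊓ H = ⊥ := by
        apply hO _ inf_le_right
        · haveI : (pPrimeCore 2 G ⊓ H).Normal := Subgroup.normal_inf_normal _ _
          rw [Subgroup.normalizer_eq_top]
          exact le_top
        · have hd : Nat.card ↥(pPrimeCore 2 G ⊓ H) ∣ Nat.card ↥(pPrimeCore 2 G) :=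
            Subgroup.card_dvd_of_le inf_le_left
          have hc := pPrimeCore_coprime' (G := G) 2
          exact (Nat.Coprime.coprime_dvd_left hd hc).odd_of_right
      rw [hN, Subgroup.mem_bot] at h1
      have : z * h = (z * h * z⁻¹ * h⁻¹) * (h * z) := by group
      rw [this, h1, one_mul]
    -- the normal subgroup `A₀ = C_A(H)`
    obtain ⟨A₀, hA₀def⟩ : ∃ A₀ : Subgroup G, A₀ = A ⊓ centralizer (H : Set G) := ⟨_, rfl⟩
    have hA₀A : A₀ ≤ A := by rw [hA₀def]; exact inf_le_left
    have hA₀C : A₀ ≤ centralizer (H : Set G) := by rw [hA₀def]; exact inf_le_right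
    have hA₀1 : A₀ ≠ ⊥ := by
      intro hb
      have : z ∈ A₀ := by rw [hA₀def]; exact ⟨hzA, hzH⟩
      rw [hb, Subgroup.mem_bot] at this
      exact hz1 this
    haveI hCn : (centralizer (H : Set G)).Normal := Subgroup.normal_centralizer
    haveI hA₀n : A₀.Normal := by
      refine ⟨fun x hx g => ?_⟩
      obtain ⟨h, hh, a, ha, rfl⟩ := hdecomp g
      have hxa : a * x * a⁻¹ ∈ A₀ := by
        rw [hA₀def]
        exact ⟨A.mul_mem (A.mul_mem ha (hA₀A hx)) (A.inv_mem ha), hCn.conj_mem x (hA₀C hx) a⟩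
      have e : (h * a) * x * (h * a)⁻¹ = h * (a * x * a⁻¹) * h⁻¹ := by group
      rw [e]
      have hcomm := (Subgroup.mem_centralizer_iff.mp (hA₀C hxa)) h hh
      have : h * (a * x * a⁻¹) * h⁻¹ = a * x * a⁻¹ := by
        rw [hcomm]; group
      rw [this]; exact hxa
    -- the quotient
    have hlt := card_quot_lt A₀ hA₀1
    have hcard' : Nat.card (G ⧸ A₀) ≤ n := by omega
    have hsurj : Function.Surjective (QuotientGroup.mk' A₀) := QuotientGroup.mk'_surjective A₀
    have hker : ∀ x y : G, QuotientGroup.mk' A₀ x = QuotientGroup.mk' A₀ y → x⁻¹ * y ∈ A₀ := by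
      intro x y hxy
      exact QuotientGroup.eq.mp hxy
    have hIH := ih (G ⧸ A₀) hcard' (S.mapSurjective hsurj) (A.map (QuotientGroup.mk' A₀))
      (H.map (QuotientGroup.mk' A₀)) ?_ (hHn.map _ hsurj) ?_ ?_ ?_
    · -- conclusion
      intro a ha
      rw [Subgroup.mem_centralizer_iff]
      intro h hh
      have h1 := (Subgroup.mem_centralizer_iff.mp (hIH (Subgroup.mem_map_of_mem _ ha)))
        (QuotientGroup.mk' A₀ h) (Subgroup.mem_map_of_mem _ hh)
      rw [← map_mul, ← map_mul] at h1
      have h2 := hker _ _ h1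
      have h3 : (h * a)⁻¹ * (a * h) ∈ H := by
        have : (h * a)⁻¹ * (a * h) = (a⁻¹ * h⁻¹ * a⁻¹⁻¹) * h := by group
        rw [this]
        exact H.mul_mem (hHn.conj_mem _ (H.inv_mem hh) _) hh
      have h4 : (h * a)⁻¹ * (a * h) ∈ A ⊓ H := ⟨hA₀A h2, h3⟩
      rw [hdisj, Subgroup.mem_bot] at h4
      exact (inv_mul_eq_one.mp h4)
    · -- strongly closed
      refine ⟨?_, ?_⟩
      · rw [Sylow.coe_mapSurjective]
        exact Subgroup.map_mono hAS
      · rintro _ ⟨x, hx, rfl⟩ g' hg'
        obtain ⟨g, rfl⟩ := hsurj g'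
        rw [Sylow.coe_mapSurjective] at hg'
        obtain ⟨s, hs, hs'⟩ := hg'
        have e : QuotientGroup.mk' A₀ g * QuotientGroup.mk' A₀ x * (QuotientGroup.mk' A₀ g)⁻¹ =
            QuotientGroup.mk' A₀ (g * x * g⁻¹) := by
          rw [map_mul, map_mul, map_inv]
        rw [e] at hs' ⊢
        have h2 := hker _ _ hs'
        have h3 : g * x * g⁻¹ = s * (s⁻¹ * (g * x * g⁻¹)) := by group
        have h4 : g * x * g⁻¹ ∈ (S : Subgroup G) := by
          rw [h3]
          exact (S : Subgroup G).mul_mem hs (hAS (hA₀A h2))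
        exact Subgroup.mem_map_of_mem _ (hA.2 x hx g h4)
    · -- top
      rw [← Subgroup.map_sup, htop]
      exact Subgroup.map_top_of_surjective _ hsurj
    · -- odd free
      intro N' hN'H hN'n hN'odd
      obtain ⟨N, hNdef⟩ : ∃ N : Subgroup G, N = N'.comap (QuotientGroup.mk' A₀) ⊓ H := ⟨_, rfl⟩
      have hN1 : ∀ y ∈ N, QuotientGroup.mk' A₀ y ∈ N' := by
        intro y hy
        rw [hNdef] at hy
        exact hy.1
      have hN2 : ∀ y ∈ N, y ∈ H := by
        intro y hy
        rw [hNdef] at hy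
        exact hy.2
      have hinj : ∀ x ∈ H, QuotientGroup.mk' A₀ x = 1 → x = 1 := by
        intro x hx h1
        have h2 := hker 1 x (by rw [map_one]; exact h1.symm)
        rw [inv_one, one_mul] at h2
        have : x ∈ A ⊓ H := ⟨hA₀A h2, hx⟩
        rw [hdisj, Subgroup.mem_bot] at this
        exact this
      have hNbot : N = ⊥ := by
        apply hO N (by rw [hNdef]; exact inf_le_right)
        · intro h hh
          rw [Subgroup.mem_normalizer_iff]
          intro y
          have hh' : QuotientGroup.mk' A₀ h ∈ normalizer ((N' : Subgroup (G ⧸ A₀)) : Set (G ⧸ A₀)) :=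
            hN'n (Subgroup.mem_map_of_mem _ hh)
          rw [Subgroup.mem_normalizer_iff] at hh'
          rw [hNdef, Subgroup.mem_inf, Subgroup.mem_inf, Subgroup.mem_comap, Subgroup.mem_comap]
          constructor
          · rintro ⟨hy1, hy2⟩
            refine ⟨?_, H.mul_mem (H.mul_mem hh hy2) (H.inv_mem hh)⟩
            rw [map_mul, map_mul, map_inv]
            exact (hh' _).mp hy1
          · rintro ⟨hy1, hy2⟩
            refine ⟨?_, ?_⟩
            · rw [map_mul, map_mul, map_inv] at hy1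
              exact (hh' _).mpr hy1
            · have : y = h⁻¹ * (h * y * h⁻¹) * h := by group
              rw [this]
              exact H.mul_mem (H.mul_mem (H.inv_mem hh) hy2) hh
        · -- cardinality
          let f : ↥N →* (G ⧸ A₀) := (QuotientGroup.mk' A₀).comp N.subtype
          have hf : Function.Injective f := by
            rw [injective_iff_map_eq_one]
            intro x hx
            have hxH : (x : G) ∈ H := hN2 _ x.2
            exact Subtype.ext (hinj _ hxH hx)
          have hrange : f.range = N' := by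
            ext y
            constructor
            · rintro ⟨x, rfl⟩
              exact hN1 _ x.2
            · intro hy
              obtain ⟨h, hh, rfl⟩ := hN'H hy
              have hmem : h ∈ N := by
                rw [hNdef]
                exact ⟨hy, hh⟩
              exact ⟨⟨h, hmem⟩, rfl⟩
          have hc : Nat.card ↥N = Nat.card ↥N' := by
            rw [← hrange]
            exact Nat.card_congr (MonoidHom.ofInjective hf).toEquiv
          rw [hc]; exact hN'odd
      rw [eq_bot_iff]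
      intro y hy
      obtain ⟨h, hh, rfl⟩ := hN'H hy
      have hmem : h ∈ N := by
        rw [hNdef]
        exact ⟨hy, hh⟩
      rw [hNbot, Subgroup.mem_bot] at hmem
      rw [hmem, map_one]
      exact Subgroup.one_mem _
    · -- disjoint
      rw [eq_bot_iff]
      rintro y ⟨⟨a, ha, rfl⟩, ⟨h, hh, hah⟩⟩
      have h2 := hker _ _ hah
      have h3 : a = h * (h⁻¹ * a) := by group
      have h4 : h⁻¹ * a ∈ A := hA₀A h2
      have h5 : h ∈ A := by
        have : h = a * (h⁻¹ * a)⁻¹ := by group
        rw [this]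
        exact A.mul_mem ha (A.inv_mem h4)
      have h6 : h ∈ A ⊓ H := ⟨h5, hh⟩
      rw [hdisj, Subgroup.mem_bot] at h6
      rw [Subgroup.mem_bot, ← hah, h6, map_one]

/-- `oddCore H = 1` gives `OddFree H` -/
theorem oddFree_of_oddCore {G : Type u} [Group G] [Finite G] (H : Subgroup G)
    (hO : pPrimeCore 2 ↥H = ⊥) : OddFree H := by
  intro N hNH hHN hodd
  have hn : (N.subgroupOf H).Normal := by
    refine ⟨fun x hx h => ?_⟩
    rw [Subgroup.mem_subgroupOf] at hx ⊢
    have h1 := hHN h.2
    rw [Subgroup.mem_normalizer_iff] at h1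
    have : ((h * x * h⁻¹ : ↥H) : G) = (h : G) * (x : G) * (h : G)⁻¹ := by simp
    rw [this]
    exact (h1 _).mp hx
  have hc : Nat.card ↥(N.subgroupOf H) = Nat.card ↥N :=
    Nat.card_congr (Subgroup.subgroupOfEquivOfLe hNH).toEquiv
  have hle : N.subgroupOf H ≤ pPrimeCore 2 ↥H := by
    apply le_pPrimeCore' hn
    rw [hc]
    exact Nat.coprime_two_right.mpr hodd
  rw [hO, le_bot_iff, Subgroup.subgroupOf_eq_bot] at hle
  rw [eq_bot_iff]
  intro x hx
  exact hle.le_bot ⟨hx, hNH hx⟩

/-- **Goldschmidt's lemma** (modulo the Brauer-Suzuki statement) -/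
theorem goldschmidt (hBS : BSStmt.{u}) {G : Type u} [Group G] [Finite G] (S : Sylow 2 G)
    (A H : Subgroup G) (hA : IsStronglyClosed A (S : Subgroup G))
    (hAH : A ≤ normalizer (H : Set G)) (hO : OddFree H) (hdisj : A ⊓ H = ⊥) :
    A ≤ centralizer (H : Set G) := by
  have hAS : A ≤ (S : Subgroup G) := hA.1
  obtain ⟨K, hKdef⟩ : ∃ K : Subgroup G, K = H ⊔ A := ⟨_, rfl⟩
  have hHK : H ≤ K := by rw [hKdef]; exact le_sup_left
  have hAK : A ≤ K := by rw [hKdef]; exact le_sup_right
  have hKn : K ≤ normalizer (H : Set G) := by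
    rw [hKdef]
    exact sup_le Subgroup.le_normalizer hAH
  -- a Sylow 2-subgroup of `K` containing `A`
  have hA2 : IsPGroup 2 ↥(A.subgroupOf K) := by
    have h1 : IsPGroup 2 ↥A := S.2.to_le hAS
    exact h1.comap_of_injective (K.subtype) (Subgroup.subtype_injective K)  |>.to_le (by
      intro x hx
      exact hx)
  obtain ⟨T, hT⟩ := hA2.exists_le_sylow
  -- `T` lies in a conjugate of `S`
  have hT2 : IsPGroup 2 ↥((T : Subgroup ↥K).map K.subtype) := T.2.map K.subtype
  obtain ⟨Q, hQ⟩ := hT2.exists_le_sylow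
  obtain ⟨c, hc⟩ := MulAction.exists_smul_eq G S Q
  have hTS : ∀ x : ↥K, x ∈ (T : Subgroup ↥K) → c⁻¹ * (x : G) * c ∈ (S : Subgroup G) := by
    intro x hx
    have h1 : (x : G) ∈ (Q : Subgroup G) := hQ ⟨x, hx, rfl⟩
    rw [← hc, Sylow.coe_subgroup_smul, mem_cj] at h1
    exact h1
  have hAc : ∀ x ∈ A, c⁻¹ * x * c ∈ A := by
    intro x hx
    have h1 := hTS ⟨x, hAK hx⟩ (hT (by rw [Subgroup.mem_subgroupOf]; exact hx))
    have := hA.2 x hx c⁻¹ (by simpa using h1)
    simpa using this
  -- hence `c A c⁻¹ = A`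
  have hAc' : ∀ x ∈ A, c * x * c⁻¹ ∈ A := by
    -- the injective map `x ↦ c⁻¹ x c` of the finite set `A` into itself is surjective
    have hinj : Function.Injective (fun x : ↥A => (⟨c⁻¹ * (x : G) * c, hAc x x.2⟩ : ↥A)) := by
      intro x y hxy
      have := congrArg Subtype.val hxy
      apply Subtype.ext
      have h2 : c⁻¹ * (x : G) * c = c⁻¹ * (y : G) * c := this
      have : (x : G) = c * (c⁻¹ * (x : G) * c) * c⁻¹ := by group
      rw [this, h2]; group
    have hsurj := Finite.surjective_of_injective hinj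
    intro x hx
    obtain ⟨y, hy⟩ := hsurj ⟨x, hx⟩
    have := congrArg Subtype.val hy
    have h2 : c⁻¹ * (y : G) * c = x := this
    have : c * x * c⁻¹ = (y : G) := by rw [← h2]; group
    rw [this]; exact y.2
  have hclosed : IsStronglyClosed (A.subgroupOf K) (T : Subgroup ↥K) := by
    refine ⟨hT, fun x hx g hg => ?_⟩
    rw [Subgroup.mem_subgroupOf] at hx ⊢
    have h1 := hTS _ hg
    have h2 : c⁻¹ * ((g * x * g⁻¹ : ↥K) : G) * c = (c⁻¹ * (g : G)) * (x : G) * (c⁻¹ * (g : G))⁻¹ := by
      simp only [Subgroup.coe_mul, Subgroup.coe_inv]; group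
    rw [h2] at h1
    have h3 := hA.2 (x : G) hx _ h1
    have h4 := hAc' _ h3
    have h5 : c * ((c⁻¹ * (g : G)) * (x : G) * (c⁻¹ * (g : G))⁻¹) * c⁻¹ = ((g * x * g⁻¹ : ↥K) : G) := by
      simp only [Subgroup.coe_mul, Subgroup.coe_inv]; group
    rw [h5] at h4
    exact h4
  have hHKn : (H.subgroupOf K).Normal := by
    refine ⟨fun x hx k => ?_⟩
    rw [Subgroup.mem_subgroupOf] at hx ⊢
    have h1 := hKn k.2
    rw [Subgroup.mem_normalizer_iff] at h1
    have : ((k * x * k⁻¹ : ↥K) : G) = (k : G) * (x : G) * (k : G)⁻¹ := by simp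
    rw [this]
    exact (h1 _).mp hx
  have htop : H.subgroupOf K ⊔ A.subgroupOf K = ⊤ := by
    rw [← Subgroup.subgroupOf_sup hHK hAK, ← hKdef, Subgroup.subgroupOf_self]
  have hOK : OddFree (H.subgroupOf K) := by
    intro N hNH hHN hodd
    have h1 : N.map K.subtype = ⊥ := by
      apply hO
      · rintro _ ⟨x, hx, rfl⟩
        exact Subgroup.mem_subgroupOf.mp (hNH hx)
      · intro h hh
        rw [Subgroup.mem_normalizer_iff]
        intro y
        have hh' := hHN (show (⟨h, hHK hh⟩ : ↥K) ∈ H.subgroupOf K from by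
          rw [Subgroup.mem_subgroupOf]; exact hh)
        rw [Subgroup.mem_normalizer_iff] at hh'
        constructor
        · rintro ⟨x, hx, rfl⟩
          refine ⟨⟨h, hHK hh⟩ * x * ⟨h, hHK hh⟩⁻¹, (hh' x).mp hx, ?_⟩
          simp
        · rintro ⟨x, hx, hxy⟩
          have hyK : y ∈ K := by
            have : y = h⁻¹ * (h * y * h⁻¹) * h := by group
            rw [this, ← hxy]
            exact K.mul_mem (K.mul_mem (K.inv_mem (hHK hh)) x.2) (hHK hh)
          refine ⟨⟨y, hyK⟩, ?_, rfl⟩
          apply (hh' _).mpr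
          have : (⟨h, hHK hh⟩ : ↥K) * ⟨y, hyK⟩ * (⟨h, hHK hh⟩ : ↥K)⁻¹ = x := by
            apply Subtype.ext
            simp only [Subgroup.coe_mul, Subgroup.coe_inv]
            exact hxy.symm
          rw [this]; exact hx
      · rw [Subgroup.card_map_of_injective (Subgroup.subtype_injective K)]
        exact hodd
    exact (Subgroup.map_eq_bot_iff_of_injective N (Subgroup.subtype_injective K)).mp h1
  have hdisjK : A.subgroupOf K ⊓ H.subgroupOf K = ⊥ := by
    rw [eq_bot_iff]
    intro x hx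
    rw [Subgroup.mem_inf, Subgroup.mem_subgroupOf, Subgroup.mem_subgroupOf] at hx
    have : (x : G) ∈ A ⊓ H := ⟨hx.1, hx.2⟩
    rw [hdisj, Subgroup.mem_bot] at this
    rw [Subgroup.mem_bot]
    exact Subtype.ext this
  have hmain := main_top hBS (Nat.card ↥K) ↥K le_rfl T (A.subgroupOf K) (H.subgroupOf K)
    hclosed hHKn htop hOK hdisjK
  intro a ha
  rw [Subgroup.mem_centralizer_iff]
  intro h hh
  have h1 := hmain (show (⟨a, hAK ha⟩ : ↥K) ∈ A.subgroupOf K from by
    rw [Subgroup.mem_subgroupOf]; exact ha)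
  rw [Subgroup.mem_centralizer_iff] at h1
  have h2 := h1 ⟨h, hHK hh⟩ (by
    show (⟨h, hHK hh⟩ : ↥K) ∈ H.subgroupOf K
    rw [Subgroup.mem_subgroupOf]; exact hh)
  exact congrArg Subtype.val h2

end Cfsg.Agent.Lib.Helper17.GoldschmidtLemma
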