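import Mathlib
import Cfsg.Agent.Lib.Helper14.KpClassesB
import Cfsg.Agent.Lib.Helper17.KpiA

/-!
# Classes of `r`-elements when a Sylow 2-subgroup centralizes a Sylow `r`-subgroup (helper17)

If `r ≥ 3`, the index of the centralizer of the Sylow `r`-subgroup `R` is odd and `G` has more
than `|R| / 2` classes of `r`-elements, then `N_G(R)` acts trivially on `R`.
-/

set_option autoImplicit false
set_option maxHeartbeats 1000000

namespace Cfsg.Agent.Lib.Helper17.Kpi

open Cfsg.Agent.Lib.Helper14.KpClasses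

variable {G : Type*} [Group G] {r : ℕ} [hr : Fact r.Prime]

/-- a non-abelian Sylow `r`-subgroup, `r ≥ 3`: at most `|R| / 2` classes of `r`-elements -/
theorem two_mul_card_le_of_not_comm [Finite G] (R : Sylow r G) (hr3 : 3 ≤ r)
    (hnc : ¬ IsMulCommutative ↥(R : Subgroup G)) :
    2 * Nat.card (PCls r G) ≤ Nat.card ↥(R : Subgroup G) := by
  have hQ : IsPGroup r ↥(R : Subgroup G) := R.isPGroup'
  -- index of the centre
  obtain ⟨k, hk⟩ := hQ.index (Subgroup.center ↥(R : Subgroup G))
  have hk0 : k ≠ 0 := by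
    intro h0
    rw [h0, pow_zero, Subgroup.index_eq_one] at hk
    apply hnc
    refine ⟨⟨fun a b => ?_⟩⟩
    have : a ∈ Subgroup.center ↥(R : Subgroup G) := by rw [hk]; trivial
    exact (Subgroup.mem_center_iff.mp this b).symm
  have hk1 : k ≠ 1 := by
    intro h1
    rw [h1, pow_one] at hk
    apply hnc
    haveI : IsCyclic (↥(R : Subgroup G) ⧸ Subgroup.center ↥(R : Subgroup G)) :=
      isCyclic_of_prime_card (p := r) hk
    exact MonoidHom.isMulCommutative_of_isCyclic_of_ker_le_center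
      (QuotientGroup.mk' (Subgroup.center ↥(R : Subgroup G)))
      (by rw [QuotientGroup.ker_mk'])
  have hk2 : 2 ≤ k := by omega
  have hidx : r ^ 2 * Nat.card (Subgroup.center ↥(R : Subgroup G)) ≤ Nat.card ↥(R : Subgroup G) := by
    rw [← (Subgroup.center ↥(R : Subgroup G)).card_mul_index, hk, mul_comm]
    exact Nat.mul_le_mul_left _ (Nat.pow_le_pow_right hr.out.pos hk2)
  haveI : Finite (ConjAct ↥(R : Subgroup G)) :=
    Finite.of_equiv _ (ConjAct.toConjAct (G := ↥(R : Subgroup G))).toEquiv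
  have hb := orbit_bound_m (H := ConjAct ↥(R : Subgroup G)) (Q := ↥(R : Subgroup G)) hQ (r ^ 2) (by
    intro Kr hKr
    have hcard : Nat.card Kr ≤ Nat.card (Subgroup.center ↥(R : Subgroup G)) := by
      apply Nat.card_le_card_of_injective
        (fun h : Kr => (⟨ConjAct.ofConjAct (h : ConjAct ↥(R : Subgroup G)), by
          rw [Subgroup.mem_center_iff]
          intro x
          have := (hKr (h : ConjAct ↥(R : Subgroup G))).mp h.2 x
          rw [ConjAct.smul_def] at this
          calc x * ConjAct.ofConjAct (h : ConjAct ↥(R : Subgroup G))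
              = (ConjAct.ofConjAct (h : ConjAct ↥(R : Subgroup G)) * x *
                  (ConjAct.ofConjAct (h : ConjAct ↥(R : Subgroup G)))⁻¹) *
                  ConjAct.ofConjAct (h : ConjAct ↥(R : Subgroup G)) := by rw [this]
            _ = ConjAct.ofConjAct (h : ConjAct ↥(R : Subgroup G)) * x := by group⟩ :
          Subgroup.center ↥(R : Subgroup G)))
      intro a b hab
      apply Subtype.ext
      have := congrArg Subtype.val hab
      exact ConjAct.ofConjAct.injective this
    have hH : Nat.card (ConjAct ↥(R : Subgroup G)) = Nat.card ↥(R : Subgroup G) :=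
      Nat.card_congr ConjAct.ofConjAct.toEquiv
    rw [hH]
    exact (Nat.mul_le_mul_left _ hcard).trans hidx)
  have hc := card_cls_le (H := ConjAct ↥(R : Subgroup G)) R (by
    intro h x
    rw [isConj_iff]
    refine ⟨((ConjAct.ofConjAct h : ↥(R : Subgroup G)) : G), ?_⟩
    rw [ConjAct.smul_def]
    simp only [Subgroup.coe_mul, Subgroup.coe_inv])
  obtain ⟨o, ho⟩ : ∃ o, o = Nat.card (MulAction.orbitRel.Quotient (ConjAct ↥(R : Subgroup G))
      ↥(R : Subgroup G)) := ⟨_, rfl⟩
  obtain ⟨q, hq⟩ : ∃ q, q = Nat.card ↥(R : Subgroup G) := ⟨_, rfl⟩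
  obtain ⟨c, hcdef⟩ : ∃ c, c = Nat.card (PCls r G) := ⟨_, rfl⟩
  rw [← ho, ← hq] at hb
  rw [← ho, ← hcdef] at hc
  rw [← hq, ← hcdef]
  -- r * r^2 * o + q ≤ (r + r^2) * q, c ≤ o, 3 ≤ r ⊢ 2 * c ≤ q
  have hA : 2 * (r + r ^ 2) ≤ r * r ^ 2 + 2 := by nlinarith
  have hB : 2 * (r * r ^ 2 * o) + 2 * q ≤ r * r ^ 2 * q + 2 * q := by
    calc 2 * (r * r ^ 2 * o) + 2 * q = 2 * (r * r ^ 2 * o + q) := by ring
      _ ≤ 2 * ((r + r ^ 2) * q) := Nat.mul_le_mul_left _ hb
      _ = (2 * (r + r ^ 2)) * q := by ring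
      _ ≤ (r * r ^ 2 + 2) * q := Nat.mul_le_mul_right _ hA
      _ = r * r ^ 2 * q + 2 * q := by ring
  have hC : r * r ^ 2 * (2 * o) ≤ r * r ^ 2 * q := by
    have : 2 * (r * r ^ 2 * o) ≤ r * r ^ 2 * q := by omega
    calc r * r ^ 2 * (2 * o) = 2 * (r * r ^ 2 * o) := by ring
      _ ≤ r * r ^ 2 * q := this
  have hpos3 : 0 < r * r ^ 2 := by positivity
  have hD : 2 * o ≤ q := Nat.le_of_mul_le_mul_left hC hpos3
  omega

/-- an abelian Sylow `r`-subgroup with odd centralizer index and non-trivial action of the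
normalizer: at most `|R| / 2` classes of `r`-elements -/
theorem two_mul_card_le_of_comm [Finite G] (R : Sylow r G) (hr3 : 3 ≤ r)
    (hcomm : ∀ a ∈ (R : Subgroup G), ∀ b ∈ (R : Subgroup G), a * b = b * a)
    (hodd : ¬ 2 ∣ (Subgroup.centralizer ((R : Subgroup G) : Set G)).index)
    (hnt : ∃ n ∈ Subgroup.normalizer ((R : Subgroup G) : Set G), ∃ x ∈ (R : Subgroup G),
      n * x * n⁻¹ ≠ x) :
    2 * Nat.card (PCls r G) ≤ Nat.card ↥(R : Subgroup G) := by
  have hQ : IsPGroup r ↥(R : Subgroup G) := R.isPGroup'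
  obtain ⟨N, hNdef⟩ : ∃ N : Subgroup G, N = Subgroup.normalizer ((R : Subgroup G) : Set G) :=
    ⟨_, rfl⟩
  obtain ⟨C, hCdef⟩ : ∃ C : Subgroup G, C = Subgroup.centralizer ((R : Subgroup G) : Set G) :=
    ⟨_, rfl⟩
  have hCN : C ≤ N := by
    rw [hCdef, hNdef]
    intro g hg
    rw [Subgroup.mem_centralizer_iff] at hg
    rw [Subgroup.mem_normalizer_iff]
    intro h
    constructor
    · intro hh
      have e : g * h * g⁻¹ = h := by rw [← hg h hh, mul_inv_cancel_right]
      rw [e]; exact hh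
    · intro hh
      have e1 := hg _ hh
      have e : h = g * h * g⁻¹ := by
        calc h = g⁻¹ * (g * h * g⁻¹ * g) := by group
          _ = g⁻¹ * (g * (g * h * g⁻¹)) := by rw [e1]
          _ = g * h * g⁻¹ := by group
      rw [e]; exact hh
  have hRC : (R : Subgroup G) ≤ C := by
    rw [hCdef]
    intro a ha
    rw [Subgroup.mem_centralizer_iff]
    intro b hb
    exact hcomm b hb a ha
  -- the relative index
  obtain ⟨m, hmdef⟩ : ∃ m, m = C.relIndex N := ⟨_, rfl⟩
  have hmdvd : m ∣ C.index := by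
    rw [hmdef, ← Subgroup.relIndex_mul_index hCN]
    exact dvd_mul_right _ _
  have hmodd : ¬ 2 ∣ m := fun h2 => hodd (by rw [← hCdef]; exact h2.trans hmdvd)
  have hmr : ¬ r ∣ m := by
    intro h2
    have h3 : r ∣ (R : Subgroup G).index := (h2.trans hmdvd).trans (Subgroup.index_dvd_of_le hRC)
    exact R.not_dvd_index h3
  have hm1 : m ≠ 1 := by
    intro h1
    rw [hmdef, Subgroup.relIndex_eq_one] at h1
    obtain ⟨n, hn, x, hx, hne⟩ := hnt
    apply hne
    have hnC : n ∈ C := h1 (by rw [hNdef]; exact hn)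
    rw [hCdef, Subgroup.mem_centralizer_iff] at hnC
    rw [← hnC x hx, mul_inv_cancel_right]
  have hm0 : m ≠ 0 := by
    rw [hmdef]
    exact Subgroup.index_ne_zero_of_finite
  have hmne : m ≠ r := fun h => hmr (h ▸ dvd_rfl)
  -- the arithmetic condition
  have hkey : 2 * (r + m) ≤ r * m + 2 := by
    have hm3 : 3 ≤ m := by
      rcases Nat.lt_or_ge m 3 with h | h
      · exfalso
        interval_cases m
        · exact hm0 rfl
        · exact hm1 rfl
        · exact hmodd dvd_rfl
      · exact h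
    rcases Nat.lt_or_ge r 4 with h4 | h4
    · have hr_eq : r = 3 := by omega
      have hm5 : 5 ≤ m := by
        rcases Nat.lt_or_ge m 5 with h | h
        · exfalso
          interval_cases m
          · exact hmne hr_eq.symm
          · exact hmodd ⟨2, rfl⟩
        · exact h
      subst hr_eq
      omega
    · nlinarith
  have hb := orbit_bound_m (H := ↥(Subgroup.normalizer ((R : Subgroup G) : Set G)))
    (Q := ↥(R : Subgroup G)) hQ m (by
    intro Kr hKr
    have hKr' : Kr = (Subgroup.centralizer ((R : Subgroup G) : Set G)).subgroupOf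
        (Subgroup.normalizer ((R : Subgroup G) : Set G)) := by
      ext h
      rw [hKr, Subgroup.mem_subgroupOf, Subgroup.mem_centralizer_iff]
      constructor
      · intro hh x hx
        have e : (h : G) * x * (h : G)⁻¹ = x := congrArg Subtype.val (hh ⟨x, hx⟩)
        calc x * (h : G) = ((h : G) * x * (h : G)⁻¹) * (h : G) := by rw [e]
          _ = (h : G) * x := by group
      · intro hh x
        apply Subtype.ext
        show (h : G) * (x : G) * (h : G)⁻¹ = (x : G)
        rw [← hh (x : G) x.2, mul_inv_cancel_right]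
    rw [hKr', hmdef, hCdef, hNdef]
    have := ((Subgroup.centralizer ((R : Subgroup G) : Set G)).subgroupOf
        (Subgroup.normalizer ((R : Subgroup G) : Set G))).card_mul_index
    rw [mul_comm] at this
    exact this.le)
  have hc := card_cls_le (H := ↥(Subgroup.normalizer ((R : Subgroup G) : Set G))) R (by
    intro h x
    rw [isConj_iff]
    exact ⟨(h : G), rfl⟩)
  obtain ⟨o, ho⟩ : ∃ o, o = Nat.card (MulAction.orbitRel.Quotient
      ↥(Subgroup.normalizer ((R : Subgroup G) : Set G)) ↥(R : Subgroup G)) := ⟨_, rfl⟩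
  obtain ⟨q, hq⟩ : ∃ q, q = Nat.card ↥(R : Subgroup G) := ⟨_, rfl⟩
  obtain ⟨c, hcdef⟩ : ∃ c, c = Nat.card (PCls r G) := ⟨_, rfl⟩
  rw [← ho, ← hq] at hb
  rw [← ho, ← hcdef] at hc
  rw [← hq, ← hcdef]
  -- r * m * o + q ≤ (r + m) * q, 2 (r + m) ≤ r m + 2, c ≤ o ⊢ 2 c ≤ q
  by_contra hlt
  push Not at hlt
  have h1 : q + 1 ≤ 2 * o := by omega
  have hrm : 0 < r * m := Nat.mul_pos hr.out.pos (Nat.pos_of_ne_zero hm0)
  nlinarith [hb, h1, hkey, hrm]

/-- the main statement of this file -/
theorem normalizer_acts_trivially_of_half [Finite G] (R : Sylow r G) (hr3 : 3 ≤ r)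
    (hodd : ¬ 2 ∣ (Subgroup.centralizer ((R : Subgroup G) : Set G)).index)
    (h : Nat.card ↥(R : Subgroup G) < 2 * Nat.card (PCls r G))
    (n : G) (hn : n ∈ Subgroup.normalizer ((R : Subgroup G) : Set G))
    (x : G) (hx : x ∈ (R : Subgroup G)) : n * x * n⁻¹ = x := by
  by_contra hne
  by_cases hcomm : IsMulCommutative ↥(R : Subgroup G)
  · have hcomm' : ∀ a ∈ (R : Subgroup G), ∀ b ∈ (R : Subgroup G), a * b = b * a := by
      intro a ha b hb
      exact congrArg Subtype.val (hcomm.is_comm.comm ⟨a, ha⟩ ⟨b, hb⟩)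
    have := two_mul_card_le_of_comm R hr3 hcomm' hodd ⟨n, hn, x, hx, hne⟩
    omega
  · have := two_mul_card_le_of_not_comm R hr3 hcomm
    omega

end Cfsg.Agent.Lib.Helper17.Kpi
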