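import Mathlib
import Cfsg.Agent.Lib.Helper14.KpClassesD
import Cfsg.Agent.Lib.Helper17.KpiB

/-!
# Classes of `π`-elements with `2 ∈ π`: the odd primes (helper17)

If `k_π(G) > |G|_π / 2` and `r` is an odd prime of `π`, then the normalizer of some Sylow
`r`-subgroup acts trivially on it.
-/

set_option autoImplicit false
set_option maxHeartbeats 1000000

universe u

namespace Cfsg.Agent.Lib.Helper17.Kpi

open Cfsg.Agent.Lib.Helper14.KpClasses

variable {G : Type u} [Group G] [Finite G]

theorem piPart_erase (σ : Finset ℕ) (s : ℕ) (hs : s ∈ σ) (G : Type*) [Group G] :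
    piPart σ G = s ^ (Nat.card G).factorization s * piPart (σ.erase s) G := by
  classical
  unfold piPart
  conv_lhs => rw [← Finset.insert_erase hs]
  rw [Finset.prod_insert (Finset.notMem_erase s σ)]

/-- the fibre bound -/
theorem card_piCls_le_two_pow (σ : Finset ℕ) (hσ : ∀ s ∈ σ, s.Prime) (h2 : 2 ∈ σ)
    (C : Subgroup G) :
    Nat.card (PiCls σ ↥C) ≤ 2 ^ (Nat.card ↥C).factorization 2 * piPart (σ.erase 2) G := by
  have h1 := card_le_piPart σ hσ ↥C
  rw [piPart_erase σ 2 h2] at h1
  exact h1.trans (Nat.mul_le_mul_left _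
    (piPart_mono (σ.erase 2) (fun s hs => hσ s (Finset.mem_of_mem_erase hs)) C))

/-- the centralizer of the representative contains a Sylow 2-subgroup -/
def Full (r : ℕ) (c : PiCls {r} G) : Prop :=
  (Nat.card ↥(Subgroup.centralizer {rep c.1})).factorization 2 = (Nat.card G).factorization 2

theorem two_mul_pow_le_of_not_full (r : ℕ) (c : PiCls {r} G) (h : ¬ Full r c) :
    2 * 2 ^ (Nat.card ↥(Subgroup.centralizer {rep c.1})).factorization 2 ≤
      2 ^ (Nat.card G).factorization 2 := by
  have hd : Nat.card ↥(Subgroup.centralizer {rep c.1}) ∣ Nat.card G :=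
    Subgroup.card_subgroup_dvd_card _
  have hle := (Nat.factorization_le_iff_dvd Nat.card_pos.ne' Nat.card_pos.ne').mpr hd 2
  have hlt : (Nat.card ↥(Subgroup.centralizer {rep c.1})).factorization 2 <
      (Nat.card G).factorization 2 := lt_of_le_of_ne hle h
  rw [← pow_succ']
  exact Nat.pow_le_pow_right (by norm_num) hlt

theorem sum_bound (π : Finset ℕ) (hπ : ∀ s ∈ π, s.Prime) (h2 : 2 ∈ π) (r : ℕ) (hr : r ∈ π)
    (hr2 : r ≠ 2) :
    2 * Nat.card (PiCls π G) ≤
      (Nat.card (PiCls {r} G) + Nat.card {c : PiCls {r} G // Full r c}) *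
        (2 ^ (Nat.card G).factorization 2 * piPart ((π.erase r).erase 2) G) := by
  classical
  haveI : Fintype (PiCls {r} G) := Fintype.ofFinite _
  have h1 := card_insert_le (G := G) r (hπ r hr) (π.erase r)
  rw [Finset.insert_erase hr, Nat.card_sigma] at h1
  have hρ : ∀ s ∈ π.erase r, s.Prime := fun s hs => hπ s (Finset.mem_of_mem_erase hs)
  have h2ρ : 2 ∈ π.erase r := Finset.mem_erase.mpr ⟨fun h => hr2 h.symm, h2⟩
  obtain ⟨X, hX⟩ : ∃ X, X = 2 ^ (Nat.card G).factorization 2 * piPart ((π.erase r).erase 2) G :=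
    ⟨_, rfl⟩
  rw [← hX]
  calc 2 * Nat.card (PiCls π G)
      ≤ 2 * ∑ c : PiCls {r} G, Nat.card (PiCls (π.erase r) ↥(Subgroup.centralizer {rep c.1})) :=
        Nat.mul_le_mul_left _ h1
    _ = ∑ c : PiCls {r} G, 2 * Nat.card (PiCls (π.erase r) ↥(Subgroup.centralizer {rep c.1})) :=
        Finset.mul_sum _ _ _
    _ ≤ ∑ c : PiCls {r} G, (1 + if Full r c then 1 else 0) * X := by
        apply Finset.sum_le_sum
        intro c _
        have hb := card_piCls_le_two_pow (π.erase r) hρ h2ρ (Subgroup.centralizer {rep c.1})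
        by_cases hF : Full r c
        · rw [if_pos hF, hX]
          have hF' := hF
          unfold Full at hF'
          rw [hF'] at hb
          calc 2 * Nat.card (PiCls (π.erase r) ↥(Subgroup.centralizer {rep c.1}))
              ≤ 2 * (2 ^ (Nat.card G).factorization 2 * piPart ((π.erase r).erase 2) G) :=
                Nat.mul_le_mul_left _ hb
            _ = (1 + 1) * (2 ^ (Nat.card G).factorization 2 * piPart ((π.erase r).erase 2) G) := by
                norm_num
        · rw [if_neg hF, hX]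
          have hlt := two_mul_pow_le_of_not_full r c hF
          calc 2 * Nat.card (PiCls (π.erase r) ↥(Subgroup.centralizer {rep c.1}))
              ≤ 2 * (2 ^ (Nat.card ↥(Subgroup.centralizer {rep c.1})).factorization 2 *
                  piPart ((π.erase r).erase 2) G) := Nat.mul_le_mul_left _ hb
            _ = (2 * 2 ^ (Nat.card ↥(Subgroup.centralizer {rep c.1})).factorization 2) *
                  piPart ((π.erase r).erase 2) G := by ring
            _ ≤ 2 ^ (Nat.card G).factorization 2 * piPart ((π.erase r).erase 2) G :=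
                Nat.mul_le_mul_right _ hlt
            _ = (1 + 0) * (2 ^ (Nat.card G).factorization 2 * piPart ((π.erase r).erase 2) G) := by
                norm_num
    _ = (∑ c : PiCls {r} G, (1 + if Full r c then 1 else 0)) * X := (Finset.sum_mul _ _ _).symm
    _ = (Nat.card (PiCls {r} G) + Nat.card {c : PiCls {r} G // Full r c}) * X := by
        congr 1
        have ha : Nat.card {c : PiCls {r} G // Full r c} =
            (Finset.univ.filter (fun c : PiCls {r} G => Full r c)).card := by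
          rw [← Fintype.card_subtype, Nat.card_eq_fintype_card]
        have hb : Nat.card (PiCls {r} G) = (Finset.univ : Finset (PiCls {r} G)).card := by
          rw [Finset.card_univ, Nat.card_eq_fintype_card]
        rw [ha, hb, Finset.sum_add_distrib, Finset.sum_const, smul_eq_mul, mul_one,
          Finset.sum_boole]
        simp

theorem pow_lt_add (π : Finset ℕ) (hπ : ∀ s ∈ π, s.Prime) (h2 : 2 ∈ π)
    (hk : piPart π G < 2 * Nat.card (PiCls π G)) (r : ℕ) (hr : r ∈ π) (hr2 : r ≠ 2) :
    r ^ (Nat.card G).factorization r <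
      Nat.card (PiCls {r} G) + Nat.card {c : PiCls {r} G // Full r c} := by
  have h1 := sum_bound (G := G) π hπ h2 r hr hr2
  have h2ρ : 2 ∈ π.erase r := Finset.mem_erase.mpr ⟨fun h => hr2 h.symm, h2⟩
  rw [piPart_erase π r hr, piPart_erase (π.erase r) 2 h2ρ] at hk
  have h3 := lt_of_lt_of_le hk h1
  exact Nat.lt_of_mul_lt_mul_right h3

/-- a full class has a representative centralized by a fixed Sylow 2-subgroup -/
theorem exists_rep_of_full (P : Sylow 2 G) (r : ℕ) (c : PiCls {r} G) (h : Full r c) :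
    ∃ y : G, ConjClasses.mk y = c.1 ∧ ∀ z ∈ (P : Subgroup G), z * y = y * z := by
  haveI : Fact (Nat.Prime 2) := ⟨Nat.prime_two⟩
  obtain ⟨C, hC⟩ : ∃ C : Subgroup G, C = Subgroup.centralizer {rep c.1} := ⟨_, rfl⟩
  obtain ⟨Q, -⟩ : ∃ Q : Sylow 2 ↥C, Q = default := ⟨_, rfl⟩
  have hQcard : Nat.card ↥(Q : Subgroup ↥C) = 2 ^ (Nat.card G).factorization 2 := by
    rw [Sylow.card_eq_multiplicity, hC]
    unfold Full at h
    rw [h]
  have hmap : Nat.card ↥((Q : Subgroup ↥C).map C.subtype) =
      2 ^ (Nat.card G).factorization 2 := by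
    rw [Subgroup.card_map_of_injective C.subtype_injective]
    exact hQcard
  obtain ⟨g, hg⟩ := MulAction.exists_smul_eq G (Sylow.ofCard _ hmap) P
  have hmem : ∀ z : G, z ∈ (P : Subgroup G) →
      g⁻¹ * z * g ∈ (Q : Subgroup ↥C).map C.subtype := by
    intro z hz
    rw [← hg, Sylow.coe_subgroup_smul, Subgroup.mem_pointwise_smul_iff_inv_smul_mem] at hz
    simpa [MulAut.smul_def] using hz
  refine ⟨g * rep c.1 * g⁻¹, ?_, ?_⟩
  · conv_rhs => rw [← mk_rep c.1]
    rw [ConjClasses.mk_eq_mk_iff_isConj, isConj_comm, isConj_iff]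
    exact ⟨g, rfl⟩
  · intro z hz
    obtain ⟨w, _, hw⟩ := hmem z hz
    have hwC : g⁻¹ * z * g ∈ C := by
      rw [← hw]
      exact w.2
    rw [hC, Subgroup.mem_centralizer_singleton_iff] at hwC
    calc z * (g * rep c.1 * g⁻¹) = g * ((g⁻¹ * z * g) * rep c.1) * g⁻¹ := by group
      _ = g * (rep c.1 * (g⁻¹ * z * g)) * g⁻¹ := by rw [hwC]
      _ = g * rep c.1 * g⁻¹ * z := by group

theorem piCls_mk_of_mem {D : Subgroup G} (σ : Finset ℕ) (c : PiCls σ G) (y : ↥D)
    (hy : ConjClasses.mk (y : G) = c.1) :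
    ∀ x ∈ (ConjClasses.mk y).carrier, ∀ s : ℕ, s.Prime → s ∣ orderOf x → s ∈ σ := by
  intro x hx s hs hsd
  rw [ConjClasses.mem_carrier_iff_mk_eq, ConjClasses.mk_eq_mk_iff_isConj] at hx
  rw [orderOf_of_isConj hx, ← Subgroup.orderOf_coe] at hsd
  exact c.2 (y : G) (mem_carrier_of_mk hy) s hs hsd

theorem card_full_le (P : Sylow 2 G) (r : ℕ) :
    Nat.card {c : PiCls {r} G // Full r c} ≤
      Nat.card (PiCls {r} ↥(Subgroup.centralizer ((P : Subgroup G) : Set G))) := by
  have hex : ∀ c : {c : PiCls {r} G // Full r c}, ∃ y : G, ConjClasses.mk y = c.1.1 ∧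
      ∀ z ∈ (P : Subgroup G), z * y = y * z := fun c => exists_rep_of_full P r c.1 c.2
  choose y hy1 hy2 using hex
  have hyD : ∀ c, y c ∈ Subgroup.centralizer ((P : Subgroup G) : Set G) := by
    intro c
    rw [Subgroup.mem_centralizer_iff]
    intro z hz
    exact hy2 c z hz
  apply Nat.card_le_card_of_injective (fun c =>
    (⟨ConjClasses.mk ⟨y c, hyD c⟩, piCls_mk_of_mem {r} c.1 ⟨y c, hyD c⟩ (hy1 c)⟩ :
      PiCls {r} ↥(Subgroup.centralizer ((P : Subgroup G) : Set G))))
  intro c c' hcc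
  have h1 : ConjClasses.mk (⟨y c, hyD c⟩ : ↥(Subgroup.centralizer ((P : Subgroup G) : Set G))) =
      ConjClasses.mk ⟨y c', hyD c'⟩ := congrArg Subtype.val hcc
  rw [ConjClasses.mk_eq_mk_iff_isConj, isConj_iff] at h1
  obtain ⟨d, hd⟩ := h1
  have h2 : (d : G) * y c * (d : G)⁻¹ = y c' := by
    have := congrArg Subtype.val hd
    simpa using this
  apply Subtype.ext
  apply Subtype.ext
  rw [← hy1 c, ← hy1 c', ConjClasses.mk_eq_mk_iff_isConj, isConj_iff]
  exact ⟨(d : G), h2⟩

/-- the key statement for an odd prime of `π` -/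
theorem pair_key (π : Finset ℕ) (hπ : ∀ s ∈ π, s.Prime) (h2 : 2 ∈ π)
    (hk : piPart π G < 2 * Nat.card (PiCls π G)) (r : ℕ) (hr : r ∈ π) (hr2 : r ≠ 2)
    [Fact r.Prime] :
    ∃ R : Sylow r G, ∀ n ∈ Subgroup.normalizer ((R : Subgroup G) : Set G),
      ∀ x ∈ (R : Subgroup G), n * x * n⁻¹ = x := by
  haveI : Fact (Nat.Prime 2) := ⟨Nat.prime_two⟩
  have hrp : r.Prime := hπ r hr
  have hr3 : 3 ≤ r := by
    have := hrp.two_le
    omega
  obtain ⟨P, -⟩ : ∃ P : Sylow 2 G, P = default := ⟨_, rfl⟩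
  obtain ⟨D, hD⟩ : ∃ D : Subgroup G, D = Subgroup.centralizer ((P : Subgroup G) : Set G) :=
    ⟨_, rfl⟩
  have h1 := pow_lt_add π hπ h2 hk r hr hr2
  have h2' := card_full_le P r
  rw [← hD] at h2'
  have h3 : Nat.card (PiCls {r} ↥D) ≤ r ^ (Nat.card ↥D).factorization r := card_single_le r hrp
  have hd : Nat.card ↥D ∣ Nat.card G := Subgroup.card_subgroup_dvd_card _
  have hle := (Nat.factorization_le_iff_dvd Nat.card_pos.ne' Nat.card_pos.ne').mpr hd r
  obtain ⟨v, hv⟩ : ∃ v, v = r ^ (Nat.card G).factorization r := ⟨_, rfl⟩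
  obtain ⟨a, ha⟩ : ∃ a, a = Nat.card {c : PiCls {r} G // Full r c} := ⟨_, rfl⟩
  obtain ⟨k, hk'⟩ : ∃ k, k = Nat.card (PiCls {r} G) := ⟨_, rfl⟩
  rw [← hv, ← ha, ← hk'] at h1
  rw [← ha] at h2'
  rcases hle.lt_or_eq with hlt | heq
  · -- the centralizer of the Sylow 2-subgroup has a smaller `r`-part
    have h4 : r * a ≤ v := by
      calc r * a ≤ r * r ^ (Nat.card ↥D).factorization r :=
            Nat.mul_le_mul_left _ (h2'.trans h3)
        _ = r ^ ((Nat.card ↥D).factorization r + 1) := (pow_succ' _ _).symm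
        _ ≤ r ^ (Nat.card G).factorization r := Nat.pow_le_pow_right hrp.pos hlt
        _ = v := hv.symm
    have e1 : 3 * v ≤ r * v := Nat.mul_le_mul_right v hr3
    have e2 : r * v < r * k + r * a := by
      have := Nat.mul_lt_mul_of_pos_left h1 hrp.pos
      rwa [mul_add] at this
    have h5 : (r + 1) * Nat.card ↥((default : Sylow r G) : Subgroup G) <
        2 * r * Nat.card (PCls r G) := by
      rw [Sylow.card_eq_multiplicity, ← card_single_eq r hrp, ← hv, ← hk']
      nlinarith
    exact ⟨default, normalizer_acts_trivially default h5⟩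
  · -- the centralizer of the Sylow 2-subgroup contains a Sylow `r`-subgroup
    obtain ⟨RD, -⟩ : ∃ RD : Sylow r ↥D, RD = default := ⟨_, rfl⟩
    have hRDcard : Nat.card ↥(RD : Subgroup ↥D) = r ^ (Nat.card G).factorization r := by
      rw [Sylow.card_eq_multiplicity, heq]
    have hmap : Nat.card ↥((RD : Subgroup ↥D).map D.subtype) =
        r ^ (Nat.card G).factorization r := by
      rw [Subgroup.card_map_of_injective D.subtype_injective]
      exact hRDcard
    obtain ⟨R₁, hR₁⟩ : ∃ R₁ : Sylow r G, (R₁ : Subgroup G) =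
        (RD : Subgroup ↥D).map D.subtype := ⟨Sylow.ofCard _ hmap, rfl⟩
    have hPle : (P : Subgroup G) ≤ Subgroup.centralizer ((R₁ : Subgroup G) : Set G) := by
      intro z hz
      rw [Subgroup.mem_centralizer_iff]
      intro x hx
      rw [SetLike.mem_coe, hR₁] at hx
      obtain ⟨w, _, rfl⟩ := hx
      have hw : (w : G) ∈ Subgroup.centralizer ((P : Subgroup G) : Set G) := hD ▸ w.2
      rw [Subgroup.mem_centralizer_iff] at hw
      exact (hw z hz).symm
    have hodd : ¬ 2 ∣ (Subgroup.centralizer ((R₁ : Subgroup G) : Set G)).index := by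
      intro h
      exact P.not_dvd_index (h.trans (Subgroup.index_dvd_of_le hPle))
    have ha_le : a ≤ k := by
      rw [ha, hk']
      exact Nat.card_le_card_of_injective Subtype.val Subtype.val_injective
    have h5 : Nat.card ↥(R₁ : Subgroup G) < 2 * Nat.card (PCls r G) := by
      rw [Sylow.card_eq_multiplicity, ← card_single_eq r hrp, ← hv, ← hk']
      omega
    exact ⟨R₁, normalizer_acts_trivially_of_half R₁ hr3 hodd h5⟩

end Cfsg.Agent.Lib.Helper17.Kpi
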