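import Mathlib
import Cfsg.Prelude.Def_OddOrderLocal
import Cfsg.Agent.Lib.Helper12.K2E
import Cfsg.Agent.Lib.Helper17.KpiC

/-!
# Classes of `π`-elements with `2 ∈ π`: the main theorem (helper17)

If `k_π(G) > |G|_π / 2` and `2 ∈ π`, then `G` has a normal `π`-complement and an abelian Hall
subgroup for the odd primes of `π`.
-/

set_option autoImplicit false
set_option maxHeartbeats 1000000

universe u

namespace Cfsg.Agent.Lib.Helper17.Kpi

open Cfsg.Agent.Lib.Helper14.KpClasses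

variable {G : Type u} [Group G] [Finite G]

/-- trivial action of the normalizer: the data attached to the prime -/
theorem step_of_trivial_action (r : ℕ) [hr : Fact r.Prime] (P : Sylow r G)
    (key : ∀ n ∈ Subgroup.normalizer ((P : Subgroup G) : Set G),
      ∀ x ∈ (P : Subgroup G), n * x * n⁻¹ = x) :
    ∃ N : Subgroup G, N.Normal ∧ (Nat.card N).Coprime r ∧ (∃ k : ℕ, N.index = r ^ k) ∧
      ∀ g h : G, g * h * g⁻¹ * h⁻¹ ∈ N := by
  have hcompl : Cfsg.HasNormalPComplement r G := by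
    apply Cfsg.Agent.Lib.Helper11.hasNormalPComplement_of_normalizer_le_centralizer P
    intro n hn
    rw [Subgroup.mem_centralizer_iff]
    intro x hx
    have := key n hn x hx
    rw [mul_inv_eq_iff_eq_mul] at this
    exact this.symm
  have hcomm : ∀ a b : ↥(P : Subgroup G), (a : G) * (b : G) = (b : G) * (a : G) := by
    intro a b
    have := key a (Subgroup.le_normalizer a.2) b b.2
    rw [mul_inv_eq_iff_eq_mul] at this
    exact this
  obtain ⟨P₀, N, hN, hc⟩ := hcompl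
  have hcard : Nat.card ↥(P : Subgroup G) = Nat.card ↥(P₀ : Subgroup G) := by
    rw [Sylow.card_eq_multiplicity, Sylow.card_eq_multiplicity]
  have h1 : Nat.card N * Nat.card ↥(P : Subgroup G) = Nat.card G := by
    rw [hcard]
    exact hc.card_mul_card
  have hcopr : (Nat.card N).Coprime r := by
    rw [← hc.index_eq_card]
    exact ((Nat.Prime.coprime_iff_not_dvd hr.out).mpr P₀.not_dvd_index).symm
  have h2 : (Nat.card N).Coprime (Nat.card ↥(P : Subgroup G)) := by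
    obtain ⟨k, hk⟩ := IsPGroup.iff_card.mp P.isPGroup'
    rw [hk]
    exact Nat.Coprime.pow_right _ hcopr
  have hc' : N.IsComplement' (P : Subgroup G) := Subgroup.isComplement'_of_coprime h1 h2
  refine ⟨N, hN, hcopr, ?_, ?_⟩
  · obtain ⟨k, hk⟩ := IsPGroup.iff_card.mp P.isPGroup'
    exact ⟨k, by rw [← hk]; exact hc'.symm.index_eq_card⟩
  · intro g h
    haveI := hN
    rw [← QuotientGroup.eq_one_iff]
    obtain ⟨⟨n, a⟩, hna, _⟩ := hc'.existsUnique g
    obtain ⟨⟨m, b⟩, hmb, _⟩ := hc'.existsUnique h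
    simp only at hna hmb
    have hg : (QuotientGroup.mk g : G ⧸ N) = QuotientGroup.mk (a : G) := by
      rw [← hna, QuotientGroup.mk_mul, (QuotientGroup.eq_one_iff (n : G)).mpr n.2, one_mul]
    have hh : (QuotientGroup.mk h : G ⧸ N) = QuotientGroup.mk (b : G) := by
      rw [← hmb, QuotientGroup.mk_mul, (QuotientGroup.eq_one_iff (m : G)).mpr m.2, one_mul]
    have hab : (a : G) * (b : G) = (b : G) * (a : G) := hcomm a b
    rw [QuotientGroup.mk_mul, QuotientGroup.mk_mul, QuotientGroup.mk_mul, QuotientGroup.mk_inv,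
      QuotientGroup.mk_inv, hg, hh, ← QuotientGroup.mk_inv, ← QuotientGroup.mk_inv,
      ← QuotientGroup.mk_mul, ← QuotientGroup.mk_mul, ← QuotientGroup.mk_mul]
    have e : (a : G) * (b : G) * (a : G)⁻¹ * (b : G)⁻¹ = 1 := by
      rw [hab]
      group
    rw [e]
    rfl

/-- the prime 2 -/
theorem step_two (π : Finset ℕ) (hπ : ∀ s ∈ π, s.Prime) (h2 : 2 ∈ π)
    (hk : piPart π G < 2 * Nat.card (PiCls π G)) :
    ∃ N : Subgroup G, N.Normal ∧ (Nat.card N).Coprime 2 ∧ ∃ k : ℕ, N.index = 2 ^ k := by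
  classical
  haveI : Fact (Nat.Prime 2) := ⟨Nat.prime_two⟩
  have hσ : ∀ s ∈ π.erase 2, s.Prime := fun s hs => hπ s (Finset.mem_of_mem_erase hs)
  have h1 := card_insert_le_mul (π.erase 2) hσ 2 Nat.prime_two G
  rw [Finset.insert_erase h2] at h1
  rw [piPart_erase π 2 h2] at hk
  have hQ : 0 < piPart (π.erase 2) G := piPart_pos _ hσ
  have h3 : 2 ^ (Nat.card G).factorization 2 * piPart (π.erase 2) G <
      2 * Nat.card (PiCls {2} G) * piPart (π.erase 2) G := by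
    calc 2 ^ (Nat.card G).factorization 2 * piPart (π.erase 2) G
        < 2 * Nat.card (PiCls π G) := hk
      _ ≤ 2 * (Nat.card (PiCls {2} G) * piPart (π.erase 2) G) := Nat.mul_le_mul_left _ h1
      _ = 2 * Nat.card (PiCls {2} G) * piPart (π.erase 2) G := by ring
  have h4 : 2 ^ (Nat.card G).factorization 2 < 2 * Nat.card (PiCls {2} G) :=
    Nat.lt_of_mul_lt_mul_right h3
  obtain ⟨P, -⟩ : ∃ P : Sylow 2 G, P = default := ⟨_, rfl⟩
  have h5 : Nat.card ↥(P : Subgroup G) < 2 * Nat.card (PCls 2 G) := by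
    rw [Sylow.card_eq_multiplicity, ← card_single_eq 2 Nat.prime_two]
    exact h4
  obtain ⟨P₀, N, hN, hc⟩ := Cfsg.Agent.Lib.Helper12.K2.forward P h5
  refine ⟨N, hN, ?_, ?_⟩
  · rw [← hc.index_eq_card]
    exact ((Nat.Prime.coprime_iff_not_dvd Nat.prime_two).mpr P₀.not_dvd_index).symm
  · obtain ⟨k, hk⟩ := IsPGroup.iff_card.mp P₀.isPGroup'
    exact ⟨k, by rw [← hk]; exact hc.symm.index_eq_card⟩

/-- many classes of `π`-elements with `2 ∈ π` -/
theorem main_two (π : Finset ℕ) (hπ : ∀ r ∈ π, r.Prime) (h2 : 2 ∈ π)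
    (hk : piPart π G < 2 * Nat.card (PiCls π G)) :
    (∃ N : Subgroup G, N.Normal ∧ (∀ r : ℕ, r.Prime → r ∣ Nat.card ↥N → r ∉ π) ∧
      ∀ r : ℕ, r.Prime → r ∣ N.index → r ∈ π) ∧
    ∃ H : Subgroup G, Cfsg.IsPiHall ((↑π : Set ℕ) \ {2}) H ∧ IsMulCommutative ↥H := by
  classical
  have hA : ∀ r : {r // r ∈ π}, ∃ N : Subgroup G, N.Normal ∧ (Nat.card N).Coprime r.1 ∧
      (∃ k : ℕ, N.index = r.1 ^ k) ∧ (r.1 ≠ 2 → ∀ g h : G, g * h * g⁻¹ * h⁻¹ ∈ N) := by
    intro r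
    by_cases hr2 : r.1 = 2
    · obtain ⟨N, hN, hc, hi⟩ := step_two π hπ h2 hk
      refine ⟨N, hN, ?_, ?_, fun h => absurd hr2 h⟩
      · rw [hr2]
        exact hc
      · rw [hr2]
        exact hi
    · haveI : Fact r.1.Prime := ⟨hπ r.1 r.2⟩
      obtain ⟨R, hR⟩ := pair_key π hπ h2 hk r.1 r.2 hr2
      obtain ⟨N, hN, hc, hi, hcm⟩ := step_of_trivial_action r.1 R hR
      exact ⟨N, hN, hc, hi, fun _ => hcm⟩
  choose Nf hNf using hA
  obtain ⟨N, hNdef⟩ : ∃ N : Subgroup G, N = ⨅ r : {r // r ∈ π}, Nf r := ⟨_, rfl⟩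
  have hNn : N.Normal := by
    rw [hNdef]
    exact Subgroup.normal_iInf_normal (fun r => (hNf r).1)
  have hNle : ∀ r : {r // r ∈ π}, N ≤ Nf r := by
    intro r
    rw [hNdef]
    exact iInf_le _ r
  have hcard : ∀ r : ℕ, r.Prime → r ∣ Nat.card ↥N → r ∉ π := by
    intro r hr hrd hrπ
    have h1 : Nat.card ↥N ∣ Nat.card ↥(Nf ⟨r, hrπ⟩) := Subgroup.card_dvd_of_le (hNle ⟨r, hrπ⟩)
    have h2 := (hNf ⟨r, hrπ⟩).2.1
    have h3 : r ∣ Nat.gcd (Nat.card ↥(Nf ⟨r, hrπ⟩)) r := Nat.dvd_gcd (hrd.trans h1) dvd_rfl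
    rw [h2] at h3
    exact hr.one_lt.ne' (Nat.dvd_one.mp h3)
  have hidx : ∀ s : ℕ, s.Prime → s ∣ N.index → s ∈ π := by
    intro s hs hsd
    by_contra hsπ
    haveI := hNn
    haveI : Fact s.Prime := ⟨hs⟩
    have h1 : s ∣ Nat.card (G ⧸ N) := hsd
    obtain ⟨x, hx⟩ := exists_prime_orderOf_dvd_card' s h1
    obtain ⟨g, rfl⟩ := QuotientGroup.mk_surjective x
    have hgs : g ^ s ∈ N := by
      rw [← QuotientGroup.eq_one_iff, QuotientGroup.mk_pow, ← hx, pow_orderOf_eq_one]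
    have hgN : g ∈ N := by
      rw [hNdef, Subgroup.mem_iInf]
      intro r
      obtain ⟨hrn, hrc, ⟨k, hrk⟩, _⟩ := hNf r
      haveI := hrn
      rw [← QuotientGroup.eq_one_iff]
      have h2 : (QuotientGroup.mk g : G ⧸ Nf r) ^ s = 1 := by
        rw [← QuotientGroup.mk_pow, QuotientGroup.eq_one_iff]
        exact hNle r hgs
      have h3 : (QuotientGroup.mk g : G ⧸ Nf r) ^ (r.1 ^ k) = 1 := by
        have : Nat.card (G ⧸ Nf r) = r.1 ^ k := hrk
        rw [← this]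
        exact pow_card_eq_one'
      have h4 : orderOf (QuotientGroup.mk g : G ⧸ Nf r) ∣ Nat.gcd s (r.1 ^ k) :=
        Nat.dvd_gcd (orderOf_dvd_of_pow_eq_one h2) (orderOf_dvd_of_pow_eq_one h3)
      have h5 : Nat.Coprime s (r.1 ^ k) := by
        apply Nat.Coprime.pow_right
        rw [Nat.coprime_primes hs (hπ r.1 r.2)]
        intro he
        exact hsπ (he ▸ r.2)
      rw [h5] at h4
      exact orderOf_eq_one_iff.mp (Nat.dvd_one.mp h4)
    have h6 : (QuotientGroup.mk g : G ⧸ N) = 1 := (QuotientGroup.eq_one_iff g).mpr hgN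
    rw [h6, orderOf_one] at hx
    exact hs.one_lt.ne' hx.symm
  refine ⟨⟨N, hNn, hcard, hidx⟩, ?_⟩
  have hcop : Nat.Coprime (Nat.card N) N.index := by
    apply Nat.coprime_of_dvd
    intro s hs h1 h2
    exact hcard s hs h1 (hidx s hs h2)
  haveI := hNn
  obtain ⟨H, hH⟩ := Subgroup.exists_right_complement'_of_coprime hcop
  -- the normal 2-complement
  obtain ⟨N₂, hN₂⟩ : ∃ N₂ : Subgroup G, N₂ = Nf ⟨2, h2⟩ := ⟨_, rfl⟩
  obtain ⟨hN₂n, hN₂c, ⟨k₂, hN₂i⟩, _⟩ := hNf ⟨2, h2⟩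
  rw [← hN₂] at hN₂n hN₂c hN₂i
  haveI := hN₂n
  refine ⟨H ⊓ N₂, ⟨?_, ?_⟩, ?_⟩
  · intro s hs hsd
    constructor
    · have h1 : Nat.card ↥(H ⊓ N₂) ∣ Nat.card ↥H := Subgroup.card_dvd_of_le inf_le_left
      have h3 := hsd.trans h1
      rw [← hH.symm.index_eq_card] at h3
      exact Finset.mem_coe.mpr (hidx s hs h3)
    · intro hs2
      rw [Set.mem_singleton_iff] at hs2
      have h1 : Nat.card ↥(H ⊓ N₂) ∣ Nat.card ↥N₂ := Subgroup.card_dvd_of_le inf_le_right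
      have h3 : 2 ∣ Nat.gcd (Nat.card ↥N₂) 2 := Nat.dvd_gcd (hs2 ▸ hsd.trans h1) dvd_rfl
      rw [hN₂c] at h3
      exact absurd (Nat.dvd_one.mp h3) (by norm_num)
  · intro s hs hsπ hsd
    obtain ⟨hsπ1, hsπ2⟩ := hsπ
    rw [Set.mem_singleton_iff] at hsπ2
    have e1 : (H ⊓ N₂).index = (H ⊓ N₂).relIndex H * H.index :=
      (Subgroup.relIndex_mul_index inf_le_left).symm
    have e2 : (H ⊓ N₂).relIndex H = N₂.relIndex H := Subgroup.inf_relIndex_left H N₂
    have e3 : N₂.relIndex H ∣ N₂.index := Subgroup.relIndex_dvd_index_of_normal N₂ H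
    rw [e1, e2] at hsd
    rcases (Nat.Prime.dvd_mul hs).mp hsd with h | h
    · have h3 := h.trans e3
      rw [hN₂i] at h3
      exact hsπ2 ((Nat.prime_dvd_prime_iff_eq hs Nat.prime_two).mp (hs.dvd_of_dvd_pow h3))
    · rw [hH.index_eq_card] at h
      exact hcard s hs h (Finset.mem_coe.mp hsπ1)
  · refine ⟨⟨fun a b => ?_⟩⟩
    apply Subtype.ext
    have haH : (a : G) ∈ H := (Subgroup.mem_inf.mp a.2).1
    have hbH : (b : G) ∈ H := (Subgroup.mem_inf.mp b.2).1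
    have haN : (a : G) ∈ N₂ := (Subgroup.mem_inf.mp a.2).2
    have hbN : (b : G) ∈ N₂ := (Subgroup.mem_inf.mp b.2).2
    have h1 : (a : G) * (b : G) * (a : G)⁻¹ * (b : G)⁻¹ ∈ N := by
      rw [hNdef, Subgroup.mem_iInf]
      intro r
      by_cases hr2 : r.1 = 2
      · have e : r = ⟨2, h2⟩ := Subtype.ext hr2
        rw [e, ← hN₂]
        exact N₂.mul_mem (N₂.mul_mem (N₂.mul_mem haN hbN) (N₂.inv_mem haN)) (N₂.inv_mem hbN)
      · exact (hNf r).2.2.2 hr2 a b
    have h2 : (a : G) * (b : G) * (a : G)⁻¹ * (b : G)⁻¹ ∈ H :=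
      H.mul_mem (H.mul_mem (H.mul_mem haH hbH) (H.inv_mem haH)) (H.inv_mem hbH)
    have h3 := Subgroup.disjoint_def.mp hH.disjoint h1 h2
    show (a : G) * (b : G) = (b : G) * (a : G)
    have e : (a : G) * (b : G) =
        ((a : G) * (b : G) * (a : G)⁻¹ * (b : G)⁻¹) * ((b : G) * (a : G)) := by
      group
    rw [e, h3, one_mul]

end Cfsg.Agent.Lib.Helper17.Kpi
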