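import Mathlib

set_option autoImplicit false

/-!
# Strict descent of the lower central series; cyclic abelianization
-/

namespace Cfsg.Agent.Lib.Helper17

open scoped commutatorElement


section LCS

variable {G : Type*} [Group G]

/-- In a nilpotent group a subgroup `H` with `⁅H, ⊤⁆ = H` is trivial. -/
theorem eq_bot_of_commutator_top_eq_self [hG : Group.IsNilpotent G] (H : Subgroup G)
    (h : ⁅H, (⊤ : Subgroup G)⁆ = H) : H = ⊥ := by
  have hle : ∀ n, H ≤ Subgroup.lowerCentralSeries (⊤ : Subgroup G) n := by
    intro n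
    induction n with
    | zero => exact le_top
    | succ n ih =>
      rw [Subgroup.lowerCentralSeries_succ]
      calc H = ⁅H, (⊤ : Subgroup G)⁆ := h.symm
        _ ≤ ⁅Subgroup.lowerCentralSeries (⊤ : Subgroup G) n, (⊤ : Subgroup G)⁆ :=
          Subgroup.commutator_mono ih le_rfl
  have := hle (Group.nilpotencyClass G)
  rw [Subgroup.lowerCentralSeries_nilpotencyClass] at this
  exact le_bot_iff.mp this

/-- The lower central series of a nilpotent group descends strictly until it reaches `⊥`. -/
theorem lowerCentralSeries_succ_lt [hG : Group.IsNilpotent G] (n : ℕ)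
    (hne : Subgroup.lowerCentralSeries (⊤ : Subgroup G) n ≠ ⊥) :
    Subgroup.lowerCentralSeries (⊤ : Subgroup G) (n + 1) < Subgroup.lowerCentralSeries (⊤ : Subgroup G) n := by
  apply lt_of_le_of_ne (Subgroup.lowerCentralSeries_antitone _ (Nat.le_succ n))
  intro h
  apply hne
  apply eq_bot_of_commutator_top_eq_self
  rw [← Subgroup.lowerCentralSeries_succ]
  exact h

/-- A nilpotent group with cyclic abelianization is abelian. -/
theorem commutator_eq_bot_of_isCyclic_quotient [hG : Group.IsNilpotent G]
    [hc : IsCyclic (G ⧸ commutator G)] : commutator G = ⊥ := by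
  by_contra hne
  set K : Subgroup G := Subgroup.lowerCentralSeries (⊤ : Subgroup G) 2 with hK
  have hK' : K = ⁅commutator G, (⊤ : Subgroup G)⁆ := rfl
  have hKle : K ≤ commutator G := by
    have := Subgroup.lowerCentralSeries_antitone (⊤ : Subgroup G) (show 1 ≤ 2 by norm_num)
    exact this
  have hle : K ≤ (commutator G).comap (MonoidHom.id G) := by
    intro x hx
    exact hKle hx
  let g : G ⧸ K →* G ⧸ commutator G := QuotientGroup.map K (commutator G) (MonoidHom.id G) hle
  have hker : g.ker ≤ Subgroup.center (G ⧸ K) := by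
    intro q hq
    obtain ⟨a, rfl⟩ := QuotientGroup.mk_surjective q
    rw [MonoidHom.mem_ker] at hq
    have ha : a ∈ commutator G := by
      have : ((a : G) : G ⧸ commutator G) = 1 := hq
      exact (QuotientGroup.eq_one_iff a).mp this
    rw [Subgroup.mem_center_iff]
    intro r
    obtain ⟨b, rfl⟩ := QuotientGroup.mk_surjective r
    have hab : ⁅a, b⁆ ∈ K := by
      rw [hK']
      exact Subgroup.commutator_mem_commutator ha (Subgroup.mem_top b)
    have h1 : ((⁅a, b⁆ : G) : G ⧸ K) = 1 := (QuotientGroup.eq_one_iff _).mpr hab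
    rw [commutatorElement_def] at h1
    have h2 : (a : G ⧸ K) * (b : G ⧸ K) * (a : G ⧸ K)⁻¹ * (b : G ⧸ K)⁻¹ = 1 := by
      simpa using h1
    have h3 : (a : G ⧸ K) * (b : G ⧸ K) = (b : G ⧸ K) * (a : G ⧸ K) := by
      have := commutatorElement_eq_one_iff_mul_comm.mp
        (show ⁅(a : G ⧸ K), (b : G ⧸ K)⁆ = 1 by rw [commutatorElement_def]; exact h2)
      exact this
    exact h3.symm
  have hcomm : ∀ x y : G ⧸ K, x * y = y * x :=
    commutative_of_cyclic_center_quotient g hker
  have hle2 : commutator G ≤ K := by
    rw [commutator_def, Subgroup.commutator_le]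
    intro a _ b _
    rw [← QuotientGroup.eq_one_iff, commutatorElement_def]
    have := hcomm (a : G ⧸ K) (b : G ⧸ K)
    simp only [QuotientGroup.mk_mul, QuotientGroup.mk_inv]
    rw [this]
    group
  have hlt := lowerCentralSeries_succ_lt (G := G) 1 hne
  exact absurd hle2 (not_le_of_gt hlt)

end LCS

end Cfsg.Agent.Lib.Helper17
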