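import Cfsg.Agent.Lib.Helper17.NatSL2

set_option autoImplicit false

namespace Cfsg.Agent.Lib.Helper17

open Cfsg Matrix

/-- normalized data of a faithful natural `SL₂(F)`-module -/
structure NatData (F : Type*) [Field F] {G : Type*} [Group G] (V L : Subgroup G) where
  ρ : L →* Matrix.SpecialLinearGroup (Fin 2) F
  ψ : Additive V ≃+ (Fin 2 → F)
  surj : Function.Surjective ρ
  inj : Function.Injective ρ
  norm : L ≤ Subgroup.normalizer (V : Set G)
  conj : ∀ (l : L) (v w : V), (w : G) = (l : G) * (v : G) * (l : G)⁻¹ →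
      ψ (Additive.ofMul w) =
        ((ρ l : Matrix.SpecialLinearGroup (Fin 2) F) : Matrix (Fin 2) (Fin 2) F) *ᵥ
          (ψ (Additive.ofMul v))

section ofnat

variable {F : Type*} [Field F] {G : Type*} [Group G] {V L : Subgroup G}

theorem NatData.nonempty_of_isNatural (hnat : IsNaturalSL2Module F V L)
    (hf : L ⊓ Subgroup.centralizer (V : Set G) = ⊥) : Nonempty (NatData F V L) := by
  obtain ⟨hn, ρ, ψ, hsurj, hker, hconj⟩ := hnat
  refine ⟨⟨ρ, ψ, hsurj, ?_, hn, ?_⟩⟩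
  · rw [← MonoidHom.ker_eq_bot_iff, hker, eq_bot_iff]
    intro l hl
    rw [Subgroup.mem_subgroupOf] at hl
    have : (l : G) ∈ L ⊓ Subgroup.centralizer (V : Set G) := ⟨l.2, hl⟩
    rw [hf, Subgroup.mem_bot] at this
    rw [Subgroup.mem_bot]
    exact Subtype.ext this
  · intro l v w hw
    obtain ⟨w', hw', h⟩ := hconj l v
    have : w = w' := Subtype.ext (hw.trans hw'.symm)
    rw [this]
    exact h

end ofnat

section twist

variable {F : Type*} [Field F] {G : Type*} [Group G] {V L : Subgroup G}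

/-- multiplication by an element of `SL₂(F)` as an additive equivalence -/
def mulVecAddEquiv (g : Matrix.SpecialLinearGroup (Fin 2) F) : (Fin 2 → F) ≃+ (Fin 2 → F) where
  toFun x := (g : Matrix (Fin 2) (Fin 2) F) *ᵥ x
  invFun x := ((g⁻¹ : Matrix.SpecialLinearGroup (Fin 2) F) : Matrix (Fin 2) (Fin 2) F) *ᵥ x
  left_inv x := by
    have hinv : ((g⁻¹ : Matrix.SpecialLinearGroup (Fin 2) F) : Matrix (Fin 2) (Fin 2) F) *
        (g : Matrix (Fin 2) (Fin 2) F) = 1 :=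
      congrArg (fun y : Matrix.SpecialLinearGroup (Fin 2) F =>
        (y : Matrix (Fin 2) (Fin 2) F)) (inv_mul_cancel g)
    show ((g⁻¹ : Matrix.SpecialLinearGroup (Fin 2) F) : Matrix (Fin 2) (Fin 2) F) *ᵥ
      ((g : Matrix (Fin 2) (Fin 2) F) *ᵥ x) = x
    rw [Matrix.mulVec_mulVec, hinv, Matrix.one_mulVec]
  right_inv x := by
    have hinv : (g : Matrix (Fin 2) (Fin 2) F) *
        ((g⁻¹ : Matrix.SpecialLinearGroup (Fin 2) F) : Matrix (Fin 2) (Fin 2) F) = 1 :=
      congrArg (fun y : Matrix.SpecialLinearGroup (Fin 2) F =>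
        (y : Matrix (Fin 2) (Fin 2) F)) (mul_inv_cancel g)
    show (g : Matrix (Fin 2) (Fin 2) F) *ᵥ
      (((g⁻¹ : Matrix.SpecialLinearGroup (Fin 2) F) : Matrix (Fin 2) (Fin 2) F) *ᵥ x) = x
    rw [Matrix.mulVec_mulVec, hinv, Matrix.one_mulVec]
  map_add' x y := Matrix.mulVec_add _ x y

theorem mulVecAddEquiv_apply (g : Matrix.SpecialLinearGroup (Fin 2) F) (x : Fin 2 → F) :
    mulVecAddEquiv g x = (g : Matrix (Fin 2) (Fin 2) F) *ᵥ x := rfl

/-- change of coordinates by `g`: `ρ' = g⁻¹ ρ g`, `ψ' = g⁻¹ ψ` -/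
def NatData.twist (D : NatData F V L) (g : Matrix.SpecialLinearGroup (Fin 2) F) : NatData F V L where
  ρ := (MulAut.conj g⁻¹).toMonoidHom.comp D.ρ
  ψ := D.ψ.trans (mulVecAddEquiv g⁻¹)
  surj := (MulAut.conj g⁻¹).surjective.comp D.surj
  inj := (MulAut.conj g⁻¹).injective.comp D.inj
  norm := D.norm
  conj l v w hw := by
    have h := D.conj l v w hw
    show mulVecAddEquiv g⁻¹ (D.ψ (Additive.ofMul w)) =
      ((g⁻¹ * D.ρ l * g⁻¹⁻¹ : Matrix.SpecialLinearGroup (Fin 2) F) : Matrix (Fin 2) (Fin 2) F) *ᵥ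
        (mulVecAddEquiv g⁻¹ (D.ψ (Additive.ofMul v)))
    rw [mulVecAddEquiv_apply, mulVecAddEquiv_apply, h, inv_inv]
    have hinv : (g : Matrix (Fin 2) (Fin 2) F) *
        ((g⁻¹ : Matrix.SpecialLinearGroup (Fin 2) F) : Matrix (Fin 2) (Fin 2) F) = 1 :=
      congrArg (fun y : Matrix.SpecialLinearGroup (Fin 2) F =>
        (y : Matrix (Fin 2) (Fin 2) F)) (mul_inv_cancel g)
    show _ = (((g⁻¹ : Matrix.SpecialLinearGroup (Fin 2) F) : Matrix (Fin 2) (Fin 2) F) *
      (D.ρ l : Matrix (Fin 2) (Fin 2) F) * (g : Matrix (Fin 2) (Fin 2) F)) *ᵥ _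
    rw [Matrix.mulVec_mulVec, Matrix.mulVec_mulVec, Matrix.mul_assoc, Matrix.mul_assoc, hinv,
      Matrix.mul_one]

theorem NatData.twist_ρ (D : NatData F V L) (g : Matrix.SpecialLinearGroup (Fin 2) F) (l : L) :
    (D.twist g).ρ l = g⁻¹ * D.ρ l * g := by
  show g⁻¹ * D.ρ l * g⁻¹⁻¹ = _
  rw [inv_inv]

end twist

section normalize

variable {F : Type*} [Field F] [Finite F] {G : Type*} [Group G] {V L : Subgroup G}
  {p : ℕ} [Fact p.Prime] [CharP F p]

/-- data can be chosen so that a given Sylow `p`-subgroup corresponds to the unitriangular group -/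
theorem NatData.exists_normalized (D : NatData F V L) (S : Sylow p L) :
    ∃ D' : NatData F V L, ∀ l : L, l ∈ S ↔ D'.ρ l ∈ unipSub (F := F) := by
  let e : L ≃* Matrix.SpecialLinearGroup (Fin 2) F := MulEquiv.ofBijective D.ρ ⟨D.inj, D.surj⟩
  have he : ∀ l, e l = D.ρ l := fun l => rfl
  let P : Sylow p (Matrix.SpecialLinearGroup (Fin 2) F) :=
    S.comapOfInjective e.symm.toMonoidHom e.symm.injective (by
      intro x _
      exact ⟨e x, e.symm_apply_apply x⟩)
  have hP : ∀ x, x ∈ P ↔ e.symm x ∈ S := fun x => Iff.rfl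
  obtain ⟨g, hg⟩ := sylow_sl2_conj_unip P
  refine ⟨D.twist g, fun l => ?_⟩
  rw [NatData.twist_ρ, ← hg, hP, ← he, e.symm_apply_apply]

end normalize

namespace NatData

section api

variable {F : Type*} [Field F] {G : Type*} [Group G] {V L : Subgroup G} (D : NatData F V L)

/-- coordinates of an element of `V` -/
def c (v : V) : Fin 2 → F := D.ψ (Additive.ofMul v)

theorem c_mul (v w : V) : D.c (v * w) = D.c v + D.c w := D.ψ.map_add _ _

theorem c_one : D.c 1 = 0 := D.ψ.map_zero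

theorem c_inv (v : V) : D.c v⁻¹ = - D.c v := D.ψ.map_neg _

theorem c_injective : Function.Injective D.c := fun _ _ h => D.ψ.injective h

/-- element of `V` with given coordinates -/
def vEl (x : Fin 2 → F) : V := Additive.toMul (D.ψ.symm x)

theorem c_vEl (x : Fin 2 → F) : D.c (D.vEl x) = x := D.ψ.apply_symm_apply x

theorem vEl_c (v : V) : D.vEl (D.c v) = v := D.ψ.symm_apply_apply _

/-- the conjugation action of `L` on `V` -/
def act (l : L) (v : V) : V :=
  ⟨(l : G) * (v : G) * (l : G)⁻¹, by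
    have := D.norm l.2
    rw [Subgroup.mem_normalizer_iff] at this
    exact (this v).1 v.2⟩

theorem coe_act (l : L) (v : V) : (D.act l v : G) = (l : G) * (v : G) * (l : G)⁻¹ := rfl

theorem c_act (l : L) (v : V) :
    D.c (D.act l v) = (D.ρ l : Matrix (Fin 2) (Fin 2) F) *ᵥ D.c v := D.conj l v _ rfl

/-- a preimage of a matrix -/
noncomputable def lift (M : Matrix.SpecialLinearGroup (Fin 2) F) : L := (D.surj M).choose

theorem ρ_lift (M : Matrix.SpecialLinearGroup (Fin 2) F) : D.ρ (D.lift M) = M :=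
  (D.surj M).choose_spec

theorem comm_iff (l : L) (v : V) :
    (l : G) * (v : G) = (v : G) * (l : G) ↔
      (D.ρ l : Matrix (Fin 2) (Fin 2) F) *ᵥ D.c v = D.c v := by
  rw [← D.c_act]
  constructor
  · intro h
    congr 1
    apply Subtype.ext
    rw [coe_act, h, mul_inv_cancel_right]
  · intro h
    have h1 := congrArg Subtype.val (D.c_injective h)
    rw [coe_act] at h1
    calc (l : G) * (v : G) = (l : G) * (v : G) * (l : G)⁻¹ * (l : G) := by group
      _ = (v : G) * (l : G) := by rw [h1]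

theorem comm_elem (l : L) (v : V) : ∃ w : V, (w : G) = (v : G) * (l : G) * (v : G)⁻¹ * (l : G)⁻¹ ∧
    D.c w = D.c v - (D.ρ l : Matrix (Fin 2) (Fin 2) F) *ᵥ D.c v := by
  refine ⟨v * (D.act l v)⁻¹, ?_, ?_⟩
  · rw [Subgroup.coe_mul, Subgroup.coe_inv, coe_act]
    group
  · rw [c_mul, c_inv, c_act, sub_eq_add_neg]

theorem unipEl_mulVec (a : F) (x : Fin 2 → F) :
    (unipEl a : Matrix (Fin 2) (Fin 2) F) *ᵥ x = ![x 0 + a * x 1, x 1] := by
  rw [unipEl_coe]
  ext i
  fin_cases i <;> simp [Matrix.mulVec, dotProduct, Fin.sum_univ_two]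

/-- the fixed line `C_V(T)` in coordinates -/
def V1 : Subgroup G :=
  ({ carrier := {v : V | D.c v 1 = 0}
     one_mem' := by
       show D.c 1 1 = 0
       rw [c_one]; rfl
     mul_mem' := by
       intro v w hv hw
       show D.c (v * w) 1 = 0
       rw [c_mul, Pi.add_apply, hv, hw, add_zero]
     inv_mem' := by
       intro v hv
       show D.c v⁻¹ 1 = 0
       rw [c_inv, Pi.neg_apply, hv, neg_zero] } : Subgroup V).map V.subtype

theorem mem_V1 {g : G} : g ∈ D.V1 ↔ ∃ v : V, D.c v 1 = 0 ∧ (v : G) = g := Iff.rfl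

theorem V1_le : D.V1 ≤ V := by
  rintro g ⟨v, -, rfl⟩
  exact v.2

theorem coe_mem_V1 {v : V} : (v : G) ∈ D.V1 ↔ D.c v 1 = 0 := by
  constructor
  · rintro ⟨w, hw, h⟩
    rw [← Subtype.ext h]
    exact hw
  · intro h
    exact ⟨v, h, rfl⟩

theorem comm_unip_iff (l : L) (a : F) (hl : D.ρ l = unipEl a) (v : V) :
    (l : G) * (v : G) = (v : G) * (l : G) ↔ a * D.c v 1 = 0 := by
  rw [D.comm_iff, hl, unipEl_mulVec]
  constructor
  · intro h
    have := congrFun h 0
    simpa using this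
  · intro h
    ext i
    fin_cases i
    · simp [h]
    · simp

theorem comm_elem_unip (l : L) (a : F) (hl : D.ρ l = unipEl a) (v : V) :
    ∃ w : V, (w : G) = (v : G) * (l : G) * (v : G)⁻¹ * (l : G)⁻¹ ∧
      D.c w = ![-(a * D.c v 1), 0] := by
  obtain ⟨w, hw, hc⟩ := D.comm_elem l v
  refine ⟨w, hw, ?_⟩
  rw [hc, hl, unipEl_mulVec]
  ext i
  fin_cases i
  · simp
  · simp

end api

end NatData

namespace NatData

section main79

variable {F : Type*} [Field F] {G : Type*} [Group G] {V L : Subgroup G} (D : NatData F V L)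
  (T : Subgroup G)

/-- `T` corresponds to the unitriangular subgroup -/
def IsUnip : Prop := ∀ t : G, t ∈ T ↔ ∃ l : L, D.ρ l ∈ unipSub (F := F) ∧ (l : G) = t

variable {D T}

theorem IsUnip.exists_unipEl (hT : D.IsUnip T) {t : G} (ht : t ∈ T) :
    ∃ (l : L) (a : F), (l : G) = t ∧ D.ρ l = unipEl a := by
  obtain ⟨l, hl, rfl⟩ := (hT t).1 ht
  obtain ⟨a, ha⟩ := mem_unipSub.1 hl
  exact ⟨l, a, rfl, ha⟩

theorem IsUnip.lift_mem (hT : D.IsUnip T) (a : F) : (D.lift (unipEl a) : G) ∈ T :=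
  (hT _).2 ⟨D.lift (unipEl a), by rw [D.ρ_lift]; exact unipEl_mem a, rfl⟩

theorem IsUnip.ne_zero_of_ne_one (hT : D.IsUnip T) {l : L} {a : F} (hl : D.ρ l = unipEl a)
    (hne : (l : G) ≠ 1) : a ≠ 0 := by
  rintro rfl
  apply hne
  rw [unipEl_zero, ← map_one D.ρ] at hl
  rw [D.inj hl]
  rfl

theorem IsUnip.inf_centralizer (hT : D.IsUnip T) :
    V ⊓ Subgroup.centralizer (T : Set G) = D.V1 := by
  ext g
  rw [Subgroup.mem_inf, Subgroup.mem_centralizer_iff]
  constructor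
  · rintro ⟨hgV, hg⟩
    have h1 := hg _ (hT.lift_mem 1)
    have := (D.comm_unip_iff (D.lift (unipEl 1)) 1 (D.ρ_lift _) ⟨g, hgV⟩).1 h1
    rw [one_mul] at this
    exact D.mem_V1.2 ⟨⟨g, hgV⟩, this, rfl⟩
  · intro hg
    obtain ⟨v, hv, rfl⟩ := D.mem_V1.1 hg
    refine ⟨v.2, ?_⟩
    intro t ht
    obtain ⟨l, a, rfl, hl⟩ := hT.exists_unipEl ht
    rw [D.comm_unip_iff l a hl v, hv, mul_zero]

theorem IsUnip.inf_centralizer_singleton (hT : D.IsUnip T) {s : G} (hs : s ∈ T) (hs1 : s ≠ 1) :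
    V ⊓ Subgroup.centralizer ({s} : Set G) = D.V1 := by
  obtain ⟨l, a, rfl, hl⟩ := hT.exists_unipEl hs
  have ha := hT.ne_zero_of_ne_one hl hs1
  ext g
  rw [Subgroup.mem_inf, Subgroup.mem_centralizer_iff]
  constructor
  · rintro ⟨hgV, hg⟩
    have h1 := hg _ (Set.mem_singleton _)
    have := (D.comm_unip_iff l a hl ⟨g, hgV⟩).1 h1
    rcases mul_eq_zero.1 this with h | h
    · exact absurd h ha
    · exact D.mem_V1.2 ⟨⟨g, hgV⟩, h, rfl⟩
  · intro hg
    obtain ⟨v, hv, rfl⟩ := D.mem_V1.1 hg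
    refine ⟨v.2, ?_⟩
    intro t ht
    rw [Set.mem_singleton_iff] at ht
    rw [ht, D.comm_unip_iff l a hl v, hv, mul_zero]

theorem IsUnip.comm_mem_V1 (hT : D.IsUnip T) {v t : G} (hv : v ∈ V) (ht : t ∈ T) :
    v * t * v⁻¹ * t⁻¹ ∈ D.V1 := by
  obtain ⟨l, a, rfl, hl⟩ := hT.exists_unipEl ht
  obtain ⟨w, hw, hc⟩ := D.comm_elem_unip l a hl ⟨v, hv⟩
  refine D.mem_V1.2 ⟨w, ?_, hw⟩
  rw [hc]
  rfl

theorem IsUnip.commutator_le (hT : D.IsUnip T) : ⁅V, T⁆ ≤ D.V1 := by
  rw [Subgroup.commutator_le]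
  intro v hv t ht
  exact hT.comm_mem_V1 hv ht

theorem IsUnip.V1_le_centralizer (hT : D.IsUnip T) : D.V1 ≤ Subgroup.centralizer (T : Set G) := by
  rw [← hT.inf_centralizer]
  exact inf_le_right

theorem IsUnip.commutator_commutator (hT : D.IsUnip T) : ⁅⁅V, T⁆, T⁆ = ⊥ := by
  rw [Subgroup.commutator_eq_bot_iff_le_centralizer]
  exact hT.commutator_le.trans hT.V1_le_centralizer

/-- every element of `V₁` is a commutator `[v, s]` for `s ∈ T` nontrivial -/
theorem IsUnip.exists_comm_eq (hT : D.IsUnip T) {l : L} {a : F} (hl : D.ρ l = unipEl a)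
    (ha : a ≠ 0) {w : G} (hw : w ∈ D.V1) :
    ∃ v : V, w = (v : G) * (l : G) * (v : G)⁻¹ * (l : G)⁻¹ := by
  obtain ⟨w', hw', rfl⟩ := D.mem_V1.1 hw
  refine ⟨D.vEl ![0, -(D.c w' 0) / a], ?_⟩
  obtain ⟨u, hu, hc⟩ := D.comm_elem_unip l a hl (D.vEl ![0, -(D.c w' 0) / a])
  rw [← hu]
  congr 1
  apply D.c_injective
  rw [hc, D.c_vEl]
  ext i
  fin_cases i
  · simp
    field_simp
  · simpa using hw'

theorem IsUnip.V1_le_commutator_zpowers (hT : D.IsUnip T) {s : G} (hs : s ∈ T) (hs1 : s ≠ 1) :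
    D.V1 ≤ ⁅V, Subgroup.zpowers s⁆ := by
  obtain ⟨l, a, rfl, hl⟩ := hT.exists_unipEl hs
  have ha := hT.ne_zero_of_ne_one hl hs1
  intro w hw
  obtain ⟨v, rfl⟩ := hT.exists_comm_eq hl ha hw
  exact Subgroup.commutator_mem_commutator v.2 (Subgroup.mem_zpowers _)

theorem IsUnip.closure_comm (hT : D.IsUnip T) {v : G} (hv : v ∈ V)
    (hvT : v ∉ Subgroup.centralizer (T : Set G)) :
    Subgroup.closure {x : G | ∃ t ∈ T, x = v * t * v⁻¹ * t⁻¹} = D.V1 := by
  apply le_antisymm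
  · rw [Subgroup.closure_le]
    rintro x ⟨t, ht, rfl⟩
    exact hT.comm_mem_V1 hv ht
  · have hv1 : D.c ⟨v, hv⟩ 1 ≠ 0 := by
      intro h
      apply hvT
      apply hT.V1_le_centralizer
      exact D.mem_V1.2 ⟨⟨v, hv⟩, h, rfl⟩
    intro w hw
    obtain ⟨w', hw', rfl⟩ := D.mem_V1.1 hw
    apply Subgroup.subset_closure
    refine ⟨(D.lift (unipEl (-(D.c w' 0) / D.c ⟨v, hv⟩ 1)) : G), hT.lift_mem _, ?_⟩
    obtain ⟨u, hu, hc⟩ := D.comm_elem_unip (D.lift (unipEl (-(D.c w' 0) / D.c ⟨v, hv⟩ 1))) _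
      (D.ρ_lift _) ⟨v, hv⟩
    rw [← hu]
    congr 1
    apply D.c_injective
    rw [hc]
    ext i
    fin_cases i
    · simp
      field_simp
    · simpa using hw'

theorem card_V [Finite F] (D : NatData F V L) : Nat.card V = Nat.card F ^ 2 := by
  have h1 : Nat.card V = Nat.card (Fin 2 → F) := Nat.card_congr D.ψ.toEquiv
  rw [h1, Nat.card_fun, Nat.card_fin]

theorem card_V1 (D : NatData F V L) : Nat.card D.V1 = Nat.card F := by
  symm
  apply Nat.card_congr
  refine Equiv.ofBijective (fun x : F => (⟨(D.vEl ![x, 0] : G), D.mem_V1.2 ⟨D.vEl ![x, 0], by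
    rw [D.c_vEl]; rfl, rfl⟩⟩ : D.V1)) ⟨?_, ?_⟩
  · intro x y h
    have h1 : (D.vEl ![x, 0] : G) = (D.vEl ![y, 0] : G) := congrArg (fun z : D.V1 => (z : G)) h
    have h2 := congrArg D.c (Subtype.ext h1)
    rw [D.c_vEl, D.c_vEl] at h2
    have := congrFun h2 0
    simpa using this
  · rintro ⟨w, hw⟩
    obtain ⟨w', hw', rfl⟩ := D.mem_V1.1 hw
    refine ⟨D.c w' 0, ?_⟩
    apply Subtype.ext
    show (D.vEl ![D.c w' 0, 0] : G) = (w' : G)
    congr 1
    apply D.c_injective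
    rw [D.c_vEl]
    ext i
    fin_cases i
    · rfl
    · exact hw'.symm

end main79

end NatData

section result79

theorem natmod_result_79 {G : Type*} [Group G] [Finite G] {p : ℕ} [Fact p.Prime] {F : Type*}
    [Field F] [Fintype F] (n : ℕ) (hF : Fintype.card F = p ^ n) (V L : Subgroup G)
    (hnat : Cfsg.IsNaturalSL2Module F V L)
    (hf : L ⊓ Subgroup.centralizer (V : Set G) = ⊥) (S : Sylow p ↥L) (T : Subgroup G)
    (hT : T = ((S : Subgroup ↥L).map L.subtype)) :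
    ⁅⁅V, T⁆, T⁆ = ⊥ ∧ Nat.card V = p ^ (2 * n) ∧
    Nat.card ↥(V ⊓ Subgroup.centralizer ((T : Subgroup G) : Set G)) = p ^ n ∧
    ∀ s ∈ T, s ≠ 1 →
      (V ⊓ Subgroup.centralizer ({s} : Set G)) =
        (V ⊓ Subgroup.centralizer ((T : Subgroup G) : Set G)) ∧
      ⁅V, T⁆ = (V ⊓ Subgroup.centralizer ((T : Subgroup G) : Set G)) ∧
      ⁅V, Subgroup.zpowers s⁆ = (V ⊓ Subgroup.centralizer ((T : Subgroup G) : Set G)) ∧
      ∀ v ∈ V, v ∉ Subgroup.centralizer (T : Set G) →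
        Subgroup.closure {x : G | ∃ t ∈ T, x = v * t * v⁻¹ * t⁻¹} =
          (V ⊓ Subgroup.centralizer ((T : Subgroup G) : Set G)) := by
  haveI : CharP F p := charP_of_card_eq_prime_pow hF
  obtain ⟨D₀⟩ := NatData.nonempty_of_isNatural hnat hf
  obtain ⟨D, hD⟩ := D₀.exists_normalized S
  have hU : D.IsUnip T := by
    intro t
    rw [hT]
    constructor
    · rintro ⟨l, hl, rfl⟩
      exact ⟨l, (hD l).1 hl, rfl⟩
    · rintro ⟨l, hl, rfl⟩
      exact ⟨l, (hD l).2 hl, rfl⟩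
  have hcF : Nat.card F = p ^ n := by rw [Nat.card_eq_fintype_card, hF]
  have hC := hU.inf_centralizer
  refine ⟨hU.commutator_commutator, ?_, ?_, ?_⟩
  · rw [D.card_V, hcF, ← pow_mul, mul_comm]
  · rw [hC, D.card_V1, hcF]
  · intro s hs hs1
    rw [hC]
    have h3 : ⁅V, Subgroup.zpowers s⁆ = D.V1 := by
      apply le_antisymm
      · refine le_trans (Subgroup.commutator_mono le_rfl ?_) hU.commutator_le
        rw [Subgroup.zpowers_le]
        exact hs
      · exact hU.V1_le_commutator_zpowers hs hs1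
    refine ⟨hU.inf_centralizer_singleton hs hs1, ?_, h3, ?_⟩
    · apply le_antisymm hU.commutator_le
      rw [← h3]
      apply Subgroup.commutator_mono le_rfl
      rw [Subgroup.zpowers_le]
      exact hs
    · intro v hv hvT
      exact hU.closure_comm hv hvT

end result79

end Cfsg.Agent.Lib.Helper17
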