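import Cfsg.Agent.Lib.Helper17.NatMod

set_option autoImplicit false

namespace Cfsg.Agent.Lib.Helper17

open Cfsg Matrix

section sl2more

variable {F : Type*} [Field F]

theorem sl2_inv_apply (M : Matrix.SpecialLinearGroup (Fin 2) F) :
    ((M⁻¹ : Matrix.SpecialLinearGroup (Fin 2) F) : Matrix (Fin 2) (Fin 2) F) =
      !![(M : Matrix (Fin 2) (Fin 2) F) 1 1, -(M : Matrix (Fin 2) (Fin 2) F) 0 1;
         -(M : Matrix (Fin 2) (Fin 2) F) 1 0, (M : Matrix (Fin 2) (Fin 2) F) 0 0] := by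
  rw [Matrix.SpecialLinearGroup.coe_inv, Matrix.adjugate_fin_two]

/-- an upper triangular element normalizes the unitriangular subgroup -/
theorem upper_conj_unip (M : Matrix.SpecialLinearGroup (Fin 2) F)
    (h10 : (M : Matrix (Fin 2) (Fin 2) F) 1 0 = 0) (a : F) :
    M * unipEl a * M⁻¹ ∈ unipSub (F := F) := by
  have hdet := sl2_det_eq M
  rw [h10] at hdet
  rw [mem_unipSub_iff]
  have e : ((M * unipEl a * M⁻¹ : Matrix.SpecialLinearGroup (Fin 2) F) :
      Matrix (Fin 2) (Fin 2) F) = (M : Matrix (Fin 2) (Fin 2) F) * !![1, a; 0, 1] *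
      !![(M : Matrix (Fin 2) (Fin 2) F) 1 1, -(M : Matrix (Fin 2) (Fin 2) F) 0 1;
         -(M : Matrix (Fin 2) (Fin 2) F) 1 0, (M : Matrix (Fin 2) (Fin 2) F) 0 0] := by
    rw [← sl2_inv_apply, ← unipEl_coe]
    rfl
  rw [e]
  constructor
  · simp [Matrix.mul_apply, Fin.sum_univ_two, h10]
    linear_combination hdet
  · simp [Matrix.mul_apply, Fin.sum_univ_two, h10]

/-- torus element -/
def torEl (a : F) (ha : a ≠ 0) : Matrix.SpecialLinearGroup (Fin 2) F :=
  ⟨!![a, 0; 0, a⁻¹], by rw [Matrix.det_fin_two_of]; field_simp; ring⟩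

theorem torEl_coe (a : F) (ha : a ≠ 0) :
    (torEl a ha : Matrix (Fin 2) (Fin 2) F) = !![a, 0; 0, a⁻¹] := rfl

theorem torEl_mulVec (a : F) (ha : a ≠ 0) (x : Fin 2 → F) :
    (torEl a ha : Matrix (Fin 2) (Fin 2) F) *ᵥ x = ![a * x 0, a⁻¹ * x 1] := by
  rw [torEl_coe]
  ext i
  fin_cases i <;> simp [Matrix.mulVec, dotProduct, Fin.sum_univ_two]

/-- an element fixing a nonzero vector is conjugate into the unitriangular subgroup -/
theorem conj_mem_unipSub_of_fixed (x : Matrix.SpecialLinearGroup (Fin 2) F) (w : Fin 2 → F)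
    (hw0 : w ≠ 0) (hx : (x : Matrix (Fin 2) (Fin 2) F) *ᵥ w = w) :
    ∃ g : Matrix.SpecialLinearGroup (Fin 2) F, g⁻¹ * x * g ∈ unipSub (F := F) := by
  obtain ⟨g, hg0, hg1⟩ := exists_sl2_first_col w hw0
  have hge : (g : Matrix (Fin 2) (Fin 2) F) *ᵥ ![1, 0] = w := by
    rw [mulVec_e1]
    ext i
    fin_cases i
    · exact hg0
    · exact hg1
  refine ⟨g, ?_⟩
  have hinv : ((g⁻¹ : Matrix.SpecialLinearGroup (Fin 2) F) : Matrix (Fin 2) (Fin 2) F) *
      (g : Matrix (Fin 2) (Fin 2) F) = 1 := by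
    have := congrArg (fun y : Matrix.SpecialLinearGroup (Fin 2) F =>
      (y : Matrix (Fin 2) (Fin 2) F)) (inv_mul_cancel g)
    exact this
  have h1 : ((g⁻¹ * x * g : Matrix.SpecialLinearGroup (Fin 2) F) : Matrix (Fin 2) (Fin 2) F) *ᵥ
      ![1, 0] = ![1, 0] := by
    show (((g⁻¹ : Matrix.SpecialLinearGroup (Fin 2) F) : Matrix (Fin 2) (Fin 2) F) *
      (x : Matrix (Fin 2) (Fin 2) F) * (g : Matrix (Fin 2) (Fin 2) F)) *ᵥ ![1, 0] = ![1, 0]
    rw [← Matrix.mulVec_mulVec, ← Matrix.mulVec_mulVec, hge, hx, ← hge, Matrix.mulVec_mulVec,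
      hinv, Matrix.one_mulVec]
  rw [mulVec_e1] at h1
  rw [mem_unipSub_iff]
  constructor
  · have := congrFun h1 0
    simpa using this
  · have := congrFun h1 1
    simpa using this

/-- an element of order prime to `p` fixing a nonzero vector is trivial -/
theorem eq_one_of_fixed_of_coprime {p : ℕ} [Fact p.Prime] [CharP F p]
    (x : Matrix.SpecialLinearGroup (Fin 2) F) (w : Fin 2 → F)
    (hw0 : w ≠ 0) (hx : (x : Matrix (Fin 2) (Fin 2) F) *ᵥ w = w)
    (hcop : (orderOf x).Coprime p) : x = 1 := by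
  obtain ⟨g, hg⟩ := conj_mem_unipSub_of_fixed x w hw0 hx
  obtain ⟨a, ha⟩ := mem_unipSub.1 hg
  have h1 : (g⁻¹ * x * g) ^ p = 1 := by
    rw [ha, unipEl_pow, nsmul_eq_mul, CharP.cast_eq_zero, zero_mul, unipEl_zero]
  have h2 : x ^ p = 1 := by
    have : (g⁻¹ * x * g) ^ p = g⁻¹ * x ^ p * g := by
      have := conj_pow (a := g⁻¹) (b := x) (i := p)
      rw [inv_inv] at this
      exact this.symm ▸ rfl
    rw [this] at h1
    have h3 : x ^ p = g * (g⁻¹ * x ^ p * g) * g⁻¹ := by group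
    rw [h3, h1]
    group
  have h3 : orderOf x ∣ p := orderOf_dvd_of_pow_eq_one h2
  have h4 : orderOf x = 1 := Nat.Coprime.eq_one_of_dvd hcop h3
  exact orderOf_eq_one_iff.1 h4

end sl2more

namespace NatData

section main80

variable {F : Type*} [Field F] {G : Type*} [Group G] {V L : Subgroup G} {D : NatData F V L}
  {T : Subgroup G}

theorem V_comm (D : NatData F V L) (v w : V) : v * w = w * v := by
  apply D.c_injective
  rw [D.c_mul, D.c_mul, add_comm]

theorem eq_one_of_c_eq_zero (D : NatData F V L) {v : V} (h : D.c v = 0) : v = 1 := by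
  apply D.c_injective
  rw [h, D.c_one]

theorem IsUnip.conj_mem_of_upper (hT : D.IsUnip T) (g : L)
    (h10 : (D.ρ g : Matrix (Fin 2) (Fin 2) F) 1 0 = 0) {t : G} (ht : t ∈ T) :
    (g : G) * t * (g : G)⁻¹ ∈ T := by
  obtain ⟨l, a, rfl, hl⟩ := hT.exists_unipEl ht
  refine (hT _).2 ⟨g * l * g⁻¹, ?_, rfl⟩
  rw [map_mul, map_mul, map_inv, hl]
  exact upper_conj_unip _ h10 a

theorem IsUnip.mem_normalizer_of_upper (hT : D.IsUnip T) (g : L)
    (h10 : (D.ρ g : Matrix (Fin 2) (Fin 2) F) 1 0 = 0) :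
    (g : G) ∈ Subgroup.normalizer (T : Set G) := by
  rw [Subgroup.mem_normalizer_iff]
  intro h
  constructor
  · intro hh
    exact hT.conj_mem_of_upper g h10 hh
  · intro hh
    have h10' : (D.ρ g⁻¹ : Matrix (Fin 2) (Fin 2) F) 1 0 = 0 := by
      rw [map_inv, sl2_inv_apply]
      simp [h10]
    have := hT.conj_mem_of_upper g⁻¹ h10' hh
    have e : ((g⁻¹ : L) : G) * ((g : G) * h * (g : G)⁻¹) * ((g⁻¹ : L) : G)⁻¹ = h := by
      rw [Subgroup.coe_inv]
      group
    rw [e] at this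
    exact this

theorem IsUnip.mem_centralizer_conj_iff (hT : D.IsUnip T) (g : L) (w : V) :
    (w : G) ∈ Subgroup.centralizer ((T.map (MulAut.conj (g : G)).toMonoidHom : Subgroup G) : Set G) ↔
      (D.ρ g : Matrix (Fin 2) (Fin 2) F) 0 0 * D.c w 1 =
        (D.ρ g : Matrix (Fin 2) (Fin 2) F) 1 0 * D.c w 0 := by
  have h1 : (w : G) ∈ Subgroup.centralizer
      ((T.map (MulAut.conj (g : G)).toMonoidHom : Subgroup G) : Set G) ↔
      (D.act g⁻¹ w : G) ∈ Subgroup.centralizer (T : Set G) := by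
    rw [Subgroup.mem_centralizer_iff, Subgroup.mem_centralizer_iff]
    constructor
    · intro h t ht
      have := h ((g : G) * t * (g : G)⁻¹) ⟨t, ht, by simp [MulAut.conj_apply]⟩
      rw [D.coe_act, Subgroup.coe_inv, inv_inv]
      calc t * ((g : G)⁻¹ * (w : G) * (g : G))
          = (g : G)⁻¹ * ((g : G) * t * (g : G)⁻¹ * (w : G)) * (g : G) := by group
        _ = (g : G)⁻¹ * ((w : G) * ((g : G) * t * (g : G)⁻¹)) * (g : G) := by rw [this]
        _ = (g : G)⁻¹ * (w : G) * (g : G) * t := by group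
    · intro h x hx
      obtain ⟨t, ht, rfl⟩ := hx
      have := h t ht
      rw [D.coe_act, Subgroup.coe_inv, inv_inv] at this
      show (g : G) * t * (g : G)⁻¹ * (w : G) = (w : G) * ((g : G) * t * (g : G)⁻¹)
      calc (g : G) * t * (g : G)⁻¹ * (w : G)
          = (g : G) * (t * ((g : G)⁻¹ * (w : G) * (g : G))) * (g : G)⁻¹ := by group
        _ = (g : G) * ((g : G)⁻¹ * (w : G) * (g : G) * t) * (g : G)⁻¹ := by rw [this]
        _ = (w : G) * ((g : G) * t * (g : G)⁻¹) := by group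
  have h2 : (D.act g⁻¹ w : G) ∈ Subgroup.centralizer (T : Set G) ↔ (D.act g⁻¹ w : G) ∈ D.V1 := by
    rw [← hT.inf_centralizer, Subgroup.mem_inf]
    exact ⟨fun h => ⟨(D.act g⁻¹ w).2, h⟩, fun h => h.2⟩
  rw [h1, h2, D.coe_mem_V1, D.c_act, map_inv, sl2_inv_apply]
  simp [Matrix.mulVec, dotProduct, Fin.sum_univ_two]
  constructor
  · intro h
    linear_combination h
  · intro h
    linear_combination h

/-- (1) of S2780 -/
theorem IsUnip.directProduct (hT : D.IsUnip T) {g : G} (hg : g ∈ L)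
    (hgT : g ∉ Subgroup.normalizer (T : Set G)) :
    Cfsg.IsInternalDirectProduct (V ⊓ Subgroup.centralizer ((T : Subgroup G) : Set G))
      (V ⊓ Subgroup.centralizer ((T.map (MulAut.conj g).toMonoidHom : Subgroup G) : Set G)) V := by
  have hM : (D.ρ ⟨g, hg⟩ : Matrix (Fin 2) (Fin 2) F) 1 0 ≠ 0 := by
    intro h
    exact hgT (hT.mem_normalizer_of_upper ⟨g, hg⟩ h)
  have hmem := hT.mem_centralizer_conj_iff ⟨g, hg⟩
  rw [hT.inf_centralizer]
  refine ⟨D.V1_le, inf_le_left, ?_, ?_, ?_⟩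
  · intro a ha b hb
    have := D.V_comm ⟨a, D.V1_le ha⟩ ⟨b, hb.1⟩
    exact congrArg Subtype.val this
  · rw [eq_bot_iff]
    intro x hx
    obtain ⟨hx1, hxV, hx2⟩ := hx
    rw [Subgroup.mem_bot]
    have e1 : D.c ⟨x, hxV⟩ 1 = 0 := D.coe_mem_V1.1 hx1
    have e2 := (hmem ⟨x, hxV⟩).1 hx2
    rw [e1, mul_zero] at e2
    have e0 : D.c ⟨x, hxV⟩ 0 = 0 := by
      rcases mul_eq_zero.1 e2.symm with h | h
      · exact absurd h hM
      · exact h
    have : (⟨x, hxV⟩ : V) = 1 := by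
      apply D.eq_one_of_c_eq_zero
      ext i
      fin_cases i
      · exact e0
      · exact e1
    exact congrArg Subtype.val this
  · apply le_antisymm
    · exact sup_le D.V1_le inf_le_left
    · intro v hv
      set M := (D.ρ ⟨g, hg⟩ : Matrix (Fin 2) (Fin 2) F) with hMdef
      set y := D.c ⟨v, hv⟩ 1 with hy
      set x := D.c ⟨v, hv⟩ 0 with hx
      have hv2 : ((D.vEl ![M 0 0 * y / M 1 0, y] : V) : G) ∈
          V ⊓ Subgroup.centralizer ((T.map (MulAut.conj g).toMonoidHom : Subgroup G) : Set G) := by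
        refine ⟨(D.vEl _).2, (hmem _).2 ?_⟩
        rw [D.c_vEl]
        simp
        field_simp
      have hv1 : ((D.vEl ![x - M 0 0 * y / M 1 0, 0] : V) : G) ∈ D.V1 := by
        rw [D.coe_mem_V1, D.c_vEl]
        rfl
      have e : v = ((D.vEl ![x - M 0 0 * y / M 1 0, 0] : V) : G) *
          ((D.vEl ![M 0 0 * y / M 1 0, y] : V) : G) := by
        rw [← Subgroup.coe_mul]
        have : (⟨v, hv⟩ : V) = D.vEl ![x - M 0 0 * y / M 1 0, 0] * D.vEl ![M 0 0 * y / M 1 0, y] := by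
          apply D.c_injective
          rw [D.c_mul, D.c_vEl, D.c_vEl]
          ext i
          fin_cases i
          · simp [hx]
          · simp [hy]
        exact congrArg Subtype.val this
      rw [e]
      exact Subgroup.mul_mem_sup hv1 hv2

end main80

end NatData

namespace NatData

section main80b

variable {F : Type*} [Field F] {G : Type*} [Group G] {V L : Subgroup G} {D : NatData F V L}
  {T : Subgroup G}

/-- (2) of S2780 -/
theorem fixedPointFree (D : NatData F V L) {p : ℕ} [Fact p.Prime] [CharP F p] {x : G} (hx : x ∈ L)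
    (hx1 : x ≠ 1) (hcop : (orderOf x).Coprime p) :
    V ⊓ Subgroup.centralizer ({x} : Set G) = ⊥ := by
  rw [eq_bot_iff]
  intro v hv
  rw [Subgroup.mem_inf] at hv
  obtain ⟨hvV, hvx⟩ := hv
  rw [Subgroup.mem_bot]
  rw [Subgroup.mem_centralizer_iff] at hvx
  have h1 := hvx x (Set.mem_singleton x)
  have h2 := (D.comm_iff ⟨x, hx⟩ ⟨v, hvV⟩).1 h1
  by_contra hne
  have hc : D.c ⟨v, hvV⟩ ≠ 0 := by
    intro h
    apply hne
    exact congrArg Subtype.val (D.eq_one_of_c_eq_zero h)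
  have hord : orderOf (D.ρ ⟨x, hx⟩) = orderOf x := by
    rw [orderOf_injective D.ρ D.inj, ← Subgroup.orderOf_coe]
  have h3 := eq_one_of_fixed_of_coprime (p := p) (D.ρ ⟨x, hx⟩) _ hc h2 (by rw [hord]; exact hcop)
  rw [← map_one D.ρ] at h3
  have := D.inj h3
  exact hx1 (congrArg Subtype.val this)

/-- torus element of `L` -/
noncomputable def tor (D : NatData F V L) (a : F) (ha : a ≠ 0) : L := D.lift (torEl a ha)

theorem c_act_tor (D : NatData F V L) (a : F) (ha : a ≠ 0) (v : V) :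
    D.c (D.act (D.tor a ha) v) = ![a * D.c v 0, a⁻¹ * D.c v 1] := by
  rw [D.c_act, tor, D.ρ_lift, torEl_mulVec]

theorem IsUnip.tor_mem (hT : D.IsUnip T) (a : F) (ha : a ≠ 0) :
    (D.tor a ha : G) ∈ L ⊓ Subgroup.normalizer (T : Set G) := by
  refine ⟨(D.tor a ha).2, ?_⟩
  apply hT.mem_normalizer_of_upper
  rw [tor, D.ρ_lift, torEl_coe]
  rfl

theorem act_tor_mem (D : NatData F V L) {N U : Subgroup G} (hN : N ≤ Subgroup.normalizer (U : Set G))
    (a : F) (ha : a ≠ 0) (htor : (D.tor a ha : G) ∈ N) {u : V} (hu : (u : G) ∈ U) :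
    (D.act (D.tor a ha) u : G) ∈ U := by
  have := hN htor
  rw [Subgroup.mem_normalizer_iff] at this
  exact (this u).1 hu

/-- (3) of S2780 -/
theorem IsUnip.irreducible_bottom (hT : D.IsUnip T) (U : Subgroup G)
    (hU : U ≤ V ⊓ Subgroup.centralizer ((T : Subgroup G) : Set G))
    (hN : L ⊓ Subgroup.normalizer (T : Set G) ≤ Subgroup.normalizer (U : Set G)) :
    U = ⊥ ∨ U = V ⊓ Subgroup.centralizer ((T : Subgroup G) : Set G) := by
  rw [hT.inf_centralizer] at hU ⊢
  by_cases hbot : U = ⊥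
  · exact Or.inl hbot
  · right
    apply le_antisymm hU
    obtain ⟨u₀, hu₀1⟩ := (Subgroup.ne_bot_iff_exists_ne_one.1 hbot)
    obtain ⟨u, hu1, huu⟩ := D.mem_V1.1 (hU u₀.2)
    have huU : (u : G) ∈ U := by rw [huu]; exact u₀.2
    have hx₀ : D.c u 0 ≠ 0 := by
      intro h
      apply hu₀1
      apply Subtype.ext
      have : u = 1 := by
        apply D.eq_one_of_c_eq_zero
        ext i
        fin_cases i
        · exact h
        · exact hu1
      rw [← huu, this]
      rfl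
    intro w hw
    obtain ⟨w', hw', rfl⟩ := D.mem_V1.1 hw
    by_cases hx : D.c w' 0 = 0
    · have : w' = 1 := by
        apply D.eq_one_of_c_eq_zero
        ext i
        fin_cases i
        · exact hx
        · exact hw'
      rw [this]
      exact U.one_mem
    · have ha : D.c w' 0 / D.c u 0 ≠ 0 := div_ne_zero hx hx₀
      have hmem := D.act_tor_mem hN _ ha (hT.tor_mem _ ha) (u := u) huU
      have : D.act (D.tor _ ha) u = w' := by
        apply D.c_injective
        rw [D.c_act_tor]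
        ext i
        fin_cases i
        · simp
          field_simp
        · simp [hu1, hw']
      rw [this] at hmem
      exact hmem

/-- (4) of S2780 -/
theorem IsUnip.irreducible_top (hT : D.IsUnip T) (U : Subgroup G)
    (hU : V ⊓ Subgroup.centralizer ((T : Subgroup G) : Set G) ≤ U) (hUV : U ≤ V)
    (hN : L ⊓ Subgroup.normalizer (T : Set G) ≤ Subgroup.normalizer (U : Set G)) :
    U = V ⊓ Subgroup.centralizer ((T : Subgroup G) : Set G) ∨ U = V := by
  rw [hT.inf_centralizer] at hU ⊢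
  by_cases hle : U ≤ D.V1
  · exact Or.inl (le_antisymm hle hU)
  · right
    apply le_antisymm hUV
    obtain ⟨u₀, hu₀, hu₀1⟩ := SetLike.not_le_iff_exists.1 hle
    have hy₀ : D.c ⟨u₀, hUV hu₀⟩ 1 ≠ 0 := by
      intro h
      exact hu₀1 (D.mem_V1.2 ⟨⟨u₀, hUV hu₀⟩, h, rfl⟩)
    intro w hw
    by_cases hy : D.c ⟨w, hw⟩ 1 = 0
    · exact hU (D.mem_V1.2 ⟨⟨w, hw⟩, hy, rfl⟩)
    · have ha : D.c ⟨u₀, hUV hu₀⟩ 1 / D.c ⟨w, hw⟩ 1 ≠ 0 := div_ne_zero hy₀ hy
      have hmem := D.act_tor_mem hN _ ha (hT.tor_mem _ ha) (u := ⟨u₀, hUV hu₀⟩) hu₀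
      set u₁ := D.act (D.tor _ ha) ⟨u₀, hUV hu₀⟩ with hu₁
      have hz : ((D.vEl ![D.c ⟨w, hw⟩ 0 - D.c u₁ 0, 0] : V) : G) ∈ U := by
        apply hU
        rw [D.coe_mem_V1, D.c_vEl]
        rfl
      have e : (⟨w, hw⟩ : V) = u₁ * D.vEl ![D.c ⟨w, hw⟩ 0 - D.c u₁ 0, 0] := by
        apply D.c_injective
        rw [D.c_mul, D.c_vEl]
        ext i
        fin_cases i
        · simp
        · simp [hu₁, D.c_act_tor]
          field_simp
      have e' : w = (u₁ : G) * ((D.vEl ![D.c ⟨w, hw⟩ 0 - D.c u₁ 0, 0] : V) : G) :=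
        congrArg Subtype.val e
      rw [e']
      exact U.mul_mem hmem hz

end main80b

end NatData

section result80

theorem natmod_result_80 {G : Type*} [Group G] [Finite G] {p : ℕ} [Fact p.Prime] {F : Type*}
    [Field F] [Fintype F] (n : ℕ) (hF : Fintype.card F = p ^ n) (V L : Subgroup G)
    (hnat : Cfsg.IsNaturalSL2Module F V L)
    (hf : L ⊓ Subgroup.centralizer (V : Set G) = ⊥) (S : Sylow p ↥L) (T : Subgroup G)
    (hT : T = ((S : Subgroup ↥L).map L.subtype)) :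
    (∀ g ∈ L, g ∉ Subgroup.normalizer (T : Set G) →
      Cfsg.IsInternalDirectProduct (V ⊓ Subgroup.centralizer ((T : Subgroup G) : Set G))
        (V ⊓ Subgroup.centralizer ((T.map (MulAut.conj g).toMonoidHom : Subgroup G) : Set G)) V) ∧
    (∀ x ∈ L, x ≠ 1 → (orderOf x).Coprime p → (V ⊓ Subgroup.centralizer ({x} : Set G)) = ⊥) ∧
    (∀ U : Subgroup G, U ≤ (V ⊓ Subgroup.centralizer ((T : Subgroup G) : Set G)) →
      L ⊓ Subgroup.normalizer (T : Set G) ≤ Subgroup.normalizer (U : Set G) →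
      U = ⊥ ∨ U = (V ⊓ Subgroup.centralizer ((T : Subgroup G) : Set G))) ∧
    (∀ U : Subgroup G, (V ⊓ Subgroup.centralizer ((T : Subgroup G) : Set G)) ≤ U → U ≤ V →
      L ⊓ Subgroup.normalizer (T : Set G) ≤ Subgroup.normalizer (U : Set G) →
      U = (V ⊓ Subgroup.centralizer ((T : Subgroup G) : Set G)) ∨ U = V) := by
  have : CharP F p := charP_of_card_eq_prime_pow hF
  obtain ⟨D₀⟩ := NatData.nonempty_of_isNatural hnat hf
  obtain ⟨D, hD⟩ := D₀.exists_normalized S
  have hU : D.IsUnip T := by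
    intro t
    rw [hT]
    constructor
    · rintro ⟨l, hl, rfl⟩
      exact ⟨l, (hD l).1 hl, rfl⟩
    · rintro ⟨l, hl, rfl⟩
      exact ⟨l, (hD l).2 hl, rfl⟩
  refine ⟨fun g hg hgT => hU.directProduct hg hgT,
    fun x hx hx1 hcop => D.fixedPointFree hx hx1 hcop,
    fun U h1 h2 => hU.irreducible_bottom U h1 h2,
    fun U h1 h2 h3 => hU.irreducible_top U h1 h2 h3⟩

end result80

end Cfsg.Agent.Lib.Helper17
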