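import Mathlib
import Cfsg.Prelude.Def_LocalEven
import Cfsg.Prelude.Def_TwoFusion

set_option autoImplicit false

namespace Cfsg.Agent.Lib.Helper17

open Cfsg Matrix

section sl2unip

variable {F : Type*} [Field F]

/-- upper unitriangular element of `SL₂(F)` -/
def unipEl (a : F) : Matrix.SpecialLinearGroup (Fin 2) F :=
  ⟨!![1, a; 0, 1], by simp [Matrix.det_fin_two]⟩

theorem unipEl_coe (a : F) : (unipEl a : Matrix (Fin 2) (Fin 2) F) = !![1, a; 0, 1] := rfl

theorem unipEl_mul (a b : F) : unipEl a * unipEl b = unipEl (a + b) := by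
  apply Subtype.ext
  show (unipEl a : Matrix (Fin 2) (Fin 2) F) * (unipEl b : Matrix (Fin 2) (Fin 2) F) = _
  rw [unipEl_coe, unipEl_coe, unipEl_coe]
  ext i j
  fin_cases i <;> fin_cases j <;> simp [Matrix.mul_apply, Fin.sum_univ_two, add_comm]

theorem unipEl_zero : unipEl (0 : F) = 1 := by
  apply Subtype.ext
  rw [unipEl_coe]
  ext i j
  fin_cases i <;> fin_cases j <;> simp

theorem unipEl_injective : Function.Injective (unipEl : F → _) := by
  intro a b h
  have := congrArg (fun x : Matrix.SpecialLinearGroup (Fin 2) F =>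
    (x : Matrix (Fin 2) (Fin 2) F) 0 1) h
  simpa [unipEl_coe] using this

/-- the unipotent hom -/
def unipHom : Multiplicative F →* Matrix.SpecialLinearGroup (Fin 2) F where
  toFun a := unipEl (Multiplicative.toAdd a)
  map_one' := unipEl_zero
  map_mul' a b := (unipEl_mul _ _).symm

/-- the upper unitriangular subgroup of `SL₂(F)` -/
def unipSub : Subgroup (Matrix.SpecialLinearGroup (Fin 2) F) := (unipHom (F := F)).range

theorem unipEl_mem (a : F) : unipEl a ∈ unipSub (F := F) := ⟨Multiplicative.ofAdd a, rfl⟩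

theorem mem_unipSub {x : Matrix.SpecialLinearGroup (Fin 2) F} :
    x ∈ unipSub (F := F) ↔ ∃ a : F, x = unipEl a := by
  constructor
  · rintro ⟨a, rfl⟩
    exact ⟨Multiplicative.toAdd a, rfl⟩
  · rintro ⟨a, rfl⟩
    exact unipEl_mem a

theorem sl2_det_eq (x : Matrix.SpecialLinearGroup (Fin 2) F) :
    (x : Matrix (Fin 2) (Fin 2) F) 0 0 * (x : Matrix (Fin 2) (Fin 2) F) 1 1 -
      (x : Matrix (Fin 2) (Fin 2) F) 0 1 * (x : Matrix (Fin 2) (Fin 2) F) 1 0 = 1 := by
  have := x.2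
  rwa [Matrix.det_fin_two] at this

theorem mem_unipSub_iff {x : Matrix.SpecialLinearGroup (Fin 2) F} :
    x ∈ unipSub (F := F) ↔ (x : Matrix (Fin 2) (Fin 2) F) 0 0 = 1 ∧
      (x : Matrix (Fin 2) (Fin 2) F) 1 0 = 0 := by
  rw [mem_unipSub]
  constructor
  · rintro ⟨a, rfl⟩
    exact ⟨rfl, rfl⟩
  · rintro ⟨h00, h10⟩
    have hdet := sl2_det_eq x
    rw [h00, h10] at hdet
    refine ⟨(x : Matrix (Fin 2) (Fin 2) F) 0 1, ?_⟩
    apply Subtype.ext
    rw [unipEl_coe]
    ext i j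
    fin_cases i <;> fin_cases j
    · simpa using h00
    · simp
    · simpa using h10
    · simp
      linear_combination hdet

theorem unipEl_pow (a : F) (k : ℕ) : unipEl a ^ k = unipEl (k • a) := by
  induction k with
  | zero => simp [unipEl_zero]
  | succ k ih => rw [pow_succ, ih, unipEl_mul, succ_nsmul]

theorem isPGroup_unipSub {p : ℕ} [CharP F p] : IsPGroup p (unipSub (F := F)) := by
  intro x
  obtain ⟨a, ha⟩ := mem_unipSub.1 x.2
  refine ⟨1, ?_⟩
  apply Subtype.ext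
  rw [pow_one, Subgroup.coe_pow, ha, unipEl_pow, nsmul_eq_mul, CharP.cast_eq_zero, zero_mul,
    unipEl_zero]
  rfl

/-- a `p`-subgroup of `SL₂(F)` fixes a nonzero vector -/
theorem exists_fixed_vector [Finite F] {p : ℕ} [Fact p.Prime] [CharP F p]
    (P : Subgroup (Matrix.SpecialLinearGroup (Fin 2) F)) (hP : IsPGroup p P) :
    ∃ w : Fin 2 → F, w ≠ 0 ∧ ∀ x ∈ P, (x : Matrix (Fin 2) (Fin 2) F) *ᵥ w = w := by
  have hcard : p ∣ Nat.card (Fin 2 → F) := by
    have := Fintype.ofFinite F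
    obtain ⟨n, hn⟩ := FiniteField.card F p
    rw [Nat.card_eq_fintype_card, Fintype.card_fun, Fintype.card_fin, hn.2]
    exact dvd_pow (dvd_pow_self p n.ne_zero) two_ne_zero
  have h0 : (0 : Fin 2 → F) ∈ MulAction.fixedPoints P (Fin 2 → F) := by
    intro x
    exact smul_zero x
  obtain ⟨w, hw, hne⟩ := hP.exists_fixed_point_of_prime_dvd_card_of_fixed_point (Fin 2 → F) hcard h0
  refine ⟨w, hne.symm, ?_⟩
  intro x hx
  exact hw ⟨x, hx⟩

/-- an element of `SL₂(F)` with given nonzero first column -/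
theorem exists_sl2_first_col (w : Fin 2 → F) (hw : w ≠ 0) :
    ∃ g : Matrix.SpecialLinearGroup (Fin 2) F,
      (g : Matrix (Fin 2) (Fin 2) F) 0 0 = w 0 ∧ (g : Matrix (Fin 2) (Fin 2) F) 1 0 = w 1 := by
  by_cases h0 : w 0 = 0
  · have h1 : w 1 ≠ 0 := by
      intro h1
      apply hw
      ext i
      fin_cases i
      · exact h0
      · exact h1
    refine ⟨⟨!![0, -(w 1)⁻¹; w 1, 0], ?_⟩, ?_, ?_⟩
    · rw [Matrix.det_fin_two_of]
      field_simp
      ring
    · simp [h0]
    · simp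
  · refine ⟨⟨!![w 0, 0; w 1, (w 0)⁻¹], ?_⟩, ?_, ?_⟩
    · rw [Matrix.det_fin_two_of]
      field_simp
      ring
    · simp
    · simp

end sl2unip

section sylowconj

variable {F : Type*} [Field F]

theorem mulVec_e1 (y : Matrix (Fin 2) (Fin 2) F) : y *ᵥ ![1, 0] = ![y 0 0, y 1 0] := by
  ext i
  fin_cases i <;> simp [Matrix.mulVec, dotProduct, Fin.sum_univ_two]

/-- Sylow `p`-subgroups of `SL₂(F)` are conjugate to the upper unitriangular subgroup -/
theorem sylow_sl2_conj_unip [Finite F] {p : ℕ} [Fact p.Prime] [CharP F p]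
    (P : Sylow p (Matrix.SpecialLinearGroup (Fin 2) F)) :
    ∃ g : Matrix.SpecialLinearGroup (Fin 2) F, ∀ x, x ∈ P ↔ g⁻¹ * x * g ∈ unipSub (F := F) := by
  obtain ⟨w, hw0, hw⟩ := exists_fixed_vector (p := p) P.toSubgroup P.isPGroup'
  obtain ⟨g, hg0, hg1⟩ := exists_sl2_first_col w hw0
  have hge : (g : Matrix (Fin 2) (Fin 2) F) *ᵥ ![1, 0] = w := by
    rw [mulVec_e1]
    ext i
    fin_cases i
    · exact hg0
    · exact hg1
  have hfwd : ∀ x, x ∈ P → g⁻¹ * x * g ∈ unipSub (F := F) := by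
    intro x hx
    have hinv : ((g⁻¹ : Matrix.SpecialLinearGroup (Fin 2) F) : Matrix (Fin 2) (Fin 2) F) *
        (g : Matrix (Fin 2) (Fin 2) F) = 1 := by
      have := congrArg (fun y : Matrix.SpecialLinearGroup (Fin 2) F =>
        (y : Matrix (Fin 2) (Fin 2) F)) (inv_mul_cancel g)
      exact this
    have h1 : ((g⁻¹ * x * g : Matrix.SpecialLinearGroup (Fin 2) F) : Matrix (Fin 2) (Fin 2) F) *ᵥ
        ![1, 0] = ![1, 0] := by
      show (((g⁻¹ : Matrix.SpecialLinearGroup (Fin 2) F) : Matrix (Fin 2) (Fin 2) F) *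
        (x : Matrix (Fin 2) (Fin 2) F) * (g : Matrix (Fin 2) (Fin 2) F)) *ᵥ ![1, 0] = ![1, 0]
      rw [← Matrix.mulVec_mulVec, ← Matrix.mulVec_mulVec, hge, hw x hx, ← hge, Matrix.mulVec_mulVec,
        hinv, Matrix.one_mulVec]
    rw [mulVec_e1] at h1
    rw [mem_unipSub_iff]
    constructor
    · have := congrFun h1 0
      simpa using this
    · have := congrFun h1 1
      simpa using this
  refine ⟨g, fun x => ⟨hfwd x, ?_⟩⟩
  intro hx
  have hQ : IsPGroup p ((unipSub (F := F)).map (MulAut.conj g).toMonoidHom) :=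
    (isPGroup_unipSub (p := p)).map _
  have hPQ : (P : Subgroup _) ≤ (unipSub (F := F)).map (MulAut.conj g).toMonoidHom := by
    intro y hy
    refine ⟨g⁻¹ * y * g, hfwd y hy, ?_⟩
    simp [MulAut.conj_apply, mul_assoc]
  have heq := P.is_maximal' hQ hPQ
  have : x ∈ (unipSub (F := F)).map (MulAut.conj g).toMonoidHom := by
    refine ⟨g⁻¹ * x * g, hx, ?_⟩
    simp [MulAut.conj_apply, mul_assoc]
  rw [heq] at this
  exact this

end sylowconj

end Cfsg.Agent.Lib.Helper17
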