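import Mathlib
import Cfsg.Prelude.Def_Transfer
import Cfsg.Agent.Lib.Helper2.NilpotentCoprime
import Cfsg.Agent.Lib.Helper13.SZBasic

/-!
# Nilpotent minimal covers (helper17)

Let `𝓐` be a cover of the finite group `G` by proper nilpotent subgroups with as few members as possible,
and assume `Z(G) = 1`.  For an abelian Sylow `p`-subgroup `P ≠ 1` that is cyclic or not of exponent `p`:
`C_G(P)` is a member of `𝓐`, every proper subgroup containing `C_G(P)` lies in `N_G(P)`, and `N_G(P)` meets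
its conjugates by elements outside `N_G(P)` in `p'`-groups.
-/

set_option autoImplicit false

namespace Cfsg.Agent.Lib.Helper17.NilCover

open Subgroup Cfsg.Agent.Lib.Helper2 Cfsg.Agent.Lib.Helper13
open scoped Pointwise

universe u

variable {G : Type u} [Group G] [Finite G]

/-- a nilpotent minimal cover -/
structure NMC (𝓐 : Finset (Subgroup G)) : Prop where
  proper : ∀ A ∈ 𝓐, A ≠ ⊤
  cover : ∀ g : G, ∃ A ∈ 𝓐, g ∈ A
  minimal : ∀ 𝓑 : Finset (Subgroup G), (∀ A ∈ 𝓑, A ≠ ⊤) ∧ (∀ g : G, ∃ A ∈ 𝓑, g ∈ A) →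
    𝓐.card ≤ 𝓑.card
  nilp : ∀ A ∈ 𝓐, Group.IsNilpotent ↥A

/-- a proper subgroup contains at most one member of a minimal cover -/
theorem NMC.eq_of_le {𝓐 : Finset (Subgroup G)} (h : NMC 𝓐) {M A₁ A₂ : Subgroup G} (hM : M ≠ ⊤)
    (h1 : A₁ ∈ 𝓐) (h2 : A₂ ∈ 𝓐) (h1M : A₁ ≤ M) (h2M : A₂ ≤ M) : A₁ = A₂ := by
  classical
  by_contra hne
  have hmin := h.minimal (insert M ((𝓐.erase A₁).erase A₂)) ⟨?_, ?_⟩
  · have c1 : ((𝓐.erase A₁).erase A₂).card = 𝓐.card - 1 - 1 := by
      rw [Finset.card_erase_of_mem (Finset.mem_erase.mpr ⟨Ne.symm hne, h2⟩),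
        Finset.card_erase_of_mem h1]
    have c2 := Finset.card_insert_le M ((𝓐.erase A₁).erase A₂)
    have c3 : 1 < 𝓐.card := Finset.one_lt_card.mpr ⟨A₁, h1, A₂, h2, hne⟩
    omega
  · intro A hA
    rcases Finset.mem_insert.mp hA with rfl | hA
    · exact hM
    · exact h.proper A (Finset.mem_of_mem_erase (Finset.mem_of_mem_erase hA))
  · intro g
    obtain ⟨A, hA, hg⟩ := h.cover g
    by_cases e1 : A = A₁
    · exact ⟨M, Finset.mem_insert_self _ _, h1M (e1 ▸ hg)⟩
    by_cases e2 : A = A₂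
    · exact ⟨M, Finset.mem_insert_self _ _, h2M (e2 ▸ hg)⟩
    exact ⟨A, Finset.mem_insert_of_mem
      (Finset.mem_erase.mpr ⟨e2, Finset.mem_erase.mpr ⟨e1, hA⟩⟩), hg⟩

variable {p : ℕ} [hp : Fact p.Prime]

theorem orderOf_of_mem_sylow (P : Sylow p G) {y : G} (hy : y ∈ (P : Subgroup G)) :
    ∃ k : ℕ, orderOf y = p ^ k := by
  obtain ⟨k, hk⟩ := (IsPGroup.iff_orderOf.mp P.2) ⟨y, hy⟩
  rw [Subgroup.orderOf_mk] at hk
  exact ⟨k, hk⟩

theorem isPGroup_zpowers {y : G} (hy : ∃ k : ℕ, orderOf y = p ^ k) :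
    IsPGroup p (Subgroup.zpowers y) := by
  obtain ⟨k, hk⟩ := hy
  apply IsPGroup.of_card (n := k)
  rw [Nat.card_zpowers, hk]

/-- a `p`-element normalizing a Sylow `p`-subgroup lies in it -/
theorem mem_sylow_of_mem_normalizer (P : Sylow p G) {y : G} (hy : ∃ k : ℕ, orderOf y = p ^ k)
    (hn : y ∈ normalizer ((P : Subgroup G) : Set G)) : y ∈ (P : Subgroup G) := by
  have h1 : Subgroup.zpowers y ⊓ normalizer ((P : Subgroup G) : Set G) =
      Subgroup.zpowers y ⊓ (P : Subgroup G) := (isPGroup_zpowers hy).inf_normalizer_sylow P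
  have h2 : y ∈ Subgroup.zpowers y ⊓ normalizer ((P : Subgroup G) : Set G) :=
    ⟨Subgroup.mem_zpowers y, hn⟩
  rw [h1] at h2
  exact h2.2

/-- elements of a `p`-subgroup commute when the Sylow `p`-subgroups are abelian -/
theorem comm_of_isPGroup (P : Sylow p G)
    (hab : ∀ a ∈ (P : Subgroup G), ∀ b ∈ (P : Subgroup G), a * b = b * a)
    {R : Subgroup G} (hR : IsPGroup p R) {a b : G} (ha : a ∈ R) (hb : b ∈ R) : a * b = b * a := by
  obtain ⟨Q, hRQ⟩ := hR.exists_le_sylow
  obtain ⟨g, rfl⟩ := MulAction.exists_smul_eq G P Q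
  have ha' : a ∈ MulAut.conj g • (P : Subgroup G) := by
    have := hRQ ha
    rwa [Sylow.coe_subgroup_smul] at this
  have hb' : b ∈ MulAut.conj g • (P : Subgroup G) := by
    have := hRQ hb
    rwa [Sylow.coe_subgroup_smul] at this
  rw [mem_cj] at ha' hb'
  have := hab _ ha' _ hb'
  calc a * b = g * ((g⁻¹ * a * g) * (g⁻¹ * b * g)) * g⁻¹ := by group
    _ = g * ((g⁻¹ * b * g) * (g⁻¹ * a * g)) * g⁻¹ := by rw [this]
    _ = b * a := by group

/-- two `p`-elements of a nilpotent subgroup lie in a common `p`-subgroup -/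
theorem exists_pgroup_of_nilpotent (B : Subgroup G) (hB : Group.IsNilpotent ↥B) {a t : G}
    (ha : a ∈ B) (ht : t ∈ B) (hap : ∃ k : ℕ, orderOf a = p ^ k) (htp : ∃ k : ℕ, orderOf t = p ^ k) :
    ∃ R : Subgroup G, IsPGroup p R ∧ a ∈ R ∧ t ∈ R := by
  obtain ⟨S⟩ : Nonempty (Sylow p ↥B) := inferInstance
  haveI : (S : Subgroup ↥B).Normal := inferInstance
  have key : ∀ y : G, ∀ hy : y ∈ B, (∃ k : ℕ, orderOf y = p ^ k) →
      (⟨y, hy⟩ : ↥B) ∈ (S : Subgroup ↥B) := by
    intro y hy hyp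
    have h1 : IsPGroup p (Subgroup.zpowers (⟨y, hy⟩ : ↥B)) := by
      apply isPGroup_zpowers
      rw [Subgroup.orderOf_mk]; exact hyp
    obtain ⟨S', hS'⟩ := h1.exists_le_sylow
    haveI := Sylow.unique_of_normal S inferInstance
    have : S' = S := Subsingleton.elim _ _
    rw [← this]
    exact hS' (Subgroup.mem_zpowers _)
  refine ⟨(S : Subgroup ↥B).map B.subtype, S.2.map B.subtype, ?_, ?_⟩
  · exact ⟨⟨a, ha⟩, key a ha hap, rfl⟩
  · exact ⟨⟨t, ht⟩, key t ht htp, rfl⟩

section main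

variable {𝓐 : Finset (Subgroup G)} (h : NMC 𝓐) (hZ : Subgroup.center G = ⊥) (P : Sylow p G)
  (hab : ∀ a ∈ (P : Subgroup G), ∀ b ∈ (P : Subgroup G), a * b = b * a)

include h hab in
/-- Lemma Z: a `p`-element of a member is central in that member -/
theorem member_comm {B : Subgroup G} (hB : B ∈ 𝓐) {t : G} (ht : t ∈ B)
    (htp : ∃ k : ℕ, orderOf t = p ^ k) {b : G} (hb : b ∈ B) : b * t = t * b := by
  obtain ⟨b₁, b₂, hb₁, hb₂, rfl, ⟨k, hk⟩, hcop⟩ := exists_p_decomp b p hp.out
  have hzb : Subgroup.zpowers (b₁ * b₂) ≤ B := (Subgroup.zpowers_le).mpr hb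
  have hb₁B : b₁ ∈ B := hzb hb₁
  have hb₂B : b₂ ∈ B := hzb hb₂
  have hb₁p : ∃ j : ℕ, orderOf b₁ = p ^ j := by
    obtain ⟨j, -, hj⟩ := (Nat.dvd_prime_pow hp.out).mp hk
    exact ⟨j, hj⟩
  have e1 : b₁ * t = t * b₁ := by
    obtain ⟨R, hR, haR, htR⟩ := exists_pgroup_of_nilpotent B (h.nilp B hB) hb₁B ht hb₁p htp
    exact comm_of_isPGroup P hab hR haR htR
  have e2 : b₂ * t = t * b₂ := by
    obtain ⟨m, hm⟩ := htp
    apply commute_of_coprime_orderOf_of_mem B (h.nilp B hB) b₂ t hb₂B ht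
    rw [hm]
    exact Nat.Coprime.pow_right m hcop
  calc b₁ * b₂ * t = b₁ * (b₂ * t) := by group
    _ = b₁ * (t * b₂) := by rw [e2]
    _ = (b₁ * t) * b₂ := by group
    _ = t * b₁ * b₂ := by rw [e1]
    _ = t * (b₁ * b₂) := by group

include h hZ hab in
/-- Lemma U: a non-identity `p`-element lies in a unique member -/
theorem member_unique {B B' : Subgroup G} (hB : B ∈ 𝓐) (hB' : B' ∈ 𝓐) {t : G} (ht1 : t ≠ 1)
    (htp : ∃ k : ℕ, orderOf t = p ^ k) (ht : t ∈ B) (ht' : t ∈ B') : B = B' := by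
  have hM : centralizer ({t} : Set G) ≠ ⊤ := by
    intro htop
    apply ht1
    have : t ∈ Subgroup.center G := by
      rw [Subgroup.mem_center_iff]
      intro g
      have hg : g ∈ centralizer ({t} : Set G) := by rw [htop]; trivial
      rw [Subgroup.mem_centralizer_iff] at hg
      exact (hg t rfl).symm
    rw [hZ, Subgroup.mem_bot] at this
    exact this
  apply h.eq_of_le hM hB hB'
  · intro b hb
    rw [Subgroup.mem_centralizer_iff]
    intro x hx
    rw [Set.mem_singleton_iff] at hx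
    subst hx
    exact (member_comm h P hab hB ht htp hb).symm
  · intro b hb
    rw [Subgroup.mem_centralizer_iff]
    intro x hx
    rw [Set.mem_singleton_iff] at hx
    subst hx
    exact (member_comm h P hab hB' ht' htp hb).symm

/-- the hypothesis on the shape of `P` -/
def Shape (P : Sylow p G) : Prop :=
  (∃ x ∈ (P : Subgroup G), ∀ y ∈ (P : Subgroup G), y ∈ Subgroup.zpowers x) ∨
    ∃ a ∈ (P : Subgroup G), a ^ p ≠ 1

include h hZ hab in
theorem exists_member_ge (hS : Shape P) : ∃ B ∈ 𝓐, (P : Subgroup G) ≤ B := by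
  rcases hS with ⟨x, hx, hgen⟩ | ⟨a, ha, hap⟩
  · obtain ⟨B, hB, hxB⟩ := h.cover x
    refine ⟨B, hB, fun y hy => ?_⟩
    exact (Subgroup.zpowers_le.mpr hxB) (hgen y hy)
  · -- an element of maximal order
    haveI : Nonempty ↥(P : Subgroup G) := ⟨1⟩
    obtain ⟨u₀, hu₀⟩ := Finite.exists_max (fun y : ↥(P : Subgroup G) => orderOf (y : G))
    obtain ⟨e, he⟩ := orderOf_of_mem_sylow P u₀.2
    obtain ⟨j, hj⟩ := orderOf_of_mem_sylow P ha
    have hle : orderOf a ≤ orderOf (u₀ : G) := hu₀ ⟨a, ha⟩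
    have hj2 : 2 ≤ j := by
      by_contra hlt
      push Not at hlt
      apply hap
      have : orderOf a ∣ p := by
        rw [hj]
        interval_cases j
        · simp
        · simp
      exact orderOf_dvd_iff_pow_eq_one.mp this
    have he2 : 2 ≤ e := by
      rw [hj, he] at hle
      have := (Nat.pow_le_pow_iff_right hp.out.one_lt).mp hle
      omega
    -- dichotomy for elements of `P`
    have hdich : ∀ y ∈ (P : Subgroup G), y ^ p ^ (e - 1) = 1 ∨ orderOf y = p ^ e := by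
      intro y hy
      obtain ⟨i, hi⟩ := orderOf_of_mem_sylow P hy
      have hle' : orderOf y ≤ orderOf (u₀ : G) := hu₀ ⟨y, hy⟩
      rw [hi, he] at hle'
      have hie := (Nat.pow_le_pow_iff_right hp.out.one_lt).mp hle'
      rcases Nat.lt_or_ge i e with hlt | hge
      · left
        apply orderOf_dvd_iff_pow_eq_one.mp
        rw [hi]
        exact pow_dvd_pow p (by omega)
      · right
        rw [hi]; congr 1; omega
    -- step (iii)
    have step3 : ∀ u ∈ (P : Subgroup G), orderOf u = p ^ e → ∀ B ∈ 𝓐, u ∈ B →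
        ∀ s ∈ (P : Subgroup G), s ^ p ^ (e - 1) = 1 → s ∈ B := by
      intro u hu hue B hB huB s hs hs1
      have hw1 : u ^ p ^ (e - 1) ≠ 1 := by
        apply pow_ne_one_of_lt_orderOf (pow_pos hp.out.pos _).ne'
        rw [hue]
        exact Nat.pow_lt_pow_right hp.out.one_lt (by omega)
      have hwP : u ^ p ^ (e - 1) ∈ (P : Subgroup G) := Subgroup.pow_mem _ hu _
      have hcomm : Commute u s := hab u hu s hs
      have hpow : (u * s) ^ p ^ (e - 1) = u ^ p ^ (e - 1) := by
        rw [hcomm.mul_pow, hs1, mul_one]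
      obtain ⟨B', hB', husB'⟩ := h.cover (u * s)
      have hwB' : u ^ p ^ (e - 1) ∈ B' := by rw [← hpow]; exact Subgroup.pow_mem _ husB' _
      have hwB : u ^ p ^ (e - 1) ∈ B := Subgroup.pow_mem _ huB _
      have := member_unique h hZ P hab hB hB' hw1 (orderOf_of_mem_sylow P hwP) hwB hwB'
      rw [← this] at husB'
      have : s = u⁻¹ * (u * s) := by group
      rw [this]
      exact B.mul_mem (B.inv_mem huB) husB'
    obtain ⟨B₀, hB₀, hu₀B⟩ := h.cover (u₀ : G)
    refine ⟨B₀, hB₀, fun y hy => ?_⟩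
    have ht1 : (u₀ : G) ^ p ≠ 1 := by
      apply pow_ne_one_of_lt_orderOf hp.out.ne_zero
      rw [he]
      calc p = p ^ 1 := (pow_one p).symm
        _ < p ^ e := Nat.pow_lt_pow_right hp.out.one_lt (by omega)
    have htP : (u₀ : G) ^ p ∈ (P : Subgroup G) := Subgroup.pow_mem _ u₀.2 _
    have htpow : ((u₀ : G) ^ p) ^ p ^ (e - 1) = 1 := by
      rw [← pow_mul, ← pow_succ', show e - 1 + 1 = e by omega, ← he, pow_orderOf_eq_one]
    rcases hdich y hy with hy1 | hye
    · exact step3 u₀ u₀.2 he B₀ hB₀ hu₀B y hy hy1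
    · obtain ⟨By, hBy, hyBy⟩ := h.cover y
      have h1 : (u₀ : G) ^ p ∈ By := step3 y hy hye By hBy hyBy _ htP htpow
      have h2 : (u₀ : G) ^ p ∈ B₀ := Subgroup.pow_mem _ hu₀B _
      have := member_unique h hZ P hab hB₀ hBy ht1 (orderOf_of_mem_sylow P htP) h2 h1
      rw [this]; exact hyBy

include h hZ hab in
/-- `C_G(P)` is a member of the cover -/
theorem centralizer_mem (hS : Shape P) (hP1 : (P : Subgroup G) ≠ ⊥) :
    centralizer ((P : Subgroup G) : Set G) ∈ 𝓐 := by
  obtain ⟨B₀, hB₀, hPB⟩ := exists_member_ge h hZ P hab hS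
  obtain ⟨⟨x, hxP⟩, hx1'⟩ := (Subgroup.ne_bot_iff_exists_ne_one).mp hP1
  have hx1 : x ≠ 1 := fun h1 => hx1' (Subtype.ext h1)
  have hxp := orderOf_of_mem_sylow P hxP
  have heq : centralizer ((P : Subgroup G) : Set G) = B₀ := by
    apply le_antisymm
    · intro c hc
      obtain ⟨c₁, c₂, hc₁, hc₂, rfl, ⟨k, hk⟩, hcop⟩ := exists_p_decomp c p hp.out
      have hzc : Subgroup.zpowers (c₁ * c₂) ≤ centralizer ((P : Subgroup G) : Set G) :=
        (Subgroup.zpowers_le).mpr hc
      have hc₁p : ∃ j : ℕ, orderOf c₁ = p ^ j := by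
        obtain ⟨j, -, hj⟩ := (Nat.dvd_prime_pow hp.out).mp hk
        exact ⟨j, hj⟩
      have hc₁P : c₁ ∈ (P : Subgroup G) :=
        mem_sylow_of_mem_normalizer P hc₁p (Subgroup.centralizer_le_normalizer _ (hzc hc₁))
      have hc₂x : x * c₂ = c₂ * x := by
        have := hzc hc₂
        rw [Subgroup.mem_centralizer_iff] at this
        exact this x hxP
      obtain ⟨B', hB', hxc⟩ := h.cover (x * c₂)
      -- `x ∈ ⟨x c₂⟩`
      have hcop' : (orderOf c₂).Coprime (orderOf x) := by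
        obtain ⟨m, hm⟩ := hxp
        rw [hm]; exact Nat.Coprime.pow_right m hcop
      obtain ⟨m, hm⟩ := exists_pow_eq_self_of_coprime hcop'
      have hxB' : x ∈ B' := by
        have e1 : (x * c₂) ^ orderOf c₂ = x ^ orderOf c₂ := by
          rw [(show Commute x c₂ from hc₂x).mul_pow, pow_orderOf_eq_one, mul_one]
        rw [← hm, ← e1]
        exact Subgroup.pow_mem _ (Subgroup.pow_mem _ hxc _) _
      have := member_unique h hZ P hab hB₀ hB' hx1 hxp (hPB hxP) hxB'
      rw [← this] at hxc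
      have hc₂B : c₂ ∈ B₀ := by
        have : c₂ = x⁻¹ * (x * c₂) := by group
        rw [this]
        exact B₀.mul_mem (B₀.inv_mem (hPB hxP)) hxc
      exact B₀.mul_mem (hPB hc₁P) hc₂B
    · intro b hb
      rw [Subgroup.mem_centralizer_iff]
      intro y hy
      exact (member_comm h P hab hB₀ (hPB hy) (orderOf_of_mem_sylow P hy) hb).symm
  rw [heq]; exact hB₀

omit [Finite G] in
theorem shape_smul (g : G) (hS : Shape P) : Shape (g • P) := by
  rcases hS with ⟨x, hx, hgen⟩ | ⟨a, ha, hap⟩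
  · left
    refine ⟨g * x * g⁻¹, ?_, ?_⟩
    · rw [Sylow.coe_subgroup_smul, mem_cj]
      have : g⁻¹ * (g * x * g⁻¹) * g = x := by group
      rw [this]; exact hx
    · intro y hy
      rw [Sylow.coe_subgroup_smul, mem_cj] at hy
      obtain ⟨n, hn⟩ := Subgroup.mem_zpowers_iff.mp (hgen _ hy)
      rw [Subgroup.mem_zpowers_iff]
      refine ⟨n, ?_⟩
      rw [conj_zpow, hn]; group
  · right
    refine ⟨g * a * g⁻¹, ?_, ?_⟩
    · rw [Sylow.coe_subgroup_smul, mem_cj]
      have : g⁻¹ * (g * a * g⁻¹) * g = a := by group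
      rw [this]; exact ha
    · rw [conj_pow]
      intro h1
      apply hap
      have : a ^ p = g⁻¹ * (g * a ^ p * g⁻¹) * g := by group
      rw [this, h1]; group

omit [Finite G] in
include hab in
theorem hab_smul (g : G) :
    ∀ a ∈ ((g • P : Sylow p G) : Subgroup G), ∀ b ∈ ((g • P : Sylow p G) : Subgroup G),
      a * b = b * a := by
  intro a ha b hb
  rw [Sylow.coe_subgroup_smul, mem_cj] at ha hb
  have := hab _ ha _ hb
  calc a * b = g * ((g⁻¹ * a * g) * (g⁻¹ * b * g)) * g⁻¹ := by group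
    _ = g * ((g⁻¹ * b * g) * (g⁻¹ * a * g)) * g⁻¹ := by rw [this]
    _ = b * a := by group

omit [Finite G] in
theorem ne_bot_smul (g : G) (hP1 : (P : Subgroup G) ≠ ⊥) :
    ((g • P : Sylow p G) : Subgroup G) ≠ ⊥ := by
  obtain ⟨⟨x, hxP⟩, hx1'⟩ := (Subgroup.ne_bot_iff_exists_ne_one).mp hP1
  have hx1 : x ≠ 1 := fun h1 => hx1' (Subtype.ext h1)
  rw [Ne, Subgroup.eq_bot_iff_forall]
  intro hall
  apply hx1
  have hmem : g * x * g⁻¹ ∈ ((g • P : Sylow p G) : Subgroup G) := by
    rw [Sylow.coe_subgroup_smul, mem_cj]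
    have : g⁻¹ * (g * x * g⁻¹) * g = x := by group
    rw [this]; exact hxP
  have := hall _ hmem
  have e : x = g⁻¹ * (g * x * g⁻¹) * g := by group
  rw [e, this]; group

include h hZ hab in
/-- if `C_G(P)` and `C_G(gP)` have a common non-identity `p`-element or a common proper overgroup
condition (expressed by equality of the members), then `g` normalizes `P` -/
theorem mem_normalizer_of_centralizer_eq (g : G)
    (heq : centralizer ((P : Subgroup G) : Set G) =
      centralizer (((g • P : Sylow p G) : Subgroup G) : Set G)) :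
    g ∈ normalizer ((P : Subgroup G) : Set G) := by
  have hle : ((g • P : Sylow p G) : Subgroup G) ≤ (P : Subgroup G) := by
    intro y hy
    have hyc : y ∈ centralizer (((g • P : Sylow p G) : Subgroup G) : Set G) := by
      rw [Subgroup.mem_centralizer_iff]
      intro z hz
      exact hab_smul P hab g z hz y hy
    rw [← heq] at hyc
    exact mem_sylow_of_mem_normalizer P (orderOf_of_mem_sylow (g • P) hy)
      (Subgroup.centralizer_le_normalizer _ hyc)
  have : g • P = P := by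
    apply Sylow.ext
    apply Subgroup.eq_of_le_of_card_ge hle
    rw [Sylow.coe_subgroup_smul, card_cj]
  exact Sylow.smul_eq_iff_mem_normalizer.mp this

include h hZ hab in
theorem le_normalizer_of_centralizer_le (hS : Shape P) (hP1 : (P : Subgroup G) ≠ ⊥)
    {M : Subgroup G} (hM : M ≠ ⊤) (hCM : centralizer ((P : Subgroup G) : Set G) ≤ M) :
    M ≤ normalizer ((P : Subgroup G) : Set G) := by
  intro g hg
  apply mem_normalizer_of_centralizer_eq h hZ P hab g
  have m1 := centralizer_mem h hZ P hab hS hP1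
  have m2 := centralizer_mem h hZ (g • P) (hab_smul P hab g) (shape_smul P g hS)
    (ne_bot_smul P g hP1)
  apply h.eq_of_le hM m1 m2 hCM
  intro c hc
  -- `g⁻¹ c g ∈ C_G(P) ≤ M`
  have hc' : g⁻¹ * c * g ∈ centralizer ((P : Subgroup G) : Set G) := by
    rw [Subgroup.mem_centralizer_iff] at hc ⊢
    intro y hy
    have hy' : g * y * g⁻¹ ∈ ((g • P : Sylow p G) : Subgroup G) := by
      rw [Sylow.coe_subgroup_smul, mem_cj]
      have : g⁻¹ * (g * y * g⁻¹) * g = y := by group
      rw [this]; exact hy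
    have := hc _ hy'
    calc y * (g⁻¹ * c * g) = g⁻¹ * ((g * y * g⁻¹) * c) * g := by group
      _ = g⁻¹ * (c * (g * y * g⁻¹)) * g := by rw [this]
      _ = g⁻¹ * c * g * y := by group
  have : c = g * (g⁻¹ * c * g) * g⁻¹ := by group
  rw [this]
  exact M.mul_mem (M.mul_mem hg (hCM hc')) (M.inv_mem hg)

include h hZ hab in
theorem isCoatom_normalizer (hS : Shape P) (hP1 : (P : Subgroup G) ≠ ⊥)
    (hnn : ¬ (P : Subgroup G).Normal) : IsCoatom (normalizer ((P : Subgroup G) : Set G)) := by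
  have hN : normalizer ((P : Subgroup G) : Set G) ≠ ⊤ := by
    intro htop
    exact hnn (Subgroup.normalizer_eq_top_iff.mp htop)
  refine ⟨hN, fun M hM => ?_⟩
  by_contra hMtop
  have := le_normalizer_of_centralizer_le h hZ P hab hS hP1 hMtop
    ((Subgroup.centralizer_le_normalizer _).trans hM.le)
  exact (lt_irrefl _ (lt_of_lt_of_le hM this))

include h hZ hab in
theorem eq_normalizer_of_isCoatom (hS : Shape P) (hP1 : (P : Subgroup G) ≠ ⊥)
    (hnn : ¬ (P : Subgroup G).Normal) {M : Subgroup G} (hM : IsCoatom M)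
    (hCM : centralizer ((P : Subgroup G) : Set G) ≤ M) :
    M = normalizer ((P : Subgroup G) : Set G) := by
  have hle := le_normalizer_of_centralizer_le h hZ P hab hS hP1 hM.1 hCM
  have hN := (isCoatom_normalizer h hZ P hab hS hP1 hnn).1
  rcases eq_or_lt_of_le hle with he | hlt
  · exact he
  · exact absurd (hM.2 _ hlt) hN

include h hZ hab in
theorem not_dvd_card_inf (hS : Shape P) (hP1 : (P : Subgroup G) ≠ ⊥) (g : G)
    (hg : g ∉ normalizer ((P : Subgroup G) : Set G)) :
    ¬ p ∣ Nat.card ↥(normalizer ((P : Subgroup G) : Set G) ⊓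
      (normalizer ((P : Subgroup G) : Set G)).map (MulAut.conj g).toMonoidHom) := by
  intro hdvd
  obtain ⟨z, hz⟩ := exists_prime_orderOf_dvd_card' p hdvd
  obtain ⟨y, hyy⟩ : ∃ y : G, y = (z : G) := ⟨_, rfl⟩
  have hyN : y ∈ normalizer ((P : Subgroup G) : Set G) := by rw [hyy]; exact z.2.1
  have hyNg : y ∈ (normalizer ((P : Subgroup G) : Set G)).map (MulAut.conj g).toMonoidHom := by
    rw [hyy]; exact z.2.2
  have hy : orderOf y = p := by rw [hyy, Subgroup.orderOf_coe]; exact hz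
  have hyp : ∃ k : ℕ, orderOf y = p ^ k := ⟨1, by rw [hy, pow_one]⟩
  have hy1 : y ≠ 1 := by
    intro h1
    rw [h1, orderOf_one] at hy
    exact hp.out.one_lt.ne hy
  have hyP : y ∈ (P : Subgroup G) := mem_sylow_of_mem_normalizer P hyp hyN
  obtain ⟨n, hn, hny⟩ := hyNg
  have hny' : g * n * g⁻¹ = y := hny
  have hnp : ∃ k : ℕ, orderOf n = p ^ k := by
    have : orderOf n = orderOf y := by
      rw [← hny']
      exact (MulEquiv.orderOf_eq (MulAut.conj g) n).symm
    rw [this]; exact hyp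
  have hnP : n ∈ (P : Subgroup G) := mem_sylow_of_mem_normalizer P hnp hn
  have hygP : y ∈ ((g • P : Sylow p G) : Subgroup G) := by
    rw [Sylow.coe_subgroup_smul, mem_cj, ← hny']
    have : g⁻¹ * (g * n * g⁻¹) * g = n := by group
    rw [this]; exact hnP
  apply hg
  apply mem_normalizer_of_centralizer_eq h hZ P hab g
  have m1 := centralizer_mem h hZ P hab hS hP1
  have m2 := centralizer_mem h hZ (g • P) (hab_smul P hab g) (shape_smul P g hS)
    (ne_bot_smul P g hP1)
  apply member_unique h hZ P hab m1 m2 hy1 hyp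
  · rw [Subgroup.mem_centralizer_iff]
    intro z hz
    exact hab z hz y hyP
  · rw [Subgroup.mem_centralizer_iff]
    intro z hz
    exact hab_smul P hab g z hz y hygP

end main

end Cfsg.Agent.Lib.Helper17.NilCover
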