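import Mathlib
import Cfsg.Prelude.Def_Local

/-!
# Groups whose maximal subgroups are `p`-nilpotent or of prime index (helper17), part A

Basic tools: the predicate `ChainAbove p N` (a normal series above `N` of shape `p', p, p', p, good`),
its transfer from quotients, closure under intersections, and the transfer of the hypothesis on maximal
subgroups to quotients.
-/

set_option autoImplicit false

namespace Cfsg.Agent.Lib.Helper17.PLen

open Subgroup

/-- all prime divisors of `n` divide `p - 1` -/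
def Good (p n : ℕ) : Prop := ∀ q : ℕ, q.Prime → q ∣ n → q ∣ p - 1

theorem Good.of_dvd {p a b : ℕ} (h : Good p b) (hab : a ∣ b) : Good p a :=
  fun q hq hqa => h q hq (hqa.trans hab)

theorem Good.mul {p a b : ℕ} (ha : Good p a) (hb : Good p b) : Good p (a * b) := by
  intro q hq hqab
  rcases (Nat.Prime.dvd_mul hq).mp hqab with h | h
  · exact ha q hq h
  · exact hb q hq h

theorem good_one (p : ℕ) : Good p 1 := by
  intro q hq h
  exact absurd (Nat.dvd_one.mp h) hq.one_lt.ne'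

theorem pow_of_dvd_mul {p a b x : ℕ} (hp : p.Prime) (ha : ∃ k : ℕ, a = p ^ k) (hb : ∃ k : ℕ, b = p ^ k)
    (hx : x ∣ a * b) : ∃ k : ℕ, x = p ^ k := by
  obtain ⟨i, rfl⟩ := ha
  obtain ⟨j, rfl⟩ := hb
  rw [← pow_add] at hx
  obtain ⟨k, -, hk⟩ := (Nat.dvd_prime_pow hp).mp hx
  exact ⟨k, hk⟩

theorem not_dvd_of_dvd_mul {p a b x : ℕ} (hp : p.Prime) (ha : ¬ p ∣ a) (hb : ¬ p ∣ b)
    (hx : x ∣ a * b) : ¬ p ∣ x := by
  intro h
  rcases (Nat.Prime.dvd_mul hp).mp (h.trans hx) with h | h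
  · exact ha h
  · exact hb h

section
variable {G : Type*} [Group G]

theorem relIndex_dvd_of_le_right {A K B : Subgroup G} [A.Normal] (hKB : K ≤ B) :
    A.relIndex K ∣ A.relIndex B := by
  have h := Subgroup.relIndex_dvd_index_of_normal (A.subgroupOf B) (K.subgroupOf B)
  rw [Subgroup.relIndex_subgroupOf hKB] at h
  exact h

theorem relIndex_inf_dvd {X₁ X₂ : Subgroup G} (Y₁ Y₂ : Subgroup G) [X₁.Normal] [X₂.Normal] :
    (X₁ ⊓ X₂).relIndex (Y₁ ⊓ Y₂) ∣ X₁.relIndex Y₁ * X₂.relIndex Y₂ := by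
  rw [← Subgroup.relIndex_inf_mul_relIndex X₁ X₂ (Y₁ ⊓ Y₂)]
  apply mul_dvd_mul
  · exact relIndex_dvd_of_le_right (inf_le_right.trans inf_le_left)
  · exact relIndex_dvd_of_le_right inf_le_right

theorem index_inf_dvd {X₁ X₂ : Subgroup G} [X₁.Normal] [X₂.Normal] :
    (X₁ ⊓ X₂).index ∣ X₁.index * X₂.index := by
  have := relIndex_inf_dvd (X₁ := X₁) (X₂ := X₂) ⊤ ⊤
  rwa [top_inf_eq, relIndex_top_right, relIndex_top_right, relIndex_top_right] at this

/-- a normal series above `N` with factors `p'`, `p`, `p'`, `p` and a last factor all of whose prime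
divisors divide `p - 1` -/
def ChainAbove (p : ℕ) (N : Subgroup G) : Prop :=
  ∃ A B C D : Subgroup G, A.Normal ∧ B.Normal ∧ C.Normal ∧ D.Normal ∧ N ≤ A ∧ A ≤ B ∧ B ≤ C ∧ C ≤ D ∧
    ¬ p ∣ N.relIndex A ∧ (∃ k : ℕ, A.relIndex B = p ^ k) ∧ ¬ p ∣ B.relIndex C ∧
    (∃ k : ℕ, C.relIndex D = p ^ k) ∧ Good p D.index

theorem chainAbove_inf {p : ℕ} (hp : p.Prime) {N₁ N₂ : Subgroup G} [N₁.Normal] [N₂.Normal]
    (h₁ : ChainAbove p N₁) (h₂ : ChainAbove p N₂) : ChainAbove p (N₁ ⊓ N₂) := by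
  obtain ⟨A₁, B₁, C₁, D₁, hA₁, hB₁, hC₁, hD₁, hNA₁, hAB₁, hBC₁, hCD₁, h1₁, h2₁, h3₁, h4₁, h5₁⟩ := h₁
  obtain ⟨A₂, B₂, C₂, D₂, hA₂, hB₂, hC₂, hD₂, hNA₂, hAB₂, hBC₂, hCD₂, h1₂, h2₂, h3₂, h4₂, h5₂⟩ := h₂
  refine ⟨A₁ ⊓ A₂, B₁ ⊓ B₂, C₁ ⊓ C₂, D₁ ⊓ D₂, Subgroup.normal_inf_normal _ _,
    Subgroup.normal_inf_normal _ _, Subgroup.normal_inf_normal _ _, Subgroup.normal_inf_normal _ _,
    inf_le_inf hNA₁ hNA₂, inf_le_inf hAB₁ hAB₂, inf_le_inf hBC₁ hBC₂, inf_le_inf hCD₁ hCD₂,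
    ?_, ?_, ?_, ?_, ?_⟩
  · exact not_dvd_of_dvd_mul hp h1₁ h1₂ (relIndex_inf_dvd A₁ A₂)
  · exact pow_of_dvd_mul hp h2₁ h2₂ (relIndex_inf_dvd B₁ B₂)
  · exact not_dvd_of_dvd_mul hp h3₁ h3₂ (relIndex_inf_dvd C₁ C₂)
  · exact pow_of_dvd_mul hp h4₁ h4₂ (relIndex_inf_dvd D₁ D₂)
  · exact (h5₁.mul h5₂).of_dvd index_inf_dvd

theorem chainAbove_of_quotient {p : ℕ} (N : Subgroup G) [N.Normal]
    (h : ChainAbove p (⊥ : Subgroup (G ⧸ N))) : ChainAbove p N := by
  obtain ⟨A, B, C, D, hA, hB, hC, hD, -, hAB, hBC, hCD, h1, h2, h3, h4, h5⟩ := h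
  have hf : Function.Surjective (QuotientGroup.mk' N) := QuotientGroup.mk'_surjective N
  have hN : (⊥ : Subgroup (G ⧸ N)).comap (QuotientGroup.mk' N) = N := by
    rw [MonoidHom.comap_bot, QuotientGroup.ker_mk']
  have key : ∀ X Y : Subgroup (G ⧸ N),
      (X.comap (QuotientGroup.mk' N)).relIndex (Y.comap (QuotientGroup.mk' N)) = X.relIndex Y := by
    intro X Y
    rw [Subgroup.relIndex_comap, Subgroup.map_comap_eq_self_of_surjective hf]
  refine ⟨A.comap (QuotientGroup.mk' N), B.comap (QuotientGroup.mk' N), C.comap (QuotientGroup.mk' N),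
    D.comap (QuotientGroup.mk' N), hA.comap _, hB.comap _, hC.comap _, hD.comap _, ?_,
    comap_mono hAB, comap_mono hBC, comap_mono hCD, ?_, ?_, ?_, ?_, ?_⟩
  · exact hN.symm.le.trans (comap_mono bot_le)
  · have : N.relIndex (A.comap (QuotientGroup.mk' N)) = (⊥ : Subgroup (G ⧸ N)).relIndex A := by
      rw [← key ⊥ A, hN]
    rw [this]; exact h1
  · rw [key]; exact h2
  · rw [key]; exact h3
  · rw [key]; exact h4
  · rw [Subgroup.index_comap_of_surjective _ hf]; exact h5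

theorem chainAbove_bot_of_p' {p : ℕ} (N : Subgroup G) (hp : p.Prime) (hN : ¬ p ∣ Nat.card N)
    (h : ChainAbove p N) : ChainAbove p (⊥ : Subgroup G) := by
  obtain ⟨A, B, C, D, hA, hB, hC, hD, hNA, hAB, hBC, hCD, h1, h2, h3, h4, h5⟩ := h
  refine ⟨A, B, C, D, hA, hB, hC, hD, bot_le, hAB, hBC, hCD, ?_, h2, h3, h4, h5⟩
  rw [← Subgroup.relIndex_mul_relIndex ⊥ N A bot_le hNA, relIndex_bot_left]
  intro h
  rcases (Nat.Prime.dvd_mul hp).mp h with h | h
  · exact hN h
  · exact h1 h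

/-- the hypothesis on maximal subgroups -/
def MaxHyp (p : ℕ) (G : Type*) [Group G] : Prop :=
  ∀ M : Subgroup G, IsCoatom M →
    (∃ K : Subgroup ↥M, K.Normal ∧ ¬ p ∣ Nat.card K ∧ ∃ k : ℕ, K.index = p ^ k) ∨ (M.index).Prime

theorem isCoatom_comap (N : Subgroup G) [N.Normal] {M : Subgroup (G ⧸ N)} (hM : IsCoatom M) :
    IsCoatom (M.comap (QuotientGroup.mk' N)) := by
  have hf : Function.Surjective (QuotientGroup.mk' N) := QuotientGroup.mk'_surjective N
  constructor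
  · intro h
    apply hM.1
    have := Subgroup.map_comap_eq_self_of_surjective hf M
    rw [h, Subgroup.map_top_of_surjective _ hf] at this
    exact this.symm
  · intro X hX
    have hNX : N ≤ X := by
      have : N ≤ M.comap (QuotientGroup.mk' N) := by
        intro x hx
        rw [Subgroup.mem_comap]
        have : (QuotientGroup.mk' N) x = 1 := (QuotientGroup.eq_one_iff x).mpr hx
        rw [this]; exact M.one_mem
      exact this.trans hX.le
    have hcm : (X.map (QuotientGroup.mk' N)).comap (QuotientGroup.mk' N) = X := by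
      rw [Subgroup.comap_map_eq, QuotientGroup.ker_mk', sup_eq_left.mpr hNX]
    have hlt : M < X.map (QuotientGroup.mk' N) := by
      apply lt_of_le_of_ne
      · have := Subgroup.map_mono (f := QuotientGroup.mk' N) hX.le
        rwa [Subgroup.map_comap_eq_self_of_surjective hf] at this
      · intro h
        apply hX.ne
        rw [h, hcm]
    have := hM.2 _ hlt
    rw [← hcm, this, Subgroup.comap_top]

theorem maxHyp_quotient {p : ℕ} (hp : p.Prime) (N : Subgroup G) [N.Normal] (h : MaxHyp p G) :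
    MaxHyp p (G ⧸ N) := by
  intro Mbar hMbar
  have hf : Function.Surjective (QuotientGroup.mk' N) := QuotientGroup.mk'_surjective N
  rcases h (Mbar.comap (QuotientGroup.mk' N)) (isCoatom_comap N hMbar) with ⟨K, hKn, hKp, k, hk⟩ | hpr
  · left
    have hφ : Function.Surjective ((QuotientGroup.mk' N).subgroupComap Mbar) :=
      (QuotientGroup.mk' N).subgroupComap_surjective_of_surjective Mbar hf
    refine ⟨K.map ((QuotientGroup.mk' N).subgroupComap Mbar), hKn.map _ hφ, ?_, ?_⟩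
    · intro hdvd
      exact hKp (hdvd.trans (Subgroup.card_map_dvd K _))
    · have := Subgroup.index_map_dvd K hφ
      rw [hk] at this
      obtain ⟨j, -, hj⟩ := (Nat.dvd_prime_pow hp).mp this
      exact ⟨j, hj⟩
  · right
    rwa [Subgroup.index_comap_of_surjective _ hf] at hpr

end

end Cfsg.Agent.Lib.Helper17.PLen
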