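import Mathlib
import Cfsg.Agent.Lib.Helper13.SZConjB
import Cfsg.Agent.Lib.Helper17.PLenA

/-!
# Groups whose maximal subgroups are `p`-nilpotent or of prime index (helper17), part B

* `exists_compl_frattini` : a solvable normal Hall subgroup `N` of a normal subgroup `A` of `G` has a
  complement `L` in `A` with `G = N · N_G(L)` (Schur–Zassenhaus plus the Frattini argument)
* `exists_min_normal_pgroup` : a minimal normal `p`-subgroup, which is abelian
* `chain_of_frattini_case` : the case of a minimal normal subgroup inside the Frattini subgroup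
-/

set_option autoImplicit false

namespace Cfsg.Agent.Lib.Helper17.PLen

open Subgroup Cfsg.Agent.Lib.Helper13
open scoped Pointwise

universe u

variable {G : Type u} [Group G]

theorem exists_compl_frattini [Finite G] (N A : Subgroup G) [N.Normal] [A.Normal] (hNA : N ≤ A)
    (hsol : Group.IsSolvable N) (hcop : (Nat.card N).Coprime (N.relIndex A)) :
    ∃ L : Subgroup G, L ≤ A ∧ N ⊓ L = ⊥ ∧ N ⊔ L = A ∧ Nat.card L = N.relIndex A ∧
      N ⊔ normalizer (L : Set G) = ⊤ := by
  have hcardN : Nat.card (N.subgroupOf A) = Nat.card N :=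
    Nat.card_congr (Subgroup.subgroupOfEquivOfLe hNA).toEquiv
  have hcop' : (Nat.card (N.subgroupOf A)).Coprime (N.subgroupOf A).index := by
    rw [hcardN]; exact hcop
  obtain ⟨L₀, hL₀⟩ := Subgroup.exists_right_complement'_of_coprime hcop'
  have hLA : L₀.map A.subtype ≤ A := Subgroup.map_subtype_le L₀
  have hL₀eq : (L₀.map A.subtype).subgroupOf A = L₀ :=
    Subgroup.comap_map_eq_self_of_injective A.subtype_injective L₀
  have hcardL₀ : Nat.card L₀ = N.relIndex A := hL₀.symm.index_eq_card.symm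
  have hcardL : Nat.card (L₀.map A.subtype) = N.relIndex A := by
    rw [Subgroup.card_map_of_injective A.subtype_injective]; exact hcardL₀
  have hdisj : N ⊓ L₀.map A.subtype = ⊥ := by
    rw [eq_bot_iff]
    rintro x ⟨hxN, y, hy, rfl⟩
    have : y ∈ N.subgroupOf A ⊓ L₀ := ⟨hxN, hy⟩
    rw [hL₀.disjoint.eq_bot, Subgroup.mem_bot] at this
    rw [this, map_one]; exact Subgroup.one_mem _
  have hsup : N ⊔ L₀.map A.subtype = A := by
    apply le_antisymm (sup_le hNA hLA)
    intro x hx
    have h1 : (⟨x, hx⟩ : A) ∈ N.subgroupOf A ⊔ L₀ := by rw [hL₀.sup_eq_top]; trivial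
    have h2 : A.subtype ⟨x, hx⟩ ∈ (N.subgroupOf A ⊔ L₀).map A.subtype :=
      Subgroup.mem_map_of_mem _ h1
    rw [Subgroup.map_sup, Subgroup.map_subgroupOf_eq_of_le hNA] at h2
    exact h2
  refine ⟨L₀.map A.subtype, hLA, hdisj, hsup, hcardL, ?_⟩
  rw [eq_top_iff]
  intro g _
  set L := L₀.map A.subtype with hL
  have hKA : MulAut.conj g • L ≤ A := by
    have := cj_le_cj (g := g) hLA
    rwa [cj_normal g A] at this
  have hKdisj : N ⊓ MulAut.conj g • L = ⊥ := by
    have := congrArg (fun X => MulAut.conj g • X) hdisj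
    simp only [Subgroup.smul_inf, Subgroup.smul_bot, cj_normal] at this
    exact this
  have hKsup : N ⊔ MulAut.conj g • L = A := by
    have := congrArg (fun X => MulAut.conj g • X) hsup
    simp only [Subgroup.smul_sup, cj_normal] at this
    exact this
  have c1 := isComplement'_subgroupOf hNA hLA hdisj hsup
  have c2 := isComplement'_subgroupOf hNA hKA hKdisj hKsup
  have hsol' : Group.IsSolvable (N.subgroupOf A) :=
    Group.isSolvable_of_isSolvable_injective (f := (Subgroup.subgroupOfEquivOfLe hNA).toMonoidHom)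
      (Subgroup.subgroupOfEquivOfLe hNA).injective
  have hcop2 : (Nat.card (N.subgroupOf A)).Coprime (Nat.card (L.subgroupOf A)) := by
    rw [hcardN, hL₀eq, hcardL₀]; exact hcop
  obtain ⟨n, hn, hnc⟩ := sz_conj (N.subgroupOf A) (L.subgroupOf A)
    ((MulAut.conj g • L).subgroupOf A) (Or.inl hsol') hcop2 c1 c2
  rw [Subgroup.conj_smul_subgroupOf hLA n, Subgroup.subgroupOf_inj,
    inf_eq_left.mpr (Subgroup.conj_smul_le_of_le hLA n), inf_eq_left.mpr hKA] at hnc
  have hmem : (n : G)⁻¹ * g ∈ normalizer (L : Set G) := by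
    rw [← cj_eq_self_iff_mem_normalizer, cj_mul, ← hnc, ← cj_mul, inv_mul_cancel, cj_one]
  have : g = (n : G) * ((n : G)⁻¹ * g) := by group
  rw [this]
  exact Subgroup.mul_mem_sup (Subgroup.mem_subgroupOf.mp hn) hmem

theorem exists_min_normal_pgroup [Finite G] {p : ℕ} [hp : Fact p.Prime] (P : Subgroup G) (hPn : P.Normal)
    (hP : IsPGroup p P) (hne : P ≠ ⊥) :
    ∃ N : Subgroup G, N.Normal ∧ N ≠ ⊥ ∧ IsPGroup p N ∧
      (∀ K : Subgroup G, K.Normal → K ≤ N → K = ⊥ ∨ K = N) ∧
      (∀ a b : G, a ∈ N → b ∈ N → a * b = b * a) := by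
  obtain ⟨N, ⟨hNn, hN1, hNP⟩, hmin⟩ := exists_minimal_of_wellFoundedLT
    (fun K : Subgroup G => K.Normal ∧ K ≠ ⊥ ∧ K ≤ P) ⟨P, hPn, hne, le_rfl⟩
  have hNp : IsPGroup p N := hP.to_le hNP
  have hmin' : ∀ K : Subgroup G, K.Normal → K ≤ N → K = ⊥ ∨ K = N := by
    intro K hKn hKN
    by_cases hK : K = ⊥
    · exact Or.inl hK
    · exact Or.inr (le_antisymm hKN (hmin ⟨hKn, hK, hKN.trans hNP⟩ hKN))
  refine ⟨N, hNn, hN1, hNp, hmin', ?_⟩
  haveI := hNn
  haveI : Nontrivial N := (Subgroup.nontrivial_iff_ne_bot N).mpr hN1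
  haveI : Nontrivial (Subgroup.center N) := hNp.center_nontrivial
  have hZn : ((Subgroup.center N).map N.subtype).Normal := inferInstance
  have hZ1 : (Subgroup.center N).map N.subtype ≠ ⊥ := by
    rw [Ne, Subgroup.map_eq_bot_iff_of_injective _ N.subtype_injective,
      ← Ne, ← Subgroup.nontrivial_iff_ne_bot]
    infer_instance
  have hZN : (Subgroup.center N).map N.subtype ≤ N := Subgroup.map_subtype_le _
  have hle : N ≤ (Subgroup.center N).map N.subtype := by
    rcases hmin' _ hZn hZN with h | h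
    · exact absurd h hZ1
    · exact h.ge
  intro a b ha hb
  obtain ⟨z, hz, rfl⟩ := hle ha
  have := Subgroup.mem_center_iff.mp hz ⟨b, hb⟩
  have h2 := congrArg (N.subtype) this
  simp only [map_mul, Subgroup.subtype_apply] at h2
  exact h2.symm

theorem chain_of_frattini_case [Finite G] {p : ℕ} [hp : Fact p.Prime] (N : Subgroup G) [N.Normal]
    (hNp : IsPGroup p N) (hNab : ∀ a b : G, a ∈ N → b ∈ N → a * b = b * a)
    (hphi : ∀ M : Subgroup G, IsCoatom M → N ≤ M)
    (hOp' : ∀ K : Subgroup G, K.Normal → ¬ p ∣ Nat.card K → K = ⊥)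
    (h : ChainAbove p N) : ChainAbove p (⊥ : Subgroup G) := by
  obtain ⟨A, B, C, D, hA, hB, hC, hD, hNA, hAB, hBC, hCD, h1, h2, h3, h4, h5⟩ := h
  haveI := hA
  have hsol : Group.IsSolvable N :=
    isSolvable_of_comm (fun a b => Subtype.ext (hNab a b a.2 b.2))
  obtain ⟨j, hj⟩ := IsPGroup.iff_card.mp hNp
  have hcop : (Nat.card N).Coprime (N.relIndex A) := by
    rw [hj]
    exact Nat.Coprime.pow_left j ((Nat.Prime.coprime_iff_not_dvd hp.out).mpr h1)
  obtain ⟨L, hLA, hdisj, hsup, hcardL, hfr⟩ := exists_compl_frattini N A hNA hsol hcop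
  have hnorm : normalizer (L : Set G) = ⊤ := by
    by_contra hne
    obtain ⟨M, hM, hle⟩ := (eq_top_or_exists_le_coatom (normalizer (L : Set G))).resolve_left hne
    apply hM.1
    rw [eq_top_iff, ← hfr]
    exact sup_le (hphi M hM) hle
  have hLn : L.Normal := Subgroup.normalizer_eq_top_iff.mp hnorm
  have hL1 : L = ⊥ := hOp' L hLn (by rw [hcardL]; exact h1)
  have hAN : A = N := by rw [← hsup, hL1, sup_bot_eq]
  obtain ⟨i, hi⟩ := h2
  refine ⟨⊥, B, C, D, Subgroup.normal_bot, hB, hC, hD, le_rfl, bot_le, hBC, hCD, ?_, ?_, h3, h4, h5⟩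
  · rw [relIndex_bot_left, Subgroup.card_bot]
    exact hp.out.not_dvd_one
  · refine ⟨j + i, ?_⟩
    rw [← Subgroup.relIndex_mul_relIndex ⊥ N B bot_le (hNA.trans hAB), relIndex_bot_left, hj,
      ← hAN, hi, pow_add]

end Cfsg.Agent.Lib.Helper17.PLen
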