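import Mathlib
import Cfsg.Agent.Lib.Lead.PSolvOfSolv
import Cfsg.Agent.Lib.Helper17.PLenB

/-!
# Groups whose maximal subgroups are `p`-nilpotent or of prime index (helper17), part C

`main`: a finite `p`-solvable group all of whose maximal subgroups have a normal `p`-complement or prime
index has a normal series `1 ≤ A ≤ B ≤ C ≤ D ≤ G` with factors `p'`, `p`, `p'`, `p` and `|G : D|` a product
of primes dividing `p - 1`.
-/

set_option autoImplicit false

namespace Cfsg.Agent.Lib.Helper17.PLen

open Subgroup Cfsg.Agent.Lib.Helper13 Cfsg.Agent.Lib.Helper3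

universe u

variable {G : Type u} [Group G]

theorem normal_of_sup_top {N M X : Subgroup G} [N.Normal] (hNM : N ⊔ M = ⊤)
    (hM : ∀ m ∈ M, ∀ x ∈ X, m * x * m⁻¹ ∈ X) (hN : ∀ n ∈ N, ∀ x ∈ X, n * x = x * n) :
    X.Normal := by
  constructor
  intro x hx g
  have hg : g ∈ N ⊔ M := by rw [hNM]; trivial
  obtain ⟨n, hn, m, hm, rfl⟩ := Subgroup.mem_sup_of_normal_left.mp hg
  have h1 := hM m hm x hx
  have h2 := hN n hn _ h1
  have : n * m * x * (n * m)⁻¹ = n * (m * x * m⁻¹) * n⁻¹ := by group
  rw [this, h2, mul_inv_cancel_right]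
  exact h1

theorem chain_of_pnilpotent_max [Finite G] {p : ℕ} [hp : Fact p.Prime] (N M : Subgroup G) [N.Normal]
    (hNp : IsPGroup p N) (hNM : N ⊔ M = ⊤) (K : Subgroup ↥M) (hKn : K.Normal)
    (hKp : ¬ p ∣ Nat.card K) (k : ℕ) (hk : K.index = p ^ k) : ChainAbove p (⊥ : Subgroup G) := by
  have hfs : Function.Surjective ((QuotientGroup.mk' N).comp M.subtype) := by
    intro y
    obtain ⟨g, rfl⟩ := QuotientGroup.mk'_surjective N y
    have hg : g ∈ N ⊔ M := by rw [hNM]; trivial
    obtain ⟨n, hn, m, hm, rfl⟩ := Subgroup.mem_sup_of_normal_left.mp hg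
    refine ⟨⟨m, hm⟩, ?_⟩
    rw [MonoidHom.comp_apply, Subgroup.subtype_apply, map_mul]
    have : (QuotientGroup.mk' N) n = 1 := (QuotientGroup.eq_one_iff n).mpr hn
    rw [this, one_mul]
  have hq : Function.Surjective (QuotientGroup.mk' N) := QuotientGroup.mk'_surjective N
  have hXn : (K.map ((QuotientGroup.mk' N).comp M.subtype)).Normal := hKn.map _ hfs
  have hN : (⊥ : Subgroup (G ⧸ N)).comap (QuotientGroup.mk' N) = N := by
    rw [MonoidHom.comap_bot, QuotientGroup.ker_mk']
  obtain ⟨j, hj⟩ := IsPGroup.iff_card.mp hNp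
  refine ⟨⊥, N, (K.map ((QuotientGroup.mk' N).comp M.subtype)).comap (QuotientGroup.mk' N), ⊤,
    Subgroup.normal_bot, inferInstance, hXn.comap _, Subgroup.normal_top, le_rfl, bot_le,
    hN.symm.le.trans (comap_mono bot_le), le_top, ?_, ⟨j, ?_⟩, ?_, ?_, ?_⟩
  · rw [relIndex_bot_left, Subgroup.card_bot]; exact hp.out.not_dvd_one
  · rw [relIndex_bot_left, hj]
  · have e := Subgroup.relIndex_comap (⊥ : Subgroup (G ⧸ N)) (QuotientGroup.mk' N)
      ((K.map ((QuotientGroup.mk' N).comp M.subtype)).comap (QuotientGroup.mk' N))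
    rw [hN, Subgroup.map_comap_eq_self_of_surjective hq, relIndex_bot_left] at e
    rw [e]
    intro hdvd
    exact hKp (hdvd.trans (Subgroup.card_map_dvd K _))
  · rw [relIndex_top_right, Subgroup.index_comap_of_surjective _ hq]
    have := Subgroup.index_map_dvd K hfs
    rw [hk] at this
    obtain ⟨i, -, hi⟩ := (Nat.dvd_prime_pow hp.out).mp this
    exact ⟨i, hi⟩
  · rw [Subgroup.index_top]; exact good_one p

theorem chain_of_prime_index_max [Finite G] {p : ℕ} [hp : Fact p.Prime] (N M : Subgroup G) [N.Normal]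
    (hNp : IsPGroup p N) (hN1 : N ≠ ⊥) (hNM : N ⊔ M = ⊤) (hdisj : N ⊓ M = ⊥)
    (hcent : centralizer (N : Set G) ⊓ M = ⊥) (hab : ∀ a b : G, a ∈ N → b ∈ N → a * b = b * a)
    (hpr : M.index.Prime) : ChainAbove p (⊥ : Subgroup G) := by
  have hc : N.IsComplement' M := isComplement'_of_normal hdisj hNM
  have hcard : Nat.card N = M.index := hc.index_eq_card.symm
  obtain ⟨j, hj⟩ := IsPGroup.iff_card.mp hNp
  have hj0 : j ≠ 0 := by
    rintro rfl
    rw [pow_zero] at hj
    exact hN1 (Subgroup.card_eq_one.mp hj)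
  have hpdvd : p ∣ Nat.card N := by rw [hj]; exact dvd_pow_self p hj0
  have hcardp : Nat.card N = p := by
    rw [hcard] at hpdvd ⊢
    exact ((Nat.prime_dvd_prime_iff_eq hp.out hpr).mp hpdvd).symm
  haveI : IsCyclic N := isCyclic_of_prime_card hcardp
  have hCN : centralizer (N : Set G) = N := by
    apply le_antisymm
    · intro x hx
      have hg : x ∈ N ⊔ M := by rw [hNM]; trivial
      obtain ⟨n, hn, m, hm, rfl⟩ := Subgroup.mem_sup_of_normal_left.mp hg
      have hnc : n ∈ centralizer (N : Set G) := by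
        rw [Subgroup.mem_centralizer_iff]; intro h hh; exact hab h n hh hn
      have hmc : m ∈ centralizer (N : Set G) := by
        have : m = n⁻¹ * (n * m) := by group
        rw [this]; exact Subgroup.mul_mem _ (Subgroup.inv_mem _ hnc) hx
      have : m ∈ centralizer (N : Set G) ⊓ M := ⟨hmc, hm⟩
      rw [hcent, Subgroup.mem_bot] at this
      rw [this, mul_one]; exact hn
    · intro x hx
      rw [Subgroup.mem_centralizer_iff]; intro h hh; exact hab h x hh hx
  have hker : (MulAut.conjNormal (H := N)).ker = centralizer (N : Set G) := by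
    ext g
    rw [MonoidHom.mem_ker, Subgroup.mem_centralizer_iff]
    constructor
    · intro h x hx
      have := congrArg (fun φ : MulAut N => ((φ ⟨x, hx⟩ : N) : G)) h
      simp only [MulAut.conjNormal_apply, MulAut.one_apply] at this
      calc x * g = (g * x * g⁻¹) * g := by rw [this]
        _ = g * x := by group
    · intro h
      ext ⟨x, hx⟩
      rw [MulAut.conjNormal_apply, MulAut.one_apply]
      change g * x * g⁻¹ = x
      rw [← h x hx, mul_inv_cancel_right]
  have hidx : N.index ∣ p - 1 := by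
    have h1 : N.index = Nat.card (MulAut.conjNormal (H := N)).range := by
      rw [← Subgroup.index_ker, hker, hCN]
    rw [h1]
    have h2 := Subgroup.card_subgroup_dvd_card (MulAut.conjNormal (H := N)).range
    rw [IsCyclic.card_mulAut, hcardp, Nat.totient_prime hp.out] at h2
    exact h2
  refine ⟨⊥, N, N, N, Subgroup.normal_bot, inferInstance, inferInstance, inferInstance, le_rfl,
    bot_le, le_rfl, le_rfl, ?_, ⟨1, ?_⟩, ?_, ⟨0, ?_⟩, ?_⟩
  · rw [relIndex_bot_left, Subgroup.card_bot]; exact hp.out.not_dvd_one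
  · rw [relIndex_bot_left, hcardp, pow_one]
  · rw [Subgroup.relIndex_self]; exact hp.out.not_dvd_one
  · rw [Subgroup.relIndex_self, pow_zero]
  · intro q _ hqd; exact hqd.trans hidx

theorem card_quotient_lt [Finite G] (K : Subgroup G) [K.Normal] (hK : K ≠ ⊥) :
    Nat.card (G ⧸ K) < Nat.card G := by
  rw [Subgroup.card_eq_card_quotient_mul_card_subgroup K]
  have h1 : 1 < Nat.card K := by
    rw [Subgroup.one_lt_card_iff_ne_bot]; exact hK
  have h2 : 0 < Nat.card (G ⧸ K) := Nat.card_pos
  nlinarith

theorem main_aux (p : ℕ) [hp : Fact p.Prime] : ∀ (n : ℕ) (G : Type u) [Group G] [Finite G],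
    Nat.card G = n → Cfsg.IsPSolvable p G → MaxHyp p G → ChainAbove p (⊥ : Subgroup G) := by
  intro n
  induction n using Nat.strong_induction_on with
  | _ n ih =>
    intro G _ _ hn hsol hmax
    have quot : ∀ K : Subgroup G, K.Normal → K ≠ ⊥ → ChainAbove p K := by
      intro K hKn hK1
      haveI := hKn
      have hlt : Nat.card (G ⧸ K) < n := by rw [← hn]; exact card_quotient_lt K hK1
      exact chainAbove_of_quotient K (ih _ hlt (G ⧸ K) rfl (isPSolvable_quotient hp.out hsol K)
        (maxHyp_quotient hp.out K hmax))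
    by_cases h1 : ∃ K : Subgroup G, K.Normal ∧ K ≠ ⊥ ∧ ¬ p ∣ Nat.card K
    · obtain ⟨K, hKn, hK1, hKp⟩ := h1
      exact chainAbove_bot_of_p' K hp.out hKp (quot K hKn hK1)
    push Not at h1
    by_cases htriv : Nat.card G = 1
    · refine ⟨⊤, ⊤, ⊤, ⊤, Subgroup.normal_top, Subgroup.normal_top, Subgroup.normal_top,
        Subgroup.normal_top, bot_le, le_rfl, le_rfl, le_rfl, ?_, ⟨0, ?_⟩, ?_, ⟨0, ?_⟩, ?_⟩
      · rw [relIndex_bot_left, Subgroup.card_top, htriv]; exact hp.out.not_dvd_one
      · rw [Subgroup.relIndex_self, pow_zero]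
      · rw [Subgroup.relIndex_self]; exact hp.out.not_dvd_one
      · rw [Subgroup.relIndex_self, pow_zero]
      · rw [Subgroup.index_top]; exact good_one p
    have hbt : (⊥ : Subgroup G) < ⊤ := by
      rw [bot_lt_iff_ne_bot]
      intro h
      apply htriv
      have := Subgroup.card_top (G := G)
      rw [h, Subgroup.card_bot] at this
      exact this.symm
    obtain ⟨P, hPn, hP1, -, hPp⟩ :=
      exists_normal_between hp.out hsol Subgroup.normal_bot Subgroup.normal_top hbt
    rw [relIndex_bot_left] at hPp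
    have hPne : P ≠ ⊥ := hP1.ne'
    have hPdvd := h1 P hPn hPne
    have hPpg : IsPGroup p P := by
      rcases hPp with ⟨m, hm⟩ | hc
      · exact IsPGroup.of_card hm
      · exfalso
        have := Nat.Coprime.eq_one_of_dvd hc.symm hPdvd
        exact hp.out.one_lt.ne' this
    obtain ⟨N, hNn, hN1, hNp, hmin, hNab⟩ := exists_min_normal_pgroup P hPn hPpg hPne
    haveI := hNn
    by_cases hphi : ∀ M : Subgroup G, IsCoatom M → N ≤ M
    · exact chain_of_frattini_case N hNp hNab hphi (fun K hKn hKp => by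
        by_contra hne; exact hKp (h1 K hKn hne)) (quot N hNn hN1)
    push Not at hphi
    obtain ⟨M, hM, hNM⟩ := hphi
    have hsup : N ⊔ M = ⊤ := by
      apply hM.2
      apply lt_of_le_of_ne le_sup_right
      intro h
      apply hNM
      rw [h]
      exact le_sup_left
    rcases hmax M hM with ⟨K, hKn, hKp, k, hk⟩ | hpr
    · exact chain_of_pnilpotent_max N M hNp hsup K hKn hKp k hk
    · have hNMn : (N ⊓ M).Normal := by
        apply normal_of_sup_top hsup
        · intro m hm x hx
          exact ⟨hNn.conj_mem x hx.1 m, M.mul_mem (M.mul_mem hm hx.2) (M.inv_mem hm)⟩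
        · intro n hn x hx
          exact hNab n x hn hx.1
      have hdisj : N ⊓ M = ⊥ := by
        rcases hmin _ hNMn inf_le_left with h | h
        · exact h
        · exfalso; apply hNM; rw [← h]; exact inf_le_right
      have hCn : (centralizer (N : Set G) ⊓ M).Normal := by
        apply normal_of_sup_top hsup
        · intro m hm x hx
          exact ⟨(inferInstance : (centralizer (N : Set G)).Normal).conj_mem x hx.1 m,
            M.mul_mem (M.mul_mem hm hx.2) (M.inv_mem hm)⟩
        · intro n hn x hx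
          exact Subgroup.mem_centralizer_iff.mp hx.1 n hn
      by_cases hC : centralizer (N : Set G) ⊓ M = ⊥
      · exact chain_of_prime_index_max N M hNp hN1 hsup hdisj hC hNab hpr
      · have hNC : N ⊓ (centralizer (N : Set G) ⊓ M) = ⊥ := by
          rw [eq_bot_iff, ← hdisj]
          exact inf_le_inf le_rfl inf_le_right
        haveI := hCn
        have := chainAbove_inf hp.out (quot N hNn hN1) (quot _ hCn hC)
        rwa [hNC] at this

theorem main {G : Type u} [Group G] [Finite G] (p : ℕ) [Fact p.Prime]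
    (hsol : Cfsg.IsPSolvable p G) (hmax : MaxHyp p G) : ChainAbove p (⊥ : Subgroup G) :=
  main_aux p _ G rfl hsol hmax

end Cfsg.Agent.Lib.Helper17.PLen
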