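import Mathlib
import Cfsg.Agent.Lib.Helper17.OrbitIndex
import Cfsg.Agent.Lib.Helper24.DihIso

/-!
A finite primitive permutation group with a suborbit of length two is dihedral of order `2p`
(helper17).
-/

set_option autoImplicit false

namespace Cfsg.Agent.Lib.Helper17

open MulAction

section

variable {G Ω : Type*} [Group G] [Finite G] [MulAction G Ω] [FaithfulSMul G Ω] [Finite Ω]

/-- A normal subgroup contained in a point stabilizer of a faithful transitive action is trivial. -/
theorem eq_bot_of_normal_le_stabilizer [IsPretransitive G Ω] (K : Subgroup G)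
    (hK : ∀ k ∈ K, ∀ g : G, g⁻¹ * k * g ∈ K) (a : Ω) (hKa : K ≤ stabilizer G a) : K = ⊥ := by
  rw [eq_bot_iff]
  intro k hk
  rw [Subgroup.mem_bot]
  apply FaithfulSMul.eq_of_smul_eq_smul (α := Ω)
  intro ω
  obtain ⟨g, rfl⟩ := exists_smul_eq G a ω
  have h1 : (g⁻¹ * k * g) • a = a := mem_stabilizer_iff.mp (hKa (hK k hk g))
  rw [one_smul]
  calc k • g • a = g • ((g⁻¹ * k * g) • a) := by simp [smul_smul, mul_assoc]
    _ = g • a := by rw [h1]

theorem prim_subdeg_two_stabilizer (hprim : IsPreprimitive G Ω) (a b : Ω)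
    (h2 : Nat.card (orbit (stabilizer G a) b) = 2) :
    Nat.card (stabilizer G a) = 2 ∧ IsCoatom (stabilizer G a) := by
  haveI := hprim
  have hab : a ≠ b := by
    rintro rfl
    have h1 : orbit (stabilizer G a) a = {a} := by
      ext x
      constructor
      · rintro ⟨g, rfl⟩
        exact g.2
      · rintro rfl
        exact mem_orbit_self _
    rw [h1] at h2
    simp at h2
  haveI : Nontrivial Ω := ⟨⟨a, b, hab⟩⟩
  have hco : IsCoatom (stabilizer G a) := IsPreprimitive.isCoatom_stabilizer_of_isPreprimitive (G := G) (X := Ω) a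
  refine ⟨?_, hco⟩
  -- index of the two-point stabilizer
  have hidx : (stabilizer (stabilizer G a) b).index = 2 := by
    rw [index_stabilizer, ← Nat.card_coe_set_eq]; exact h2
  have hstab : stabilizer (stabilizer G a) b = (stabilizer G b).subgroupOf (stabilizer G a) := by
    ext x
    rw [mem_stabilizer_iff, Subgroup.mem_subgroupOf, mem_stabilizer_iff]
    rfl
  rw [hstab] at hidx
  obtain ⟨K, hKdef⟩ : ∃ K : Subgroup G, K = stabilizer G a ⊓ stabilizer G b := ⟨_, rfl⟩
  have hKA : K ≤ stabilizer G a := by rw [hKdef]; exact inf_le_left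
  have hKB : K ≤ stabilizer G b := by rw [hKdef]; exact inf_le_right
  have hrA : K.relIndex (stabilizer G a) = 2 := by
    rw [hKdef, inf_comm, Subgroup.inf_relIndex_right]; exact hidx
  have hcardA := relIndex_mul_card_of_le hKA
  rw [hrA] at hcardA
  -- stabilizers have the same order
  have hAB : Nat.card (stabilizer G b) = Nat.card (stabilizer G a) := by
    obtain ⟨g, rfl⟩ := exists_smul_eq G a b
    rw [stabilizer_smul_eq_stabilizer_map_conj]
    exact Subgroup.card_map_of_injective (MulAut.conj g).injective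
  have hcardB := relIndex_mul_card_of_le hKB
  have hrB : K.relIndex (stabilizer G b) = 2 := by
    have hpos : 0 < Nat.card K := Nat.card_pos
    have : K.relIndex (stabilizer G b) * Nat.card K = 2 * Nat.card K := by
      rw [hcardB, hAB, hcardA]
    exact Nat.eq_of_mul_eq_mul_right hpos this
  -- `K` is normalized by both stabilizers
  have hnA : stabilizer G a ≤ Subgroup.normalizer (K : Set G) := by
    rw [← Subgroup.normal_subgroupOf_iff_le_normalizer hKA]
    exact Subgroup.normal_of_index_eq_two hrA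
  have hnB : stabilizer G b ≤ Subgroup.normalizer (K : Set G) := by
    rw [← Subgroup.normal_subgroupOf_iff_le_normalizer hKB]
    exact Subgroup.normal_of_index_eq_two hrB
  have hsup : stabilizer G a ⊔ stabilizer G b = ⊤ := by
    apply hco.2
    refine lt_of_le_of_ne le_sup_left ?_
    intro heq
    have hBA : stabilizer G b ≤ stabilizer G a := by rw [heq]; exact le_sup_right
    have hEq : stabilizer G b = stabilizer G a :=
      Subgroup.eq_of_le_of_card_ge hBA hAB.ge
    have hK2 : K = stabilizer G a := by rw [hKdef, hEq, inf_idem]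
    rw [hK2, Subgroup.relIndex_self] at hrA
    omega
  have hKn : Subgroup.normalizer (K : Set G) = ⊤ := by
    rw [eq_top_iff, ← hsup]; exact sup_le hnA hnB
  have hKbot : K = ⊥ := by
    apply eq_bot_of_normal_le_stabilizer K _ a hKA
    intro k hk g
    have hg : g⁻¹ ∈ Subgroup.normalizer (K : Set G) := by rw [hKn]; exact Subgroup.mem_top _
    have := (Subgroup.mem_normalizer_iff.mp hg k).mp hk
    simpa using this
  rw [hKbot, Subgroup.card_bot, mul_one] at hcardA
  exact hcardA.symm

end

section dihedral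

variable {G : Type*} [Group G] [Finite G]

theorem dihedral_of_coatom_card_two (A : Subgroup G) (hco : IsCoatom A) (hcard : Nat.card A = 2)
    (hnn : ¬ A.Normal) : ∃ p : ℕ, p.Prime ∧ Nonempty (G ≃* DihedralGroup p) := by
  have hAne : A ≠ ⊥ := by
    intro h; rw [h, Subgroup.card_bot] at hcard; omega
  obtain ⟨⟨t, htA⟩, ht1'⟩ := (Subgroup.ne_bot_iff_exists_ne_one).mp hAne
  have ht1 : t ≠ 1 := fun h => ht1' (Subtype.ext h)
  have hot : orderOf t = 2 := by
    have h1 : orderOf t ∣ 2 := by
      have := Subgroup.orderOf_dvd_natCard A htA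
      rwa [hcard] at this
    rcases (Nat.dvd_prime Nat.prime_two).mp h1 with h | h
    · exact absurd (orderOf_eq_one_iff.mp h) ht1
    · exact h
  have hAz : A = Subgroup.zpowers t := by
    symm
    apply Subgroup.eq_of_le_of_card_ge ((Subgroup.zpowers_le).mpr htA)
    rw [Nat.card_zpowers, hot, hcard]
  have htt : t * t = 1 := by rw [← sq, ← hot, pow_orderOf_eq_one]
  have htinv : t⁻¹ = t := inv_eq_of_mul_eq_one_left htt
  -- a conjugate outside `A`
  obtain ⟨g, hg⟩ : ∃ g : G, g * t * g⁻¹ ∉ A := by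
    by_contra hcon
    push_neg at hcon
    apply hnn
    refine ⟨fun n hn g => ?_⟩
    rw [hAz] at hn
    obtain ⟨k, rfl⟩ := hn
    have : g * t ^ k * g⁻¹ = (g * t * g⁻¹) ^ k := by
      rw [← MulAut.conj_apply, ← MulAut.conj_apply, map_zpow]
    rw [this]
    exact A.zpow_mem (hcon g) k
  obtain ⟨u, hu⟩ : ∃ u : G, u = g * t * g⁻¹ := ⟨_, rfl⟩
  rw [← hu] at hg
  have hou : orderOf u = 2 := by
    rw [hu, ← hot, ← MulAut.conj_apply]; exact (MulAut.conj g).orderOf_eq t
  have huu : u * u = 1 := by rw [← sq, ← hou, pow_orderOf_eq_one]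
  have huinv : u⁻¹ = u := inv_eq_of_mul_eq_one_left huu
  have hcl : Subgroup.closure ({t, u} : Set G) = ⊤ := by
    apply hco.2
    refine lt_of_le_of_ne ?_ ?_
    · rw [hAz, Subgroup.zpowers_le]
      exact Subgroup.subset_closure (by simp)
    · intro heq
      apply hg
      rw [heq]
      exact Subgroup.subset_closure (by simp)
  obtain ⟨e0⟩ := Cfsg.Agent.Lib.Helper24.closure_pair_equiv_dihedral hot hou
  have e : G ≃* DihedralGroup (orderOf (t * u)) :=
    (Subgroup.topEquiv.symm.trans (MulEquiv.subgroupCongr hcl.symm)).trans e0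
  refine ⟨orderOf (t * u), ?_, ⟨e⟩⟩
  obtain ⟨ρ, hρ⟩ : ∃ ρ : G, ρ = t * u := ⟨_, rfl⟩
  rw [← hρ] at e ⊢
  obtain ⟨m, hm⟩ : ∃ m : ℕ, m = orderOf ρ := ⟨_, rfl⟩
  rw [← hm] at e ⊢
  have hcardG : Nat.card G = 2 * m := by
    rw [Nat.card_congr e.toEquiv, DihedralGroup.nat_card]
  have hmpos : 0 < m := by rw [hm]; exact orderOf_pos ρ
  have hρ1 : ρ ≠ 1 := by
    intro h
    rw [hρ] at h
    have : u = t := by
      have h2 : u = t⁻¹ := (inv_eq_of_mul_eq_one_right h).symm ▸ rfl
      rw [h2, htinv]
    apply hg; rw [this]; exact htA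
  have hm1 : m ≠ 1 := by
    intro h; rw [hm] at h; exact hρ1 (orderOf_eq_one_iff.mp h)
  have hinv : t * ρ * t⁻¹ = ρ⁻¹ := by
    rw [hρ, htinv, mul_inv_rev, huinv, htinv]
    calc t * (t * u) * t = (t * t) * u * t := by group
      _ = u * t := by rw [htt, one_mul]
  -- the subgroup of order `q`
  have hq : (Nat.minFac m).Prime := Nat.minFac_prime hm1
  have hqm : Nat.minFac m ∣ m := Nat.minFac_dvd m
  obtain ⟨q, hqdef⟩ : ∃ q : ℕ, q = Nat.minFac m := ⟨_, rfl⟩
  rw [← hqdef] at hq hqm
  obtain ⟨x, hx⟩ : ∃ x : G, x = ρ ^ (m / q) := ⟨_, rfl⟩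
  have hox : orderOf x = q := by
    have hd : m / q ∣ orderOf ρ := by rw [← hm]; exact Nat.div_dvd_of_dvd hqm
    have hne : m / q ≠ 0 := (Nat.div_pos (Nat.le_of_dvd hmpos hqm) hq.pos).ne'
    rw [hx, orderOf_pow_of_dvd hne hd, ← hm, Nat.div_div_self hqm hmpos.ne']
  have htx : t * x * t⁻¹ = x⁻¹ := by
    rw [hx, ← MulAut.conj_apply, map_pow, MulAut.conj_apply, hinv, inv_pow]
  have hTX : Subgroup.zpowers t ≤ Subgroup.normalizer ((Subgroup.zpowers x : Subgroup G) : Set G) := by
    rw [Subgroup.zpowers_le]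
    apply Subgroup.mem_normalizer_iff_map_conj_eq.mpr
    apply Subgroup.eq_of_le_of_card_ge
    · rintro _ ⟨y, hy, rfl⟩
      obtain ⟨k, rfl⟩ := hy
      have : (MulAut.conj t) (x ^ k) = (x⁻¹) ^ k := by
        rw [map_zpow, MulAut.conj_apply, htx]
      show (MulAut.conj t) (x ^ k) ∈ Subgroup.zpowers x
      rw [this]
      exact Subgroup.zpow_mem _ (Subgroup.inv_mem _ (Subgroup.mem_zpowers x)) k
    · exact (Subgroup.card_map_of_injective (MulAut.conj t).injective).ge
  have hprod := card_sup_mul_card_inf_of_le_normalizer (Subgroup.zpowers x) (Subgroup.zpowers t) hTX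
  rw [Nat.card_zpowers, Nat.card_zpowers, hox, hot] at hprod
  by_cases hinf : Subgroup.zpowers x ⊓ Subgroup.zpowers t = ⊥
  · rw [hinf, Subgroup.card_bot, mul_one] at hprod
    have hlt : A < Subgroup.zpowers x ⊔ Subgroup.zpowers t := by
      refine lt_of_le_of_ne (by rw [hAz]; exact le_sup_right) ?_
      intro heq
      rw [← heq, hcard] at hprod
      have := hq.two_le
      nlinarith
    have htop := hco.2 _ hlt
    rw [htop, Subgroup.card_top, hcardG] at hprod
    have : m = q := by omega
    rw [this]; exact hq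
  · -- `t ∈ ⟨x⟩`, so `t` centralizes `ρ`
    have hle : Subgroup.zpowers t ≤ Subgroup.zpowers x := by
      have h1 : Nat.card (Subgroup.zpowers x ⊓ Subgroup.zpowers t : Subgroup G) ∣ 2 := by
        have := Subgroup.card_dvd_of_le (inf_le_right :
          Subgroup.zpowers x ⊓ Subgroup.zpowers t ≤ Subgroup.zpowers t)
        rwa [Nat.card_zpowers, hot] at this
      have h2 : Nat.card (Subgroup.zpowers x ⊓ Subgroup.zpowers t : Subgroup G) = 2 := by
        rcases (Nat.dvd_prime Nat.prime_two).mp h1 with h | h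
        · exact absurd (Subgroup.card_eq_one.mp h) hinf
        · exact h
      have h3 : Subgroup.zpowers x ⊓ Subgroup.zpowers t = Subgroup.zpowers t := by
        apply Subgroup.eq_of_le_of_card_ge inf_le_right
        rw [h2, Nat.card_zpowers, hot]
      rw [← h3]; exact inf_le_left
    have htx' : t ∈ Subgroup.zpowers ρ := by
      have h1 : t ∈ Subgroup.zpowers x := hle (Subgroup.mem_zpowers t)
      have h2 : Subgroup.zpowers x ≤ Subgroup.zpowers ρ := by
        rw [Subgroup.zpowers_le, hx]
        exact Subgroup.pow_mem _ (Subgroup.mem_zpowers ρ) _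
      exact h2 h1
    obtain ⟨k, hk⟩ := htx'
    have hcomm : t * ρ = ρ * t := by
      rw [← hk]
      exact ((Commute.refl ρ).zpow_left k).eq
    have hρρ : ρ = ρ⁻¹ := by
      rw [← hinv, hcomm, mul_assoc, mul_inv_cancel, mul_one]
    have hρ2 : ρ ^ 2 = 1 := by
      rw [sq]
      nth_rewrite 2 [hρρ]
      exact mul_inv_cancel ρ
    have hm2 : m ∣ 2 := by rw [hm]; exact orderOf_dvd_of_pow_eq_one hρ2
    rcases (Nat.dvd_prime Nat.prime_two).mp hm2 with h | h
    · exact absurd h hm1
    · rw [h]; exact Nat.prime_two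

end dihedral

section final

variable {G Ω : Type*} [Group G] [Finite G] [MulAction G Ω] [FaithfulSMul G Ω] [Finite Ω]

theorem prim_subdeg_two (hprim : IsPreprimitive G Ω) (a b : Ω)
    (h2 : Nat.card (orbit (stabilizer G a) b) = 2) :
    Nat.card (stabilizer G a) = 2 ∧ ∃ p : ℕ, p.Prime ∧ Nonempty (G ≃* DihedralGroup p) := by
  obtain ⟨hc, hco⟩ := prim_subdeg_two_stabilizer hprim a b h2
  refine ⟨hc, dihedral_of_coatom_card_two _ hco hc ?_⟩
  intro hn
  haveI := hprim
  have h1 : stabilizer G a = ⊥ := by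
    apply eq_bot_of_normal_le_stabilizer (stabilizer G a) _ a le_rfl
    intro k hk g
    have := hn.conj_mem k hk g⁻¹
    simpa using this
  rw [h1, Subgroup.card_bot] at hc
  omega

end final

end Cfsg.Agent.Lib.Helper17
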