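import Cfsg.Agent.Lib.Helper17.QdBasic

set_option autoImplicit false

namespace Cfsg.Agent.Lib.Helper17

open Cfsg Matrix

abbrev X2 := ZMod 2 × ZMod 2

theorem x2_det : ∀ t s₁ s₂ : X2, t ≠ s₁ → t ≠ s₂ → s₁ ≠ s₂ →
    (s₁ - t).1 * (s₂ - t).2 - (s₂ - t).1 * (s₁ - t).2 = 1 := by decide

theorem x2_fourth : ∀ t s₁ s₂ s₃ : X2, t ≠ s₁ → t ≠ s₂ → t ≠ s₃ → s₁ ≠ s₂ → s₁ ≠ s₃ → s₂ ≠ s₃ →
    s₃ = s₁ + s₂ - t := by decide

theorem x2_cases : ∀ v : X2, v = (0, 0) ∨ v = (1, 0) ∨ v = (0, 1) ∨ v = (1, 1) := by decide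

/-- the affine action of a 3×3 matrix on a pair -/
def affAct (M : Matrix (Fin 3) (Fin 3) (ZMod 2)) (v : X2) : X2 :=
  (M 0 0 * v.1 + M 0 1 * v.2 + M 0 2, M 1 0 * v.1 + M 1 1 * v.2 + M 1 2)

instance qd2Action : MulAction ↥(lastRowSubgroup (ZMod 2)) X2 where
  smul M v := affAct (M.1 : Matrix (Fin 3) (Fin 3) (ZMod 2)) v
  one_smul v := by
    show affAct _ v = v
    simp [affAct]
  mul_smul M N v := by
    obtain ⟨h0, h1, h2⟩ := N.2
    show affAct _ v = affAct _ (affAct _ v)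
    simp only [affAct, Subgroup.coe_mul, Matrix.SpecialLinearGroup.coe_mul, Matrix.mul_apply,
      Fin.sum_univ_three, h0, h1, h2]
    ext <;> simp <;> ring

def qd2Hom : ↥(lastRowSubgroup (ZMod 2)) →* Equiv.Perm X2 := MulAction.toPermHom _ _

theorem qd2Hom_apply (M : ↥(lastRowSubgroup (ZMod 2))) (v : X2) :
    qd2Hom M v = affAct (M.1 : Matrix (Fin 3) (Fin 3) (ZMod 2)) v := rfl

theorem qd2Hom_injective : Function.Injective qd2Hom := by
  rw [injective_iff_map_eq_one]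
  intro M hM
  have h : ∀ v, qd2Hom M v = v := fun v => by rw [hM]; rfl
  have e0 := h (0, 0)
  have e1 := h (1, 0)
  have e2 := h (0, 1)
  simp only [qd2Hom_apply, affAct, Prod.ext_iff, mul_zero, mul_one, zero_add, add_zero] at e0 e1 e2
  obtain ⟨h0, h1, h2⟩ := M.2
  obtain ⟨e00, e01⟩ := e0
  obtain ⟨e10, e11⟩ := e1
  obtain ⟨e20, e21⟩ := e2
  rw [e00, add_zero] at e10 e20
  rw [e01, add_zero] at e11 e21
  apply Subtype.ext
  apply Subtype.ext
  ext i j
  fin_cases i <;> fin_cases j <;> simp [*]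

theorem qd2Hom_surjective : Function.Surjective qd2Hom := by
  intro σ
  have hinj := σ.injective
  have d1 : σ (0, 0) ≠ σ (1, 0) := fun h => by have := hinj h; revert this; decide
  have d2 : σ (0, 0) ≠ σ (0, 1) := fun h => by have := hinj h; revert this; decide
  have d3 : σ (0, 0) ≠ σ (1, 1) := fun h => by have := hinj h; revert this; decide
  have d4 : σ (1, 0) ≠ σ (0, 1) := fun h => by have := hinj h; revert this; decide
  have d5 : σ (1, 0) ≠ σ (1, 1) := fun h => by have := hinj h; revert this; decide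
  have d6 : σ (0, 1) ≠ σ (1, 1) := fun h => by have := hinj h; revert this; decide
  have hdet := x2_det _ _ _ d1 d2 d4
  have h4 := x2_fourth _ _ _ _ d1 d2 d3 d4 d5 d6
  have hd : (!![(σ (1, 0) - σ (0, 0)).1, (σ (0, 1) - σ (0, 0)).1, (σ (0, 0)).1;
      (σ (1, 0) - σ (0, 0)).2, (σ (0, 1) - σ (0, 0)).2, (σ (0, 0)).2;
      0, 0, 1] : Matrix (Fin 3) (Fin 3) (ZMod 2)).det = 1 := by
    rw [Matrix.det_fin_three]
    simp only [Prod.fst_sub, Prod.snd_sub] at hdet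
    simp
    linear_combination hdet
  refine ⟨⟨⟨_, hd⟩, ⟨by simp, by simp, by simp⟩⟩, ?_⟩
  ext v : 1
  rw [qd2Hom_apply]
  rcases x2_cases v with rfl | rfl | rfl | rfl
  · simp [affAct]
  · ext <;> simp [affAct]
  · ext <;> simp [affAct]
  · rw [h4]
    ext <;> simp [affAct] <;> ring

theorem qd2_iso : Nonempty (↥(qd 2) ≃* Equiv.Perm (Fin 4)) := by
  have hc : Fintype.card X2 = 4 := by simp [ZMod.card]
  exact ⟨(MulEquiv.subgroupCongr (qd_eq_lastRowSubgroup 2)).trans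
    ((MulEquiv.ofBijective qd2Hom ⟨qd2Hom_injective, qd2Hom_surjective⟩).trans
      (Equiv.permCongrHom (Fintype.equivFinOfCardEq hc)))⟩

end Cfsg.Agent.Lib.Helper17
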