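import Mathlib
import Cfsg.Agent.Lib.Helper17.OrderPCube
import Cfsg.Agent.Lib.Helper2.NilpotentBasic
import Cfsg.Agent.Lib.Helper29.GroupFusion

set_option autoImplicit false

namespace Cfsg.Agent.Lib.Helper17

open Cfsg Cfsg.Agent.Lib.Helper29

section abstract

variable {G : Type*} [Group G]

/-- The normalizer of `S` normalizes the image of every characteristic subgroup of `S`. -/
theorem normalizer_le_normalizer_map_char (S : Subgroup G) (T : Subgroup ↥S)
    (hT : T.Characteristic) :
    Subgroup.normalizer (S : Set G) ≤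
      Subgroup.normalizer ((T.map S.subtype : Subgroup G) : Set G) := by
  have key : ∀ b : G, b ∈ Subgroup.normalizer (S : Set G) → ∀ x ∈ T.map S.subtype,
      b * x * b⁻¹ ∈ T.map S.subtype := by
    intro b hb x hx
    obtain ⟨y, hy, rfl⟩ := hx
    have h1 := hT.fixed (S.normalizerMonoidHom ⟨b, hb⟩)
    have h2 : y ∈ T.comap (S.normalizerMonoidHom ⟨b, hb⟩).toMonoidHom := by rw [h1]; exact hy
    exact ⟨_, h2, rfl⟩
  intro a ha
  rw [Subgroup.mem_normalizer_iff]
  intro x
  constructor
  · exact key a ha x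
  · intro hx
    have := key a⁻¹ (inv_mem ha) _ hx
    have e : a⁻¹ * (a * x * a⁻¹) * a⁻¹⁻¹ = x := by group
    rwa [e] at this

/-- The property asserted in S2763 for a subgroup `S`. -/
def CharNormProp (S : Subgroup G) : Prop :=
  ∀ T : Subgroup ↥S, T ≠ ⊥ → T.Characteristic →
    Subgroup.normalizer ((T.map S.subtype : Subgroup G) : Set G) =
      Subgroup.normalizer (S : Set G) ∧ Subgroup.normalizer (S : Set G) ≠ ⊤

theorem CharNormProp.conj {S : Subgroup G} (h : CharNormProp S) (g : G) :
    CharNormProp (cj g S) := by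
  intro T' hT' hT'c
  obtain ⟨e, he⟩ : ∃ e : ↥S ≃* ↥(cj g S), ∀ x : ↥S, ((e x : ↥(cj g S)) : G) = g * x * g⁻¹ :=
    ⟨(MulAut.conj g).subgroupMap S, fun x => rfl⟩
  have hTne : T'.comap e.toMonoidHom ≠ ⊥ := by
    intro hb
    apply hT'
    rw [eq_bot_iff]
    intro y hy
    have : e.symm y ∈ T'.comap e.toMonoidHom := by
      rw [Subgroup.mem_comap]
      simpa using hy
    rw [hb, Subgroup.mem_bot] at this
    rw [Subgroup.mem_bot]
    have h2 := congrArg e this
    simpa using h2
  have hTc : (T'.comap e.toMonoidHom).Characteristic := by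
    rw [Subgroup.characteristic_iff_comap_eq]
    intro ϕ
    have h1 := hT'c.fixed ((e.symm.trans ϕ).trans e)
    ext x
    rw [Subgroup.mem_comap, Subgroup.mem_comap, Subgroup.mem_comap]
    have h2 : e x ∈ T'.comap ((e.symm.trans ϕ).trans e).toMonoidHom ↔ e x ∈ T' := by rw [h1]
    rw [Subgroup.mem_comap] at h2
    have h3 : ((e.symm.trans ϕ).trans e).toMonoidHom (e x) = e (ϕ x) := by simp
    rw [h3] at h2
    exact h2
  obtain ⟨h1, h2⟩ := h _ hTne hTc
  have hmap : (T'.map (cj g S).subtype : Subgroup G) =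
      cj g ((T'.comap e.toMonoidHom).map S.subtype) := by
    ext x
    constructor
    · rintro ⟨y, hy, rfl⟩
      refine ⟨(e.symm y : ↥S), ⟨e.symm y, ?_, rfl⟩, ?_⟩
      · rw [SetLike.mem_coe, Subgroup.mem_comap]
        simpa using hy
      · have := he (e.symm y)
        simp only [MulEquiv.apply_symm_apply] at this
        exact this.symm
    · rintro ⟨_, ⟨y, hy, rfl⟩, rfl⟩
      rw [SetLike.mem_coe, Subgroup.mem_comap] at hy
      exact ⟨e y, hy, he y⟩
  constructor
  · rw [hmap, ← cj_normalizer, ← cj_normalizer, h1]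
  · rw [← cj_normalizer]
    intro htop
    apply h2
    have := congrArg (cj g⁻¹) htop
    rw [cj_inv_cj] at this
    rw [this, eq_top_iff]
    intro x _
    rw [mem_cj]
    trivial

end abstract

section abstractMain

variable {G : Type*} [Group G] [Finite G]

theorem charNormProp_of_structure {p : ℕ} [hp : Fact p.Prime]
    (S V Z₀ : Subgroup G) [hVn : V.Normal]
    (hS : Nat.card S = p ^ 3) (hV : Nat.card V = p ^ 2) (hZ : Nat.card Z₀ = p)
    (hVS : V ≤ S) (hZV : Z₀ ≤ V)
    (hZc : ∀ z ∈ Z₀, ∀ s ∈ S, z * s = s * z)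
    (hnc : ∃ a ∈ S, ∃ b ∈ S, a * b ≠ b * a)
    (hNZ : Subgroup.normalizer (Z₀ : Set G) ≤ Subgroup.normalizer (S : Set G))
    (hNS : Subgroup.normalizer (S : Set G) ≠ ⊤)
    (φ : ↥S ≃* ↥S) (hφ : ∃ v : ↥S, (v : G) ∈ V ∧ ((φ v : ↥S) : G) ∉ V) :
    CharNormProp S := by
  intro T hT hTc
  refine ⟨?_, hNS⟩
  have hZS : Z₀ ≤ S := hZV.trans hVS
  -- the centre of `S` has order `p`
  have hES : IsExtraspecial p ↥S := by
    apply isExtraspecial_of_card_cube hS
    obtain ⟨a, ha, b, hb, hab⟩ := hnc
    exact ⟨⟨a, ha⟩, ⟨b, hb⟩, fun h => hab (congrArg Subtype.val h)⟩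
  have hcen : Nat.card (Subgroup.center ↥S) = p := hES.2
  have hSp : IsPGroup p ↥S := IsPGroup.of_card hS
  haveI : Group.IsNilpotent ↥S := hSp.isNilpotent
  haveI : T.Normal := Subgroup.normal_of_characteristic T
  have hTZ : T ⊓ Subgroup.center ↥S ≠ ⊥ := Helper2.normal_inf_center_ne_bot T hT
  have hcenT : Subgroup.center ↥S ≤ T := by
    have h1 : T ⊓ Subgroup.center ↥S = Subgroup.center ↥S := by
      apply Subgroup.eq_of_le_of_card_ge inf_le_right
      have hd : Nat.card ↥(T ⊓ Subgroup.center ↥S) ∣ p := by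
        rw [← hcen]; exact Subgroup.card_dvd_of_le inf_le_right
      rcases (Nat.dvd_prime hp.out).mp hd with h1 | h1
      · rw [Subgroup.card_eq_one] at h1
        exact absurd h1 hTZ
      · rw [hcen, h1]
    rw [← h1]; exact inf_le_left
  have hZ0cen : Z₀.subgroupOf S = Subgroup.center ↥S := by
    apply Subgroup.eq_of_le_of_card_ge
    · intro z hz
      rw [Subgroup.mem_subgroupOf] at hz
      rw [Subgroup.mem_center_iff]
      intro s
      apply Subtype.ext
      exact (hZc _ hz _ s.2).symm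
    · rw [hcen, Nat.card_congr (Subgroup.subgroupOfEquivOfLe hZS).toEquiv, hZ]
  have hZT : Z₀ ≤ T.map S.subtype := by
    intro z hz
    refine ⟨⟨z, hZS hz⟩, hcenT ?_, rfl⟩
    rw [← hZ0cen, Subgroup.mem_subgroupOf]
    exact hz
  have hTS : T.map S.subtype ≤ S := Subgroup.map_subtype_le _
  apply le_antisymm
  · intro g hg
    by_cases hTtop : T.map S.subtype = S
    · rwa [hTtop] at hg
    by_cases hTV : T.map S.subtype = V
    · exfalso
      obtain ⟨v, hv, hφv⟩ := hφ
      have hvT : v ∈ T := by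
        have : (v : G) ∈ T.map S.subtype := by rw [hTV]; exact hv
        obtain ⟨y, hy, hyv⟩ := this
        have : y = v := Subtype.ext hyv
        rwa [← this]
      have h1 := hTc.fixed φ
      have h2 : v ∈ T.comap φ.toMonoidHom := by rw [h1]; exact hvT
      rw [Subgroup.mem_comap] at h2
      apply hφv
      rw [← hTV]
      exact ⟨_, h2, rfl⟩
    -- otherwise `T ∩ V = Z₀`
    have hinf : T.map S.subtype ⊓ V = Z₀ := by
      symm
      apply Subgroup.eq_of_le_of_card_ge (le_inf hZT hZV)
      rw [hZ]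
      have hd2 : Nat.card ↥(T.map S.subtype ⊓ V) ∣ p ^ 2 := by
        rw [← hV]; exact Subgroup.card_dvd_of_le inf_le_right
      obtain ⟨j, hj2, hj⟩ := (Nat.dvd_prime_pow hp.out).mp hd2
      have hd3 : Nat.card ↥(T.map S.subtype) ∣ p ^ 3 := by
        rw [← hS]; exact Subgroup.card_dvd_of_le hTS
      obtain ⟨i, hi3, hi⟩ := (Nat.dvd_prime_pow hp.out).mp hd3
      have hi3' : i ≠ 3 := by
        rintro rfl
        exact hTtop (Subgroup.eq_of_le_of_card_ge hTS (by rw [hi, hS]))
      have hj2' : j ≠ 2 := by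
        rintro rfl
        have hVle : V ≤ T.map S.subtype := by
          have : T.map S.subtype ⊓ V = V :=
            Subgroup.eq_of_le_of_card_ge inf_le_right (by rw [hj, hV])
          rw [← this]; exact inf_le_left
        have : p ^ 2 ∣ p ^ i := by
          rw [← hV, ← hi]; exact Subgroup.card_dvd_of_le hVle
        have h2i : 2 ≤ i := (Nat.pow_dvd_pow_iff_le_right hp.out.one_lt).mp this
        have hi2 : i = 2 := by omega
        exact hTV (Subgroup.eq_of_le_of_card_ge hVle (by rw [hi, hV, hi2])).symm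
      rw [hj]
      have : j ≤ 1 := by omega
      calc p ^ j ≤ p ^ 1 := Nat.pow_le_pow_right hp.out.pos this
        _ = p := pow_one p
    apply hNZ
    rw [← hinf, Subgroup.mem_normalizer_iff]
    intro x
    rw [Subgroup.mem_normalizer_iff] at hg
    rw [Subgroup.mem_inf, Subgroup.mem_inf, ← hg x]
    have : x ∈ V ↔ g * x * g⁻¹ ∈ V := by
      constructor
      · intro hx; exact hVn.conj_mem x hx g
      · intro hx
        have := hVn.conj_mem _ hx g⁻¹
        have e : g⁻¹ * (g * x * g⁻¹) * g⁻¹⁻¹ = x := by group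
        rwa [e] at this
    rw [this]
  · exact normalizer_le_normalizer_map_char S T hTc

end abstractMain

end Cfsg.Agent.Lib.Helper17
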