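import Cfsg.Agent.Lib.Helper17.QdCharConcrete
import Cfsg.Agent.Lib.Helper2.Cores

set_option autoImplicit false

namespace Cfsg.Agent.Lib.Helper17

open Cfsg Matrix

section sl2

variable {F : Type*} [Field F]

/-- a normal subgroup of `SL₂(F)` all of whose elements have trace `2` is trivial. -/
theorem sl2_normal_trace_two_eq_bot (N : Subgroup (Matrix.SpecialLinearGroup (Fin 2) F)) [hN : N.Normal]
    (htr : ∀ g ∈ N, (g : Matrix (Fin 2) (Fin 2) F) 0 0 + (g : Matrix (Fin 2) (Fin 2) F) 1 1 = 2) :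
    N = ⊥ := by
  rw [eq_bot_iff]
  intro g hg
  rw [Subgroup.mem_bot]
  have hdet : (g : Matrix (Fin 2) (Fin 2) F) 0 0 * (g : Matrix (Fin 2) (Fin 2) F) 1 1 -
      (g : Matrix (Fin 2) (Fin 2) F) 0 1 * (g : Matrix (Fin 2) (Fin 2) F) 1 0 = 1 := by
    have := g.2
    rwa [Matrix.det_fin_two] at this
  have ht := htr g hg
  -- conjugating elements
  obtain ⟨h₁, hh₁⟩ : ∃ h : Matrix.SpecialLinearGroup (Fin 2) F,
      (h : Matrix (Fin 2) (Fin 2) F) = !![1, 0; 1, 1] :=
    ⟨⟨!![1, 0; 1, 1], by simp [Matrix.det_fin_two]⟩, rfl⟩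
  obtain ⟨h₂, hh₂⟩ : ∃ h : Matrix.SpecialLinearGroup (Fin 2) F,
      (h : Matrix (Fin 2) (Fin 2) F) = !![1, 1; 0, 1] :=
    ⟨⟨!![1, 1; 0, 1], by simp [Matrix.det_fin_two]⟩, rfl⟩
  have k₁ := htr _ (N.mul_mem hg (hN.conj_mem g hg h₁))
  have k₂ := htr _ (N.mul_mem hg (hN.conj_mem g hg h₂))
  simp only [Matrix.SpecialLinearGroup.coe_mul, Matrix.SpecialLinearGroup.coe_inv,
    Matrix.adjugate_fin_two, Matrix.mul_apply, Fin.sum_univ_two, hh₁, hh₂] at k₁ k₂
  simp at k₁ k₂
  have hb : (g : Matrix (Fin 2) (Fin 2) F) 0 1 = 0 := by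
    have : (g : Matrix (Fin 2) (Fin 2) F) 0 1 ^ 2 = 0 := by
      linear_combination (-1 : F) * k₁ + ((g : Matrix (Fin 2) (Fin 2) F) 0 0 +
        (g : Matrix (Fin 2) (Fin 2) F) 1 1 + 2) * ht - 2 * hdet
    exact pow_eq_zero_iff (two_ne_zero) |>.mp this
  have hc : (g : Matrix (Fin 2) (Fin 2) F) 1 0 = 0 := by
    have : (g : Matrix (Fin 2) (Fin 2) F) 1 0 ^ 2 = 0 := by
      linear_combination (-1 : F) * k₂ + ((g : Matrix (Fin 2) (Fin 2) F) 0 0 +
        (g : Matrix (Fin 2) (Fin 2) F) 1 1 + 2) * ht - 2 * hdet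
    exact pow_eq_zero_iff (two_ne_zero) |>.mp this
  have ha : (g : Matrix (Fin 2) (Fin 2) F) 0 0 = 1 := by
    have : ((g : Matrix (Fin 2) (Fin 2) F) 0 0 - 1) ^ 2 = 0 := by
      rw [hb] at hdet
      linear_combination ((g : Matrix (Fin 2) (Fin 2) F) 0 0) * ht - hdet
    have := pow_eq_zero_iff (two_ne_zero) |>.mp this
    exact sub_eq_zero.mp this
  have hd : (g : Matrix (Fin 2) (Fin 2) F) 1 1 = 1 := by
    rw [ha] at ht; linear_combination ht
  apply Subtype.ext
  ext i j
  fin_cases i <;> fin_cases j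
  · simpa using ha
  · simpa using hb
  · simpa using hc
  · simpa using hd

/-- an element of `p`-power order of `SL₂(F)` in characteristic `p` has trace `2`. -/
theorem sl2_trace_of_pow_eq_one {p : ℕ} [Fact p.Prime] [CharP F p]
    (g : Matrix.SpecialLinearGroup (Fin 2) F) (k : ℕ) (hg : g ^ (p ^ k) = 1) :
    (g : Matrix (Fin 2) (Fin 2) F) 0 0 + (g : Matrix (Fin 2) (Fin 2) F) 1 1 = 2 := by
  have h1 : (g : Matrix (Fin 2) (Fin 2) F) ^ (p ^ k) = 1 := by
    have := congrArg (fun x : Matrix.SpecialLinearGroup (Fin 2) F =>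
      (x : Matrix (Fin 2) (Fin 2) F)) hg
    simpa [Matrix.SpecialLinearGroup.coe_pow] using this
  have h2 : ((g : Matrix (Fin 2) (Fin 2) F) - 1) ^ (p ^ k) = 0 := by
    rw [sub_pow_char_pow_of_commute p k (Commute.one_right _), h1, one_pow, sub_self]
  have h3 : IsNilpotent ((g : Matrix (Fin 2) (Fin 2) F) - 1) := ⟨_, h2⟩
  have h4 := Matrix.isNilpotent_trace_of_isNilpotent h3
  rw [isNilpotent_iff_eq_zero] at h4
  rw [Matrix.trace_fin_two] at h4
  simp at h4
  linear_combination h4

end sl2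

section blocks

variable {R : Type*} [CommRing R]

theorem det_blockHom (M : ↥(lastRowSubgroup R)) : (blockHom R M).det = 1 := by
  have hdet : (lmat R M).det = 1 := M.1.2
  rw [Matrix.det_fin_three, lmat_20, lmat_21, lmat_22] at hdet
  simp only [blockHom, MonoidHom.coe_mk, OneHom.coe_mk, Matrix.det_fin_two_of]
  linear_combination hdet

variable (R)

/-- upper-left block as a hom to `SL₂` -/
def blockSL : ↥(lastRowSubgroup R) →* Matrix.SpecialLinearGroup (Fin 2) R where
  toFun M := ⟨blockHom R M, det_blockHom M⟩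
  map_one' := Subtype.ext (map_one _)
  map_mul' M N := Subtype.ext (map_mul _ M N)

variable {R}

theorem blockSL_apply (M : ↥(lastRowSubgroup R)) (i j : Fin 2) :
    ((blockSL R M : Matrix.SpecialLinearGroup (Fin 2) R) : Matrix (Fin 2) (Fin 2) R) i j =
      !![lmat R M 0 0, lmat R M 0 1; lmat R M 1 0, lmat R M 1 1] i j := rfl

theorem ker_blockSL : (blockSL R).ker = transL R := by
  ext M
  unfold transL
  rw [MonoidHom.mem_ker, MonoidHom.mem_ker]
  constructor
  · intro h
    exact congrArg Subtype.val h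
  · intro h
    exact Subtype.ext h

/-- block-diagonal matrix -/
def diagMat (A : Matrix (Fin 2) (Fin 2) R) : Matrix (Fin 3) (Fin 3) R :=
  !![A 0 0, A 0 1, 0; A 1 0, A 1 1, 0; 0, 0, 1]

theorem det_diagMat (A : Matrix (Fin 2) (Fin 2) R) : (diagMat A).det = A.det := by
  rw [Matrix.det_fin_three, Matrix.det_fin_two]
  simp [diagMat]

theorem diagMat_mul (A B : Matrix (Fin 2) (Fin 2) R) : diagMat (A * B) = diagMat A * diagMat B := by
  ext i j
  fin_cases i <;> fin_cases j <;>
    simp [diagMat, Matrix.mul_apply, Fin.sum_univ_three, Fin.sum_univ_two]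

theorem diagMat_one : diagMat (1 : Matrix (Fin 2) (Fin 2) R) = 1 := by
  ext i j
  fin_cases i <;> fin_cases j <;> simp [diagMat]

variable (R)

/-- block-diagonal element of the last-row subgroup -/
def diagL (A : Matrix.SpecialLinearGroup (Fin 2) R) : ↥(lastRowSubgroup R) :=
  ⟨⟨diagMat (A : Matrix (Fin 2) (Fin 2) R), by rw [det_diagMat]; exact A.2⟩, ⟨rfl, rfl, rfl⟩⟩

variable {R}

theorem lmat_diagL (A : Matrix.SpecialLinearGroup (Fin 2) R) :
    lmat R (diagL R A) = diagMat (A : Matrix (Fin 2) (Fin 2) R) := rfl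

variable (R)

/-- the block-diagonal section -/
def diagHom : Matrix.SpecialLinearGroup (Fin 2) R →* ↥(lastRowSubgroup R) where
  toFun := diagL R
  map_one' := by
    apply lmat_injective
    rw [lmat_diagL, lmat_one]
    exact diagMat_one
  map_mul' A B := by
    apply lmat_injective
    rw [lmat_mul, lmat_diagL, lmat_diagL, lmat_diagL, Matrix.SpecialLinearGroup.coe_mul]
    exact diagMat_mul _ _

variable {R}

theorem blockSL_diagHom (A : Matrix.SpecialLinearGroup (Fin 2) R) : blockSL R (diagHom R A) = A := by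
  apply Subtype.ext
  ext i j
  fin_cases i <;> fin_cases j <;> rfl

theorem diagHom_injective : Function.Injective (diagHom R) := by
  intro A B h
  rw [← blockSL_diagHom A, ← blockSL_diagHom B, h]

theorem blockSL_surjective : Function.Surjective (blockSL R) :=
  fun A => ⟨diagHom R A, blockSL_diagHom A⟩

theorem mem_range_diagHom {M : ↥(lastRowSubgroup R)} :
    M ∈ (diagHom R).range ↔ lmat R M 0 2 = 0 ∧ lmat R M 1 2 = 0 := by
  constructor
  · rintro ⟨A, rfl⟩
    exact ⟨rfl, rfl⟩
  · rintro ⟨h1, h2⟩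
    refine ⟨blockSL R M, ?_⟩
    apply lmat_ext
    · rfl
    · rfl
    · exact h1.symm
    · rfl
    · rfl
    · exact h2.symm

theorem range_diagHom_inf_transL : (diagHom R).range ⊓ transL R = ⊥ := by
  rw [eq_bot_iff]
  intro M hM
  rw [Subgroup.mem_inf] at hM
  obtain ⟨hK, hT⟩ := hM
  rw [mem_range_diagHom] at hK
  rw [mem_transL] at hT
  rw [Subgroup.mem_bot]
  apply lmat_ext
  · rw [hT.1, lmat_one]; rfl
  · rw [hT.2.1, lmat_one]; rfl
  · rw [hK.1, lmat_one]; rfl
  · rw [hT.2.2.1, lmat_one]; rfl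
  · rw [hT.2.2.2, lmat_one]; rfl
  · rw [hK.2, lmat_one]; rfl

theorem range_diagHom_sup_transL : (diagHom R).range ⊔ transL R = ⊤ := by
  rw [eq_top_iff]
  intro M _
  have h1 : diagHom R (blockSL R M) ∈ (diagHom R).range := ⟨_, rfl⟩
  have h2 : (diagHom R (blockSL R M))⁻¹ * M ∈ transL R := by
    rw [← ker_blockSL, MonoidHom.mem_ker, map_mul, map_inv, blockSL_diagHom, inv_mul_cancel]
  have : M = diagHom R (blockSL R M) * ((diagHom R (blockSL R M))⁻¹ * M) := by group
  rw [this]
  exact Subgroup.mul_mem_sup h1 h2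

end blocks

section field

variable {F : Type*} [Field F] [Fintype F] {p : ℕ} [Fact p.Prime] [CharP F p]

theorem isPGroup_transL : IsPGroup p (transL F) := by
  obtain ⟨n, hn⟩ := FiniteField.card F p
  apply IsPGroup.of_card (n := 2 * n)
  rw [card_transL, Nat.card_eq_fintype_card, hn.2, ← pow_mul, mul_comm]

theorem pCore_lastRow_eq_transL : pCore p ↥(lastRowSubgroup F) = transL F := by
  apply le_antisymm
  · -- the image in SL₂ is a normal p-subgroup, hence trivial
    have hn : ((pCore p ↥(lastRowSubgroup F)).map (blockSL F)).Normal :=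
      Subgroup.Normal.map (Cfsg.Agent.Lib.Helper2.pCore_normal p) _ blockSL_surjective
    have hp : IsPGroup p ((pCore p ↥(lastRowSubgroup F)).map (blockSL F)) :=
      (Cfsg.Agent.Lib.Helper2.pCore_isPGroup p).map _
    have hbot : (pCore p ↥(lastRowSubgroup F)).map (blockSL F) = ⊥ := by
      apply sl2_normal_trace_two_eq_bot
      intro g hg
      obtain ⟨k, hk⟩ := hp ⟨g, hg⟩
      have hk' : g ^ (p ^ k) = 1 := by
        have := congrArg Subtype.val hk
        simpa using this
      exact sl2_trace_of_pow_eq_one (p := p) g k hk'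
    rw [← ker_blockSL]
    rw [← Subgroup.map_eq_bot_iff]
    exact hbot
  · exact Cfsg.Agent.Lib.Helper2.le_pCore (transL_normal F) isPGroup_transL

end field

section natural

variable {F : Type*} [Field F]

/-- translation element -/
def transEl (x : Fin 2 → F) : ↥(transL F) :=
  ⟨utL F 0 (x 1) (x 0), (utL_mem_transL_iff _ _ _).2 rfl⟩

theorem lmat_transEl (x : Fin 2 → F) :
    lmat F (transEl x : ↥(lastRowSubgroup F)) = !![1, 0, x 0; 0, 1, x 1; 0, 0, 1] := rfl

/-- coordinates on the translation subgroup -/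
def transCoordEquiv : ↥(transL F) ≃ (Fin 2 → F) where
  toFun t := ![lmat F (t : ↥(lastRowSubgroup F)) 0 2, lmat F (t : ↥(lastRowSubgroup F)) 1 2]
  invFun x := transEl x
  left_inv t := by
    obtain ⟨h00, h01, h10, h11⟩ := mem_transL.1 t.2
    apply Subtype.ext
    apply lmat_ext
    · exact h00.symm
    · exact h01.symm
    · rfl
    · exact h10.symm
    · exact h11.symm
    · rfl
  right_inv x := by
    ext i
    fin_cases i <;> rfl

theorem transCoordEquiv_apply (t : ↥(transL F)) :
    transCoordEquiv t = ![lmat F (t : ↥(lastRowSubgroup F)) 0 2,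
      lmat F (t : ↥(lastRowSubgroup F)) 1 2] := rfl

theorem transCoordEquiv_mul (s t : ↥(transL F)) :
    transCoordEquiv (s * t) = transCoordEquiv s + transCoordEquiv t := by
  obtain ⟨h00, h01, h10, h11⟩ := mem_transL.1 s.2
  have h22 := lmat_22 (t : ↥(lastRowSubgroup F))
  rw [transCoordEquiv_apply, transCoordEquiv_apply, transCoordEquiv_apply]
  have e : ((s * t : ↥(transL F)) : ↥(lastRowSubgroup F)) =
      (s : ↥(lastRowSubgroup F)) * (t : ↥(lastRowSubgroup F)) := rfl
  rw [e, lmat_mul]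
  ext i
  fin_cases i
  · simp [Matrix.mul_apply, Fin.sum_univ_three, h00, h01, h22]
    ring
  · simp [Matrix.mul_apply, Fin.sum_univ_three, h10, h11, h22]
    ring

/-- coordinates on the translation subgroup, additively -/
def transCoord : Additive ↥(transL F) ≃+ (Fin 2 → F) :=
  { Additive.toMul.trans transCoordEquiv with
    map_add' := fun s t => transCoordEquiv_mul (Additive.toMul s) (Additive.toMul t) }

theorem transCoord_apply (t : ↥(transL F)) :
    transCoord (Additive.ofMul t) = ![lmat F (t : ↥(lastRowSubgroup F)) 0 2,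
      lmat F (t : ↥(lastRowSubgroup F)) 1 2] := rfl

end natural

section natmod

variable {F : Type*} [Field F]

/-- entries `(0,2)`, `(1,2)` of a conjugate of a translation by a block-diagonal element -/
theorem conj_trans_entries (l t w : ↥(lastRowSubgroup F)) (hl : l ∈ (diagHom F).range)
    (ht : t ∈ transL F) (hw : w ∈ transL F) (h : w = l * t * l⁻¹) :
    lmat F w 0 2 = lmat F l 0 0 * lmat F t 0 2 + lmat F l 0 1 * lmat F t 1 2 ∧
    lmat F w 1 2 = lmat F l 1 0 * lmat F t 0 2 + lmat F l 1 1 * lmat F t 1 2 := by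
  have e : w * l = l * t := by rw [h]; group
  have e' : lmat F w * lmat F l = lmat F l * lmat F t := by rw [← lmat_mul, ← lmat_mul, e]
  obtain ⟨l02, l12⟩ := mem_range_diagHom.1 hl
  obtain ⟨w00, w01, w10, w11⟩ := mem_transL.1 hw
  have e02 := congrFun (congrFun e' 0) 2
  have e12 := congrFun (congrFun e' 1) 2
  rw [Matrix.mul_apply, Matrix.mul_apply, Fin.sum_univ_three, Fin.sum_univ_three] at e02 e12
  rw [l02, l12, lmat_22, lmat_22, w00, w01] at e02
  rw [l02, l12, lmat_22, lmat_22, w10, w11] at e12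
  constructor
  · linear_combination e02
  · linear_combination e12

theorem isNaturalSL2Module_lastRow :
    IsNaturalSL2Module F (transL F) (diagHom F).range := by
  refine ⟨?_, (blockSL F).comp (diagHom F).range.subtype, transCoord, ?_, ?_, ?_⟩
  · rw [Subgroup.normalizer_eq_top]
    exact le_top
  · intro A
    exact ⟨⟨diagHom F A, ⟨A, rfl⟩⟩, blockSL_diagHom A⟩
  · ext l
    rw [MonoidHom.mem_ker, Subgroup.mem_subgroupOf, MonoidHom.comp_apply]
    constructor
    · intro h
      have hl : (l : ↥(lastRowSubgroup F)) ∈ (diagHom F).range ⊓ transL F :=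
        ⟨l.2, by rw [← ker_blockSL]; exact h⟩
      rw [range_diagHom_inf_transL, Subgroup.mem_bot] at hl
      rw [hl]
      exact Subgroup.one_mem _
    · intro h
      rw [Subgroup.mem_centralizer_iff] at h
      -- test with the two basis translations
      have key : ∀ x : Fin 2 → F,
          x 0 = lmat F (l : ↥(lastRowSubgroup F)) 0 0 * x 0 + lmat F (l : ↥(lastRowSubgroup F)) 0 1 * x 1 ∧
          x 1 = lmat F (l : ↥(lastRowSubgroup F)) 1 0 * x 0 + lmat F (l : ↥(lastRowSubgroup F)) 1 1 * x 1 := by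
        intro x
        have hx := h (transEl x : ↥(lastRowSubgroup F)) (transEl x).2
        have := conj_trans_entries (l : ↥(lastRowSubgroup F)) (transEl x : ↥(lastRowSubgroup F))
          (transEl x : ↥(lastRowSubgroup F)) l.2 (transEl x).2 (transEl x).2
          (by rw [← hx]; group)
        rw [lmat_transEl] at this
        simpa using this
      have k1 := key ![1, 0]
      have k2 := key ![0, 1]
      simp at k1 k2
      apply Subtype.ext
      ext i j
      fin_cases i <;> fin_cases j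
      · exact k1.1.symm
      · exact k2.1.symm
      · exact k1.2.symm
      · exact k2.2.symm
  · intro l v
    have hw : (l : ↥(lastRowSubgroup F)) * (v : ↥(lastRowSubgroup F)) * (l : ↥(lastRowSubgroup F))⁻¹ ∈
        transL F := (transL_normal F).conj_mem _ v.2 _
    refine ⟨⟨_, hw⟩, rfl, ?_⟩
    obtain ⟨e1, e2⟩ := conj_trans_entries (l : ↥(lastRowSubgroup F)) (v : ↥(lastRowSubgroup F)) _
      l.2 v.2 hw rfl
    rw [transCoord_apply, transCoord_apply]
    ext i
    fin_cases i
    · simp only [Matrix.mulVec, dotProduct, Fin.sum_univ_two]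
      exact e1
    · simp only [Matrix.mulVec, dotProduct, Fin.sum_univ_two]
      exact e2

end natmod

section main

variable {F : Type*} [Field F] [Fintype F] {p : ℕ} [Fact p.Prime] [CharP F p]

theorem qd_structure_aux (L : Subgroup (Matrix.SpecialLinearGroup (Fin 3) F))
    (hL : L = lastRowSubgroup F) :
    (∀ M : ↥L, M ∈ Cfsg.pCore p ↥L ↔
      ((M : Matrix.SpecialLinearGroup (Fin 3) F) : Matrix (Fin 3) (Fin 3) F) 0 0 = 1 ∧
      ((M : Matrix.SpecialLinearGroup (Fin 3) F) : Matrix (Fin 3) (Fin 3) F) 0 1 = 0 ∧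
      ((M : Matrix.SpecialLinearGroup (Fin 3) F) : Matrix (Fin 3) (Fin 3) F) 1 0 = 0 ∧
      ((M : Matrix.SpecialLinearGroup (Fin 3) F) : Matrix (Fin 3) (Fin 3) F) 1 1 = 1) ∧
    ∃ K : Subgroup ↥L,
      (∀ M : ↥L, M ∈ K ↔
        ((M : Matrix.SpecialLinearGroup (Fin 3) F) : Matrix (Fin 3) (Fin 3) F) 0 2 = 0 ∧
        ((M : Matrix.SpecialLinearGroup (Fin 3) F) : Matrix (Fin 3) (Fin 3) F) 1 2 = 0) ∧
      K ⊓ Cfsg.pCore p ↥L = ⊥ ∧ K ⊔ Cfsg.pCore p ↥L = ⊤ ∧
      Nonempty (↥K ≃* Matrix.SpecialLinearGroup (Fin 2) F) ∧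
      Cfsg.IsNaturalSL2Module F (Cfsg.pCore p ↥L) K := by
  subst hL
  rw [pCore_lastRow_eq_transL]
  refine ⟨fun M => mem_transL, (diagHom F).range, fun M => mem_range_diagHom,
    range_diagHom_inf_transL, range_diagHom_sup_transL,
    ⟨(MonoidHom.ofInjective diagHom_injective).symm⟩, isNaturalSL2Module_lastRow⟩

end main

end Cfsg.Agent.Lib.Helper17
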