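import Mathlib
import Cfsg.Prelude.Def_CaseTheorems
import Cfsg.Agent.Lib.Helper14.PGroupMisc

/-! 2-groups of sectional rank at most 2 containing a nonabelian subgroup of order 8
have commutator quotient of order 4 (helper17). -/

set_option autoImplicit false
set_option maxHeartbeats 400000

namespace Cfsg.Agent.Lib.Helper17.SR2

open Subgroup
open scoped commutatorElement

universe u

section basic

variable {S : Type*} [Group S]

theorem not_isMulCommutative_of_ne (hna : ∃ x y : S, x * y ≠ y * x) : ¬ IsMulCommutative S := by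
  intro h
  obtain ⟨x, y, hxy⟩ := hna
  exact hxy (h.is_comm.comm x y)

theorem zpowers_sup_commutator_ne_top [Finite S] {p : ℕ} [Fact p.Prime] (hS : IsPGroup p S)
    (hna : ∃ x y : S, x * y ≠ y * x) (g : S) : zpowers g ⊔ commutator S ≠ ⊤ := by
  intro h
  have h1 : zpowers g ⊔ frattini S = ⊤ := by
    apply top_le_iff.mp
    rw [← h]
    exact sup_le_sup_left (Cfsg.Agent.Lib.Helper14.commutator_le_frattini_of_isPGroup' hS) _
  have h2 : zpowers g = ⊤ := frattini_nongenerating h1
  obtain ⟨x, y, hxy⟩ := hna
  have hx : x ∈ zpowers g := h2 ▸ mem_top x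
  have hy : y ∈ zpowers g := h2 ▸ mem_top y
  obtain ⟨i, rfl⟩ := mem_zpowers_iff.mp hx
  obtain ⟨j, rfl⟩ := mem_zpowers_iff.mp hy
  exact hxy (zpow_mul_comm g i j)

theorem four_dvd_index_commutator [Finite S] (hS : IsPGroup 2 S)
    (hna : ∃ x y : S, x * y ≠ y * x) : 4 ∣ (commutator S).index := by
  have : Fact (Nat.Prime 2) := ⟨Nat.prime_two⟩
  have h1 := Cfsg.Agent.Lib.Helper14.sq_dvd_index_frattini hS (not_isMulCommutative_of_ne hna)
  have h2 : (frattini S).index ∣ (commutator S).index :=
    Subgroup.index_dvd_of_le (Cfsg.Agent.Lib.Helper14.commutator_le_frattini_of_isPGroup' hS)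
  exact dvd_trans (by norm_num at h1 ⊢; exact h1) h2

/-- exponent of the abelianization -/
theorem sq_mem_commutator [Finite S] (hS : IsPGroup 2 S)
    (hna : ∃ x y : S, x * y ≠ y * x) (hidx : (commutator S).index = 4) (g : S) :
    g ^ 2 ∈ commutator S := by
  have : Fact (Nat.Prime 2) := ⟨Nat.prime_two⟩
  by_contra hg
  have hcard : Nat.card (S ⧸ commutator S) = 4 := by rw [← Subgroup.index_eq_card]; exact hidx
  set x : S ⧸ commutator S := QuotientGroup.mk g with hx
  have hx2 : x ^ 2 ≠ 1 := by
    intro h
    apply hg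
    rw [hx, ← QuotientGroup.mk_pow] at h
    exact (QuotientGroup.eq_one_iff _).mp h
  have hord : orderOf x = 4 := by
    have hd : orderOf x ∣ 4 := hcard ▸ orderOf_dvd_natCard x
    have hle : orderOf x ≤ 4 := Nat.le_of_dvd (by norm_num) hd
    have hpos : 0 < orderOf x := orderOf_pos x
    have h1 : orderOf x ≠ 1 := by
      intro h; rw [orderOf_eq_one_iff] at h; rw [h] at hx2; simp at hx2
    have h2 : orderOf x ≠ 2 := by
      intro h; apply hx2; rw [← h]; exact pow_orderOf_eq_one x
    have h3 : orderOf x ≠ 3 := by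
      intro h; rw [h] at hd; norm_num at hd
    omega
  have htop : zpowers x = ⊤ := by
    apply Subgroup.eq_top_of_card_eq
    rw [Nat.card_zpowers, hord, hcard]
  apply zpowers_sup_commutator_ne_top hS hna g
  rw [eq_top_iff]
  intro s _
  have hs : (QuotientGroup.mk s : S ⧸ commutator S) ∈ zpowers x := htop ▸ mem_top _
  obtain ⟨i, hi⟩ := mem_zpowers_iff.mp hs
  rw [hx, ← QuotientGroup.mk_zpow] at hi
  have h3 : (g ^ i)⁻¹ * s ∈ commutator S := QuotientGroup.eq.mp hi
  have : s = g ^ i * ((g ^ i)⁻¹ * s) := by group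
  rw [this]
  exact Subgroup.mul_mem_sup (Subgroup.zpow_mem _ (mem_zpowers g) i) h3

theorem eq_bot_of_le_commutator_top [hn : Group.IsNilpotent S] (D : Subgroup S)
    (h : D ≤ ⁅D, (⊤ : Subgroup S)⁆) : D = ⊥ := by
  obtain ⟨n, hn⟩ := _root_.nilpotent_iff_lowerCentralSeries.mp hn
  have key : ∀ k, D ≤ (⊤ : Subgroup S).lowerCentralSeries k := by
    intro k
    induction k with
    | zero => rw [_root_.lowerCentralSeries_zero]; exact le_top
    | succ k ih =>
      rw [_root_.lowerCentralSeries_succ]
      exact le_trans h (Subgroup.commutator_mono ih le_rfl)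
  rw [eq_bot_iff, ← hn]
  exact key n

end basic

section core

variable {S : Type*} [Group S]

/-- the preimage of the centre of `S ⧸ K` -/
def ZZ (K : Subgroup S) [K.Normal] : Subgroup S :=
  (Subgroup.center (S ⧸ K)).comap (QuotientGroup.mk' K)

theorem mem_ZZ (K : Subgroup S) [K.Normal] (x : S) : x ∈ ZZ K ↔ ∀ y : S, ⁅x, y⁆ ∈ K := by
  unfold ZZ
  rw [Subgroup.mem_comap, Subgroup.mem_center_iff]
  constructor
  · intro h y
    have h1 := h (QuotientGroup.mk' K y)
    rw [← QuotientGroup.eq_one_iff, ← QuotientGroup.mk'_apply, map_commutatorElement,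
      commutatorElement_eq_one_iff_commute]
    exact h1.symm
  · intro h q
    induction q using QuotientGroup.induction_on with
    | H y =>
      have h1 := h y
      rw [← QuotientGroup.eq_one_iff, ← QuotientGroup.mk'_apply, map_commutatorElement,
        commutatorElement_eq_one_iff_commute] at h1
      exact h1.symm

theorem comm_mem_of_mem_ZZ (K : Subgroup S) [K.Normal] {x : S} (hx : x ∈ ZZ K) (y : S) :
    ⁅y, x⁆ ∈ K := by
  have h := (mem_ZZ K x).mp hx y
  have : ⁅y, x⁆ = (⁅x, y⁆)⁻¹ := by rw [commutatorElement_inv]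
  rw [this]
  exact K.inv_mem h

theorem core [Finite S] (hS : IsPGroup 2 S) (M : Subgroup S) (hM : M.index = 2)
    (D : Subgroup S) [hDn : D.Normal] (hDM : D ≤ M) (hSD : commutator S ≤ D)
    (hsq : ∀ m ∈ M, m ^ 2 ∈ D) (hMD : D.relIndex M = 4)
    (hMcomm : ∀ K : Subgroup S, (∀ x ∈ M, ∀ y ∈ M, ⁅x, y⁆ ∈ K) → D ≤ K)
    (hD : D ≠ ⊥) : ∀ g : S, g ^ 2 ∈ D := by
  have : Fact (Nat.Prime 2) := ⟨Nat.prime_two⟩
  have hnil : Group.IsNilpotent S := hS.isNilpotent
  by_contra hcon
  push Not at hcon
  obtain ⟨g, hg⟩ := hcon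
  have hgM : g ∉ M := fun h => hg (hsq g h)
  have hcomm : ∀ a b : S, ⁅a, b⁆ ∈ D := fun a b =>
    hSD (Subgroup.commutator_mem_commutator (Subgroup.mem_top a) (Subgroup.mem_top b))
  set K : Subgroup S := ⁅D, (⊤ : Subgroup S)⁆ with hK
  have hKn : K.Normal := by rw [hK]; infer_instance
  have hKD : K ≤ D := Subgroup.commutator_le_left D ⊤
  have hDZ : D ≤ ZZ K := by
    intro d hd
    rw [mem_ZZ]
    intro y
    exact Subgroup.commutator_mem_commutator hd (Subgroup.mem_top y)
  -- squares lie in ⟨g²⟩ D
  have hsqform : ∀ x : S, x ^ 2 ∈ D ∨ ∃ d ∈ D, x ^ 2 = g ^ 2 * d := by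
    intro x
    by_cases hx : x ∈ M
    · exact Or.inl (hsq x hx)
    · right
      have hm : g⁻¹ * x ∈ M := by
        rw [Subgroup.mul_mem_iff_of_index_two hM]
        constructor
        · intro h; exact absurd (by simpa using M.inv_mem h) hgM
        · intro h; exact absurd h hx
      refine ⟨⁅g⁻¹, g⁻¹ * x⁆ * (g⁻¹ * x) ^ 2, ?_, ?_⟩
      · exact D.mul_mem (hcomm _ _) (hsq _ hm)
      · simp only [commutatorElement_def, pow_two]; group
  -- g² is central mod K
  have hg2Z : g ^ 2 ∈ ZZ K := by
    rw [mem_ZZ]
    intro x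
    rw [← QuotientGroup.eq_one_iff, ← QuotientGroup.mk'_apply, map_commutatorElement,
      commutatorElement_eq_one_iff_commute]
    set π := QuotientGroup.mk' K with hπ
    set G := π g with hG
    set X := π x with hX
    set w := ⁅G, X⁆ with hw
    have hwc : ∀ q, Commute w q := by
      intro q
      have h1 : ⁅g, x⁆ ∈ ZZ K := hDZ (hcomm g x)
      have h2 : π ⁅g, x⁆ ∈ Subgroup.center (S ⧸ K) := h1
      rw [map_commutatorElement] at h2
      exact ((Subgroup.mem_center_iff.mp h2) q).symm
    have hGX : G * X = w * X * G := by rw [hw, commutatorElement_def]; group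
    -- G commutes with X²
    have hGX2 : Commute G (X ^ 2) := by
      have hcen : ∀ d ∈ D, ∀ q, Commute (π d) q := by
        intro d hd q
        have h2 : π d ∈ Subgroup.center (S ⧸ K) := hDZ hd
        exact ((Subgroup.mem_center_iff.mp h2) q).symm
      rcases hsqform x with h | ⟨d, hd, h⟩
      · have : X ^ 2 = π (x ^ 2) := by rw [map_pow]
        rw [this]
        exact (hcen _ h G).symm
      · have : X ^ 2 = G ^ 2 * π d := by rw [hX, ← map_pow, h, map_mul, map_pow]
        rw [this]
        exact ((Commute.refl G).pow_right 2).mul_right (hcen d hd G).symm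
    have hw2 : w ^ 2 = 1 := by
      have e1 : G * X ^ 2 = w ^ 2 * (X ^ 2 * G) := by
        calc G * X ^ 2 = (G * X) * X := by rw [pow_two, mul_assoc]
          _ = (w * X * G) * X := by rw [hGX]
          _ = w * X * (G * X) := by simp only [mul_assoc]
          _ = w * X * (w * X * G) := by rw [hGX]
          _ = w * (X * w) * X * G := by simp only [mul_assoc]
          _ = w * (w * X) * X * G := by rw [(hwc X).eq]
          _ = w ^ 2 * (X ^ 2 * G) := by simp only [pow_two, mul_assoc]
      have e2 : G * X ^ 2 = X ^ 2 * G := hGX2.eq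
      rw [e2] at e1
      have := mul_right_cancel (a := w ^ 2) (b := X ^ 2 * G) (c := 1) (by rw [one_mul]; exact e1.symm)
      exact this.symm ▸ rfl
    change G ^ 2 * X = X * G ^ 2
    calc G ^ 2 * X = G * (G * X) := by rw [pow_two, mul_assoc]
      _ = G * (w * X * G) := by rw [hGX]
      _ = (G * w) * X * G := by simp only [mul_assoc]
      _ = (w * G) * X * G := by rw [(hwc G).eq]
      _ = w * (G * X) * G := by simp only [mul_assoc]
      _ = w * (w * X * G) * G := by rw [hGX]
      _ = w ^ 2 * (X * G ^ 2) := by simp only [pow_two, mul_assoc]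
      _ = X * G ^ 2 := by rw [hw2, one_mul]
  have hg2M : g ^ 2 ∈ M := Subgroup.sq_mem_of_index_two hM g
  -- U = Z ⊓ M
  set U : Subgroup S := ZZ K ⊓ M with hU
  have hDU : D ≤ U := le_inf hDZ hDM
  have hUM : U ≤ M := inf_le_right
  have hrel := Subgroup.relIndex_mul_relIndex D U M hDU hUM
  rw [hMD] at hrel
  have hDU1 : D.relIndex U ≠ 1 := by
    intro h
    rw [Subgroup.relIndex_eq_one] at h
    exact hg (h ⟨hg2Z, hg2M⟩)
  have hUrel : U.relIndex M = 1 ∨ U.relIndex M = 2 := by
    have hd : U.relIndex M ∣ 4 := Dvd.intro_left _ hrel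
    have hle : U.relIndex M ≤ 4 := Nat.le_of_dvd (by norm_num) hd
    have hd2 : D.relIndex U ∣ 4 := Dvd.intro _ hrel
    have hle2 : D.relIndex U ≤ 4 := Nat.le_of_dvd (by norm_num) hd2
    interval_cases h1 : U.relIndex M <;> interval_cases h2 : D.relIndex U <;> simp_all
  have hMK : ∀ x ∈ M, ∀ y ∈ M, ⁅x, y⁆ ∈ K := by
    intro x hx y hy
    rcases hUrel with h1 | h2
    · rw [Subgroup.relIndex_eq_one] at h1
      exact (mem_ZZ K x).mp (h1 hx).1 y
    · by_cases hxU : x ∈ U
      · exact (mem_ZZ K x).mp hxU.1 y
      by_cases hyU : y ∈ U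
      · exact comm_mem_of_mem_ZZ K hyU.1 x
      have hidx : (U.subgroupOf M).index = 2 := h2
      have hmem := Subgroup.mul_mem_iff_of_index_two hidx (a := (⟨x, hx⟩ : M)⁻¹) (b := ⟨y, hy⟩)
      have hu : x⁻¹ * y ∈ U := by
        have : (⟨x, hx⟩ : M)⁻¹ * ⟨y, hy⟩ ∈ U.subgroupOf M := by
          rw [hmem]
          constructor
          · intro h
            exfalso
            apply hxU
            have h' := (U.subgroupOf M).inv_mem h
            rw [inv_inv] at h'
            exact Subgroup.mem_subgroupOf.mp h'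
          · intro h
            exact absurd (Subgroup.mem_subgroupOf.mp h) hyU
        exact Subgroup.mem_subgroupOf.mp this
      have h3 : ⁅x, x⁻¹ * y⁆ ∈ K := comm_mem_of_mem_ZZ K hu.1 x
      have h4 : ⁅x, y⁆ = x * ⁅x, x⁻¹ * y⁆ * x⁻¹ := by
        simp only [commutatorElement_def]; group
      rw [h4]
      exact hKn.conj_mem _ h3 x
  have hDK : D ≤ K := hMcomm K hMK
  exact hD (eq_bot_of_le_commutator_top D hDK)

end core

section transfer

theorem pRankLE_of_mulEquiv {G G' : Type*} [Group G] [Group G'] (e : G ≃* G') {p k : ℕ}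
    (h : Cfsg.PRankLE p k G') : Cfsg.PRankLE p k G := by
  intro A hA hexp
  have h1 := h (A.map e.toMonoidHom) ?_ ?_
  · have hc : Nat.card (A.map e.toMonoidHom) = Nat.card A :=
      (Nat.card_congr (A.equivMapOfInjective e.toMonoidHom e.injective).toEquiv).symm
    rw [hc] at h1
    exact h1
  · refine ⟨⟨?_⟩⟩
    rintro ⟨a, ha⟩ ⟨b, hb⟩
    obtain ⟨a', ha', rfl⟩ := Subgroup.mem_map.mp ha
    obtain ⟨b', hb', rfl⟩ := Subgroup.mem_map.mp hb
    apply Subtype.ext
    change e.toMonoidHom a' * e.toMonoidHom b' = e.toMonoidHom b' * e.toMonoidHom a'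
    rw [← map_mul, ← map_mul]
    congr 1
    have := hA.is_comm.comm ⟨a', ha'⟩ ⟨b', hb'⟩
    exact congrArg Subtype.val this
  · intro a ha
    obtain ⟨a', ha', rfl⟩ := Subgroup.mem_map.mp ha
    rw [← map_pow, hexp a' ha', map_one]

theorem sectionalPRankLE_subgroup {S : Type*} [Group S] {p k : ℕ}
    (h : Cfsg.SectionalPRankLE p k S) (M : Subgroup S) : Cfsg.SectionalPRankLE p k ↥M := by
  intro H N hN
  set H' : Subgroup S := H.map M.subtype with hH'
  let e : ↥H ≃* ↥H' := H.equivMapOfInjective M.subtype M.subtype_injective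
  set N' : Subgroup ↥H' := N.map e.toMonoidHom with hN'
  have hN'n : N'.Normal := Subgroup.Normal.map hN e.toMonoidHom e.surjective
  have h1 := h H' N'
  exact pRankLE_of_mulEquiv (QuotientGroup.congr N N' e rfl) h1

end transfer

section main

theorem idx_eq_four {i : ℕ} (h4 : 4 ∣ i) (h8 : i ∣ 8) (hne : i ≠ 8) : i = 4 := by
  have hle : i ≤ 8 := Nat.le_of_dvd (by norm_num) h8
  interval_cases i <;> simp_all

theorem main (n : ℕ) : ∀ (S : Type u) [Group S] [Finite S], Nat.card S = n → IsPGroup 2 S →
    Cfsg.SectionalPRankLE 2 2 S →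
    (∃ P : Subgroup S, Nat.card P = 8 ∧ ∃ x ∈ P, ∃ y ∈ P, x * y ≠ y * x) →
    (commutator S).index = 4 := by
  induction n using Nat.strong_induction_on with
  | _ n ih =>
    intro S _ _ hn hS hr hP
    obtain ⟨P, hP8, x, hx, y, hy, hxy⟩ := hP
    have : Fact (Nat.Prime 2) := ⟨Nat.prime_two⟩
    have hna : ∃ x y : S, x * y ≠ y * x := ⟨x, y, hxy⟩
    have h4 := four_dvd_index_commutator hS hna
    have hcne : commutator S ≠ ⊥ := by
      intro h
      apply hxy
      have h1 : ⁅x, y⁆ ∈ commutator S :=
        Subgroup.commutator_mem_commutator (Subgroup.mem_top x) (Subgroup.mem_top y)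
      rw [h, Subgroup.mem_bot, commutatorElement_eq_one_iff_commute] at h1
      exact h1.eq
    by_cases hPtop : P = ⊤
    · have hc8 : Nat.card S = 8 := by rw [← hP8, hPtop, Subgroup.card_top]
      apply idx_eq_four h4
      · rw [← hc8]; exact Subgroup.index_dvd_card _
      · intro h
        apply hcne
        have h1 := Subgroup.card_mul_index (commutator S)
        rw [h, hc8] at h1
        have h2 : Nat.card (commutator S) = 1 := by omega
        exact Subgroup.card_eq_one.mp h2
    · obtain ⟨k, hk⟩ := IsPGroup.iff_card.mp hS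
      have hPlt : Nat.card P < Nat.card S := by
        rcases lt_or_ge (Nat.card P) (Nat.card S) with h | h
        · exact h
        · exfalso
          apply hPtop
          apply Subgroup.eq_top_of_card_eq
          exact le_antisymm (Subgroup.card_le_card_group P) h
      have hk4 : 4 ≤ k := by
        rw [hP8, hk] at hPlt
        by_contra hlt
        have : k ≤ 3 := by omega
        have := Nat.pow_le_pow_right (show 0 < 2 by norm_num) this
        omega
      obtain ⟨k', rfl⟩ : ∃ k', k = k' + 1 := ⟨k - 1, by omega⟩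
      have hdvd : 2 ^ k' ∣ Nat.card S := by rw [hk, pow_succ]; exact Dvd.intro _ rfl
      obtain ⟨M, hMc, hPM⟩ := Sylow.exists_subgroup_card_pow_prime_le 2 hdvd P
        (show Nat.card P = 2 ^ 3 by rw [hP8]; norm_num) (by omega)
      have hMidx : M.index = 2 := by
        have h1 := Subgroup.card_mul_index M
        rw [hMc, hk, pow_succ] at h1
        exact Nat.eq_of_mul_eq_mul_left (pow_pos (by norm_num) k') h1
      have hMn : M.Normal := Subgroup.normal_of_index_eq_two hMidx
      -- induction hypothesis for M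
      have hMna : ∃ a b : ↥M, a * b ≠ b * a := by
        refine ⟨⟨x, hPM hx⟩, ⟨y, hPM hy⟩, ?_⟩
        intro h
        exact hxy (congrArg Subtype.val h)
      have hMp : IsPGroup 2 ↥M := hS.to_subgroup M
      have hlt : Nat.card ↥M < n := by
        rw [hMc, ← hn, hk, pow_succ]
        have := pow_pos (show 0 < 2 by norm_num) k'
        omega
      have hih := ih (Nat.card ↥M) hlt ↥M rfl hMp (sectionalPRankLE_subgroup hr M)
        ⟨P.subgroupOf M, by
          rw [← hP8]
          exact Nat.card_congr (Subgroup.subgroupOfEquivOfLe hPM).toEquiv,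
          ⟨x, hPM hx⟩, Subgroup.mem_subgroupOf.mpr hx, ⟨y, hPM hy⟩, Subgroup.mem_subgroupOf.mpr hy,
          fun h => hxy (congrArg Subtype.val h)⟩
      set D : Subgroup S := (commutator ↥M).map M.subtype with hD
      have hDn : D.Normal := ConjAct.normal_of_characteristic_of_normal
      have hDM : D ≤ M := Subgroup.map_subtype_le _
      have hDrel : D.relIndex M = 4 := by
        rw [Subgroup.relIndex, hD]
        have : ((commutator ↥M).map M.subtype).subgroupOf M = commutator ↥M := by
          ext z
          rw [Subgroup.mem_subgroupOf, Subgroup.mem_map]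
          constructor
          · rintro ⟨w, hw, hwz⟩
            have : w = z := Subtype.ext hwz
            exact this ▸ hw
          · intro hz
            exact ⟨z, hz, rfl⟩
        rw [this]
        exact hih
      have hDidx : D.index = 8 := by
        rw [← Subgroup.relIndex_mul_index hDM, hDrel, hMidx]
      have hDle : D ≤ commutator S := by
        rw [hD, commutator_def, Subgroup.map_commutator]
        rw [commutator_def]
        exact Subgroup.commutator_mono le_top le_top
      have hsq : ∀ m ∈ M, m ^ 2 ∈ D := by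
        intro m hm
        have h1 := sq_mem_commutator hMp hMna hih ⟨m, hm⟩
        exact ⟨⟨m, hm⟩ ^ 2, h1, rfl⟩
      have hMcomm : ∀ K : Subgroup S, (∀ x ∈ M, ∀ y ∈ M, ⁅x, y⁆ ∈ K) → D ≤ K := by
        intro K hK
        rw [hD, Subgroup.map_le_iff_le_comap, commutator_eq_closure, Subgroup.closure_le]
        rintro z ⟨a, b, rfl⟩
        rw [SetLike.mem_coe, Subgroup.mem_comap]
        have := hK a a.2 b b.2
        rw [map_commutatorElement]
        exact this
      have hDne : D ≠ ⊥ := by
        intro h
        obtain ⟨a, b, hab⟩ := hMna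
        apply hab
        have h1 : ⁅(a : S), (b : S)⁆ ∈ D := by
          refine ⟨⁅a, b⁆, ?_, ?_⟩
          · exact Subgroup.commutator_mem_commutator (Subgroup.mem_top a) (Subgroup.mem_top b)
          · rw [map_commutatorElement]; rfl
        rw [h, Subgroup.mem_bot, commutatorElement_eq_one_iff_commute] at h1
        exact Subtype.ext h1.eq
      by_cases hc : commutator S ≤ D
      · exfalso
        have hall := core hS M hMidx D hDM hc hsq hDrel hMcomm hDne
        -- S ⧸ D is elementary abelian of order 8
        have hpr := hr ⊤ (D.subgroupOf ⊤)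
        have h8 := hpr ⊤ ?_ ?_
        · have hcard : Nat.card (⊤ : Subgroup (↥(⊤ : Subgroup S) ⧸ D.subgroupOf ⊤)) = 8 := by
            rw [Subgroup.card_top, ← Subgroup.index_eq_card]
            change D.relIndex ⊤ = 8
            rw [Subgroup.relIndex_top_right, hDidx]
          rw [hcard] at h8
          norm_num at h8
        · refine ⟨⟨?_⟩⟩
          rintro ⟨a, -⟩ ⟨b, -⟩
          apply Subtype.ext
          change a * b = b * a
          induction a using QuotientGroup.induction_on with
          | H a =>
            induction b using QuotientGroup.induction_on with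
            | H b =>
              rw [← QuotientGroup.mk_mul, ← QuotientGroup.mk_mul, QuotientGroup.eq,
                Subgroup.mem_subgroupOf]
              apply hc
              have : (((a * b)⁻¹ * (b * a) : ↥(⊤ : Subgroup S)) : S) = ⁅(b : S)⁻¹, (a : S)⁻¹⁆ := by
                simp only [commutatorElement_def, Subgroup.coe_mul, Subgroup.coe_inv]
                group
              rw [this]
              exact Subgroup.commutator_mem_commutator (Subgroup.mem_top _) (Subgroup.mem_top _)
        · intro a _
          induction a using QuotientGroup.induction_on with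
          | H a =>
            rw [← QuotientGroup.mk_pow, QuotientGroup.eq_one_iff, Subgroup.mem_subgroupOf]
            have := hall (a : S)
            simpa using this
      · apply idx_eq_four h4
        · rw [← hDidx]; exact Subgroup.index_dvd_of_le hDle
        · intro h
          apply hc
          have h1 := Subgroup.relIndex_mul_index hDle
          rw [h, hDidx] at h1
          have h2 : D.relIndex (commutator S) = 1 := by omega
          exact Subgroup.relIndex_eq_one.mp h2

end main

end Cfsg.Agent.Lib.Helper17.SR2
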