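import Mathlib

set_option autoImplicit false

namespace Cfsg.Agent.Lib.Helper17.SelfDual

universe u

variable {F : Type*} [Field F] {G : Type*} [Group G]

/-! ### odd characteristic: the asymmetry and the Fitting decomposition -/

section Odd

variable {V : Type*} [AddCommGroup V] [Module F V] [FiniteDimensional F V]

/-- the asymmetry of a nondegenerate form: `B (J u) v = B v u` -/
noncomputable def asym (B : LinearMap.BilinForm F V) (hB : B.Nondegenerate) : V →ₗ[F] V :=
  (B.toDual hB).symm.toLinearMap ∘ₗ B.flip

theorem asym_spec (B : LinearMap.BilinForm F V) (hB : B.Nondegenerate) (u v : V) :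
    B (asym B hB u) v = B v u := by
  have h1 : B.toDual hB (asym B hB u) = B.flip u := by
    simp [asym]
  have := congrArg (fun f => f v) h1
  simpa [LinearMap.BilinForm.toDual_def] using this

theorem odd_case (h2 : (2 : F) ≠ 0) (ρ : Representation F G V) (B : LinearMap.BilinForm F V)
    (hB : B.Nondegenerate) (hBinv : ∀ g x y, B (ρ g x) (ρ g y) = B x y) :
    ∃ U W : Submodule F V, IsCompl U W ∧ (∀ g, ∀ u ∈ U, ρ g u ∈ U) ∧ (∀ g, ∀ w ∈ W, ρ g w ∈ W) ∧
      (∀ x ∈ U, (∀ y ∈ U, B x y - B y x = 0) → x = 0) ∧
      (∀ x ∈ W, (∀ y ∈ W, B x y + B y x = 0) → x = 0) := by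
  classical
  set J := asym B hB with hJdef
  have hJ : ∀ u v, B (J u) v = B v u := asym_spec B hB
  have hiso : ∀ u v, B (J u) (J v) = B u v := by
    intro u v
    rw [hJ, hJ]
  have hJρ : ∀ g u, J (ρ g u) = ρ g (J u) := by
    intro g u
    rw [← sub_eq_zero]
    apply hB.1
    intro v
    rw [map_sub, LinearMap.sub_apply, hJ, sub_eq_zero]
    have h1 : v = ρ g (ρ g⁻¹ v) := by
      rw [← Module.End.mul_apply, ← map_mul, mul_inv_cancel, map_one, Module.End.one_apply]
    conv_rhs => rw [h1, hBinv, hJ]
    conv_lhs => rw [h1, hBinv]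
  set L : Module.End F V := 1 + J with hL
  have hLJ : L * J = J * L := by rw [hL, add_mul, mul_add, one_mul, mul_one]
  have hLρ : ∀ g u, L (ρ g u) = ρ g (L u) := by
    intro g u
    simp only [hL, LinearMap.add_apply, Module.End.one_apply, hJρ, map_add]
  have hLkρ : ∀ (k : ℕ) g u, (L ^ k) (ρ g u) = ρ g ((L ^ k) u) := by
    intro k
    induction k with
    | zero => intro g u; simp
    | succ k ih => intro g u; rw [pow_succ, Module.End.mul_apply, hLρ, ih, Module.End.mul_apply]
  have hLkJ : ∀ (k : ℕ) u, (L ^ k) (J u) = J ((L ^ k) u) := by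
    intro k
    induction k with
    | zero => intro u; simp
    | succ k ih =>
      intro u
      have hLJ' : L (J u) = J (L u) := by
        have := congrArg (fun f => f u) hLJ
        simpa using this
      rw [pow_succ, Module.End.mul_apply, hLJ', ih, Module.End.mul_apply]
  -- adjoint relation
  have hadj : ∀ x y, B (L x) (J y) = B x (L y) := by
    intro x y
    simp only [hL, LinearMap.add_apply, Module.End.one_apply, map_add, hiso]
    rw [add_comm]
  have hadjk : ∀ (k : ℕ) x y, B ((L ^ k) x) ((J ^ k) y) = B x ((L ^ k) y) := by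
    intro k
    induction k with
    | zero => intro x y; simp
    | succ k ih =>
      intro x y
      have h1 : (L ^ (k + 1)) x = L ((L ^ k) x) := by rw [pow_succ', Module.End.mul_apply]
      have h2 : (J ^ (k + 1)) y = J ((J ^ k) y) := by rw [pow_succ', Module.End.mul_apply]
      have h3 : (L ^ (k + 1)) y = (L ^ k) (L y) := by rw [pow_succ, Module.End.mul_apply]
      rw [h1, h2, hadj, h3, ← ih]
      congr 1
      -- L (J^k y) = J^k (L y)
      clear ih h1 h2 h3
      induction k with
      | zero => simp
      | succ k ih2 =>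
        rw [pow_succ', Module.End.mul_apply, Module.End.mul_apply]
        have hLJ' : L (J ((J ^ k) y)) = J (L ((J ^ k) y)) := by
          have := congrArg (fun f => f ((J ^ k) y)) hLJ
          simpa using this
        rw [hLJ', ih2]
  -- Fitting decomposition
  obtain ⟨N₀, hN₀⟩ := Filter.eventually_atTop.1 (LinearMap.eventually_isCompl_ker_pow_range_pow L)
  have hcompl := hN₀ (N₀ + 1) (Nat.le_succ _)
  set N := N₀ + 1 with hN
  refine ⟨LinearMap.ker (L ^ N), LinearMap.range (L ^ N), hcompl, ?_, ?_, ?_, ?_⟩
  · intro g u hu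
    rw [LinearMap.mem_ker] at hu ⊢
    rw [hLkρ, hu, map_zero]
  · rintro g _ ⟨w, rfl⟩
    exact ⟨ρ g w, hLkρ N g w⟩
  all_goals
    have horth1 : ∀ x ∈ LinearMap.ker (L ^ N), ∀ y ∈ LinearMap.range (L ^ N), B x y = 0 := by
      rintro x hx _ ⟨y, rfl⟩
      rw [← hadjk, LinearMap.mem_ker.1 hx]
      simp
    have horth2 : ∀ x ∈ LinearMap.ker (L ^ N), ∀ y ∈ LinearMap.range (L ^ N), B y x = 0 := by
      intro x hx y hy
      rw [← hJ]
      apply horth1 _ _ y hy
      rw [LinearMap.mem_ker, hLkJ, LinearMap.mem_ker.1 hx, map_zero]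
    have hdecomp : ∀ v : V, ∃ a ∈ LinearMap.ker (L ^ N), ∃ b ∈ LinearMap.range (L ^ N),
        a + b = v := by
      intro v
      have : v ∈ LinearMap.ker (L ^ N) ⊔ LinearMap.range (L ^ N) := by
        rw [hcompl.sup_eq_top]; exact Submodule.mem_top
      exact Submodule.mem_sup.1 this
  · -- alternating part nondegenerate on the kernel
    intro x hx hxy
    have hx' : (2 : F) • x - L x ∈ LinearMap.ker (L ^ N) := by
      refine Submodule.sub_mem _ (Submodule.smul_mem _ _ hx) ?_
      rw [LinearMap.mem_ker] at hx ⊢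
      rw [← Module.End.mul_apply, ← pow_succ, pow_succ', Module.End.mul_apply, hx, map_zero]
    have hform : ∀ y, B ((2 : F) • x - L x) y = B x y - B y x := by
      intro y
      simp only [hL, LinearMap.add_apply, Module.End.one_apply, map_sub, map_add, map_smul,
        LinearMap.sub_apply, LinearMap.add_apply, LinearMap.smul_apply, hJ, smul_eq_mul]
      ring
    have hzero : (2 : F) • x - L x = 0 := by
      apply hB.1
      intro v
      obtain ⟨a, ha, b, hb, rfl⟩ := hdecomp v
      rw [map_add, hform a, hxy a ha, horth1 _ hx' b hb, add_zero]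
    have hLx : L x = (2 : F) • x := (sub_eq_zero.1 hzero).symm
    have hLk : ∀ k : ℕ, (L ^ k) x = (2 : F) ^ k • x := by
      intro k
      induction k with
      | zero => simp
      | succ k ih => rw [pow_succ', Module.End.mul_apply, ih, map_smul, hLx, smul_smul, pow_succ]
    have := hLk N
    rw [LinearMap.mem_ker.1 hx] at this
    exact (smul_eq_zero.1 this.symm).resolve_left (pow_ne_zero _ h2)
  · -- symmetric part nondegenerate on the range
    intro x hx hxy
    have hLx_mem : L x ∈ LinearMap.range (L ^ N) := by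
      obtain ⟨w, rfl⟩ := hx
      exact ⟨L w, by rw [← Module.End.mul_apply, ← pow_succ, pow_succ', Module.End.mul_apply]⟩
    have hform : ∀ y, B (L x) y = B x y + B y x := by
      intro y
      simp only [hL, LinearMap.add_apply, Module.End.one_apply, map_add, hJ]
    have hzero : L x = 0 := by
      apply hB.1
      intro v
      obtain ⟨a, ha, b, hb, rfl⟩ := hdecomp v
      rw [map_add, hform b, hxy b hb, horth2 a ha _ hLx_mem, add_zero]
    have hxker : x ∈ LinearMap.ker (L ^ N) := by
      rw [LinearMap.mem_ker, hN, pow_succ, Module.End.mul_apply, hzero, map_zero]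
    have : x ∈ LinearMap.ker (L ^ N) ⊓ LinearMap.range (L ^ N) := ⟨hxker, hx⟩
    rw [hcompl.inf_eq_bot] at this
    exact (Submodule.mem_bot F).1 this

end Odd

/-! ### invariant subspaces and Maschke -/

section Maschke

variable {V : Type*} [AddCommGroup V] [Module F V]

/-- invariant subspace -/
def Inv (ρ : Representation F G V) (X : Submodule F V) : Prop := ∀ g, ∀ x ∈ X, ρ g x ∈ X

/-- the restriction of a representation to an invariant subspace -/
def subRep (ρ : Representation F G V) {X : Submodule F V} (hX : Inv ρ X) :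
    Representation F G X where
  toFun g := (ρ g).restrict (hX g)
  map_one' := by ext x; simp
  map_mul' g h := by ext x; simp

theorem subRep_coe (ρ : Representation F G V) {X : Submodule F V} (hX : Inv ρ X) (g : G) (x : X) :
    ((subRep ρ hX g x : X) : V) = ρ g x := rfl

theorem rho_inv_apply (ρ : Representation F G V) (g : G) (v : V) : ρ g (ρ g⁻¹ v) = v := by
  rw [← Module.End.mul_apply, ← map_mul, mul_inv_cancel, map_one, Module.End.one_apply]

theorem rho_inv_apply' (ρ : Representation F G V) (g : G) (v : V) : ρ g⁻¹ (ρ g v) = v := by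
  rw [← Module.End.mul_apply, ← map_mul, inv_mul_cancel, map_one, Module.End.one_apply]

theorem exists_inv_compl [Fintype G] (hG : (Fintype.card G : F) ≠ 0) (ρ : Representation F G V)
    {X : Submodule F V} (hX : Inv ρ X) : ∃ C : Submodule F V, Inv ρ C ∧ IsCompl X C := by
  classical
  obtain ⟨C₀, hC₀⟩ := Submodule.exists_isCompl X
  let π₀ : V →ₗ[F] X := X.projectionOnto C₀ hC₀
  let P : V →ₗ[F] X := (Fintype.card G : F)⁻¹ •
    ∑ g : G, (subRep ρ hX g) ∘ₗ π₀ ∘ₗ (ρ g⁻¹)
  have hPx : ∀ x : X, P x = x := by
    intro x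
    have h1 : ∀ g : G, ((subRep ρ hX g) ∘ₗ π₀ ∘ₗ (ρ g⁻¹)) x = x := by
      intro g
      simp only [LinearMap.comp_apply]
      have : π₀ (ρ g⁻¹ x) = ⟨ρ g⁻¹ x, hX g⁻¹ x x.2⟩ :=
        Submodule.projectionOnto_apply_of_mem_left hC₀ (hX g⁻¹ x x.2)
      rw [this]
      apply Subtype.ext
      rw [subRep_coe]
      exact rho_inv_apply ρ g x
    simp only [P, LinearMap.smul_apply, LinearMap.sum_apply, h1, Finset.sum_const,
      Finset.card_univ, nsmul_eq_mul]
    rw [← Nat.cast_smul_eq_nsmul F, smul_smul, inv_mul_cancel₀ hG, one_smul]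
  have hPeq : ∀ (h : G) (v : V), P (ρ h v) = subRep ρ hX h (P v) := by
    intro h v
    simp only [P, LinearMap.smul_apply, LinearMap.sum_apply, map_smul, map_sum,
      LinearMap.comp_apply]
    congr 1
    symm
    apply Fintype.sum_equiv (Equiv.mulLeft h)
    intro g
    simp only [Equiv.coe_mulLeft, mul_inv_rev, map_mul, Module.End.mul_apply]
    rw [rho_inv_apply' ρ h v]
  refine ⟨LinearMap.ker P, ?_, LinearMap.isCompl_of_proj hPx⟩
  intro g v hv
  rw [LinearMap.mem_ker] at hv ⊢
  rw [hPeq, hv, map_zero]

end Maschke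

/-! ### gluing forms along an invariant decomposition -/

section Glue

variable {U : Type*} [AddCommGroup U] [Module F U] [FiniteDimensional F U]

theorem projectionOnto_equivariant (ρ : Representation F G U) {Z Y : Submodule F U}
    (hZ : Inv ρ Z) (hY : Inv ρ Y) (hZY : IsCompl Z Y) (g : G) (u : U) :
    Z.projectionOnto Y hZY (ρ g u) = subRep ρ hZ g (Z.projectionOnto Y hZY u) := by
  have hu := Submodule.projection_add_projection_eq_self hZY u
  have h1 : ρ g u = ρ g (Z.projection Y hZY u) + ρ g (Y.projection Z hZY.symm u) := by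
    rw [← map_add, hu]
  have hz : ρ g (Z.projection Y hZY u) ∈ Z := hZ g _ (Submodule.projection_apply_mem hZY u)
  have hy : ρ g (Y.projection Z hZY.symm u) ∈ Y :=
    hY g _ (Submodule.projection_apply_mem hZY.symm u)
  rw [h1, map_add, Submodule.projectionOnto_apply_of_mem_left hZY hz,
    Submodule.projectionOnto_apply_of_mem_right hZY hy, add_zero]
  apply Subtype.ext
  rfl

theorem glue (ρ : Representation F G U) {Z Y : Submodule F U} (hZ : Inv ρ Z) (hY : Inv ρ Y)
    (hZY : IsCompl Z Y) (bZ : LinearMap.BilinForm F Z) (bY : LinearMap.BilinForm F Y)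
    (hZnd : bZ.SeparatingLeft) (hYnd : bY.SeparatingLeft)
    (hZs : ∀ x y, bZ x y = bZ y x) (hYs : ∀ x y, bY x y = bY y x)
    (hZi : ∀ g x y, bZ (subRep ρ hZ g x) (subRep ρ hZ g y) = bZ x y)
    (hYi : ∀ g x y, bY (subRep ρ hY g x) (subRep ρ hY g y) = bY x y) :
    ∃ β : LinearMap.BilinForm F U, β.Nondegenerate ∧ (∀ x y, β x y = β y x) ∧
      (∀ g x y, β (ρ g x) (ρ g y) = β x y) := by
  let πZ := Z.projectionOnto Y hZY
  let πY := Y.projectionOnto Z hZY.symm
  let β : LinearMap.BilinForm F U := bZ.compl₁₂ πZ πZ + bY.compl₁₂ πY πY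
  have hβ : ∀ x y, β x y = bZ (πZ x) (πZ y) + bY (πY x) (πY y) := fun x y => rfl
  refine ⟨β, ?_, ?_, ?_⟩
  · apply LinearMap.BilinForm.Nondegenerate.ofSeparatingLeft
    intro u hu
    have h1 : πZ u = 0 := by
      apply hZnd
      intro z
      have := hu z
      rw [hβ, Submodule.projectionOnto_apply_left hZY z,
        Submodule.projectionOnto_apply_of_mem_right hZY.symm z.2, map_zero, add_zero] at this
      exact this
    have h2 : πY u = 0 := by
      apply hYnd
      intro y
      have := hu y
      rw [hβ, Submodule.projectionOnto_apply_left hZY.symm y,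
        Submodule.projectionOnto_apply_of_mem_right hZY y.2, map_zero, zero_add] at this
      exact this
    have := Submodule.projection_add_projection_eq_self hZY u
    rw [Submodule.projection_apply, Submodule.projection_apply] at this
    rw [← this]
    show ((πZ u : Z) : U) + ((πY u : Y) : U) = 0
    rw [h1, h2]; simp
  · intro x y
    rw [hβ, hβ, hZs, hYs]
  · intro g x y
    rw [hβ, hβ]
    show bZ (Z.projectionOnto Y hZY (ρ g x)) (Z.projectionOnto Y hZY (ρ g y)) +
      bY (Y.projectionOnto Z hZY.symm (ρ g x)) (Y.projectionOnto Z hZY.symm (ρ g y)) = _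
    rw [projectionOnto_equivariant ρ hZ hY hZY, projectionOnto_equivariant ρ hZ hY hZY,
      projectionOnto_equivariant ρ hY hZ hZY.symm, projectionOnto_equivariant ρ hY hZ hZY.symm,
      hZi, hYi]

end Glue

/-! ### characteristic two: a symmetric nondegenerate invariant form -/

section Symm

/-- candidate subspace data -/
theorem exists_symm [Fintype G] (hG : (Fintype.card G : F) ≠ 0) (h2 : (2 : F) = 0) :
    ∀ (n : ℕ) (U : Type u) [AddCommGroup U] [Module F U] [FiniteDimensional F U]
      (ρ : Representation F G U) (σ : LinearMap.BilinForm F U), σ.Nondegenerate →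
      (∀ g x y, σ (ρ g x) (ρ g y) = σ x y) → Module.finrank F U = n →
      ∃ β : LinearMap.BilinForm F U, β.Nondegenerate ∧ (∀ x y, β x y = β y x) ∧
        (∀ g x y, β (ρ g x) (ρ g y) = β x y) := by
  intro n
  induction n using Nat.strong_induction_on with
  | _ n ih =>
    intro U _ _ _ ρ σ hσ hinv hn
    classical
    have hchar : ∀ a b : F, a + b = 0 → a = b := by
      intro a b hab
      have hbb : b + b = 0 := by rw [← two_mul, h2, zero_mul]
      have h1 : a = -b := eq_neg_of_add_eq_zero_left hab
      have h3 : -b = b := by rw [neg_eq_iff_add_eq_zero]; exact hbb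
      rw [h1, h3]
    set β₀ : LinearMap.BilinForm F U := σ + σ.flip with hβ₀
    have hβ₀a : ∀ x y, β₀ x y = σ x y + σ y x := fun x y => rfl
    set R : Submodule F U := LinearMap.ker β₀ with hR
    have hRmem : ∀ x, x ∈ R ↔ ∀ y, σ x y = σ y x := by
      intro x
      rw [hR, LinearMap.mem_ker]
      constructor
      · intro h y
        apply hchar
        rw [← hβ₀a, h]; rfl
      · intro h
        ext y
        rw [hβ₀a, h y, ← two_mul, h2, zero_mul]; rfl
    by_cases hR0 : R = ⊥
    · refine ⟨β₀, ?_, ?_, ?_⟩
      · apply LinearMap.BilinForm.Nondegenerate.ofSeparatingLeft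
        intro x hx
        have : x ∈ R := by rw [hR, LinearMap.mem_ker]; ext y; exact hx y
        rw [hR0] at this; exact (Submodule.mem_bot F).1 this
      · intro x y; rw [hβ₀a, hβ₀a, add_comm]
      · intro g x y; rw [hβ₀a, hβ₀a, hinv, hinv]
    have hRinv : Inv ρ R := by
      intro g x hx
      rw [hRmem] at hx ⊢
      intro y
      have : y = ρ g (ρ g⁻¹ y) := (rho_inv_apply ρ g y).symm
      rw [this, hinv, hinv, hx]
    have hex : ∃ d, ∃ X : Submodule F U, X ≠ ⊥ ∧ X ≤ R ∧ Inv ρ X ∧ Module.finrank F X = d :=
      ⟨_, R, hR0, le_rfl, hRinv, rfl⟩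
    obtain ⟨X, hX0, hXR, hXinv, hXd⟩ := Nat.find_spec hex
    have hXmin : ∀ X' : Submodule F U, X' ≤ X → Inv ρ X' → X' = ⊥ ∨ X' = X := by
      intro X' hle hinv'
      by_cases h0 : X' = ⊥
      · left; exact h0
      · right
        apply Submodule.eq_of_le_of_finrank_le hle
        rw [hXd]
        exact Nat.find_min' hex ⟨X', h0, hle.trans hXR, hinv', rfl⟩
    have hXsym : ∀ x ∈ X, ∀ y, σ x y = σ y x := fun x hx => (hRmem x).1 (hXR hx)
    have horthinv : ∀ Z : Submodule F U, Inv ρ Z → Inv ρ (σ.orthogonal Z) := by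
      intro Z hZ g y hy x hx
      show σ x (ρ g y) = 0
      have : x = ρ g (ρ g⁻¹ x) := (rho_inv_apply ρ g x).symm
      rw [this, hinv]
      exact hy _ (hZ g⁻¹ x hx)
    have hXpinv := horthinv X hXinv
    have hmeet : Inv ρ (X ⊓ σ.orthogonal X) := fun g x hx => ⟨hXinv g x hx.1, hXpinv g x hx.2⟩
    -- the subspace `Z`
    have hZ : ∃ Z : Submodule F U, ∃ hZinv : Inv ρ Z, Z ≠ ⊥ ∧ Disjoint Z (σ.orthogonal Z) ∧
        ∃ bZ : LinearMap.BilinForm F Z, bZ.SeparatingLeft ∧ (∀ x y, bZ x y = bZ y x) ∧
          (∀ g x y, bZ (subRep ρ hZinv g x) (subRep ρ hZinv g y) = bZ x y) := by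
      rcases hXmin _ inf_le_left hmeet with hA | hB
      · refine ⟨X, hXinv, hX0, disjoint_iff.2 hA, σ.restrict X, ?_, ?_, ?_⟩
        · intro x hx
          have hxp : (x : U) ∈ X ⊓ σ.orthogonal X := by
            refine ⟨x.2, ?_⟩
            intro x' hx'
            show σ x' x = 0
            rw [hXsym x' hx']
            exact hx ⟨x', hx'⟩
          rw [hA] at hxp
          exact Subtype.ext ((Submodule.mem_bot F).1 hxp)
        · intro x y
          exact hXsym x x.2 y
        · intro g x y
          exact hinv g x y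
      · have hXle : X ≤ σ.orthogonal X := by
          intro x hx
          have : x ∈ X ⊓ σ.orthogonal X := by rw [hB]; exact hx
          exact this.2
        obtain ⟨C, hCinv, hXpC⟩ := exists_inv_compl hG ρ hXpinv
        have hZinv : Inv ρ (X ⊔ C) := by
          intro g z hz
          obtain ⟨x, hx, c, hc, rfl⟩ := Submodule.mem_sup.1 hz
          rw [map_add]
          exact Submodule.add_mem_sup (hXinv g x hx) (hCinv g c hc)
        set Q : U →ₗ[F] U := C.projection (σ.orthogonal X) hXpC.symm with hQ
        have hQx : ∀ a ∈ σ.orthogonal X, Q a = 0 := fun a ha =>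
          Submodule.projection_apply_of_mem_right hXpC.symm ha
        have hQc : ∀ c ∈ C, Q c = c := fun c hc =>
          Submodule.projection_apply_of_mem_left hXpC.symm hc
        have hQρ : ∀ g u, Q (ρ g u) = ρ g (Q u) := by
          intro g u
          have := projectionOnto_equivariant ρ hCinv hXpinv hXpC.symm g u
          exact congrArg Subtype.val this
        have hdecomp : ∀ w : U, ∃ a ∈ σ.orthogonal X, ∃ c ∈ C, a + c = w := by
          intro w
          have : w ∈ σ.orthogonal X ⊔ C := by rw [hXpC.sup_eq_top]; exact Submodule.mem_top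
          exact Submodule.mem_sup.1 this
        have hcbot : ∀ c ∈ C, (∀ x ∈ X, σ x c = 0) → c = 0 := by
          intro c hc h
          have : c ∈ σ.orthogonal X ⊓ C := ⟨h, hc⟩
          rw [hXpC.inf_eq_bot] at this
          exact (Submodule.mem_bot F).1 this
        have hxzero : ∀ x ∈ X, (∀ c ∈ C, σ x c = 0) → x = 0 := by
          intro x hx h
          apply hσ.1
          intro w
          obtain ⟨a, ha, c, hc, rfl⟩ := hdecomp w
          rw [map_add, ha x hx, h c hc, add_zero]
        set hh : LinearMap.BilinForm F U := σ.compl₂ Q + (σ.compl₂ Q).flip with hhdef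
        have hha : ∀ u v, hh u v = σ u (Q v) + σ v (Q u) := fun u v => rfl
        refine ⟨X ⊔ C, hZinv, ?_, ?_, hh.restrict (X ⊔ C), ?_, ?_, ?_⟩
        · intro h0
          apply hX0
          rw [eq_bot_iff, ← h0]
          exact le_sup_left
        · rw [disjoint_iff, eq_bot_iff]
          rintro z ⟨hz1, hz2⟩
          obtain ⟨x, hx, c, hc, rfl⟩ := Submodule.mem_sup.1 hz1
          have hc0 : c = 0 := by
            apply hcbot c hc
            intro x₂ hx₂
            have := hz2 x₂ (Submodule.mem_sup_left hx₂)
            have h3 : σ x₂ (x + c) = 0 := this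
            rw [map_add, hXle hx x₂ hx₂, zero_add] at h3
            exact h3
          subst hc0
          rw [add_zero] at hz2 ⊢
          have : x = 0 := by
            apply hxzero x hx
            intro c hc
            rw [hXsym x hx]
            exact hz2 c (Submodule.mem_sup_right hc)
          rw [this]
          exact Submodule.zero_mem _
        · intro u hu
          obtain ⟨x, hx, c, hc, hxc⟩ := Submodule.mem_sup.1 u.2
          have hQu : Q (u : U) = c := by
            rw [← hxc, map_add, hQx x (hXle hx), hQc c hc, zero_add]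
          have hc0 : c = 0 := by
            apply hcbot c hc
            intro x₂ hx₂
            have := hu ⟨x₂, Submodule.mem_sup_left hx₂⟩
            have h3 : hh (u : U) x₂ = 0 := this
            rw [hha, hQx x₂ (hXle hx₂), map_zero, zero_add, hQu] at h3
            exact h3
          subst hc0
          rw [add_zero] at hxc
          have hx0 : x = 0 := by
            apply hxzero x hx
            intro c hc
            have := hu ⟨c, Submodule.mem_sup_right hc⟩
            have h3 : hh (u : U) c = 0 := this
            rw [hha, hQc c hc, hQu, map_zero, add_zero, ← hxc] at h3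
            exact h3
          apply Subtype.ext
          rw [← hxc, hx0]
          rfl
        · intro x y
          show hh x y = hh y x
          rw [hha, hha, add_comm]
        · intro g x y
          show hh (ρ g x) (ρ g y) = hh x y
          rw [hha, hha, hQρ, hQρ, hinv, hinv]
    obtain ⟨Z, hZinv, hZ0, hZdisj, bZ, hbZnd, hbZs, hbZi⟩ := hZ
    -- the complement
    have hYinv := horthinv Z hZinv
    have hfinY : Module.finrank F (σ.orthogonal Z) = Module.finrank F U - Module.finrank F Z :=
      LinearMap.BilinForm.finrank_orthogonal hσ Z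
    have hZle : Module.finrank F Z ≤ Module.finrank F U := Submodule.finrank_le Z
    have hZY : IsCompl Z (σ.orthogonal Z) := by
      refine ⟨hZdisj, codisjoint_iff.2 ?_⟩
      apply Submodule.eq_top_of_disjoint Z _ _ hZdisj
      rw [hfinY]; omega
    have hZpos : 0 < Module.finrank F Z := by
      rw [Module.finrank_pos_iff]
      exact Submodule.nontrivial_iff_ne_bot.2 hZ0
    have hYnd : (σ.restrict (σ.orthogonal Z)).Nondegenerate := by
      apply LinearMap.BilinForm.Nondegenerate.ofSeparatingRight
      intro y hy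
      have : (y : U) = 0 := by
        apply hσ.2
        intro w
        have hw : w ∈ Z ⊔ σ.orthogonal Z := by rw [hZY.sup_eq_top]; exact Submodule.mem_top
        obtain ⟨z, hz, y', hy', rfl⟩ := Submodule.mem_sup.1 hw
        rw [map_add, LinearMap.add_apply, y.2 z hz, zero_add]
        exact hy ⟨y', hy'⟩
      exact Subtype.ext this
    obtain ⟨bY, hbYnd, hbYs, hbYi⟩ := ih (Module.finrank F (σ.orthogonal Z)) (by omega)
      (σ.orthogonal Z) (subRep ρ hYinv) (σ.restrict (σ.orthogonal Z)) hYnd
      (fun g x y => hinv g x y) rfl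
    exact glue ρ hZinv hYinv hZY bZ bY hbZnd hbYnd.1 hbZs hbYs hbZi hbYi

end Symm

/-! ### characteristic two: assembling -/

section Two

/-- a symmetric form on a finite-dimensional space that is nondegenerate -/
theorem exists_symm_form (W : Type*) [AddCommGroup W] [Module F W] [FiniteDimensional F W] :
    ∃ S : LinearMap.BilinForm F W, (∀ x y, S x y = S y x) ∧ ∀ x, (∀ y, S x y = 0) → x = 0 := by
  classical
  let b := Module.finBasis F W
  let S : LinearMap.BilinForm F W := ∑ i, (b.coord i).smulRight (b.coord i)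
  have hS : ∀ x y, S x y = ∑ i, b.coord i x * b.coord i y := by
    intro x y
    simp only [S, LinearMap.sum_apply, LinearMap.smulRight_apply, LinearMap.smul_apply,
      smul_eq_mul]
  refine ⟨S, ?_, ?_⟩
  · intro x y
    rw [hS, hS]
    apply Finset.sum_congr rfl
    intro i _
    rw [mul_comm]
  · intro x hx
    apply b.ext_elem
    intro j
    have := hx (b j)
    rw [hS] at this
    simp only [Module.Basis.coord_apply, Module.Basis.repr_self] at this
    rw [Finset.sum_eq_single j] at this
    · simpa using this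
    · intro i _ hij
      rw [Finsupp.single_eq_of_ne hij, mul_zero]
    · intro h; exact absurd (Finset.mem_univ j) h

theorem two_case [Fintype G] (hG : (Fintype.card G : F) ≠ 0) (h2 : (2 : F) = 0)
    {V : Type u} [AddCommGroup V] [Module F V] [FiniteDimensional F V]
    (ρ : Representation F G V) (B : LinearMap.BilinForm F V) (hB : B.Nondegenerate)
    (hBinv : ∀ g x y, B (ρ g x) (ρ g y) = B x y) :
    ∃ U W : Submodule F V, IsCompl U W ∧ (∀ g, ∀ u ∈ U, ρ g u ∈ U) ∧ (∀ g, ∀ w ∈ W, ρ g w ∈ W) ∧
      (∃ A : LinearMap.BilinForm F V, (∀ x, A x x = 0) ∧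
        (∀ g, ∀ x ∈ U, ∀ y ∈ U, A (ρ g x) (ρ g y) = A x y) ∧
        (∀ x ∈ U, (∀ y ∈ U, A x y = 0) → x = 0)) ∧
      (∃ S : LinearMap.BilinForm F V, (∀ x y, S x y = S y x) ∧
        (∀ g, ∀ x ∈ W, ∀ y ∈ W, S (ρ g x) (ρ g y) = S x y) ∧
        (∀ x ∈ W, (∀ y ∈ W, S x y = 0) → x = 0)) ∧
      (∀ g, ∀ w ∈ W, ρ g w = w) := by
  classical
  -- fixed points
  let W : Submodule F V :=
    { carrier := {v | ∀ g, ρ g v = v}
      add_mem' := by intro a b ha hb g; rw [map_add, ha g, hb g]
      zero_mem' := by intro g; rw [map_zero]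
      smul_mem' := by intro c a ha g; rw [map_smul, ha g] }
  have hWmem : ∀ v, v ∈ W ↔ ∀ g, ρ g v = v := fun v => Iff.rfl
  have hWinv : Inv ρ W := by
    intro g w hw
    rw [(hWmem w).1 hw g]; exact hw
  set U := B.orthogonal W with hU
  have hUinv : Inv ρ U := by
    intro g y hy x hx
    show B x (ρ g y) = 0
    have : x = ρ g (ρ g⁻¹ x) := (rho_inv_apply ρ g x).symm
    rw [this, hBinv]
    exact hy _ (hWinv g⁻¹ x hx)
  -- averaging
  let avg : V →ₗ[F] V := (Fintype.card G : F)⁻¹ • ∑ g : G, ρ g
  have havg : ∀ v, avg v = (Fintype.card G : F)⁻¹ • ∑ g : G, ρ g v := by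
    intro v
    simp only [avg, LinearMap.smul_apply, LinearMap.sum_apply]
  have havgW : ∀ v, avg v ∈ W := by
    intro v h
    rw [havg, map_smul, map_sum]
    congr 1
    apply Fintype.sum_equiv (Equiv.mulLeft h)
    intro g
    simp only [Equiv.coe_mulLeft, map_mul, Module.End.mul_apply]
  have hdisj : Disjoint U W := by
    rw [disjoint_iff, eq_bot_iff]
    rintro x ⟨hxU, hxW⟩
    have : x = 0 := by
      apply hB.2
      intro v
      have h1 : B (avg v) x = B v x := by
        rw [havg, map_smul, LinearMap.smul_apply, map_sum, LinearMap.sum_apply]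
        have : ∀ g : G, B (ρ g v) x = B v x := by
          intro g
          conv_lhs => rw [← (hWmem x).1 hxW g]
          rw [hBinv]
        simp only [this, Finset.sum_const, Finset.card_univ, nsmul_eq_mul, smul_eq_mul]
        rw [← mul_assoc, inv_mul_cancel₀ hG, one_mul]
      rw [← h1]
      exact hxU _ (havgW v)
    rw [this]; exact Submodule.zero_mem _
  have hfinU : Module.finrank F U = Module.finrank F V - Module.finrank F W :=
    LinearMap.BilinForm.finrank_orthogonal hB W
  have hWle : Module.finrank F W ≤ Module.finrank F V := Submodule.finrank_le W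
  have hUW : IsCompl U W := by
    refine ⟨hdisj, codisjoint_iff.2 ?_⟩
    apply Submodule.eq_top_of_disjoint U W _ hdisj
    rw [hfinU]; omega
  -- the form on `U`
  have hUnd : (B.restrict U).Nondegenerate := by
    apply LinearMap.BilinForm.Nondegenerate.ofSeparatingRight
    intro y hy
    have : (y : V) = 0 := by
      apply hB.2
      intro v
      have hv : v ∈ U ⊔ W := by rw [hUW.sup_eq_top]; exact Submodule.mem_top
      obtain ⟨u, hu, w, hw, rfl⟩ := Submodule.mem_sup.1 hv
      rw [map_add, LinearMap.add_apply, y.2 w hw, add_zero]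
      exact hy ⟨u, hu⟩
    exact Subtype.ext this
  obtain ⟨bU, hbUnd, hbUs, hbUi⟩ := exists_symm hG h2 (Module.finrank F U) U (subRep ρ hUinv)
    (B.restrict U) hUnd (fun g x y => hBinv g x y) rfl
  -- `bU` is alternating
  have hq_add : ∀ a b : U, bU (a + b) (a + b) = bU a a + bU b b := by
    intro a b
    simp only [map_add, LinearMap.add_apply]
    rw [hbUs b a]
    have : bU a b + bU a b = 0 := by rw [← two_mul, h2, zero_mul]
    linear_combination this
  have hq_sum : ∀ (s : Finset G) (f : G → U), bU (∑ g ∈ s, f g) (∑ g ∈ s, f g) =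
      ∑ g ∈ s, bU (f g) (f g) := by
    intro s f
    induction s using Finset.induction_on with
    | empty => simp
    | insert a s ha ih => rw [Finset.sum_insert ha, Finset.sum_insert ha, hq_add, ih]
  have hsum0 : ∀ u : U, ∑ g : G, subRep ρ hUinv g u = 0 := by
    intro u
    have h1 : ((∑ g : G, subRep ρ hUinv g u : U) : V) = ∑ g : G, ρ g u := by
      rw [Submodule.coe_sum]
      rfl
    have h2' : avg (u : V) ∈ U ⊓ W := by
      refine ⟨?_, havgW _⟩
      rw [havg]
      apply Submodule.smul_mem
      apply Submodule.sum_mem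
      intro g _
      exact hUinv g u u.2
    rw [hUW.inf_eq_bot, Submodule.mem_bot, havg] at h2'
    have h3 : ∑ g : G, ρ g (u : V) = 0 := by
      rcases smul_eq_zero.1 h2' with h | h
      · exact absurd (inv_eq_zero.1 h) hG
      · exact h
    apply Subtype.ext
    rw [h1, h3]
    rfl
  have hbUalt : ∀ u : U, bU u u = 0 := by
    intro u
    have := hq_sum Finset.univ (fun g => subRep ρ hUinv g u)
    rw [hsum0 u] at this
    simp only [map_zero, LinearMap.zero_apply, hbUi, Finset.sum_const, Finset.card_univ,
      nsmul_eq_mul] at this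
    rcases mul_eq_zero.1 this.symm with h | h
    · exact absurd h hG
    · exact h
  obtain ⟨SW, hSWs, hSWnd⟩ := exists_symm_form (F := F) W
  refine ⟨U, W, hUW, hUinv, hWinv, ?_, ?_, ?_⟩
  · refine ⟨bU.compl₁₂ (U.projectionOnto W hUW) (U.projectionOnto W hUW), ?_, ?_, ?_⟩
    · intro x
      exact hbUalt _
    · intro g x hx y hy
      show bU (U.projectionOnto W hUW (ρ g x)) (U.projectionOnto W hUW (ρ g y)) =
        bU (U.projectionOnto W hUW x) (U.projectionOnto W hUW y)
      rw [projectionOnto_equivariant ρ hUinv hWinv hUW, projectionOnto_equivariant ρ hUinv hWinv hUW,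
        hbUi]
    · intro x hx h
      have : (⟨x, hx⟩ : U) = 0 := by
        apply hbUnd.1
        intro y
        have := h y y.2
        have h3 : bU (U.projectionOnto W hUW x) (U.projectionOnto W hUW y) = 0 := this
        rwa [Submodule.projectionOnto_apply_of_mem_left hUW hx,
          Submodule.projectionOnto_apply_left hUW y] at h3
      exact congrArg Subtype.val this
  · refine ⟨SW.compl₁₂ (W.projectionOnto U hUW.symm) (W.projectionOnto U hUW.symm), ?_, ?_, ?_⟩
    · intro x y
      exact hSWs _ _
    · intro g x hx y hy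
      rw [(hWmem x).1 hx g, (hWmem y).1 hy g]
    · intro x hx h
      have : (⟨x, hx⟩ : W) = 0 := by
        apply hSWnd
        intro y
        have := h y y.2
        have h3 : SW (W.projectionOnto U hUW.symm x) (W.projectionOnto U hUW.symm y) = 0 := this
        rwa [Submodule.projectionOnto_apply_of_mem_left hUW.symm hx,
          Submodule.projectionOnto_apply_left hUW.symm y] at h3
      exact congrArg Subtype.val this
  · intro g w hw
    exact (hWmem w).1 hw g

end Two

end Cfsg.Agent.Lib.Helper17.SelfDual
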