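import Cfsg.Agent.Lib.Helper17.Supersolvable

set_option autoImplicit false

namespace Cfsg.Agent.Lib.Helper17

open Subgroup

section
variable {G : Type*} [Group G]

/-- In a chain, either nothing happens or there is a first proper cyclic step. -/
theorem SSChain.eq_or_exists {A B : Subgroup G} (h : SSChain A B) :
    A = B ∨ ∃ g : G, g ∉ A ∧ (A ⊔ zpowers g).Normal := by
  induction h with
  | refl hA => exact Or.inl rfl
  | @step B g hAB hn ih =>
    rcases ih with rfl | ih
    · by_cases hg : g ∈ A
      · left
        exact (sup_eq_left.mpr ((Subgroup.zpowers_le).mpr hg)).symm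
      · exact Or.inr ⟨g, hg, hn⟩
    · exact Or.inr ih

/-- If `zpowers g` is normal then so is `zpowers (g ^ m)`. -/
theorem normal_zpowers_pow {g : G} (hg : (zpowers g).Normal) (m : ℕ) : (zpowers (g ^ m)).Normal := by
  constructor
  intro x hx a
  obtain ⟨k, rfl⟩ := Subgroup.mem_zpowers_iff.mp hx
  have h1 : a * g * a⁻¹ ∈ zpowers g := hg.conj_mem g (Subgroup.mem_zpowers g) a
  obtain ⟨j, hj⟩ := Subgroup.mem_zpowers_iff.mp h1
  rw [Subgroup.mem_zpowers_iff]
  refine ⟨j * k, ?_⟩
  have h2 : a * (g ^ m) ^ k * a⁻¹ = (a * g * a⁻¹) ^ ((m : ℤ) * k) := by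
    rw [← zpow_natCast, ← zpow_mul, ← MulAut.conj_apply, map_zpow]
    simp [MulAut.conj_apply]
  rw [h2, ← hj, ← zpow_natCast, ← zpow_mul, ← zpow_mul]
  congr 1
  ring

/-- A nontrivial finite supersolvable group has a normal subgroup of prime order. -/
theorem exists_normal_prime_card [Finite G] [Nontrivial G] (hG : Cfsg.IsSupersolvable G) :
    ∃ N : Subgroup G, N.Normal ∧ (Nat.card N).Prime ∧ IsCyclic N := by
  rw [isSupersolvable_iff_ssChain] at hG
  rcases hG.eq_or_exists with h | ⟨g, hg, hn⟩
  · exact absurd h bot_ne_top
  · rw [bot_sup_eq] at hn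
    have hg1 : g ≠ 1 := fun h => hg (h ▸ Subgroup.one_mem _)
    have hpos : 0 < orderOf g := orderOf_pos g
    have hne1 : orderOf g ≠ 1 := fun h => hg1 (orderOf_eq_one_iff.mp h)
    set p := (orderOf g).minFac with hp
    have hpp : p.Prime := Nat.minFac_prime hne1
    have hpd : p ∣ orderOf g := Nat.minFac_dvd _
    have ho : orderOf (g ^ (orderOf g / p)) = p := orderOf_pow_orderOf_div hpos.ne' hpd
    refine ⟨zpowers (g ^ (orderOf g / p)), normal_zpowers_pow hn _, ?_, inferInstance⟩
    rw [Nat.card_zpowers, ho]
    exact hpp

end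

universe u

theorem card_comap_mk' {G : Type*} [Group G] [Finite G] (N : Subgroup G) [N.Normal]
    (K : Subgroup (G ⧸ N)) :
    Nat.card (K.comap (QuotientGroup.mk' N)) = Nat.card K * Nat.card N := by
  have h1 := (K.comap (QuotientGroup.mk' N)).card_mul_index
  have h2 : (K.comap (QuotientGroup.mk' N)).index = K.index :=
    Subgroup.index_comap_of_surjective K (QuotientGroup.mk'_surjective N)
  have h3 := K.card_mul_index
  have h4 := N.card_eq_card_quotient_mul_card_subgroup
  have h5 : 0 < K.index := Nat.pos_of_ne_zero Subgroup.index_ne_zero_of_finite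
  rw [h2] at h1
  apply Nat.eq_of_mul_eq_mul_right h5
  rw [h1, h4, ← h3]
  ring

theorem clt_aux (n : ℕ) : ∀ (G : Type u) [Group G] [Finite G], Nat.card G = n →
    Cfsg.IsSupersolvable G → ∀ d, d ∣ n → ∃ H : Subgroup G, Nat.card H = d := by
  induction n using Nat.strong_induction_on with
  | _ n ih =>
    intro G _ _ hn hG d hd
    rcases subsingleton_or_nontrivial G with hs | hnt
    · have : n = 1 := by rw [← hn]; exact Nat.card_unique
      subst this
      refine ⟨⊥, ?_⟩
      rw [Nat.dvd_one.mp hd]
      exact Subgroup.card_bot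
    · obtain ⟨N, hN, hp, -⟩ := exists_normal_prime_card hG
      set p := Nat.card N with hpdef
      have hQ : Cfsg.IsSupersolvable (G ⧸ N) := isSupersolvable_quotient hG N
      have hcard : Nat.card G = Nat.card (G ⧸ N) * p := N.card_eq_card_quotient_mul_card_subgroup
      have hQlt : Nat.card (G ⧸ N) < n := by
        rw [← hn, hcard]
        have : 0 < Nat.card (G ⧸ N) := Nat.card_pos
        nlinarith [hp.two_le]
      by_cases hpd : p ∣ d
      · obtain ⟨d', rfl⟩ := hpd
        have hd' : d' ∣ Nat.card (G ⧸ N) := by
          rw [← hn, hcard, mul_comm] at hd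
          exact Nat.dvd_of_mul_dvd_mul_right hp.pos hd
        obtain ⟨K, hK⟩ := ih _ hQlt (G ⧸ N) rfl hQ d' hd'
        refine ⟨K.comap (QuotientGroup.mk' N), ?_⟩
        rw [card_comap_mk', hK, mul_comm]
      · have hcop : Nat.Coprime d p := ((Nat.Prime.coprime_iff_not_dvd hp).mpr hpd).symm
        have hd' : d ∣ Nat.card (G ⧸ N) := by
          rw [← hn, hcard] at hd
          exact hcop.dvd_of_dvd_mul_right hd
        obtain ⟨K', hK'⟩ := ih _ hQlt (G ⧸ N) rfl hQ d hd'
        set K := K'.comap (QuotientGroup.mk' N) with hKdef
        have hKcard : Nat.card K = d * p := by rw [hKdef, card_comap_mk', hK']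
        have hNK : N ≤ K := by
          intro x hx
          rw [hKdef, Subgroup.mem_comap, QuotientGroup.mk'_apply, (QuotientGroup.eq_one_iff x).mpr hx]
          exact K'.one_mem
        have hNKn : (N.subgroupOf K).Normal := hN.subgroupOf K
        have hNKcard : Nat.card (N.subgroupOf K) = p :=
          Nat.card_congr (Subgroup.subgroupOfEquivOfLe hNK).toEquiv
        have hidx : (N.subgroupOf K).index = d := by
          have := (N.subgroupOf K).card_mul_index
          rw [hNKcard, hKcard, mul_comm] at this
          exact Nat.eq_of_mul_eq_mul_right hp.pos this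
        have hcop' : Nat.Coprime (Nat.card (N.subgroupOf K)) (N.subgroupOf K).index := by
          rw [hNKcard, hidx]; exact hcop.symm
        obtain ⟨H, hH⟩ := Subgroup.exists_right_complement'_of_coprime hcop'
        have hHcard : Nat.card H = d := by
          have := hH.card_mul_card
          rw [hNKcard, hKcard, mul_comm] at this
          exact Nat.eq_of_mul_eq_mul_right hp.pos this
        refine ⟨H.map K.subtype, ?_⟩
        rw [Subgroup.card_subtype, hHcard]

theorem hasSubgroupOfEveryOrder_of_isSupersolvable {G : Type u} [Group G] [Finite G]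
    (hG : Cfsg.IsSupersolvable G) : Cfsg.HasSubgroupOfEveryOrder G :=
  fun d hd => clt_aux (Nat.card G) G rfl hG d hd

theorem coatom_index_prime_aux (n : ℕ) : ∀ (G : Type u) [Group G] [Finite G], Nat.card G = n →
    Cfsg.IsSupersolvable G → ∀ M : Subgroup G, IsCoatom M → M.index.Prime := by
  induction n using Nat.strong_induction_on with
  | _ n ih =>
    intro G _ _ hn hG M hM
    rcases subsingleton_or_nontrivial G with hs | hnt
    · exact absurd (Subsingleton.elim M ⊤) hM.1
    · obtain ⟨N, hN, hp, -⟩ := exists_normal_prime_card hG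
      set p := Nat.card N with hpdef
      by_cases hNM : N ≤ M
      · have hQ : Cfsg.IsSupersolvable (G ⧸ N) := isSupersolvable_quotient hG N
        have hcard : Nat.card G = Nat.card (G ⧸ N) * p := N.card_eq_card_quotient_mul_card_subgroup
        have hQlt : Nat.card (G ⧸ N) < n := by
          rw [← hn, hcard]
          have : 0 < Nat.card (G ⧸ N) := Nat.card_pos
          nlinarith [hp.two_le]
        have hsurj := QuotientGroup.mk'_surjective N
        have hker : (QuotientGroup.mk' N).ker ≤ M := by rwa [QuotientGroup.ker_mk']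
        have hcm : (M.map (QuotientGroup.mk' N)).comap (QuotientGroup.mk' N) = M := by
          rw [Subgroup.comap_map_eq, sup_eq_left.mpr hker]
        have hidx : (M.map (QuotientGroup.mk' N)).index = M.index :=
          Subgroup.index_map_eq M hsurj hker
        rw [← hidx]
        refine ih _ hQlt (G ⧸ N) rfl hQ _ ⟨?_, ?_⟩
        · intro h
          apply hM.1
          rw [← hcm, h, Subgroup.comap_top]
        · intro b hb
          have h1 : M ≤ b.comap (QuotientGroup.mk' N) := by
            rw [← hcm]; exact Subgroup.comap_mono hb.le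
          have h2 : M ≠ b.comap (QuotientGroup.mk' N) := by
            intro h
            apply hb.ne
            rw [h, Subgroup.map_comap_eq_self_of_surjective hsurj]
          have h3 := hM.2 _ (lt_of_le_of_ne h1 h2)
          rw [← Subgroup.map_comap_eq_self_of_surjective hsurj b, h3,
            Subgroup.map_top_of_surjective _ hsurj]
      · have hsup : M ⊔ N = ⊤ := by
          apply hM.2
          apply lt_of_le_of_ne le_sup_left
          intro h
          apply hNM
          rw [h]; exact le_sup_right
        have hinf : M ⊓ N = ⊥ := by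
          have h1 : Nat.card ((M ⊓ N).subgroupOf N) ∣ p := Subgroup.card_subgroup_dvd_card _
          rcases (Nat.dvd_prime hp).mp h1 with h | h
          · have : (M ⊓ N).subgroupOf N = ⊥ := Subgroup.card_eq_one.mp h
            rw [Subgroup.subgroupOf_eq_bot] at this
            rw [disjoint_iff, inf_assoc, inf_idem] at this
            exact this
          · have : (M ⊓ N).subgroupOf N = ⊤ := (Subgroup.card_eq_iff_eq_top _).mp h
            rw [Subgroup.subgroupOf_eq_top] at this
            exact absurd (this.trans inf_le_left) hNM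
        have hcomp : IsComplement' M N := by
          apply Subgroup.isComplement'_of_disjoint_and_mul_eq_univ (disjoint_iff.mpr hinf)
          rw [← Subgroup.mul_normal, hsup, Subgroup.coe_top]
        rw [hcomp.symm.index_eq_card]
        exact hp

theorem coatom_index_prime {G : Type u} [Group G] [Finite G]
    (hG : Cfsg.IsSupersolvable G) (M : Subgroup G) (hM : IsCoatom M) : M.index.Prime :=
  coatom_index_prime_aux (Nat.card G) G rfl hG M hM

end Cfsg.Agent.Lib.Helper17
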