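import Mathlib
import Cfsg.Agent.Lib.Helper13.Hall

set_option autoImplicit false

universe u

namespace Cfsg.Agent.Lib.Helper17

/-- Absorb an element of a normal subgroup `N ≤ T j` into an ordered product. -/
theorem absorb_normal_into_product {G : Type*} [Group G] (N : Subgroup G) [hN : N.Normal] :
    ∀ (t : ℕ) (T : Fin t → Subgroup G) (j : Fin t) (_ : N ≤ T j)
    (s : Fin t → G) (_ : ∀ i, s i ∈ T i) (n : G) (_ : n ∈ N),
    ∃ s' : Fin t → G, (∀ i, s' i ∈ T i) ∧ (List.ofFn s).prod * n = (List.ofFn s').prod := by
  intro t
  induction t with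
  | zero => intro T j; exact j.elim0
  | succ t ih =>
    intro T j hNj s hs n hn
    rw [List.ofFn_succ, List.prod_cons]
    rcases Fin.eq_zero_or_eq_succ j with rfl | ⟨j', rfl⟩
    · set P := (List.ofFn fun i : Fin t => s i.succ).prod with hP
      refine ⟨Fin.cons (s 0 * (P * n * P⁻¹)) (fun i => s i.succ), ?_, ?_⟩
      · intro i
        refine Fin.cases ?_ ?_ i
        · rw [Fin.cons_zero]
          exact mul_mem (hs 0) (hNj (hN.conj_mem n hn P))
        · intro i'
          rw [Fin.cons_succ]
          exact hs _
      · rw [List.ofFn_succ, List.prod_cons, Fin.cons_zero]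
        simp only [Fin.cons_succ]
        rw [← hP]
        group
    · obtain ⟨s'', hs'', hprod⟩ := ih (fun i => T i.succ) j' hNj (fun i => s i.succ)
        (fun i => hs i.succ) n hn
      refine ⟨Fin.cons (s 0) s'', ?_, ?_⟩
      · intro i
        refine Fin.cases ?_ ?_ i
        · rw [Fin.cons_zero]; exact hs 0
        · intro i'
          rw [Fin.cons_succ]
          exact hs'' i'
      · rw [List.ofFn_succ, List.prod_cons, Fin.cons_zero]
        simp only [Fin.cons_succ]
        rw [mul_assoc, hprod]

/-- A finite solvable group is the ordered product of one Sylow subgroup for each prime. -/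
theorem solvable_eq_ordered_product_sylow (t : ℕ) (p : Fin t → ℕ) (hp : ∀ i, (p i).Prime) :
    ∀ (n : ℕ) (G : Type u) [Group G] [Finite G] [Group.IsSolvable G], Nat.card G = n →
      (∀ q : ℕ, q.Prime → q ∣ Nat.card G → ∃ i, p i = q) →
      ∀ (S : (i : Fin t) → Sylow (p i) G) (g : G),
        ∃ s : Fin t → G, (∀ i, s i ∈ (S i : Subgroup G)) ∧ g = (List.ofFn s).prod := by
  intro n
  induction n using Nat.strong_induction_on with
  | _ n ih =>
    intro G _ _ _ hcard hall S g
    by_cases hnt : Nontrivial G
    · obtain ⟨q, M, hq, hMn, hMne, hMq⟩ := Cfsg.Agent.Lib.Helper13.exists_normal_pgroup G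
      haveI := hMn
      haveI : Fact q.Prime := ⟨hq⟩
      have hMcard : 1 < Nat.card M := by
        rcases Nat.lt_or_ge 1 (Nat.card M) with h | h
        · exact h
        · exfalso
          apply hMne
          have : Nat.card M = 1 := le_antisymm h Nat.card_pos
          exact Subgroup.card_eq_one.1 this
      have hqM : q ∣ Nat.card M := by
        obtain ⟨k, hk⟩ := (IsPGroup.iff_card.1 hMq)
        rw [hk] at hMcard ⊢
        have hk0 : k ≠ 0 := by
          rintro rfl
          simp at hMcard
        exact dvd_pow_self q hk0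
      obtain ⟨j, hj⟩ := hall q hq (hqM.trans (Subgroup.card_subgroup_dvd_card M))
      subst hj
      -- the quotient
      have hQcard : Nat.card (G ⧸ M) < n := by
        rw [← hcard, Subgroup.card_eq_card_quotient_mul_card_subgroup M]
        have hQpos : 0 < Nat.card (G ⧸ M) := Nat.card_pos
        nlinarith
      have hQall : ∀ q' : ℕ, q'.Prime → q' ∣ Nat.card (G ⧸ M) → ∃ i, p i = q' := by
        intro q' hq' hdvd
        exact hall q' hq' (hdvd.trans (Subgroup.card_quotient_dvd_card M))
      have hsurj : Function.Surjective (QuotientGroup.mk' M) := QuotientGroup.mk'_surjective M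
      let S' : (i : Fin t) → Sylow (p i) (G ⧸ M) := fun i =>
        haveI : Fact (p i).Prime := ⟨hp i⟩
        (S i).mapSurjective hsurj
      obtain ⟨sbar, hsbar, hgbar⟩ := ih _ hQcard (G ⧸ M) rfl hQall S' (QuotientGroup.mk' M g)
      have hlift : ∀ i, ∃ x ∈ (S i : Subgroup G), QuotientGroup.mk' M x = sbar i := by
        intro i
        have h := hsbar i
        haveI : Fact (p i).Prime := ⟨hp i⟩
        have h' : sbar i ∈ ((S i : Subgroup G).map (QuotientGroup.mk' M)) := h
        exact Subgroup.mem_map.1 h'
      choose s hs hsmk using hlift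
      have hprod : QuotientGroup.mk' M (List.ofFn s).prod = (List.ofFn sbar).prod := by
        rw [map_list_prod, List.map_ofFn]
        congr 1
        congr 1
        funext i
        exact hsmk i
      have hnM : (List.ofFn s).prod⁻¹ * g ∈ M := by
        rw [← QuotientGroup.ker_mk' M, MonoidHom.mem_ker, map_mul, map_inv, hprod, hgbar,
          inv_mul_cancel]
      have hMle : M ≤ (S j : Subgroup G) := by
        haveI : Fact (p j).Prime := ⟨hp j⟩
        exact Cfsg.Agent.Lib.Helper13.normal_pgroup_le_of_not_dvd_index M (S j) hMq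
          (S j).not_dvd_index
      obtain ⟨s', hs', hfin⟩ := absorb_normal_into_product M t (fun i => (S i : Subgroup G)) j hMle
        s hs _ hnM
      refine ⟨s', hs', ?_⟩
      rw [← hfin]
      group
    · rw [not_nontrivial_iff_subsingleton] at hnt
      refine ⟨fun _ => 1, fun i => one_mem _, ?_⟩
      exact Subsingleton.elim _ _

end Cfsg.Agent.Lib.Helper17
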