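import Cfsg.Agent.Lib.Helper17.TwoGenMain

set_option autoImplicit false

namespace Cfsg.Agent.Lib.Helper17

open Cfsg
open scoped commutatorElement

section norm

variable {Y A : Type*} [Group Y] [CommGroup A] (φ : Y →* MulAut A) (S : Subgroup Y)
  [Fintype (Y ⧸ S)]

/-- the "norm" of an `S`-fixed point is a `Y`-fixed point. -/
theorem norm_fixed (w : A) (hw : ∀ s ∈ S, φ s w = w) (y : Y) :
    φ y (∏ c : Y ⧸ S, φ (Quotient.out c) w) = ∏ c : Y ⧸ S, φ (Quotient.out c) w := by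
  rw [map_prod]
  have key : ∀ c : Y ⧸ S, φ y (φ (Quotient.out c) w) = φ (Quotient.out (y • c)) w := by
    intro c
    have h1 : (Quotient.out (y • c))⁻¹ * (y * Quotient.out c) ∈ S := by
      rw [← QuotientGroup.eq, QuotientGroup.out_eq']
      conv_lhs => rw [← QuotientGroup.out_eq' c]
      rfl
    have h2 := hw _ h1
    rw [map_mul, map_mul, map_inv, MulAut.mul_apply, MulAut.mul_apply] at h2
    have h3 := congrArg (φ (Quotient.out (y • c))) h2
    rw [MulAut.apply_inv_self] at h3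
    exact h3
  rw [Finset.prod_congr rfl (fun c _ => key c)]
  exact Equiv.prod_comp (MulAction.toPerm y) (fun c : Y ⧸ S => φ (Quotient.out c) w)

theorem norm_div_mem (w : A) (M : Subgroup A) (hM : ∀ (y : Y) (a : A), φ y a / a ∈ M) :
    (∏ c : Y ⧸ S, φ (Quotient.out c) w) / w ^ S.index ∈ M := by
  have h1 : w ^ S.index = ∏ _c : Y ⧸ S, w := by
    rw [Finset.prod_const, Finset.card_univ, Subgroup.index_eq_card, Nat.card_eq_fintype_card]
  rw [h1, ← Finset.prod_div_distrib]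
  exact Subgroup.prod_mem _ (fun c _ => hM _ _)

end norm

section normG

variable {G : Type*} [Group G] [Finite G]

/-- group-level version of the norm argument. -/
theorem exists_fixed_of_central (Q : Subgroup G) [hQn : Q.Normal]
    (hQab : ∀ a ∈ Q, ∀ b ∈ Q, a * b = b * a) (Y S : Subgroup G) (w : G) (hwQ : w ∈ Q)
    (hwS : ∀ s ∈ S, s * w = w * s) (M : Subgroup G)
    (hM : ∀ y ∈ Y, ∀ q ∈ Q, y * q * y⁻¹ * q⁻¹ ∈ M) :
    ∃ v ∈ Q, (∀ y ∈ Y, y * v = v * y) ∧ v * (w ^ (S.relIndex Y))⁻¹ ∈ M := by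
  letI : CommGroup ↥Q :=
    { (inferInstance : Group ↥Q) with mul_comm := fun a b => Subtype.ext (hQab a a.2 b b.2) }
  let φ : ↥Y →* MulAut ↥Q := (MulAut.conjNormal (H := Q)).comp Y.subtype
  haveI : Fintype (↥Y ⧸ S.subgroupOf Y) := Fintype.ofFinite _
  have hw : ∀ s ∈ S.subgroupOf Y, φ s ⟨w, hwQ⟩ = ⟨w, hwQ⟩ := by
    intro s hs
    apply Subtype.ext
    show (MulAut.conjNormal (s : G) (⟨w, hwQ⟩ : ↥Q) : G) = w
    rw [MulAut.conjNormal_apply]
    show (s : G) * w * (s : G)⁻¹ = w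
    rw [hwS _ (Subgroup.mem_subgroupOf.mp hs)]; group
  have hfix := norm_fixed φ (S.subgroupOf Y) ⟨w, hwQ⟩ hw
  have hdiv := norm_div_mem φ (S.subgroupOf Y) ⟨w, hwQ⟩ (M.subgroupOf Q) (by
    intro y a
    rw [Subgroup.mem_subgroupOf]
    show (MulAut.conjNormal (y : G) a : ↥Q).1 / (a : G) ∈ M
    rw [MulAut.conjNormal_apply, div_eq_mul_inv]
    exact hM _ y.2 _ a.2)
  obtain ⟨v', hv'⟩ : ∃ v' : ↥Q, v' = ∏ c : ↥Y ⧸ S.subgroupOf Y, φ (Quotient.out c) ⟨w, hwQ⟩ :=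
    ⟨_, rfl⟩
  rw [← hv'] at hdiv
  refine ⟨(v' : G), v'.2, ?_, ?_⟩
  · intro y hy
    have h1 := congrArg Subtype.val (hfix ⟨y, hy⟩)
    rw [← hv'] at h1
    have h2 : (φ ⟨y, hy⟩ v' : ↥Q).1 = y * (v' : G) * y⁻¹ := MulAut.conjNormal_apply _ _
    rw [h2] at h1
    calc y * (v' : G) = (y * (v' : G) * y⁻¹) * y := by group
      _ = (v' : G) * y := by rw [h1]
  · rw [Subgroup.mem_subgroupOf] at hdiv
    have : (v' / (⟨w, hwQ⟩ : ↥Q) ^ (S.subgroupOf Y).index : ↥Q).1 =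
        (v' : G) * (w ^ (S.relIndex Y))⁻¹ := by
      rw [div_eq_mul_inv]
      rfl
    rw [this] at hdiv
    exact hdiv

end normG

section caseB

variable {G : Type*} [Group G] [Finite G] {p : ℕ} [hp : Fact p.Prime] {P : Sylow p G}

/-- a subgroup centralizing `N` and `Q/N`, where `C_G(Q) ≤ Q` is a `p`-group, is a `p`-group. -/
theorem isPGroup_of_stabilizes_chain (Q N Y : Subgroup G) (hQp : IsPGroup p Q) (hNQ : N ≤ Q)
    (hCQ : Subgroup.centralizer (Q : Set G) ≤ Q)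
    (hYN : ∀ y ∈ Y, ∀ n ∈ N, y * n = n * y)
    (hYQ : ∀ y ∈ Y, ∀ q ∈ Q, y * q * y⁻¹ * q⁻¹ ∈ N) : IsPGroup p Y := by
  obtain ⟨a, ha⟩ := IsPGroup.iff_card.mp hQp
  obtain ⟨b, hb⟩ := IsPGroup.iff_card.mp (hQp.to_le hNQ)
  intro y
  refine ⟨b + a, ?_⟩
  apply Subtype.ext
  rw [Subgroup.coe_pow, Subgroup.coe_one]
  -- `y ^ j` conjugates `q` to `n ^ j * q`
  have hpow : ∀ q ∈ Q, ∀ j : ℕ, (y : G) ^ j * q * ((y : G) ^ j)⁻¹ =
      ((y : G) * q * (y : G)⁻¹ * q⁻¹) ^ j * q := by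
    intro q hq j
    induction j with
    | zero => simp
    | succ j ih =>
      have hn := hYN _ y.2 _ (hYQ _ y.2 q hq)
      have hn' := hYN _ y.2 _ (N.pow_mem (hYQ _ y.2 q hq) j)
      calc (y : G) ^ (j + 1) * q * ((y : G) ^ (j + 1))⁻¹
          = (y : G) * ((y : G) ^ j * q * ((y : G) ^ j)⁻¹) * (y : G)⁻¹ := by
            rw [pow_succ']; group
        _ = (y : G) * (((y : G) * q * (y : G)⁻¹ * q⁻¹) ^ j * q) * (y : G)⁻¹ := by rw [ih]
        _ = ((y : G) * ((y : G) * q * (y : G)⁻¹ * q⁻¹) ^ j) * q * (y : G)⁻¹ := by group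
        _ = (((y : G) * q * (y : G)⁻¹ * q⁻¹) ^ j * (y : G)) * q * (y : G)⁻¹ := by rw [hn']
        _ = ((y : G) * q * (y : G)⁻¹ * q⁻¹) ^ j * ((y : G) * q * (y : G)⁻¹ * q⁻¹) * q := by group
        _ = ((y : G) * q * (y : G)⁻¹ * q⁻¹) ^ (j + 1) * q := by rw [pow_succ]
  have h1 : (y : G) ^ (p ^ b) ∈ Subgroup.centralizer (Q : Set G) := by
    rw [Subgroup.mem_centralizer_iff]
    intro q hq
    have h2 := hpow q hq (p ^ b)
    have h3 : ((y : G) * q * (y : G)⁻¹ * q⁻¹) ^ (p ^ b) = 1 := by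
      have h4 : (⟨_, hYQ _ y.2 q hq⟩ : ↥N) ^ (Nat.card ↥N) = 1 := pow_card_eq_one'
      rw [hb] at h4
      exact congrArg Subtype.val h4
    rw [h3, one_mul] at h2
    calc q * (y : G) ^ (p ^ b) = ((y : G) ^ (p ^ b) * q * ((y : G) ^ (p ^ b))⁻¹) * (y : G) ^ (p ^ b) := by
          rw [h2]
      _ = (y : G) ^ (p ^ b) * q := by group
  have h5 : (⟨_, hCQ h1⟩ : ↥Q) ^ (Nat.card ↥Q) = 1 := pow_card_eq_one'
  rw [ha] at h5
  have h6 := congrArg Subtype.val h5
  rw [Subgroup.coe_pow, Subgroup.coe_one] at h6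
  rw [pow_add, pow_mul]
  exact h6

theorem TGS.pCore_eq_of_abelian (h : TGS p P) (N : Subgroup G) [hNn : N.Normal]
    (hN0 : N ≠ ⊥) (hmin : ∀ K : Subgroup G, K.Normal → K ≠ ⊥ → N ≤ K)
    (hab : IsMulCommutative ↥N) : pCore p G = N := by
  obtain ⟨Q, hQdef⟩ : ∃ Q : Subgroup G, Q = pCore p G := ⟨_, rfl⟩
  rw [← hQdef]
  have hQn : Q.Normal := hQdef ▸ Helper2.pCore_normal p
  have hQp : IsPGroup p Q := hQdef ▸ Helper2.pCore_isPGroup p
  have hNQ : N ≤ Q := hQdef ▸ h.le_pCore_of_abelian N hab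
  have hQP : Q ≤ (P : Subgroup G) := hQdef ▸ Helper2.pCore_le_sylow p P
  have hE : layer G = ⊥ := h.layer_eq_bot_of_abelian N hN0 hmin hab
  have hFs : generalizedFittingSubgroup G = Q := by
    unfold generalizedFittingSubgroup
    rw [hE, bot_sup_eq, h.fitting_eq, hQdef]
  have hCQ : Subgroup.centralizer (Q : Set G) ≤ Q := by
    have := Helper20.centralizer_genFitting_le (G := G)
    rwa [hFs] at this
  by_contra hne
  have hlt : ¬ Q ≤ N := fun hle => hne (le_antisymm hle hNQ)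
  obtain ⟨z, hz⟩ := h.exists_gen N hN0
  -- (a) `N` is central in `Q`
  have hQ0 : Q ≠ ⊥ := fun hb => hN0 (le_bot_iff.mp (hb ▸ hNQ))
  have hcNQ : ∀ n ∈ N, ∀ q ∈ Q, n * q = q * n := by
    haveI : Nontrivial ↥Q := (Subgroup.nontrivial_iff_ne_bot Q).mpr hQ0
    have hZ : Nontrivial (Subgroup.center ↥Q) := hQp.center_nontrivial
    have hZn : ((Subgroup.center ↥Q).map Q.subtype).Normal :=
      ConjAct.normal_of_characteristic_of_normal
    have hZ0 : (Subgroup.center ↥Q).map Q.subtype ≠ ⊥ := by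
      rw [Ne, Subgroup.map_eq_bot_iff_of_injective _ Q.subtype_injective]
      exact (Subgroup.nontrivial_iff_ne_bot _).mp hZ
    have hle := hmin _ hZn hZ0
    intro n hn q hq
    obtain ⟨y, hy, hyn⟩ := hle hn
    have h1 := Subgroup.mem_center_iff.mp hy ⟨q, hq⟩
    have h2 := congrArg Subtype.val h1
    simp only [Subgroup.coe_mul] at h2
    rw [← hyn]
    exact h2.symm
  -- (b) `Q` is commutative
  have hQab : ∀ a ∈ Q, ∀ b ∈ Q, a * b = b * a := fun a ha b hb =>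
    comm_of_central_of_gen hz Q hNQ hcNQ a b ha (hQP ha) hb (hQP hb)
  -- (c) an element `w ∈ Q ∖ N` central in `P`
  obtain ⟨q, hqQ, hqN⟩ := SetLike.not_le_iff_exists.mp hlt
  obtain ⟨i, n, hn, hqe⟩ := exists_zpow_mul_of_gen hz q (hQP hqQ)
  obtain ⟨w, hwdef⟩ : ∃ w : G, w = (z : G) ^ i := ⟨_, rfl⟩
  have hwq : w = q * n⁻¹ := by rw [hwdef, hqe]; group
  have hwQ : w ∈ Q := by rw [hwq]; exact Q.mul_mem hqQ (Q.inv_mem (hNQ hn))
  have hwN : w ∉ N := by
    intro hw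
    apply hqN
    have : q = w * n := by rw [hwq]; group
    rw [this]; exact N.mul_mem hw hn
  have hwc : ∀ a ∈ (P : Subgroup G), a * w = w * a := by
    intro a ha
    obtain ⟨j, m, hm, rfl⟩ := exists_zpow_mul_of_gen hz a ha
    have e1 : m * w = w * m := hQab m (hNQ hm) w hwQ
    have e2 : (z : G) ^ j * w = w * (z : G) ^ j := by
      rw [hwdef, ← zpow_add, ← zpow_add, add_comm]
    calc (z : G) ^ j * m * w = (z : G) ^ j * (m * w) := by group
      _ = (z : G) ^ j * (w * m) := by rw [e1]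
      _ = ((z : G) ^ j * w) * m := by group
      _ = (w * (z : G) ^ j) * m := by rw [e2]
      _ = w * ((z : G) ^ j * m) := by group
  -- (d) the centralizer `Y` of `Q / N`
  have hQmn : (Q.map (QuotientGroup.mk' N)).Normal :=
    Subgroup.Normal.map hQn _ (QuotientGroup.mk'_surjective N)
  obtain ⟨Y, hYdef⟩ : ∃ Y : Subgroup G, Y = (Subgroup.centralizer
      ((Q.map (QuotientGroup.mk' N) : Subgroup (G ⧸ N)) : Set (G ⧸ N))).comap
        (QuotientGroup.mk' N) := ⟨_, rfl⟩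
  have hYn : Y.Normal := by rw [hYdef]; infer_instance
  have hYmem : ∀ y ∈ Y, ∀ q ∈ Q, y * q * y⁻¹ * q⁻¹ ∈ N := by
    intro y hy q hq
    rw [hYdef, Subgroup.mem_comap, Subgroup.mem_centralizer_iff] at hy
    have h1 := hy (QuotientGroup.mk' N q) (by
      rw [SetLike.mem_coe]; exact Subgroup.mem_map_of_mem _ hq)
    rw [← QuotientGroup.eq_one_iff]
    have h2 : ((y * q * y⁻¹ * q⁻¹ : G) : G ⧸ N) =
        (QuotientGroup.mk' N y) * (QuotientGroup.mk' N q) * (QuotientGroup.mk' N y)⁻¹ *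
          (QuotientGroup.mk' N q)⁻¹ := by
      simp
    rw [h2, ← h1]; group
  have hcommP : commutator ↥(P : Subgroup G) ≤ N.subgroupOf (P : Subgroup G) :=
    commutator_le_of_zpowers_sup_eq_top _ z hz
  have hPY : (P : Subgroup G) ≤ Y := by
    intro a ha
    rw [hYdef, Subgroup.mem_comap, Subgroup.mem_centralizer_iff]
    rintro _ ⟨q, hq, rfl⟩
    rw [← map_mul, ← map_mul, QuotientGroup.mk'_apply, QuotientGroup.mk'_apply, QuotientGroup.eq]
    have h1 : ⁅(⟨a, ha⟩ : ↥(P : Subgroup G))⁻¹, (⟨q, hQP hq⟩ : ↥(P : Subgroup G))⁻¹⁆ ∈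
        commutator ↥(P : Subgroup G) := by
      rw [commutator_def]
      exact Subgroup.commutator_mem_commutator (Subgroup.mem_top _) (Subgroup.mem_top _)
    have h2 := Subgroup.mem_subgroupOf.mp (hcommP h1)
    have h3 : (q * a)⁻¹ * (a * q) = a⁻¹ * q⁻¹ * a⁻¹⁻¹ * q⁻¹⁻¹ := by group
    rw [h3]
    exact h2
  -- (e),(f) the norm of `w`
  have hk : ¬ p ∣ (P : Subgroup G).relIndex Y := not_dvd_relIndex_of_sylow_of_normal P Y
  obtain ⟨v, hvQ, hvY, hvw⟩ := exists_fixed_of_central Q hQab Y (P : Subgroup G) w hwQ hwc N hYmem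
  -- (g) `v ∉ N`
  have hvN : v ∉ N := by
    intro hv
    have h1 : w ^ ((P : Subgroup G).relIndex Y) ∈ N := by
      have h2 := N.mul_mem (N.inv_mem hvw) hv
      have h3 : (v * (w ^ ((P : Subgroup G).relIndex Y))⁻¹)⁻¹ * v =
          w ^ ((P : Subgroup G).relIndex Y) := by group
      rwa [h3] at h2
    obtain ⟨a, ha⟩ := IsPGroup.iff_card.mp hQp
    have h4 : w ^ (p ^ a) = 1 := by
      have h5 : (⟨w, hwQ⟩ : ↥Q) ^ (Nat.card ↥Q) = 1 := pow_card_eq_one'
      rw [ha] at h5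
      exact congrArg Subtype.val h5
    have h6 : orderOf (QuotientGroup.mk' N w) ∣ (P : Subgroup G).relIndex Y := by
      apply orderOf_dvd_of_pow_eq_one
      rw [← map_pow]
      exact (QuotientGroup.eq_one_iff _).mpr h1
    have h7 : orderOf (QuotientGroup.mk' N w) ∣ p ^ a := by
      apply orderOf_dvd_of_pow_eq_one
      rw [← map_pow, h4, map_one]
    have hcop : ((P : Subgroup G).relIndex Y).Coprime (p ^ a) :=
      Nat.Coprime.pow_right _ ((Nat.Prime.coprime_iff_not_dvd hp.out).mpr hk).symm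
    have h8 := Nat.dvd_gcd h6 h7
    rw [hcop.gcd_eq_one, Nat.dvd_one, orderOf_eq_one_iff] at h8
    exact hwN ((QuotientGroup.eq_one_iff _).mp h8)
  -- (h) `N` is centralized by `Y`
  have hCn : (Q ⊓ Subgroup.centralizer (Y : Set G)).Normal := inferInstance
  have hC0 : Q ⊓ Subgroup.centralizer (Y : Set G) ≠ ⊥ := by
    intro hb
    have : v ∈ Q ⊓ Subgroup.centralizer (Y : Set G) := by
      refine Subgroup.mem_inf.mpr ⟨hvQ, ?_⟩
      rw [Subgroup.mem_centralizer_iff]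
      intro y hy
      exact hvY y hy
    rw [hb, Subgroup.mem_bot] at this
    apply hvN
    rw [this]; exact N.one_mem
  have hNC := hmin _ hCn hC0
  have hYN : ∀ y ∈ Y, ∀ n ∈ N, y * n = n * y := by
    intro y hy n hn
    have := (Subgroup.mem_inf.mp (hNC hn)).2
    rw [Subgroup.mem_centralizer_iff] at this
    exact this y hy
  -- (i) `Y` is a normal `p`-subgroup
  have hYp : IsPGroup p Y := isPGroup_of_stabilizes_chain Q N Y hQp hNQ hCQ hYN hYmem
  have hYQ : Y ≤ Q := hQdef ▸ Helper2.le_pCore hYn hYp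
  apply h.hna
  refine ⟨⟨fun a b => ?_⟩⟩
  apply Subtype.ext
  exact hQab _ (hYQ (hPY a.2)) _ (hYQ (hPY b.2))

end caseB

end Cfsg.Agent.Lib.Helper17
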