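import Cfsg.Agent.Lib.Helper17.TwoGenB
import Cfsg.Agent.Lib.Helper20.PComponents
import Cfsg.Agent.Lib.Helper20.Fitting

set_option autoImplicit false

namespace Cfsg.Agent.Lib.Helper17

open Cfsg
open scoped commutatorElement

theorem frattini_map_mulEquiv {A B : Type*} [Group A] [Group B] (e : A ≃* B) :
    (frattini A).map e.toMonoidHom = frattini B := by
  have := OrderIso.map_radical (MulEquiv.mapSubgroup e)
  exact this

theorem le_normalizer_of_map_conj_le {G : Type*} [Group G] (P M : Subgroup G)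
    (hmap : ∀ x ∈ P, M.map (MulAut.conj x).toMonoidHom ≤ M) :
    P ≤ Subgroup.normalizer (M : Set G) := by
  intro a ha
  rw [Subgroup.mem_normalizer_iff]
  intro x
  constructor
  · intro hx
    exact hmap a ha ⟨x, hx, rfl⟩
  · intro hx
    have := hmap a⁻¹ (P.inv_mem ha) ⟨_, hx, rfl⟩
    have e : (MulAut.conj a⁻¹).toMonoidHom (a * x * a⁻¹) = x := by
      simp [MulAut.conj_apply]
      group
    rwa [e] at this

section caseA

variable {G : Type*} [Group G] [Finite G] {p : ℕ} [hp : Fact p.Prime] {P : Sylow p G}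

/-- Tate's theorem for a `P`-invariant subgroup containing a component. -/
theorem TGS.not_le_frattini_of_normalized (h : TGS p P) (M : Subgroup G)
    (hPM : (P : Subgroup G) ≤ Subgroup.normalizer (M : Set G)) (K : Subgroup G)
    (hK : IsComponent K) (hKM : K ≤ M) :
    ¬ M.subgroupOf (P : Subgroup G) ≤ frattini ↥(P : Subgroup G) := by
  intro hle
  obtain ⟨H, hHdef⟩ : ∃ H : Subgroup G, H = Subgroup.normalizer (M : Set G) := ⟨_, rfl⟩
  have hMH : M ≤ H := hHdef ▸ Subgroup.le_normalizer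
  have hPH : (P : Subgroup G) ≤ H := hHdef ▸ hPM
  have hKH : K ≤ H := hKM.trans hMH
  haveI hM₁n : (M.subgroupOf H).Normal := by
    rw [hHdef]; exact Subgroup.normal_in_normalizer
  obtain ⟨P₁, hP₁⟩ : ∃ P₁ : Sylow p ↥H, (P₁ : Subgroup ↥H) = (P : Subgroup G).subgroupOf H :=
    ⟨P.subtype hPH, rfl⟩
  have hle₁ : M.subgroupOf H ⊓ (P₁ : Subgroup ↥H) ≤
      (frattini ↥(P₁ : Subgroup ↥H)).map (P₁ : Subgroup ↥H).subtype := by
    intro x hx
    obtain ⟨hxM, hxP⟩ := Subgroup.mem_inf.mp hx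
    have hxP' : x ∈ (P : Subgroup G).subgroupOf H := hP₁ ▸ hxP
    have hxP'' : (x : G) ∈ (P : Subgroup G) := Subgroup.mem_subgroupOf.mp hxP'
    have h1 : (⟨(x : G), hxP''⟩ : ↥(P : Subgroup G)) ∈ frattini ↥(P : Subgroup G) :=
      hle (Subgroup.mem_subgroupOf.mpr (Subgroup.mem_subgroupOf.mp hxM))
    have he : ∃ e : ↥(P₁ : Subgroup ↥H) ≃* ↥(P : Subgroup G),
        ∀ y : ↥(P₁ : Subgroup ↥H), ((e y : ↥(P : Subgroup G)) : G) = ((y : ↥H) : G) := by
      rw [hP₁]
      exact ⟨Subgroup.subgroupOfEquivOfLe hPH, fun y => rfl⟩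
    obtain ⟨e, he⟩ := he
    rw [← frattini_map_mulEquiv e] at h1
    obtain ⟨y, hy, hye⟩ := h1
    refine ⟨y, hy, ?_⟩
    apply Subtype.ext
    have := congrArg Subtype.val hye
    show ((y : ↥H) : G) = (x : G)
    rw [← he y]
    exact this
  obtain ⟨R, C, hCn, hCc⟩ := Helper24.tate_hasNormalPComplement P₁ (M.subgroupOf H) hle₁
  -- the quotient by `C` is a `p`-group
  have hquot : IsPGroup p (↥(M.subgroupOf H) ⧸ C) := by
    obtain ⟨k, hk⟩ := IsPGroup.iff_card.mp R.2
    apply IsPGroup.of_card (n := k)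
    rw [← Subgroup.index_eq_card, hCc.symm.index_eq_card, hk]
  have hCcard : (Nat.card C).Coprime p := by
    rw [← hCc.index_eq_card, Nat.coprime_comm, Nat.Prime.coprime_iff_not_dvd hp.out]
    exact R.not_dvd_index
  -- `K` inside `M.subgroupOf H`
  obtain ⟨K₁, hK₁⟩ : ∃ K₁ : Subgroup ↥(M.subgroupOf H),
      K₁ = (K.subgroupOf H).subgroupOf (M.subgroupOf H) := ⟨_, rfl⟩
  have hKle : K.subgroupOf H ≤ M.subgroupOf H := Subgroup.subgroupOf_mono H hKM
  have e₁ : ↥K₁ ≃* ↥K := by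
    rw [hK₁]
    exact (Subgroup.subgroupOfEquivOfLe hKle).trans (Subgroup.subgroupOfEquivOfLe hKH)
  haveI : Group.IsPerfect ↥K := hK.2.1
  have hperf : Group.IsPerfect ↥K₁ :=
    Group.IsPerfect.ofSurjective (f := (e₁.symm : ↥K →* ↥K₁)) e₁.symm.surjective
  have hK₁C : K₁ ≤ C := Helper20.perfect_le_of_isPGroup_quotient p C hquot K₁ hperf
  have hKcard : (Nat.card ↥K).Coprime p := by
    rw [← Nat.card_congr e₁.toEquiv]
    exact Nat.Coprime.coprime_dvd_left (Subgroup.card_dvd_of_le hK₁C) hCcard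
  have hK0 := Helper20.subnormal_coprime_le_pPrimeCore p K hK.1 hKcard
  rw [h.hcore, le_bot_iff] at hK0
  exact Helper20.isComponent_ne_bot hK hK0

theorem map_conj_map_conj {G : Type*} [Group G] (K : Subgroup G) (x y : G) :
    (K.map (MulAut.conj y).toMonoidHom).map (MulAut.conj x).toMonoidHom =
      K.map (MulAut.conj (x * y)).toMonoidHom := by
  rw [Subgroup.map_map]
  congr 1
  ext g
  simp [MulAut.conj_apply, mul_assoc]

theorem map_conj_one {G : Type*} [Group G] (K : Subgroup G) :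
    K.map (MulAut.conj (1 : G)).toMonoidHom = K := by
  ext g
  simp

/-- `P` is transitive on the components in case A. -/
theorem TGS.components_conj (h : TGS p P) (hF : fittingSubgroup G = ⊥) (K L : Subgroup G)
    (hK : IsComponent K) (hL : IsComponent L) :
    ∃ x ∈ (P : Subgroup G), L = K.map (MulAut.conj x).toMonoidHom := by
  by_contra hcon
  push_neg at hcon
  obtain ⟨O, hOdef⟩ : ∃ O : Set (Subgroup G),
      O = {M | ∃ x ∈ (P : Subgroup G), M = K.map (MulAut.conj x).toMonoidHom} := ⟨_, rfl⟩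
  have hOmem : ∀ M, M ∈ O ↔ ∃ x ∈ (P : Subgroup G), M = K.map (MulAut.conj x).toMonoidHom := by
    intro M; rw [hOdef]; rfl
  have hKO : K ∈ O := (hOmem K).mpr ⟨1, Subgroup.one_mem _, (map_conj_one K).symm⟩
  have hLO : L ∉ O := fun hL' => by
    obtain ⟨x, hx, hLx⟩ := (hOmem L).mp hL'
    exact hcon x hx hLx
  have hOcomp : ∀ M ∈ O, IsComponent M := by
    intro M hM
    obtain ⟨x, _, rfl⟩ := (hOmem M).mp hM
    exact Helper20.isComponent_map_mulEquiv (MulAut.conj x) K hK
  have hOconj : ∀ M ∈ O, ∀ x ∈ (P : Subgroup G), M.map (MulAut.conj x).toMonoidHom ∈ O := by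
    intro M hM x hx
    obtain ⟨y, hy, rfl⟩ := (hOmem M).mp hM
    rw [map_conj_map_conj]
    exact (hOmem _).mpr ⟨x * y, Subgroup.mul_mem _ hx hy, rfl⟩
  have hO'conj : ∀ M, M ∉ O → ∀ x ∈ (P : Subgroup G), M.map (MulAut.conj x).toMonoidHom ∉ O := by
    intro M hM x hx hcon'
    apply hM
    have := hOconj _ hcon' x⁻¹ (Subgroup.inv_mem _ hx)
    rwa [map_conj_map_conj, inv_mul_cancel, map_conj_one] at this
  obtain ⟨N₁, hN₁⟩ : ∃ N₁ : Subgroup G, N₁ = sSup O := ⟨_, rfl⟩
  obtain ⟨N₂, hN₂⟩ : ∃ N₂ : Subgroup G, N₂ = sSup {M | IsComponent M ∧ M ∉ O} := ⟨_, rfl⟩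
  have hKN₁ : K ≤ N₁ := hN₁ ▸ le_sSup hKO
  have hLN₂ : L ≤ N₂ := hN₂ ▸ le_sSup ⟨hL, hLO⟩
  have hPN₁ : (P : Subgroup G) ≤ Subgroup.normalizer (N₁ : Set G) := by
    apply le_normalizer_of_map_conj_le
    intro x hx
    rw [Subgroup.map_le_iff_le_comap, hN₁]
    apply sSup_le
    intro M hM
    rw [← Subgroup.map_le_iff_le_comap]
    exact le_sSup (hOconj M hM x hx)
  have hPN₂ : (P : Subgroup G) ≤ Subgroup.normalizer (N₂ : Set G) := by
    apply le_normalizer_of_map_conj_le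
    intro x hx
    rw [Subgroup.map_le_iff_le_comap, hN₂]
    apply sSup_le
    rintro M ⟨hMc, hMO⟩
    rw [← Subgroup.map_le_iff_le_comap]
    exact le_sSup ⟨Helper20.isComponent_map_mulEquiv (MulAut.conj x) M hMc, hO'conj M hMO x hx⟩
  -- `N₁` and `N₂` commute
  have hcent : N₁ ≤ Subgroup.centralizer (N₂ : Set G) := by
    rw [hN₁]
    apply sSup_le
    intro M₁ hM₁
    rw [Subgroup.le_centralizer_iff, hN₂]
    apply sSup_le
    rintro M₂ ⟨hM₂c, hM₂O⟩
    rw [← Subgroup.commutator_eq_bot_iff_le_centralizer]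
    apply Helper20.components_commute M₂ M₁ hM₂c (hOcomp M₁ hM₁)
    rintro rfl
    exact hM₂O hM₁
  have hN₁E : N₁ ≤ layer G := by
    rw [hN₁]
    apply sSup_le
    intro M hM
    exact le_sSup (hOcomp M hM)
  have hinf : N₁ ⊓ N₂ = ⊥ := by
    rw [eq_bot_iff]
    intro x hx
    obtain ⟨hx1, hx2⟩ := Subgroup.mem_inf.mp hx
    have hxE : x ∈ layer G := hN₁E hx1
    have hxc : layer G ≤ Subgroup.centralizer ({x} : Set G) := by
      unfold layer
      apply sSup_le
      intro M hM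
      by_cases hMO : M ∈ O
      · -- `M ≤ N₁`, `x ∈ N₂`
        intro m hm
        rw [Subgroup.mem_centralizer_iff]
        intro y hy
        rw [Set.mem_singleton_iff] at hy
        rw [hy]
        have hm1 : m ∈ N₁ := hN₁ ▸ (le_sSup hMO : M ≤ sSup O) hm
        exact ((Subgroup.mem_centralizer_iff.mp (hcent hm1)) x hx2)
      · intro m hm
        rw [Subgroup.mem_centralizer_iff]
        intro y hy
        rw [Set.mem_singleton_iff] at hy
        rw [hy]
        have hm2 : m ∈ N₂ := by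
          have hle : M ≤ sSup {M | IsComponent M ∧ M ∉ O} := le_sSup ⟨hM, hMO⟩
          rw [hN₂]; exact hle hm
        exact ((Subgroup.mem_centralizer_iff.mp (hcent hx1)) m hm2).symm
    have hxZ : x ∈ (Subgroup.center ↥(layer G)).map (layer G).subtype := by
      refine ⟨⟨x, hxE⟩, ?_, rfl⟩
      rw [SetLike.mem_coe, Subgroup.mem_center_iff]
      intro g
      apply Subtype.ext
      have := (Subgroup.mem_centralizer_iff.mp (hxc g.2)) x (Set.mem_singleton x)
      exact this.symm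
    rw [Helper20.center_layer_eq_fitting_inf_layer, hF, bot_inf_eq] at hxZ
    exact hxZ
  have hn1 : ¬ N₁.subgroupOf (P : Subgroup G) ≤ frattini ↥(P : Subgroup G) :=
    h.not_le_frattini_of_normalized N₁ hPN₁ K hK hKN₁
  have hn2 : ¬ N₂.subgroupOf (P : Subgroup G) ≤ frattini ↥(P : Subgroup G) :=
    h.not_le_frattini_of_normalized N₂ hPN₂ L hL hLN₂
  haveI hnorm1 : (N₁.subgroupOf (P : Subgroup G)).Normal :=
    Subgroup.normal_subgroupOf_of_le_normalizer hPN₁
  haveI hnorm2 : (N₂.subgroupOf (P : Subgroup G)).Normal :=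
    Subgroup.normal_subgroupOf_of_le_normalizer hPN₂
  apply h.hna
  have hc := commutative_of_two_not_le_frattini (P := ↥(P : Subgroup G)) (p := p) h.hgen
    (N₁.subgroupOf (P : Subgroup G)) (N₂.subgroupOf (P : Subgroup G))
    (by
      rw [eq_bot_iff]
      intro x hx
      obtain ⟨hx1, hx2⟩ := Subgroup.mem_inf.mp hx
      rw [Subgroup.mem_subgroupOf] at hx1 hx2
      have : (x : G) ∈ N₁ ⊓ N₂ := Subgroup.mem_inf.mpr ⟨hx1, hx2⟩
      rw [hinf, Subgroup.mem_bot] at this
      rw [Subgroup.mem_bot]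
      exact Subtype.ext this) hn1 hn2
  exact ⟨⟨hc⟩⟩

end caseA

section main

variable {G : Type*} [Group G] [Finite G]

theorem twoGen_main (p : ℕ) [Fact p.Prime] (P : Sylow p G)
    (hna : ¬ IsMulCommutative (P : Subgroup G))
    (hgen : (frattini ↥(P : Subgroup G)).index = p ^ 2) (hcore : Cfsg.pPrimeCore p G = ⊥)
    (hfrat : ((frattini ↥(P : Subgroup G)).map (P : Subgroup G).subtype).normalCore = ⊥)
    [hFn : (Cfsg.generalizedFittingSubgroup G).Normal] :
    (Cfsg.generalizedFittingSubgroup G ≠ ⊥ ∧ ∀ K : Subgroup G, K.Normal → K ≠ ⊥ →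
        Cfsg.generalizedFittingSubgroup G ≤ K) ∧
      IsCyclic ↥((P : Subgroup G).map (QuotientGroup.mk' (Cfsg.generalizedFittingSubgroup G))) ∧
      (¬ IsMulCommutative (Cfsg.generalizedFittingSubgroup G) → ∀ K L : Subgroup G,
        Cfsg.IsComponent K → Cfsg.IsComponent L →
          ∃ x ∈ (P : Subgroup G), L = K.map (MulAut.conj x).toMonoidHom) := by
  have h : TGS p P := ⟨hna, hgen, hcore, hfrat⟩
  obtain ⟨N, hNn, hN0, hmin⟩ := h.exists_min
  haveI := hNn
  have hFN : generalizedFittingSubgroup G = N := by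
    by_cases hab : IsMulCommutative ↥N
    · unfold generalizedFittingSubgroup
      rw [h.layer_eq_bot_of_abelian N hN0 hmin hab, bot_sup_eq, h.fitting_eq,
        h.pCore_eq_of_abelian N hN0 hmin hab]
    · exact h.genFitting_eq_of_nonabelian N hN0 hmin hab
  refine ⟨⟨?_, ?_⟩, ?_, ?_⟩
  · rw [hFN]; exact hN0
  · intro K hKn hK0; rw [hFN]; exact hmin K hKn hK0
  · exact h.isCyclic_map _ h.genFitting_ne_bot
  · intro hnc K L hK hL
    have hnab : ¬ IsMulCommutative ↥N := hFN ▸ hnc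
    have hF : fittingSubgroup G = ⊥ := by
      rw [h.fitting_eq]; exact TGS.pCore_eq_bot_of_nonabelian N hN0 hmin hnab
    exact h.components_conj hF K L hK hL

end main

end Cfsg.Agent.Lib.Helper17
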