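import Cfsg.Agent.Lib.Helper17.TwoGenSylow
import Cfsg.Agent.Lib.Helper17.SylowConj
import Cfsg.Agent.Lib.Helper24.Tate
import Cfsg.Agent.Lib.Helper20.Bender
import Cfsg.Agent.Lib.Helper20.Components
import Cfsg.Agent.Lib.Helper20.Layer
import Cfsg.Agent.Lib.Helper20.Cores
import Cfsg.Agent.Lib.Helper20.CyclicSylow
import Cfsg.Agent.Lib.Helper20.DerivedLimit
import Cfsg.Agent.Lib.Helper20.PExtension
import Cfsg.Agent.Lib.Helper2.Cores

set_option autoImplicit false

namespace Cfsg.Agent.Lib.Helper17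

open Cfsg

/-- the standing hypotheses of S4172 -/
structure TGS {G : Type*} [Group G] (p : ℕ) (P : Sylow p G) : Prop where
  hna : ¬ IsMulCommutative (P : Subgroup G)
  hgen : (frattini ↥(P : Subgroup G)).index = p ^ 2
  hcore : pPrimeCore p G = ⊥
  hfrat : ((frattini ↥(P : Subgroup G)).map (P : Subgroup G).subtype).normalCore = ⊥

section basic

variable {G : Type*} [Group G] [Finite G] {p : ℕ} [hp : Fact p.Prime] {P : Sylow p G}

theorem TGS.nontrivial (h : TGS p P) : Nontrivial G := by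
  by_contra hcon
  rw [not_nontrivial_iff_subsingleton] at hcon
  apply h.hna
  exact ⟨⟨fun a b => Subsingleton.elim _ _⟩⟩

/-- a nontrivial normal subgroup does not meet `P` inside `Φ(P)` (Tate). -/
theorem TGS.not_le_frattini (h : TGS p P) (K : Subgroup G) [hKn : K.Normal] (hK : K ≠ ⊥) :
    ¬ K.subgroupOf (P : Subgroup G) ≤ frattini ↥(P : Subgroup G) := by
  intro hle
  have hle' : K ⊓ (P : Subgroup G) ≤
      (frattini ↥(P : Subgroup G)).map (P : Subgroup G).subtype := by
    intro x hx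
    obtain ⟨hxK, hxP⟩ := Subgroup.mem_inf.mp hx
    exact ⟨⟨x, hxP⟩, hle (Subgroup.mem_subgroupOf.mpr hxK), rfl⟩
  obtain ⟨R, M, hMn, hMc⟩ := Helper24.tate_hasNormalPComplement P K hle'
  -- `M` is a subnormal `p'`-subgroup
  have hMcard : (Nat.card M).Coprime p := by
    have h1 : (R : Subgroup ↥K).index = Nat.card M := hMc.index_eq_card
    rw [← h1, Nat.coprime_comm, Nat.Prime.coprime_iff_not_dvd hp.out]
    exact R.not_dvd_index
  have hMsub : (M.map K.subtype).IsSubnormal := by
    have h1 : M.IsSubnormal := hMn.isSubnormal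
    have h2 : K.IsSubnormal := hKn.isSubnormal
    exact h1.trans' h2
  have hMcard' : (Nat.card (M.map K.subtype)).Coprime p := by
    rw [Subgroup.card_map_of_injective K.subtype_injective]; exact hMcard
  have hM0 := Helper20.subnormal_coprime_le_pPrimeCore p _ hMsub hMcard'
  rw [h.hcore, le_bot_iff, Subgroup.map_eq_bot_iff_of_injective _ K.subtype_injective] at hM0
  -- so `K` is a `p`-group
  have hKp : IsPGroup p K := by
    have h1 := hMc.card_mul
    rw [hM0, Subgroup.card_bot, one_mul] at h1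
    obtain ⟨n, hn⟩ := IsPGroup.iff_card.mp R.2
    exact IsPGroup.of_card (h1 ▸ hn)
  have hKP : K ≤ (P : Subgroup G) := hKp.le_sylow_of_normal P
  have hKΦ : K ≤ (frattini ↥(P : Subgroup G)).map (P : Subgroup G).subtype := by
    intro x hx
    exact hle' (Subgroup.mem_inf.mpr ⟨hx, hKP hx⟩)
  have := (Subgroup.normal_le_normalCore (H := (frattini ↥(P : Subgroup G)).map
    (P : Subgroup G).subtype) (N := K)).mpr hKΦ
  rw [h.hfrat, le_bot_iff] at this
  exact hK this

/-- two nontrivial normal subgroups meet nontrivially. -/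
theorem TGS.inf_ne_bot (h : TGS p P) (K₁ K₂ : Subgroup G) [K₁.Normal] [K₂.Normal]
    (h1 : K₁ ≠ ⊥) (h2 : K₂ ≠ ⊥) : K₁ ⊓ K₂ ≠ ⊥ := by
  intro hinf
  apply h.hna
  have hc := commutative_of_two_not_le_frattini (P := ↥(P : Subgroup G)) (p := p) h.hgen
    (K₁.subgroupOf (P : Subgroup G)) (K₂.subgroupOf (P : Subgroup G))
    (by
      rw [eq_bot_iff]
      intro x hx
      obtain ⟨hx1, hx2⟩ := Subgroup.mem_inf.mp hx
      rw [Subgroup.mem_subgroupOf] at hx1 hx2
      have : (x : G) ∈ K₁ ⊓ K₂ := Subgroup.mem_inf.mpr ⟨hx1, hx2⟩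
      rw [hinf, Subgroup.mem_bot] at this
      rw [Subgroup.mem_bot]
      exact Subtype.ext this) (h.not_le_frattini K₁ h1)
    (h.not_le_frattini K₂ h2)
  exact ⟨⟨hc⟩⟩

/-- the unique minimal normal subgroup. -/
theorem TGS.exists_min (h : TGS p P) :
    ∃ N : Subgroup G, N.Normal ∧ N ≠ ⊥ ∧ ∀ K : Subgroup G, K.Normal → K ≠ ⊥ → N ≤ K := by
  haveI := h.nontrivial
  have hfin : {K : Subgroup G | K.Normal ∧ K ≠ ⊥}.Finite := Set.toFinite _
  have hne : {K : Subgroup G | K.Normal ∧ K ≠ ⊥}.Nonempty :=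
    ⟨⊤, inferInstance, top_ne_bot⟩
  obtain ⟨N, ⟨hNn, hN0⟩, hNmin⟩ := hfin.exists_minimal hne
  refine ⟨N, hNn, hN0, ?_⟩
  intro K hKn hK0
  have hinf := h.inf_ne_bot N K hN0 hK0
  have hn : (N ⊓ K).Normal := inferInstance
  have := hNmin ⟨hn, hinf⟩ inf_le_left
  exact le_trans this inf_le_right

/-- `P = ⟨z⟩ (K ∩ P)` for every nontrivial normal `K`. -/
theorem TGS.exists_gen (h : TGS p P) (K : Subgroup G) [K.Normal] (hK : K ≠ ⊥) :
    ∃ z : ↥(P : Subgroup G), Subgroup.zpowers z ⊔ K.subgroupOf (P : Subgroup G) = ⊤ :=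
  exists_zpowers_sup_eq_top h.hgen _ (h.not_le_frattini K hK)

/-- the image of `P` modulo a nontrivial normal subgroup is cyclic. -/
theorem TGS.isCyclic_map (h : TGS p P) (K : Subgroup G) [K.Normal] (hK : K ≠ ⊥) :
    IsCyclic ↥((P : Subgroup G).map (QuotientGroup.mk' K)) := by
  obtain ⟨z, hz⟩ := h.exists_gen K hK
  have h1 : (P : Subgroup G).map (QuotientGroup.mk' K) =
      Subgroup.zpowers (QuotientGroup.mk' K (z : G)) := by
    have h2 : ((⊤ : Subgroup ↥(P : Subgroup G)).map (P : Subgroup G).subtype).map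
        (QuotientGroup.mk' K) = (P : Subgroup G).map (QuotientGroup.mk' K) := by
      rw [← MonoidHom.range_eq_map, Subgroup.range_subtype]
    rw [← h2, ← hz, Subgroup.map_sup, Subgroup.map_sup, MonoidHom.map_zpowers,
      MonoidHom.map_zpowers]
    have h3 : ((K.subgroupOf (P : Subgroup G)).map (P : Subgroup G).subtype).map
        (QuotientGroup.mk' K) = ⊥ := by
      rw [eq_bot_iff]
      rintro _ ⟨_, ⟨x, hx, rfl⟩, rfl⟩
      rw [Subgroup.mem_bot]
      exact (QuotientGroup.eq_one_iff _).mpr (Subgroup.mem_subgroupOf.mp hx)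
    rw [h3, sup_bot_eq]
    rfl
  rw [h1]
  infer_instance

theorem TGS.genFitting_ne_bot (h : TGS p P) : generalizedFittingSubgroup G ≠ ⊥ := by
  haveI := h.nontrivial
  intro h0
  have := Helper20.centralizer_genFitting_le (G := G)
  rw [h0] at this
  have h1 : (⊤ : Subgroup G) ≤ ⊥ := by
    refine le_trans ?_ this
    intro x _
    rw [Subgroup.mem_centralizer_iff]
    intro y hy
    rw [SetLike.mem_coe, Subgroup.mem_bot] at hy
    rw [hy]; simp
  exact top_ne_bot (le_bot_iff.mp h1)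

theorem TGS.fitting_eq (h : TGS p P) : fittingSubgroup G = pCore p G := by
  rw [Helper2.fittingSubgroup_eq_iSup_pCore]
  apply le_antisymm
  · apply iSup_le
    intro q
    by_cases hq : (q : ℕ) = p
    · rw [hq]
    · have hqn : (pCore (q : ℕ) G).Normal := Helper2.pCore_normal _
      have hqp : IsPGroup (q : ℕ) (pCore (q : ℕ) G) := Helper2.pCore_isPGroup _
      haveI : Fact (q : ℕ).Prime := ⟨q.2⟩
      obtain ⟨n, hn⟩ := IsPGroup.iff_card.mp hqp
      have hc : (Nat.card (pCore (q : ℕ) G)).Coprime p := by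
        rw [hn]
        apply Nat.Coprime.pow_left
        exact (Nat.coprime_primes q.2 hp.out).mpr hq
      have := Helper2.le_pPrimeCore hqn hc
      rw [h.hcore] at this
      exact le_trans this bot_le
  · exact le_iSup (fun q : Nat.Primes => pCore (q : ℕ) G) ⟨p, hp.out⟩

/-- a normal subgroup all of whose nontrivial normal-in-`G` subgroups contain it, and which is a
`p`-group, is commutative. -/
theorem commutative_of_min_of_isPGroup (N : Subgroup G) [hNn : N.Normal] (hN0 : N ≠ ⊥)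
    (hmin : ∀ K : Subgroup G, K.Normal → K ≠ ⊥ → N ≤ K) (hNp : IsPGroup p N) :
    IsMulCommutative ↥N := by
  haveI : Nontrivial ↥N := (Subgroup.nontrivial_iff_ne_bot N).mpr hN0
  have hZ : Nontrivial (Subgroup.center ↥N) := hNp.center_nontrivial
  have hZn : ((Subgroup.center ↥N).map N.subtype).Normal :=
    ConjAct.normal_of_characteristic_of_normal
  have hZ0 : (Subgroup.center ↥N).map N.subtype ≠ ⊥ := by
    rw [Ne, Subgroup.map_eq_bot_iff_of_injective _ N.subtype_injective]
    exact (Subgroup.nontrivial_iff_ne_bot _).mp hZ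
  have hle := hmin _ hZn hZ0
  refine ⟨⟨fun a b => ?_⟩⟩
  obtain ⟨y, hy, hyb⟩ := hle b.2
  have : y = b := Subtype.ext hyb
  rw [this] at hy
  exact (Subgroup.mem_center_iff.mp hy a)

theorem TGS.pCore_eq_bot_of_nonabelian (N : Subgroup G) [hNn : N.Normal]
    (hN0 : N ≠ ⊥) (hmin : ∀ K : Subgroup G, K.Normal → K ≠ ⊥ → N ≤ K)
    (hnab : ¬ IsMulCommutative ↥N) : pCore p G = ⊥ := by
  by_contra hQ
  have hle := hmin _ (Helper2.pCore_normal p) hQ
  have hNp : IsPGroup p N := (Helper2.pCore_isPGroup p).to_le hle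
  exact hnab (commutative_of_min_of_isPGroup N hN0 hmin hNp)

theorem component_le_of_min_nonabelian (N : Subgroup G) [hNn : N.Normal]
    (hN0 : N ≠ ⊥) (hmin : ∀ K : Subgroup G, K.Normal → K ≠ ⊥ → N ≤ K)
    (hnab : ¬ IsMulCommutative ↥N) (K : Subgroup G) (hK : IsComponent K) : K ≤ N := by
  rcases Helper20.component_le_or_commutes K N hK hNn.isSubnormal with h1 | h1
  · exact h1
  · exfalso
    apply hnab
    have hKC : K ≤ Subgroup.centralizer (N : Set G) := by
      rw [Subgroup.commutator_eq_bot_iff_le_centralizer] at h1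
      exact h1
    have hCn : (Subgroup.centralizer (N : Set G)).Normal := inferInstance
    have hK0 : K ≠ ⊥ := by
      intro hb
      have := Helper20.isQuasisimple_nontrivial hK.2
      rw [hb] at this
      exact not_nontrivial _ this
    have hC0 : Subgroup.centralizer (N : Set G) ≠ ⊥ := by
      intro hb
      rw [hb, le_bot_iff] at hKC
      exact hK0 hKC
    have hle := hmin _ hCn hC0
    refine ⟨⟨fun a b => ?_⟩⟩
    apply Subtype.ext
    have := (Subgroup.mem_centralizer_iff.mp (hle b.2)) a a.2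
    exact this

theorem TGS.genFitting_eq_of_nonabelian (h : TGS p P) (N : Subgroup G) [hNn : N.Normal]
    (hN0 : N ≠ ⊥) (hmin : ∀ K : Subgroup G, K.Normal → K ≠ ⊥ → N ≤ K)
    (hnab : ¬ IsMulCommutative ↥N) [hFn : (generalizedFittingSubgroup G).Normal] :
    generalizedFittingSubgroup G = N := by
  apply le_antisymm
  · unfold generalizedFittingSubgroup
    rw [h.fitting_eq, TGS.pCore_eq_bot_of_nonabelian N hN0 hmin hnab, sup_bot_eq]
    apply sSup_le
    intro K hK
    exact component_le_of_min_nonabelian N hN0 hmin hnab K hK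
  · exact hmin _ hFn h.genFitting_ne_bot

/-- every element of `P` is `z ^ i * n` with `n ∈ N`. -/
theorem exists_zpow_mul_of_gen {N : Subgroup G} [N.Normal] {z : ↥(P : Subgroup G)}
    (hz : Subgroup.zpowers z ⊔ N.subgroupOf (P : Subgroup G) = ⊤) (a : G)
    (ha : a ∈ (P : Subgroup G)) : ∃ (i : ℤ) (n : G), n ∈ N ∧ a = (z : G) ^ i * n := by
  have h1 : (⟨a, ha⟩ : ↥(P : Subgroup G)) ∈ Subgroup.zpowers z ⊔ N.subgroupOf (P : Subgroup G) := by
    rw [hz]; trivial
  have h2 : (⟨a, ha⟩ : ↥(P : Subgroup G)) ∈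
      ((Subgroup.zpowers z ⊔ N.subgroupOf (P : Subgroup G) : Subgroup ↥(P : Subgroup G)) :
        Set ↥(P : Subgroup G)) := h1
  rw [Subgroup.mul_normal] at h2
  obtain ⟨x, hx, n, hn, hxn⟩ := Set.mem_mul.mp h2
  obtain ⟨i, rfl⟩ := Subgroup.mem_zpowers_iff.mp hx
  refine ⟨i, (n : G), Subgroup.mem_subgroupOf.mp hn, ?_⟩
  have := congrArg Subtype.val hxn
  simp only [Subgroup.coe_mul, Subgroup.coe_zpow] at this
  exact this.symm

/-- if `N` commutes elementwise with a subgroup `X ≥ N` then `X ∩ P` is commutative. -/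
theorem comm_of_central_of_gen {N : Subgroup G} [N.Normal] {z : ↥(P : Subgroup G)}
    (hz : Subgroup.zpowers z ⊔ N.subgroupOf (P : Subgroup G) = ⊤) (X : Subgroup G) (hNX : N ≤ X)
    (hc : ∀ n ∈ N, ∀ x ∈ X, n * x = x * n) (a b : G) (ha : a ∈ X) (haP : a ∈ (P : Subgroup G))
    (hb : b ∈ X) (hbP : b ∈ (P : Subgroup G)) : a * b = b * a := by
  obtain ⟨i, n, hn, rfl⟩ := exists_zpow_mul_of_gen hz a haP
  obtain ⟨j, m, hm, rfl⟩ := exists_zpow_mul_of_gen hz b hbP
  have hzi : (z : G) ^ i ∈ X := by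
    have : (z : G) ^ i = (z : G) ^ i * n * n⁻¹ := by group
    rw [this]; exact X.mul_mem ha (X.inv_mem (hNX hn))
  have hzj : (z : G) ^ j ∈ X := by
    have : (z : G) ^ j = (z : G) ^ j * m * m⁻¹ := by group
    rw [this]; exact X.mul_mem hb (X.inv_mem (hNX hm))
  have e1 : n * (z : G) ^ j = (z : G) ^ j * n := hc n hn _ hzj
  have e2 : m * (z : G) ^ i = (z : G) ^ i * m := hc m hm _ hzi
  have e3 : n * m = m * n := hc n hn m (hNX hm)
  have e4 : (z : G) ^ i * (z : G) ^ j = (z : G) ^ j * (z : G) ^ i := by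
    rw [← zpow_add, ← zpow_add, add_comm]
  calc (z : G) ^ i * n * ((z : G) ^ j * m) = (z : G) ^ i * (n * (z : G) ^ j) * m := by group
    _ = (z : G) ^ i * ((z : G) ^ j * n) * m := by rw [e1]
    _ = ((z : G) ^ i * (z : G) ^ j) * (n * m) := by group
    _ = ((z : G) ^ j * (z : G) ^ i) * (m * n) := by rw [e4, e3]
    _ = (z : G) ^ j * ((z : G) ^ i * m) * n := by group
    _ = (z : G) ^ j * (m * (z : G) ^ i) * n := by rw [e2]
    _ = (z : G) ^ j * m * ((z : G) ^ i * n) := by group

theorem TGS.le_pCore_of_abelian (h : TGS p P) (N : Subgroup G) [hNn : N.Normal]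
    (hab : IsMulCommutative ↥N) : N ≤ pCore p G := by
  rw [← h.fitting_eq]
  apply Helper2.le_fittingSubgroup hNn
  letI : CommGroup ↥N := { (inferInstance : Group ↥N) with mul_comm := hab.is_comm.comm }
  exact @CommGroup.isNilpotent ↥N _

theorem TGS.layer_eq_bot_of_abelian (h : TGS p P) (N : Subgroup G) [hNn : N.Normal]
    (hN0 : N ≠ ⊥) (hmin : ∀ K : Subgroup G, K.Normal → K ≠ ⊥ → N ≤ K)
    (hab : IsMulCommutative ↥N) : layer G = ⊥ := by
  by_contra hE
  have hEc : (layer G).Characteristic := Helper20.layer_characteristic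
  have hEn : (layer G).Normal := Subgroup.normal_of_characteristic _
  have hNE : N ≤ layer G := hmin _ hEn hE
  have hNQ : N ≤ pCore p G := h.le_pCore_of_abelian N hab
  have hNP : N ≤ (P : Subgroup G) := hNQ.trans (Helper2.pCore_le_sylow p P)
  have hcent : ∀ n ∈ N, ∀ x ∈ layer G, n * x = x * n := by
    intro n hn x hx
    have h1 := Helper20.layer_le_centralizer_fitting (G := G) hx
    rw [h.fitting_eq] at h1
    exact (Subgroup.mem_centralizer_iff.mp h1) n (hNQ hn)
  obtain ⟨z, hz⟩ := h.exists_gen N hN0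
  -- the Sylow subgroup of the layer
  have hpg : IsPGroup p ((P : Subgroup G).subgroupOf (layer G)) := P.2.comap_subtype
  have hidx : ¬ p ∣ ((P : Subgroup G).subgroupOf (layer G)).index :=
    not_dvd_relIndex_of_sylow_of_normal P (layer G)
  have hcomm : IsMulCommutative ↥((P : Subgroup G).subgroupOf (layer G)) := by
    refine ⟨⟨fun a b => ?_⟩⟩
    apply Subtype.ext
    apply Subtype.ext
    exact comm_of_central_of_gen hz (layer G) hNE hcent _ _ a.1.2
      (Subgroup.mem_subgroupOf.mp a.2) b.1.2 (Subgroup.mem_subgroupOf.mp b.2)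
  have hperf : commutator ↥(layer G) = ⊤ := by
    apply Subgroup.map_injective (layer G).subtype_injective
    rw [Subgroup.map_subtype_commutator, Helper20.layer_perfect, ← MonoidHom.range_eq_map,
      Subgroup.range_subtype]
  haveI hR : IsMulCommutative ↥((hpg.toSylow hidx : Sylow p ↥(layer G)) :
      Subgroup ↥(layer G)) := by
    rw [IsPGroup.toSylow_coe]; exact hcomm
  have hkey := Helper20.sylow_inf_center_eq_bot_of_perfect hperf (hpg.toSylow hidx)
  rw [IsPGroup.toSylow_coe] at hkey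
  apply hN0
  rw [eq_bot_iff]
  intro n hn
  have h1 : (⟨n, hNE hn⟩ : ↥(layer G)) ∈
      (P : Subgroup G).subgroupOf (layer G) ⊓ Subgroup.center ↥(layer G) := by
    refine Subgroup.mem_inf.mpr ⟨Subgroup.mem_subgroupOf.mpr (hNP hn), ?_⟩
    rw [Subgroup.mem_center_iff]
    intro x
    apply Subtype.ext
    exact (hcent n hn x x.2).symm
  rw [hkey, Subgroup.mem_bot] at h1
  rw [Subgroup.mem_bot]
  exact congrArg Subtype.val h1

end basic

end Cfsg.Agent.Lib.Helper17
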