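import Mathlib
import Cfsg.Agent.Lib.Helper2.PGroupFrattini

set_option autoImplicit false

namespace Cfsg.Agent.Lib.Helper17

section pgroup

variable {P : Type*} [Group P] [Finite P] {p : ℕ} [hp : Fact p.Prime]

/-- In a `p`-group whose Frattini quotient has order `p²`, a normal subgroup not inside the Frattini
subgroup has a cyclic supplement. -/
theorem exists_zpowers_sup_eq_top (hidx : (frattini P).index = p ^ 2)
    (R : Subgroup P) (hR : ¬ R ≤ frattini P) : ∃ x : P, Subgroup.zpowers x ⊔ R = ⊤ := by
  have hlt : frattini P < R ⊔ frattini P := by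
    refine lt_of_le_of_ne le_sup_right ?_
    intro h
    apply hR
    rw [h]; exact le_sup_left
  have hd : (R ⊔ frattini P).index ∣ p ^ 2 := by
    rw [← hidx]; exact Subgroup.index_dvd_of_le le_sup_right
  obtain ⟨k, hk2, hk⟩ := (Nat.dvd_prime_pow hp.out).mp hd
  have hk2' : k ≠ 2 := by
    rintro rfl
    have h1 : (frattini P).relIndex (R ⊔ frattini P) = 1 := by
      have := Subgroup.relIndex_mul_index (le_sup_right : frattini P ≤ R ⊔ frattini P)
      rw [hk, hidx] at this
      have h2 : (frattini P).relIndex (R ⊔ frattini P) * p ^ 2 = 1 * p ^ 2 := by rw [this]; ring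
      exact Nat.eq_of_mul_eq_mul_right (pow_pos hp.out.pos 2) h2
    rw [Subgroup.relIndex_eq_one] at h1
    exact absurd (le_antisymm h1 le_sup_right) (ne_of_gt hlt)
  by_cases htop : R ⊔ frattini P = ⊤
  · refine ⟨1, ?_⟩
    have := frattini_nongenerating htop
    rw [this]; simp
  · have hk0 : k ≠ 0 := by
      rintro rfl
      rw [pow_zero, Subgroup.index_eq_one] at hk
      exact htop hk
    have hk1 : k = 1 := by omega
    rw [hk1, pow_one] at hk
    -- pick `x` outside
    obtain ⟨x, hx⟩ : ∃ x : P, x ∉ R ⊔ frattini P := by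
      by_contra hcon
      push_neg at hcon
      exact htop (eq_top_iff.mpr (fun x _ => hcon x))
    refine ⟨x, ?_⟩
    apply frattini_nongenerating
    have hlt2 : R ⊔ frattini P < Subgroup.zpowers x ⊔ R ⊔ frattini P := by
      refine lt_of_le_of_ne ?_ ?_
      · rw [sup_assoc]; exact le_sup_right
      · intro h
        apply hx
        rw [h]
        exact Subgroup.mem_sup_left (Subgroup.mem_sup_left (Subgroup.mem_zpowers x))
    have hd2 : (Subgroup.zpowers x ⊔ R ⊔ frattini P).index ∣ p := by
      rw [← hk]; exact Subgroup.index_dvd_of_le hlt2.le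
    rcases (Nat.dvd_prime hp.out).mp hd2 with h1 | h1
    · exact Subgroup.index_eq_one.mp h1
    · exfalso
      have h2 : (R ⊔ frattini P).relIndex (Subgroup.zpowers x ⊔ R ⊔ frattini P) = 1 := by
        have := Subgroup.relIndex_mul_index hlt2.le
        rw [hk, h1] at this
        have h3 : (R ⊔ frattini P).relIndex (Subgroup.zpowers x ⊔ R ⊔ frattini P) * p = 1 * p := by
          rw [this]; ring
        exact Nat.eq_of_mul_eq_mul_right hp.out.pos h3
      rw [Subgroup.relIndex_eq_one] at h2
      exact absurd (le_antisymm h2 hlt2.le) (ne_of_gt hlt2)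

omit [Finite P] hp in
/-- A normal subgroup with a cyclic supplement contains the commutator subgroup. -/
theorem commutator_le_of_zpowers_sup_eq_top (R : Subgroup P) [R.Normal] (x : P)
    (h : Subgroup.zpowers x ⊔ R = ⊤) : commutator P ≤ R := by
  rw [← Subgroup.Normal.quotient_commutative_iff_commutator_le]
  have hsurj : (Subgroup.zpowers x).map (QuotientGroup.mk' R) = ⊤ := by
    have h1 : (Subgroup.zpowers x ⊔ R).map (QuotientGroup.mk' R) = ⊤ := by
      rw [h, ← MonoidHom.range_eq_map, MonoidHom.range_eq_top]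
      exact QuotientGroup.mk'_surjective R
    rw [Subgroup.map_sup, QuotientGroup.map_mk'_self, sup_bot_eq] at h1
    exact h1
  refine ⟨⟨fun a b => ?_⟩⟩
  have ha : a ∈ (Subgroup.zpowers x).map (QuotientGroup.mk' R) := by rw [hsurj]; trivial
  have hb : b ∈ (Subgroup.zpowers x).map (QuotientGroup.mk' R) := by rw [hsurj]; trivial
  obtain ⟨a', ha', rfl⟩ := ha
  obtain ⟨b', hb', rfl⟩ := hb
  obtain ⟨i, rfl⟩ := Subgroup.mem_zpowers_iff.mp ha'
  obtain ⟨j, rfl⟩ := Subgroup.mem_zpowers_iff.mp hb'
  rw [← map_mul, ← map_mul, ← zpow_add, ← zpow_add, add_comm]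

/-- Two normal subgroups with trivial intersection, neither inside the Frattini subgroup, force
commutativity. -/
theorem commutative_of_two_not_le_frattini (hidx : (frattini P).index = p ^ 2)
    (R₁ R₂ : Subgroup P) [R₁.Normal] [R₂.Normal] (hinf : R₁ ⊓ R₂ = ⊥)
    (h1 : ¬ R₁ ≤ frattini P) (h2 : ¬ R₂ ≤ frattini P) : ∀ a b : P, a * b = b * a := by
  obtain ⟨x, hx⟩ := exists_zpowers_sup_eq_top hidx R₁ h1
  obtain ⟨y, hy⟩ := exists_zpowers_sup_eq_top hidx R₂ h2
  have c1 := commutator_le_of_zpowers_sup_eq_top R₁ x hx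
  have c2 := commutator_le_of_zpowers_sup_eq_top R₂ y hy
  have hc : commutator P = ⊥ := by
    rw [eq_bot_iff, ← hinf]; exact le_inf c1 c2
  have := (commutator_eq_bot_iff_center_eq_top (G := P)).mp hc
  intro a b
  have hb : b ∈ Subgroup.center P := by rw [this]; trivial
  exact (Subgroup.mem_center_iff.mp hb a)

end pgroup

end Cfsg.Agent.Lib.Helper17
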