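import Mathlib
import Cfsg.Prelude.Def_Transfer
import Cfsg.Agent.Lib.Helper29.GroupFusion
import Cfsg.Agent.Lib.Helper17.SylowConj
import Cfsg.Agent.Lib.Helper17.Thompson
import Cfsg.Agent.Lib.Helper17.ThompsonFusion

set_option autoImplicit false

/-!
# Sylow 2-subgroups with exactly two maximal elementary abelian subgroups `A`, `B` and `S = AB`
-/

namespace Cfsg.Agent.Lib.Helper17

open Subgroup Cfsg.Agent.Lib.Helper29

section TwoMaxEA

variable {G : Type*} [Group G]

theorem cj_self_of_mem {A : Subgroup G} {a : G} (ha : a ∈ A) : cj a A = A := by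
  ext x
  rw [mem_cj]
  constructor
  · intro h
    have := mul_mem (mul_mem ha h) (inv_mem ha)
    simpa [mul_assoc] using this
  · intro h
    exact mul_mem (mul_mem (inv_mem ha) h) ha

theorem mem_normalizer_iff_cj {P : Subgroup G} {g : G} :
    g ∈ normalizer (P : Set G) ↔ cj g P = P :=
  mem_normalizer_iff_map_conj_eq

theorem cj_eq_of_le [Finite G] {P : Subgroup G} {g : G} (h : cj g P ≤ P) : cj g P = P :=
  Subgroup.eq_of_le_of_card_ge h (card_cj g P).ge

theorem cj_injective (g : G) {P Q : Subgroup G} (h : cj g P = cj g Q) : P = Q := by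
  rw [← cj_inv_cj g P, h, cj_inv_cj]

theorem cj_le_cj_iff (g : G) {P Q : Subgroup G} : cj g P ≤ cj g Q ↔ P ≤ Q := by
  constructor
  · intro h
    have := cj_mono (g := g⁻¹) h
    rwa [cj_inv_cj, cj_inv_cj] at this
  · exact cj_mono

/-- The hypotheses, stated inside `G`. -/
structure TwoMaxEA [Finite G] (S : Sylow 2 G) (A B : Subgroup G) : Prop where
  hAS : A ≤ S
  hBS : B ≤ S
  hA : Cfsg.IsElementaryAbelian 2 A
  hB : Cfsg.IsElementaryAbelian 2 B
  hAB : ¬ A ≤ B
  hBA : ¬ B ≤ A
  honly : ∀ C : Subgroup G, C ≤ S → Cfsg.IsElementaryAbelian 2 C → C ≤ A ∨ C ≤ B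
  hprod : ∀ s ∈ (S : Subgroup G), ∃ a ∈ A, ∃ b ∈ B, a * b = s

variable [Finite G] {S : Sylow 2 G} {A B : Subgroup G}

theorem TwoMaxEA.symm (h : TwoMaxEA S A B) : TwoMaxEA S B A where
  hAS := h.hBS
  hBS := h.hAS
  hA := h.hB
  hB := h.hA
  hAB := h.hBA
  hBA := h.hAB
  honly := fun C hC hCe => (h.honly C hC hCe).symm
  hprod := by
    intro s hs
    obtain ⟨a, ha, b, hb, hab⟩ := h.hprod s⁻¹ (inv_mem hs)
    refine ⟨b⁻¹, inv_mem hb, a⁻¹, inv_mem ha, ?_⟩
    rw [← mul_inv_rev, hab, inv_inv]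

/-- Elements of `N_G(S)` permute `{A, B}`. -/
theorem TwoMaxEA.cj_mem_pair (h : TwoMaxEA S A B) {g : G}
    (hg : g ∈ normalizer ((S : Subgroup G) : Set G)) : cj g A = A ∨ cj g A = B := by
  have hgS : cj g (S : Subgroup G) = S := mem_normalizer_iff_cj.1 hg
  have hgS' : cj g⁻¹ (S : Subgroup G) = S := mem_normalizer_iff_cj.1 (inv_mem hg)
  have h1 : cj g A ≤ S := by
    rw [← hgS]; exact cj_mono h.hAS
  rcases h.honly _ h1 (ea_map _ h.hA) with h2 | h2
  · left; exact cj_eq_of_le h2
  · right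
    have h3 : A ≤ cj g⁻¹ B := cj_le_iff.1 h2
    have h4 : cj g⁻¹ B ≤ S := by
      rw [← hgS']; exact cj_mono h.hBS
    rcases h.honly _ h4 (ea_map _ h.hB) with h5 | h5
    · have h6 : A = cj g⁻¹ B := le_antisymm h3 h5
      rw [h6, cj_cj_inv]
    · exact absurd (h3.trans h5) h.hAB

theorem TwoMaxEA.le_normalizer (h : TwoMaxEA S A B) :
    (S : Subgroup G) ≤ normalizer (A : Set G) := by
  intro s hs
  obtain ⟨b, hb, a, ha, hba⟩ := h.symm.hprod s hs
  rw [mem_normalizer_iff_cj, ← hba, ← cj_cj, cj_self_of_mem ha]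
  have hbN : b ∈ normalizer ((S : Subgroup G) : Set G) := Subgroup.le_normalizer (h.hBS hb)
  rcases h.cj_mem_pair hbN with h1 | h1
  · exact h1
  · exfalso
    apply h.hAB
    have h2 : A = cj b⁻¹ B := by rw [← h1, cj_inv_cj]
    rw [h2, cj_self_of_mem (inv_mem hb)]

theorem TwoMaxEA.ne (h : TwoMaxEA S A B) : A ≠ B := fun hab => h.hAB (hab ▸ le_rfl)

/-- `N_G(S)` normalizes `A`. -/
theorem TwoMaxEA.normalizer_le (h : TwoMaxEA S A B) :
    normalizer ((S : Subgroup G) : Set G) ≤ normalizer (A : Set G) := by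
  intro g hg
  rw [mem_normalizer_iff_cj]
  by_contra hne
  have hgA : cj g A = B := (h.cj_mem_pair hg).resolve_left hne
  have hgB : cj g B = A := by
    rcases h.symm.cj_mem_pair hg with h1 | h1
    · exfalso
      apply h.ne
      apply cj_injective g
      rw [hgA, h1]
    · exact h1
  -- parity
  have hpar : ∀ n : ℕ, (Even n → cj (g ^ n) A = A) ∧ (Odd n → cj (g ^ n) A = B) := by
    intro n
    induction n with
    | zero =>
      refine ⟨fun _ => by rw [pow_zero, cj_one], fun ho => ?_⟩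
      exact absurd ho (by decide)
    | succ n ih =>
      constructor
      · intro he
        have ho : Odd n := by
          rcases Nat.even_or_odd n with h1 | h1
          · exact absurd he (by rw [Nat.even_add_one]; exact not_not.2 h1)
          · exact h1
        rw [pow_succ', ← cj_cj, ih.2 ho, hgB]
      · intro ho
        have he : Even n := by
          rcases Nat.even_or_odd n with h1 | h1
          · exact h1
          · exact absurd ho (by rw [Nat.odd_add_one]; exact not_not.2 h1)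
        rw [pow_succ', ← cj_cj, ih.1 he, hgA]
  have hord_pos : 0 < orderOf g := orderOf_pos g
  obtain ⟨k, m, hm, hkm⟩ := Nat.exists_eq_two_pow_mul_odd hord_pos.ne'
  have hgm : cj (g ^ m) A = B := (hpar m).2 hm
  -- `g ^ m` is a 2-element of `N_G(S)`, hence lies in `S`
  have hgmN : g ^ m ∈ normalizer ((S : Subgroup G) : Set G) := pow_mem hg m
  have hord : orderOf (g ^ m) = 2 ^ k := by
    rw [orderOf_pow_of_dvd hm.pos.ne' ⟨2 ^ k, by rw [hkm]; ring⟩, hkm]
    exact Nat.mul_div_cancel _ hm.pos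
  have hP : IsPGroup 2 (zpowers (g ^ m)) := by
    rw [IsPGroup.iff_card, Nat.card_zpowers, hord]
    exact ⟨k, rfl⟩
  have hle : zpowers (g ^ m) ≤ (S : Subgroup G) := by
    have h1 : zpowers (g ^ m) ⊓ normalizer ((S : Subgroup G) : Set G) =
        zpowers (g ^ m) ⊓ (S : Subgroup G) := hP.inf_normalizer_sylow S
    have h2 : zpowers (g ^ m) ≤ normalizer ((S : Subgroup G) : Set G) :=
      (zpowers_le).2 hgmN
    rw [inf_eq_left.2 h2] at h1
    exact inf_eq_left.1 h1.symm
  have hgmS : g ^ m ∈ (S : Subgroup G) := hle (mem_zpowers _)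
  have := mem_normalizer_iff_cj.1 (h.le_normalizer hgmS)
  rw [hgm] at this
  exact h.ne this.symm

theorem sylow_cj_not_dvd_relIndex (S : Sylow 2 G) (g : G) {K : Subgroup G}
    (hK : cj g (S : Subgroup G) ≤ K) : ¬ 2 ∣ (cj g (S : Subgroup G)).relIndex K := by
  intro hdvd
  have h1 : (cj g (S : Subgroup G)).relIndex K ∣ (cj g (S : Subgroup G)).index :=
    relIndex_dvd_index_of_le hK
  have h2 : cj g (S : Subgroup G) = ((g • S : Sylow 2 G) : Subgroup G) :=
    (coe_smul_sylow_eq_map g S).symm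
  rw [h2] at h1
  exact (g • S).not_dvd_index (hdvd.trans h1)

/-- `A` is weakly closed in `S` with respect to `G`. -/
theorem TwoMaxEA.weaklyClosed (h : TwoMaxEA S A B) {g : G} (hg : cj g A ≤ S) : cj g A = A := by
  have hS2 : IsPGroup 2 (S : Subgroup G) := S.isPGroup'
  have hB2 : IsPGroup 2 B := hS2.to_le h.hBS
  -- the swap case is impossible
  have swap : ∀ g : G, cj g A ≠ B := by
    intro g hgA
    have h1 : (S : Subgroup G) ≤ normalizer (B : Set G) := h.symm.le_normalizer
    have h2 : cj g (S : Subgroup G) ≤ normalizer (B : Set G) := by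
      rw [← hgA, ← cj_normalizer]
      exact cj_mono h.le_normalizer
    have hidx : ¬ 2 ∣ (S : Subgroup G).relIndex (normalizer (B : Set G)) := by
      have := sylow_cj_not_dvd_relIndex S 1 (K := normalizer (B : Set G)) (by rw [cj_one]; exact h1)
      rwa [cj_one] at this
    obtain ⟨k, hk, hkS⟩ := exists_conj_le_of_not_dvd_relIndex (normalizer (B : Set G))
      (S : Subgroup G) (cj g (S : Subgroup G)) hS2 hidx (isPGroup_cj hS2) h2
    have h3 : cj (k * g) (S : Subgroup G) ≤ S := by
      rw [← cj_cj]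
      rintro _ ⟨x, hx, rfl⟩
      exact hkS x hx
    have h4 : k * g ∈ normalizer ((S : Subgroup G) : Set G) :=
      mem_normalizer_iff_cj.2 (cj_eq_of_le h3)
    have h5 : cj (k * g) A = A := mem_normalizer_iff_cj.1 (h.normalizer_le h4)
    rw [← cj_cj, hgA, mem_normalizer_iff_cj.1 hk] at h5
    exact h.ne h5.symm
  rcases h.honly _ hg (ea_map _ h.hA) with h1 | h1
  · exact cj_eq_of_le h1
  · exfalso
    set C := cj g A with hC
    have hBC : B ≤ normalizer (C : Set G) := by
      refine le_trans ?_ (centralizer_le_normalizer _)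
      exact ((ea_iff.1 h.hB).1).trans (centralizer_le (SetLike.coe_subset_coe.2 h1))
    have hSC : cj g (S : Subgroup G) ≤ normalizer (C : Set G) := by
      rw [hC, ← cj_normalizer]
      exact cj_mono h.le_normalizer
    have hidx := sylow_cj_not_dvd_relIndex S g hSC
    obtain ⟨k, hk, hkB⟩ := exists_conj_le_of_not_dvd_relIndex (normalizer (C : Set G))
      (cj g (S : Subgroup G)) B (isPGroup_cj hS2) hidx hB2 hBC
    -- `cj k B ≤ cj g S`
    have h2 : cj k B ≤ cj g (S : Subgroup G) := by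
      rintro _ ⟨x, hx, rfl⟩
      exact hkB x hx
    have h3 : B ≤ cj (k⁻¹ * g) (S : Subgroup G) := by
      rw [← cj_cj]
      exact cj_le_iff.1 h2
    set g' := k⁻¹ * g with hg'
    have h4 : cj g' A = C := by
      rw [hg', ← cj_cj, ← hC]
      exact mem_normalizer_iff_cj.1 (inv_mem hk)
    have h5 : cj g'⁻¹ B ≤ S := by
      have := cj_mono (g := g'⁻¹) h3
      rwa [cj_inv_cj] at this
    rcases h.honly _ h5 (ea_map _ h.hB) with h6 | h6
    · -- `B ≤ cj g' A = C ≤ B`
      have h7 : B ≤ C := by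
        rw [← h4]
        have := cj_mono (g := g') h6
        rwa [cj_cj_inv] at this
      exact swap g (le_antisymm h1 h7)
    · have h7 : cj g'⁻¹ B = B := cj_eq_of_le h6
      have h8 : cj g' B = B := by
        have := congrArg (cj g') h7
        rw [cj_cj_inv] at this
        exact this.symm
      apply h.hAB
      rw [← cj_le_cj_iff g', h4, h8]
      exact h1

end TwoMaxEA

end Cfsg.Agent.Lib.Helper17
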