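import Mathlib
import Cfsg.Prelude.Def_RootSubgroups

set_option autoImplicit false

namespace Cfsg.Agent.Lib.Helper17.UnipBS

open Cfsg

variable {k : Type*} [Field k] {M : Type*} [AddCommGroup M] [Module k M]

local notation "Γ" => LinearMap.GeneralLinearGroup k M

/-- `g - 1` as an endomorphism -/
def aug (g : Γ) : M →ₗ[k] M := (g : M →ₗ[k] M) - 1

theorem aug_apply (g : Γ) (v : M) : aug g v = (g : M →ₗ[k] M) v - v := rfl

theorem aug_one : aug (1 : Γ) = 0 := by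
  ext v; simp [aug]

theorem aug_mul (g h : Γ) : aug (g * h) = aug g * aug h + aug g + aug h := by
  ext v
  simp only [aug, LinearMap.add_apply, Module.End.mul_apply, LinearMap.sub_apply,
    Module.End.one_apply, Units.val_mul, map_sub]
  abel

theorem isUnipotentOn_def' (H : Subgroup Γ) : IsUnipotentOn H ↔ ∃ n : ℕ, ∀ l : List Γ,
    (∀ g ∈ l, g ∈ H) → l.length = n → (l.map aug).prod = 0 := by
  unfold IsUnipotentOn
  have e : ∀ l : List Γ,
      (List.map (fun g : M →ₗ[k] M => g - 1) (do let a ← l; pure (a : M →ₗ[k] M))) =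
      (l.map aug) := by
    intro l
    induction l with
    | nil => rfl
    | cons a l ih =>
      simp only [List.bind_eq_flatMap, List.flatMap_cons, List.map_append, List.map_cons] at ih ⊢
      rw [ih]
      rfl
  simp only [e]

/-- the commutator subspace `[W, H]` -/
def commSub (H : Subgroup Γ) (W : Submodule k M) : Submodule k M :=
  ⨆ g ∈ H, W.map (aug g)

theorem commSub_mono {H H' : Subgroup Γ} {W W' : Submodule k M} (hH : H ≤ H') (hW : W ≤ W') :
    commSub H W ≤ commSub H' W' := by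
  unfold commSub
  apply iSup₂_le
  intro g hg
  exact le_trans (Submodule.map_mono hW) (le_iSup₂_of_le g (hH hg) le_rfl)

theorem map_aug_le_commSub {H : Subgroup Γ} {g : Γ} (hg : g ∈ H) (W : Submodule k M) :
    W.map (aug g) ≤ commSub H W := le_iSup₂_of_le g hg le_rfl

theorem aug_mem_commSub {H : Subgroup Γ} {g : Γ} (hg : g ∈ H) {W : Submodule k M} {w : M}
    (hw : w ∈ W) : aug g w ∈ commSub H W :=
  map_aug_le_commSub hg W (Submodule.mem_map_of_mem hw)

theorem commSub_le_iff {H : Subgroup Γ} {W Z : Submodule k M} :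
    commSub H W ≤ Z ↔ ∀ g ∈ H, ∀ w ∈ W, aug g w ∈ Z := by
  unfold commSub
  rw [iSup₂_le_iff]
  constructor
  · intro h g hg w hw
    exact h g hg (Submodule.mem_map_of_mem hw)
  · intro h g hg
    rw [Submodule.map_le_iff_le_comap]
    intro w hw
    exact h g hg w hw

theorem commSub_sup (H : Subgroup Γ) (W W' : Submodule k M) :
    commSub H (W ⊔ W') = commSub H W ⊔ commSub H W' := by
  apply le_antisymm
  · rw [commSub_le_iff]
    intro g hg w hw
    obtain ⟨a, ha, b, hb, rfl⟩ := Submodule.mem_sup.1 hw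
    rw [map_add]
    exact Submodule.add_mem_sup (aug_mem_commSub hg ha) (aug_mem_commSub hg hb)
  · exact sup_le (commSub_mono le_rfl le_sup_left) (commSub_mono le_rfl le_sup_right)

/-- the lower flag `M ≥ [M,H] ≥ [M,H,H] ≥ ...` -/
def lowerFlag (H : Subgroup Γ) (n : ℕ) : Submodule k M := (commSub H)^[n] ⊤

theorem lowerFlag_zero (H : Subgroup Γ) : lowerFlag H 0 = ⊤ := rfl

theorem lowerFlag_succ (H : Subgroup Γ) (n : ℕ) :
    lowerFlag H (n + 1) = commSub H (lowerFlag H n) := by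
  unfold lowerFlag
  rw [Function.iterate_succ_apply']

theorem iterate_commSub_mono {H H' : Subgroup Γ} (hH : H ≤ H') {W W' : Submodule k M} (hW : W ≤ W')
    (n : ℕ) : (commSub H)^[n] W ≤ (commSub H')^[n] W' := by
  induction n with
  | zero => exact hW
  | succ n ih =>
    rw [Function.iterate_succ_apply', Function.iterate_succ_apply']
    exact commSub_mono hH ih

theorem range_prod_le (H : Subgroup Γ) (l : List Γ) (hl : ∀ g ∈ l, g ∈ H) :
    LinearMap.range ((l.map aug).prod) ≤ lowerFlag H l.length := by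
  induction l with
  | nil => simp [lowerFlag_zero]
  | cons g l ih =>
    rw [List.map_cons, List.prod_cons, List.length_cons, lowerFlag_succ]
    have h1 : LinearMap.range (aug g * (l.map aug).prod) =
        (LinearMap.range ((l.map aug).prod)).map (aug g) := by
      rw [Module.End.mul_eq_comp, LinearMap.range_comp]
    rw [h1]
    refine le_trans (Submodule.map_mono (ih fun x hx => hl x (List.mem_cons_of_mem _ hx))) ?_
    exact map_aug_le_commSub (hl g (List.mem_cons_self)) _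

theorem isUnipotentOn_of_lowerFlag {H : Subgroup Γ} {n : ℕ} (h : lowerFlag H n = ⊥) :
    IsUnipotentOn H := by
  rw [isUnipotentOn_def']
  refine ⟨n, fun l hl hlen => ?_⟩
  have := range_prod_le H l hl
  rw [hlen, h, le_bot_iff, LinearMap.range_eq_bot] at this
  exact this

theorem lowerFlag_of_isUnipotentOn {H : Subgroup Γ} (h : IsUnipotentOn H) :
    ∃ n, lowerFlag H n = ⊥ := by
  rw [isUnipotentOn_def'] at h
  obtain ⟨n, hn⟩ := h
  refine ⟨n, ?_⟩
  have key : ∀ j : ℕ, ∀ w ∈ lowerFlag H j, ∀ l : List Γ, (∀ g ∈ l, g ∈ H) → l.length + j = n →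
      (l.map aug).prod w = 0 := by
    intro j
    induction j with
    | zero =>
      intro w _ l hl hlen
      have := hn l hl (by simpa using hlen)
      rw [this]
      rfl
    | succ j ih =>
      intro w hw
      rw [lowerFlag_succ] at hw
      -- the set of good `w` is a submodule
      let K : Submodule k M := ⨅ (l : List Γ) (_ : ∀ g ∈ l, g ∈ H) (_ : l.length + (j + 1) = n),
        LinearMap.ker ((l.map aug).prod)
      have hK : commSub H (lowerFlag H j) ≤ K := by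
        rw [commSub_le_iff]
        intro g hg v hv
        simp only [K, Submodule.mem_iInf, LinearMap.mem_ker]
        intro l hl hlen
        have := ih v hv (l ++ [g]) (by
          intro x hx
          rcases List.mem_append.1 hx with h | h
          · exact hl x h
          · rw [List.mem_singleton] at h; rw [h]; exact hg) (by
          rw [List.length_append, List.length_singleton]; omega)
        rw [List.map_append, List.prod_append, List.map_singleton, List.prod_singleton,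
          Module.End.mul_apply] at this
        exact this
      have hwK := hK hw
      simp only [K, Submodule.mem_iInf, LinearMap.mem_ker] at hwK
      exact hwK
  rw [eq_bot_iff]
  intro w hw
  have := key n w hw [] (by simp) (by simp)
  simpa using this

theorem isUnipotentOn_iff {H : Subgroup Γ} : IsUnipotentOn H ↔ ∃ n, lowerFlag H n = ⊥ :=
  ⟨lowerFlag_of_isUnipotentOn, fun ⟨_, h⟩ => isUnipotentOn_of_lowerFlag h⟩

theorem isUnipotentOn_mono {H H' : Subgroup Γ} (hH : H ≤ H') (h : IsUnipotentOn H') :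
    IsUnipotentOn H := by
  rw [isUnipotentOn_def'] at h ⊢
  obtain ⟨n, hn⟩ := h
  exact ⟨n, fun l hl hlen => hn l (fun g hg => hH (hl g hg)) hlen⟩

/-! ### invariance and normal-by-unipotent -/

/-- `W` is invariant under `H` -/
def InvBy (W : Submodule k M) (H : Subgroup Γ) : Prop :=
  ∀ g ∈ H, ∀ w ∈ W, (g : M →ₗ[k] M) w ∈ W

theorem invBy_top (H : Subgroup Γ) : InvBy (⊤ : Submodule k M) H := fun _ _ _ _ => Submodule.mem_top

theorem InvBy.aug_mem {W : Submodule k M} {H : Subgroup Γ} (h : InvBy W H) {g : Γ} (hg : g ∈ H)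
    {w : M} (hw : w ∈ W) : aug g w ∈ W := by
  rw [aug_apply]
  exact W.sub_mem (h g hg w hw) hw

theorem InvBy.commSub_le {W : Submodule k M} {H : Subgroup Γ} (h : InvBy W H) :
    commSub H W ≤ W := by
  rw [commSub_le_iff]
  intro g hg w hw
  exact h.aug_mem hg hw

theorem InvBy.sup {W W' : Submodule k M} {H : Subgroup Γ} (h : InvBy W H) (h' : InvBy W' H) :
    InvBy (W ⊔ W') H := by
  intro g hg w hw
  obtain ⟨a, ha, b, hb, rfl⟩ := Submodule.mem_sup.1 hw
  rw [map_add]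
  exact Submodule.add_mem_sup (h g hg a ha) (h' g hg b hb)

theorem conj_aug (x h : Γ) (w : M) :
    (x : M →ₗ[k] M) (aug h w) = aug (x * h * x⁻¹) ((x : M →ₗ[k] M) w) := by
  simp only [aug_apply, map_sub, Units.val_mul, Module.End.mul_apply]
  congr 2
  have : ((x⁻¹ : Γ) : M →ₗ[k] M) ((x : M →ₗ[k] M) w) = w := by
    rw [← Module.End.mul_apply, ← Units.val_mul, inv_mul_cancel]
    rfl
  rw [this]

/-- if `K` normalizes `H` and `W` is `K`-invariant then `[W, H]` is `K`-invariant -/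
theorem InvBy.commSub_of_normalizes {W : Submodule k M} {H K : Subgroup Γ} (hW : InvBy W K)
    (hn : ∀ x ∈ K, ∀ h ∈ H, x * h * x⁻¹ ∈ H) : InvBy (commSub H W) K := by
  intro x hx v hv
  have : commSub H W ≤ (commSub H W).comap (x : M →ₗ[k] M) := by
    rw [commSub_le_iff]
    intro h hh w hw
    rw [Submodule.mem_comap, conj_aug]
    exact aug_mem_commSub (hn x hx h hh) (hW x hx w hw)
  exact this hv

theorem InvBy.commSub_self {W : Submodule k M} {H : Subgroup Γ} (hW : InvBy W H) :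
    InvBy (commSub H W) H :=
  hW.commSub_of_normalizes fun x hx h hh => H.mul_mem (H.mul_mem hx hh) (H.inv_mem hx)

theorem InvBy.iterate_commSub {W : Submodule k M} {H : Subgroup Γ} (hW : InvBy W H) (n : ℕ) :
    InvBy ((commSub H)^[n] W) H := by
  induction n with
  | zero => exact hW
  | succ n ih =>
    rw [Function.iterate_succ_apply']
    exact ih.commSub_self

/-- `[W, D ⊔ K] ≤ [W, D] + [W, K]` for `W` invariant under `D` and `K` -/
theorem commSub_sup_le {W : Submodule k M} {D K : Subgroup Γ} (hD : InvBy W D) (hK : InvBy W K) :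
    commSub (D ⊔ K) W ≤ commSub D W ⊔ commSub K W := by
  set Z := commSub D W ⊔ commSub K W with hZ
  have hZW : Z ≤ W := sup_le hD.commSub_le hK.commSub_le
  have key : ∀ h ∈ D ⊔ K, (∀ w ∈ W, (h : M →ₗ[k] M) w ∈ W) ∧
      (∀ w ∈ W, ((h⁻¹ : Γ) : M →ₗ[k] M) w ∈ W) ∧ (∀ w ∈ W, aug h w ∈ Z) ∧
      (∀ w ∈ W, aug h⁻¹ w ∈ Z) := by
    intro h hh
    have e : D ⊔ K = Subgroup.closure ((D : Set Γ) ∪ (K : Set Γ)) := by
      rw [Subgroup.closure_union, Subgroup.closure_eq, Subgroup.closure_eq]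
    rw [e] at hh
    induction hh using Subgroup.closure_induction with
    | mem x hx =>
      rcases hx with hx | hx
      · exact ⟨hD x hx, hD _ (D.inv_mem hx),
          fun w hw => le_sup_left (a := commSub D W) (aug_mem_commSub hx hw),
          fun w hw => le_sup_left (a := commSub D W) (aug_mem_commSub (D.inv_mem hx) hw)⟩
      · exact ⟨hK x hx, hK _ (K.inv_mem hx),
          fun w hw => le_sup_right (b := commSub K W) (aug_mem_commSub hx hw),
          fun w hw => le_sup_right (b := commSub K W) (aug_mem_commSub (K.inv_mem hx) hw)⟩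
    | one =>
      refine ⟨fun w hw => by simpa using hw, fun w hw => by simpa using hw, fun w _ => ?_,
        fun w _ => ?_⟩
      · rw [aug_one]; exact Z.zero_mem
      · rw [inv_one, aug_one]; exact Z.zero_mem
    | mul x y _ _ hx hy =>
      obtain ⟨x1, x2, x3, x4⟩ := hx
      obtain ⟨y1, y2, y3, y4⟩ := hy
      refine ⟨fun w hw => ?_, fun w hw => ?_, fun w hw => ?_, fun w hw => ?_⟩
      · rw [Units.val_mul, Module.End.mul_apply]
        exact x1 _ (y1 w hw)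
      · rw [mul_inv_rev, Units.val_mul, Module.End.mul_apply]
        exact y2 _ (x2 w hw)
      · rw [aug_mul, LinearMap.add_apply, LinearMap.add_apply, Module.End.mul_apply]
        exact Z.add_mem (Z.add_mem (x3 _ (hZW (y3 w hw))) (x3 w hw)) (y3 w hw)
      · rw [mul_inv_rev, aug_mul, LinearMap.add_apply, LinearMap.add_apply, Module.End.mul_apply]
        exact Z.add_mem (Z.add_mem (y4 _ (hZW (x4 w hw))) (y4 w hw)) (x4 w hw)
    | inv x _ hx =>
      obtain ⟨x1, x2, x3, x4⟩ := hx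
      refine ⟨x2, ?_, x4, ?_⟩
      · rw [inv_inv]; exact x1
      · rw [inv_inv]; exact x3
  rw [commSub_le_iff]
  intro g hg w hw
  exact (key g hg).2.2.1 w hw

theorem invBy_sup_group {W : Submodule k M} {D K : Subgroup Γ} (hD : InvBy W D) (hK : InvBy W K) :
    InvBy W (D ⊔ K) := by
  intro h hh
  have e : D ⊔ K = Subgroup.closure ((D : Set Γ) ∪ (K : Set Γ)) := by
    rw [Subgroup.closure_union, Subgroup.closure_eq, Subgroup.closure_eq]
  rw [e] at hh
  have key : (∀ w ∈ W, (h : M →ₗ[k] M) w ∈ W) ∧ (∀ w ∈ W, ((h⁻¹ : Γ) : M →ₗ[k] M) w ∈ W) := by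
    induction hh using Subgroup.closure_induction with
    | mem x hx =>
      rcases hx with hx | hx
      · exact ⟨hD x hx, hD _ (D.inv_mem hx)⟩
      · exact ⟨hK x hx, hK _ (K.inv_mem hx)⟩
    | one => exact ⟨fun w hw => by simpa using hw, fun w hw => by simpa using hw⟩
    | mul x y _ _ hx hy =>
      refine ⟨fun w hw => ?_, fun w hw => ?_⟩
      · rw [Units.val_mul, Module.End.mul_apply]
        exact hx.1 _ (hy.1 w hw)
      · rw [mul_inv_rev, Units.val_mul, Module.End.mul_apply]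
        exact hy.2 _ (hx.2 w hw)
    | inv x _ hx =>
      refine ⟨hx.2, ?_⟩
      rw [inv_inv]; exact hx.1
  exact key.1

theorem normalizes_step {D K : Subgroup Γ} (hn : ∀ x ∈ K, ∀ d ∈ D, x * d * x⁻¹ ∈ D) {s : ℕ}
    (hs : lowerFlag K s = ⊥) (W : Submodule k M) (hWD' : InvBy W D) (hWK' : InvBy W K) :
    (commSub (D ⊔ K))^[s] W ≤ commSub D W := by
  have hZK : InvBy (commSub D W) K := hWK'.commSub_of_normalizes hn
  have hT : ∀ j, (commSub (D ⊔ K))^[j] W ≤ commSub D W ⊔ (commSub K)^[j] W ∧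
      InvBy (commSub D W ⊔ (commSub K)^[j] W) D ∧
      InvBy (commSub D W ⊔ (commSub K)^[j] W) K ∧ (commSub K)^[j] W ≤ W := by
    intro j
    induction j with
    | zero =>
      simp only [Function.iterate_zero, id_eq]
      have e : commSub D W ⊔ W = W := sup_eq_right.2 hWD'.commSub_le
      rw [e]
      exact ⟨le_rfl, hWD', hWK', le_rfl⟩
    | succ j ih =>
      obtain ⟨h1, h2, h3, h4⟩ := ih
      have h4' : (commSub K)^[j + 1] W ≤ W := by
        rw [Function.iterate_succ_apply']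
        exact le_trans (commSub_mono le_rfl h4) hWK'.commSub_le
      have hTW : commSub D W ⊔ (commSub K)^[j + 1] W ≤ W := sup_le hWD'.commSub_le h4'
      refine ⟨?_, ?_, ?_, h4'⟩
      · rw [Function.iterate_succ_apply']
        refine le_trans (commSub_mono le_rfl h1) ?_
        refine le_trans (commSub_sup_le h2 h3) ?_
        rw [Function.iterate_succ_apply' (commSub K)]
        apply sup_le
        · exact le_trans (commSub_mono le_rfl (sup_le hWD'.commSub_le h4)) le_sup_left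
        · rw [commSub_sup]
          apply sup_le
          · exact le_trans hZK.commSub_le le_sup_left
          · exact le_sup_right
      · -- `D`-invariance: `d t = t + (d - 1) t`
        intro d hd t ht
        have : (d : M →ₗ[k] M) t = t + aug d t := by rw [aug_apply]; abel
        rw [this]
        exact Submodule.add_mem _ ht (le_sup_left (a := commSub D W) (aug_mem_commSub hd (hTW ht)))
      · exact hZK.sup ((hWK'.iterate_commSub (j + 1)))
  refine le_trans (hT s).1 ?_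
  have : (commSub K)^[s] W ≤ ⊥ := by
    rw [← hs]
    exact iterate_commSub_mono le_rfl le_top s
  rw [le_bot_iff.1 this, sup_bot_eq]

theorem invBy_lowerFlag_self (D : Subgroup Γ) (i : ℕ) : InvBy (lowerFlag D i) D :=
  (invBy_top D).iterate_commSub i

theorem invBy_lowerFlag_of_normalizes {D K : Subgroup Γ}
    (hn : ∀ x ∈ K, ∀ d ∈ D, x * d * x⁻¹ ∈ D) (i : ℕ) : InvBy (lowerFlag D i) K := by
  induction i with
  | zero => exact invBy_top K
  | succ i ih =>
    rw [lowerFlag_succ]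
    exact ih.commSub_of_normalizes hn

theorem normalizes_main {D K : Subgroup Γ} (hn : ∀ x ∈ K, ∀ d ∈ D, x * d * x⁻¹ ∈ D) {s : ℕ}
    (hs : lowerFlag K s = ⊥) (i : ℕ) : lowerFlag (D ⊔ K) (i * s) ≤ lowerFlag D i := by
  induction i with
  | zero => rw [Nat.zero_mul, lowerFlag_zero, lowerFlag_zero]
  | succ i ih =>
    have e : lowerFlag (D ⊔ K) ((i + 1) * s) = (commSub (D ⊔ K))^[s] (lowerFlag (D ⊔ K) (i * s)) := by
      unfold lowerFlag
      rw [← Function.iterate_add_apply, Nat.succ_mul, Nat.add_comm]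
    rw [e, lowerFlag_succ]
    refine le_trans (iterate_commSub_mono le_rfl ih s) ?_
    exact normalizes_step hn hs _ (invBy_lowerFlag_self D i) (invBy_lowerFlag_of_normalizes hn i)

/-- a unipotent group normalizing a unipotent group generates with it a unipotent group -/
theorem isUnipotentOn_sup_of_normalizes {D K : Subgroup Γ} (hD : IsUnipotentOn D)
    (hK : IsUnipotentOn K) (hn : ∀ x ∈ K, ∀ d ∈ D, x * d * x⁻¹ ∈ D) : IsUnipotentOn (D ⊔ K) := by
  obtain ⟨r, hr⟩ := lowerFlag_of_isUnipotentOn hD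
  obtain ⟨s, hs⟩ := lowerFlag_of_isUnipotentOn hK
  apply isUnipotentOn_of_lowerFlag (n := r * s)
  rw [eq_bot_iff, ← hr]
  exact normalizes_main hn hs r

/-! ### augmentation spans and nilpotent operators of a flag -/

local notation "R" => (M →ₗ[k] M)

/-- the span of the `g - 1`, `g ∈ U` -/
def Lsp (U : Subgroup Γ) : Submodule k R := Submodule.span k (aug '' (U : Set Γ))

theorem aug_mem_Lsp {U : Subgroup Γ} {g : Γ} (hg : g ∈ U) : aug g ∈ Lsp U :=
  Submodule.subset_span ⟨g, hg, rfl⟩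

theorem Lsp_le_iff {U : Subgroup Γ} {J : Submodule k R} : Lsp U ≤ J ↔ ∀ g ∈ U, aug g ∈ J := by
  unfold Lsp
  rw [Submodule.span_le]
  constructor
  · intro h g hg
    exact h ⟨g, hg, rfl⟩
  · rintro h _ ⟨g, hg, rfl⟩
    exact h g hg

theorem Lsp_mono {U U' : Subgroup Γ} (h : U ≤ U') : Lsp U ≤ Lsp U' :=
  Lsp_le_iff.2 fun _ hg => aug_mem_Lsp (h hg)

theorem Lsp_mul_mem {U : Subgroup Γ} {x y : R} (hx : x ∈ Lsp U) (hy : y ∈ Lsp U) :
    x * y ∈ Lsp U := by
  unfold Lsp at hx hy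
  induction hx using Submodule.span_induction with
  | mem x hx =>
    obtain ⟨g, hg, rfl⟩ := hx
    induction hy using Submodule.span_induction with
    | mem y hy =>
      obtain ⟨h, hh, rfl⟩ := hy
      have : aug g * aug h = aug (g * h) - aug g - aug h := by rw [aug_mul]; abel
      rw [this]
      exact Submodule.sub_mem _ (Submodule.sub_mem _ (aug_mem_Lsp (U.mul_mem hg hh))
        (aug_mem_Lsp hg)) (aug_mem_Lsp hh)
    | zero => rw [mul_zero]; exact Submodule.zero_mem _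
    | add y z _ _ hy hz => rw [mul_add]; exact Submodule.add_mem _ hy hz
    | smul c y _ hy => rw [mul_smul_comm]; exact Submodule.smul_mem _ c hy
  | zero => rw [zero_mul]; exact Submodule.zero_mem _
  | add x z _ _ hx hz => rw [add_mul]; exact Submodule.add_mem _ hx hz
  | smul c x _ hx => rw [smul_mul_assoc]; exact Submodule.smul_mem _ c hx

/-- operators shifting the flag `F` by `m` steps -/
def nilm (F : ℕ → Submodule k M) (m : ℕ) : Submodule k R where
  carrier := {x | ∀ i, ∀ v ∈ F i, x v ∈ F (i + m)}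
  zero_mem' := fun i v _ => by simp
  add_mem' := fun {x y} hx hy i v hv => by
    rw [LinearMap.add_apply]
    exact Submodule.add_mem _ (hx i v hv) (hy i v hv)
  smul_mem' := fun c x hx i v hv => by
    rw [LinearMap.smul_apply]
    exact Submodule.smul_mem _ c (hx i v hv)

theorem mem_nilm {F : ℕ → Submodule k M} {m : ℕ} {x : R} :
    x ∈ nilm F m ↔ ∀ i, ∀ v ∈ F i, x v ∈ F (i + m) := Iff.rfl

theorem nilm_mul {F : ℕ → Submodule k M} {a b : ℕ} {x y : R} (hx : x ∈ nilm F a)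
    (hy : y ∈ nilm F b) : x * y ∈ nilm F (b + a) := by
  intro i v hv
  rw [Module.End.mul_apply, ← add_assoc]
  exact hx _ _ (hy i v hv)

theorem nilm_anti {F : ℕ → Submodule k M} (hF : Antitone F) {a b : ℕ} (hab : a ≤ b) :
    nilm F b ≤ nilm F a := by
  intro x hx i v hv
  exact hF (Nat.add_le_add_left hab i) (hx i v hv)

theorem nilm_eq_bot {F : ℕ → Submodule k M} {N : ℕ} (h0 : F 0 = ⊤) (hN : F N = ⊥) :
    nilm F N = ⊥ := by
  rw [eq_bot_iff]
  intro x hx
  rw [Submodule.mem_bot]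
  ext v
  have := hx 0 v (by rw [h0]; exact Submodule.mem_top)
  rw [zero_add, hN, Submodule.mem_bot] at this
  rw [this]
  rfl

theorem lowerFlag_antitone (U : Subgroup Γ) : Antitone (lowerFlag U) := by
  apply antitone_nat_of_succ_le
  intro n
  rw [lowerFlag_succ]
  exact (invBy_lowerFlag_self U n).commSub_le

theorem Lsp_le_nilm (U : Subgroup Γ) : Lsp U ≤ nilm (lowerFlag U) 1 := by
  rw [Lsp_le_iff]
  intro g hg i v hv
  rw [lowerFlag_succ]
  exact aug_mem_commSub hg hv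

/-- a multiplicatively closed space of operators that is nilpotent along a flag -/
structure Good (J : Submodule k R) : Prop where
  mul_mem : ∀ x ∈ J, ∀ y ∈ J, x * y ∈ J
  flag : ∃ (F : ℕ → Submodule k M) (N : ℕ), F 0 = ⊤ ∧ F N = ⊥ ∧ J ≤ nilm F 1

theorem good_Lsp {U : Subgroup Γ} (hU : IsUnipotentOn U) : Good (Lsp U) := by
  obtain ⟨N, hN⟩ := lowerFlag_of_isUnipotentOn hU
  exact ⟨fun x hx y hy => Lsp_mul_mem hx hy, lowerFlag U, N, lowerFlag_zero U, hN, Lsp_le_nilm U⟩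

theorem pow_mem_nilm {F : ℕ → Submodule k M} {x : R} (hx : x ∈ nilm F 1) (n : ℕ) :
    x ^ n ∈ nilm F n := by
  induction n with
  | zero =>
    intro i v hv
    simpa using hv
  | succ n ih =>
    rw [pow_succ]
    have := nilm_mul ih hx
    rw [Nat.add_comm] at this
    exact this

theorem Good.pow_succ_mem {J : Submodule k R} (hJ : Good J) {x : R} (hx : x ∈ J) (n : ℕ) :
    x ^ (n + 1) ∈ J := by
  induction n with
  | zero => simpa using hx
  | succ n ih =>
    rw [pow_succ]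
    exact hJ.mul_mem _ ih _ hx

theorem Good.pow_eq_zero {J : Submodule k R} (hJ : Good J) {x : R} (hx : x ∈ J) :
    ∃ N, x ^ N = 0 := by
  obtain ⟨F, N, h0, hN, hle⟩ := hJ.flag
  refine ⟨N, ?_⟩
  have := pow_mem_nilm (hle hx) N
  rw [nilm_eq_bot h0 hN, Submodule.mem_bot] at this
  exact this

theorem Good.inv_mem {J : Submodule k R} (hJ : Good J) {g : Γ} (hg : aug g ∈ J) :
    aug g⁻¹ ∈ J := by
  set x := aug g with hx
  set y := aug g⁻¹ with hy
  have hxy : x * y + x + y = 0 := by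
    rw [hx, hy, ← aug_mul, mul_inv_cancel, aug_one]
  have hy' : y = -x + (-x) * y := by
    have h1 : y = -(x * y + x) := eq_neg_of_add_eq_zero_right hxy
    calc y = -(x * y + x) := h1
      _ = -x + (-x) * y := by rw [neg_add, neg_mul, add_comm]
  have key : ∀ n : ℕ, ∃ p ∈ J, y = p + (-x) ^ n * y := by
    intro n
    induction n with
    | zero => exact ⟨0, J.zero_mem, by simp⟩
    | succ n ih =>
      obtain ⟨p, hp, e⟩ := ih
      refine ⟨p + (-x) ^ (n + 1), J.add_mem hp ?_, ?_⟩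
      · rw [neg_pow]
        rcases neg_one_pow_eq_or R (n + 1) with h | h
        · rw [h, one_mul]; exact hJ.pow_succ_mem hg n
        · rw [h, neg_one_mul]; exact J.neg_mem (hJ.pow_succ_mem hg n)
      · have e2 : (-x) ^ n * y = (-x) ^ (n + 1) + (-x) ^ (n + 1) * y := by
          conv_lhs => rw [hy']
          rw [pow_succ]
          noncomm_ring
        rw [e2, ← add_assoc] at e
        exact e
  obtain ⟨N, hN⟩ := hJ.pow_eq_zero hg
  obtain ⟨p, hp, e⟩ := key N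
  have : (-x) ^ N = 0 := by rw [neg_pow, hN, mul_zero]
  rw [this, zero_mul, add_zero] at e
  rw [e]
  exact hp

theorem Good.closure_mem {J : Submodule k R} (hJ : Good J) {S : Set Γ}
    (hS : ∀ s ∈ S, aug s ∈ J) {g : Γ} (hg : g ∈ Subgroup.closure S) : aug g ∈ J := by
  induction hg using Subgroup.closure_induction with
  | mem x hx => exact hS x hx
  | one => rw [aug_one]; exact J.zero_mem
  | mul x y _ _ hx hy =>
    rw [aug_mul]
    exact J.add_mem (J.add_mem (hJ.mul_mem _ hx _ hy) hx) hy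
  | inv x _ hx => exact hJ.inv_mem hx

theorem Good.isUnipotentOn {J : Submodule k R} (hJ : Good J) {U : Subgroup Γ}
    (hU : ∀ g ∈ U, aug g ∈ J) : IsUnipotentOn U := by
  obtain ⟨F, N, h0, hN, hle⟩ := hJ.flag
  have : ∀ i, lowerFlag U i ≤ F i := by
    intro i
    induction i with
    | zero => rw [h0]; exact le_top
    | succ i ih =>
      rw [lowerFlag_succ, commSub_le_iff]
      intro g hg w hw
      exact hle (hU g hg) i w (ih hw)
  apply isUnipotentOn_of_lowerFlag (n := N)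
  rw [eq_bot_iff, ← hN]
  exact this N

/-! ### the family `𝒲` -/

/-- members of `W` whose augmentations lie in `J` -/
def Wsub (W : Set (Subgroup Γ)) (J : Submodule k R) : Set (Subgroup Γ) :=
  {A | A ∈ W ∧ ∀ a ∈ A, aug a ∈ J}

theorem Wsub_mono (W : Set (Subgroup Γ)) {J J' : Submodule k R} (h : J ≤ J') :
    Wsub W J ⊆ Wsub W J' := fun _ hA => ⟨hA.1, fun a ha => h (hA.2 a ha)⟩

theorem Wsub_subset (W : Set (Subgroup Γ)) (J : Submodule k R) : Wsub W J ⊆ W := fun _ hA => hA.1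

theorem mem_sSup_of_mem {X : Set (Subgroup Γ)} {A : Subgroup Γ} (hA : A ∈ X) {a : Γ} (ha : a ∈ A) :
    a ∈ sSup X := (le_sSup hA) ha

theorem Good.aug_mem_sSup {J : Submodule k R} (hJ : Good J) {X : Set (Subgroup Γ)}
    (hX : ∀ A ∈ X, ∀ a ∈ A, aug a ∈ J) {g : Γ} (hg : g ∈ sSup X) : aug g ∈ J := by
  have hle : sSup X ≤ Subgroup.closure (⋃ A ∈ X, (A : Set Γ)) := by
    apply sSup_le
    intro A hA a ha
    apply Subgroup.subset_closure
    simp only [Set.mem_iUnion, SetLike.mem_coe]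
    exact ⟨A, hA, ha⟩
  apply hJ.closure_mem (S := ⋃ A ∈ X, (A : Set Γ)) _ (hle hg)
  intro s hs
  simp only [Set.mem_iUnion, SetLike.mem_coe] at hs
  obtain ⟨A, hA, hsA⟩ := hs
  exact hX A hA s hsA

/-- the family `ℒ` of augmentation spans of unipotent subgroups generated by members of `W` -/
def InL (W : Set (Subgroup Γ)) (J : Submodule k R) : Prop :=
  ∃ X : Set (Subgroup Γ), X ⊆ W ∧ IsUnipotentOn (sSup X) ∧ J = Lsp (sSup X)

theorem InL.good {W : Set (Subgroup Γ)} {J : Submodule k R} (h : InL W J) : Good J := by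
  obtain ⟨X, _, hu, rfl⟩ := h
  exact good_Lsp hu

/-- `U_J` -/
def UJ (W : Set (Subgroup Γ)) (J : Submodule k R) : Subgroup Γ := sSup (Wsub W J)

theorem InL.Lsp_UJ {W : Set (Subgroup Γ)} {J : Submodule k R} (h : InL W J) : Lsp (UJ W J) = J := by
  have hg := h.good
  obtain ⟨X, hXW, hu, hJ⟩ := h
  apply le_antisymm
  · rw [Lsp_le_iff]
    intro g hg'
    exact hg.aug_mem_sSup (fun A hA a ha => hA.2 a ha) hg'
  · have hX : X ⊆ Wsub W J := by
      intro A hA
      refine ⟨hXW hA, fun a ha => ?_⟩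
      rw [hJ]
      exact aug_mem_Lsp (mem_sSup_of_mem hA ha)
    conv_lhs => rw [hJ]
    exact Lsp_mono (sSup_le_sSup hX)

theorem InL.isUnipotentOn_UJ {W : Set (Subgroup Γ)} {J : Submodule k R} (h : InL W J) :
    IsUnipotentOn (UJ W J) :=
  h.good.isUnipotentOn fun _ hg => h.good.aug_mem_sSup (fun _ hA a ha => hA.2 a ha) hg

theorem InL.of_subset {W : Set (Subgroup Γ)} {J : Submodule k R} (h : InL W J)
    {X : Set (Subgroup Γ)} (hX : X ⊆ Wsub W J) : InL W (Lsp (sSup X)) :=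
  ⟨X, hX.trans (Wsub_subset W J),
    isUnipotentOn_mono (sSup_le_sSup hX) h.isUnipotentOn_UJ, rfl⟩

theorem inL_of_mem {W : Set (Subgroup Γ)} (hWW : ∀ A ∈ W, ∀ B ∈ W, IsUnipotentOn (A ⊔ B))
    {A : Subgroup Γ} (hA : A ∈ W) : InL W (Lsp A) := by
  refine ⟨{A}, by simpa using hA, ?_, by rw [sSup_singleton]⟩
  rw [sSup_singleton]
  have := hWW A hA A hA
  rwa [sup_idem] at this

/-- maximal members of `ℒ` -/
def IsMaxL (W : Set (Subgroup Γ)) (J : Submodule k R) : Prop :=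
  InL W J ∧ ∀ J', InL W J' → J ≤ J' → J' = J

theorem exists_isMaxL [FiniteDimensional k M] {W : Set (Subgroup Γ)} {J : Submodule k R}
    (h : InL W J) : ∃ J', IsMaxL W J' ∧ J ≤ J' := by
  have key : ∀ e : ℕ, ∀ J : Submodule k R, InL W J →
      Module.finrank k R - Module.finrank k J = e → ∃ J', IsMaxL W J' ∧ J ≤ J' := by
    intro e
    induction e using Nat.strong_induction_on with
    | _ e ih =>
      intro J hJ he
      by_cases hmax : ∀ J', InL W J' → J ≤ J' → J' = J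
      · exact ⟨J, ⟨hJ, hmax⟩, le_rfl⟩
      · push Not at hmax
        obtain ⟨J', hJ', hle, hne⟩ := hmax
        have hlt : J < J' := lt_of_le_of_ne hle (Ne.symm hne)
        have h1 := Submodule.finrank_lt_finrank_of_lt hlt
        have h2 : Module.finrank k J' ≤ Module.finrank k R := Submodule.finrank_le J'
        obtain ⟨J'', hJ'', hle''⟩ := ih (Module.finrank k R - Module.finrank k J') (by omega) J' hJ' rfl
        exact ⟨J'', hJ'', hle.trans hle''⟩
  exact key _ J h rfl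

theorem IsMaxL.mem_Wsub_of_isUnipotentOn {W : Set (Subgroup Γ)} {J : Submodule k R}
    (hJ : IsMaxL W J) {A : Subgroup Γ} (hA : A ∈ W) (hu : IsUnipotentOn (UJ W J ⊔ A)) :
    A ∈ Wsub W J := by
  refine ⟨hA, fun a ha => ?_⟩
  have hin : InL W (Lsp (sSup (insert A (Wsub W J)))) :=
    ⟨insert A (Wsub W J), Set.insert_subset hA (Wsub_subset W J), by
      rw [sSup_insert, sup_comm]; exact hu, rfl⟩
  have hle : J ≤ Lsp (sSup (insert A (Wsub W J))) := by
    conv_lhs => rw [← hJ.1.Lsp_UJ]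
    exact Lsp_mono (sSup_le_sSup (Set.subset_insert _ _))
  have := hJ.2 _ hin hle
  rw [← this]
  exact aug_mem_Lsp (mem_sSup_of_mem (Set.mem_insert _ _) ha)

/-! ### normalizer growth -/

theorem aug_conj (a b : Γ) : aug (a * b * a⁻¹) =
    aug b + aug a * aug b + aug b * aug a⁻¹ + aug a * aug b * aug a⁻¹ := by
  have h0 : aug a * aug a⁻¹ + aug a + aug a⁻¹ = 0 := by
    rw [← aug_mul, mul_inv_cancel, aug_one]
  rw [aug_mul, aug_mul]
  have : (aug a * aug b + aug a + aug b) * aug a⁻¹ + (aug a * aug b + aug a + aug b) + aug a⁻¹ =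
      aug b + aug a * aug b + aug b * aug a⁻¹ + aug a * aug b * aug a⁻¹ +
        (aug a * aug a⁻¹ + aug a + aug a⁻¹) := by noncomm_ring
  rw [this, h0, add_zero]

/-- the chain `E_m = J_D + (J₁ ∩ 𝔫_m)` -/
def Em (F : ℕ → Submodule k M) (JD J1 : Submodule k R) (m : ℕ) : Submodule k R :=
  JD ⊔ (J1 ⊓ nilm F m)

theorem Em_mul_left {F : ℕ → Submodule k M} {JD J1 : Submodule k R} (hF : Antitone F)
    (hle : JD ≤ J1) (h1n : J1 ≤ nilm F 1) (hmD : ∀ x ∈ JD, ∀ y ∈ JD, x * y ∈ JD)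
    (hm1 : ∀ x ∈ J1, ∀ y ∈ J1, x * y ∈ J1)
    {m : ℕ} {x y : R} (hx : x ∈ Em F JD J1 m) (hy : y ∈ Em F JD J1 (m + 1)) :
    x * y ∈ Em F JD J1 (m + 1) := by
  obtain ⟨d, hd, t, ht, rfl⟩ := Submodule.mem_sup.1 hx
  obtain ⟨d', hd', t', ht', rfl⟩ := Submodule.mem_sup.1 hy
  have hr : ∀ z, z ∈ J1 → z ∈ nilm F (m + 1) → z ∈ Em F JD J1 (m + 1) :=
    fun z h1 h2 => le_sup_right (a := JD) ⟨h1, h2⟩
  rw [add_mul, mul_add, mul_add]
  refine Submodule.add_mem _ (Submodule.add_mem _ (le_sup_left (a := JD) (hmD d hd d' hd')) ?_)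
    (Submodule.add_mem _ ?_ ?_)
  · -- d * t'
    apply hr _ (hm1 _ (hle hd) _ ht'.1)
    have := nilm_mul (h1n (hle hd)) ht'.2
    exact nilm_anti hF (by omega) this
  · -- t * d'
    apply hr _ (hm1 _ ht.1 _ (hle hd'))
    have := nilm_mul ht.2 (h1n (hle hd'))
    exact nilm_anti hF (by omega) this
  · -- t * t'
    apply hr _ (hm1 _ ht.1 _ ht'.1)
    have := nilm_mul ht.2 ht'.2
    exact nilm_anti hF (by omega) this

theorem Em_mul_right {F : ℕ → Submodule k M} {JD J1 : Submodule k R} (hF : Antitone F)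
    (hle : JD ≤ J1) (h1n : J1 ≤ nilm F 1) (hmD : ∀ x ∈ JD, ∀ y ∈ JD, x * y ∈ JD)
    (hm1 : ∀ x ∈ J1, ∀ y ∈ J1, x * y ∈ J1)
    {m : ℕ} {x y : R} (hy : y ∈ Em F JD J1 (m + 1)) (hx : x ∈ Em F JD J1 m) :
    y * x ∈ Em F JD J1 (m + 1) := by
  obtain ⟨d, hd, t, ht, rfl⟩ := Submodule.mem_sup.1 hx
  obtain ⟨d', hd', t', ht', rfl⟩ := Submodule.mem_sup.1 hy
  have hr : ∀ z, z ∈ J1 → z ∈ nilm F (m + 1) → z ∈ Em F JD J1 (m + 1) :=
    fun z h1 h2 => le_sup_right (a := JD) ⟨h1, h2⟩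
  rw [add_mul, mul_add, mul_add]
  refine Submodule.add_mem _ (Submodule.add_mem _ (le_sup_left (a := JD) (hmD d' hd' d hd)) ?_)
    (Submodule.add_mem _ ?_ ?_)
  · -- d' * t
    apply hr _ (hm1 _ (hle hd') _ ht.1)
    have := nilm_mul (h1n (hle hd')) ht.2
    exact nilm_anti hF (by omega) this
  · -- t' * d
    apply hr _ (hm1 _ ht'.1 _ (hle hd))
    have := nilm_mul ht'.2 (h1n (hle hd))
    exact nilm_anti hF (by omega) this
  · -- t' * t
    apply hr _ (hm1 _ ht'.1 _ ht.1)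
    have := nilm_mul ht'.2 ht.2
    exact nilm_anti hF (by omega) this

theorem Em_conj {F : ℕ → Submodule k M} {JD J1 : Submodule k R} (hF : Antitone F)
    (hle : JD ≤ J1) (h1n : J1 ≤ nilm F 1) (hmD : ∀ x ∈ JD, ∀ y ∈ JD, x * y ∈ JD)
    (hm1 : ∀ x ∈ J1, ∀ y ∈ J1, x * y ∈ J1)
    {m : ℕ} {a b : Γ} (ha : aug a ∈ Em F JD J1 m) (ha' : aug a⁻¹ ∈ Em F JD J1 m)
    (hb : aug b ∈ Em F JD J1 (m + 1)) : aug (a * b * a⁻¹) ∈ Em F JD J1 (m + 1) := by
  rw [aug_conj]
  have h1 := Em_mul_left hF hle h1n hmD hm1 ha hb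
  have h2 := Em_mul_right hF hle h1n hmD hm1 hb ha'
  have h3 := Em_mul_right hF hle h1n hmD hm1 h1 ha'
  exact Submodule.add_mem _ (Submodule.add_mem _ (Submodule.add_mem _ hb h1) h2) h3

theorem exists_normalizing {G : Subgroup Γ} {W : Set (Subgroup Γ)} (hWG : ∀ A ∈ W, A ≤ G)
    (hWconj : ∀ A ∈ W, ∀ g ∈ G, conjBy A g ∈ W) {J1 JD : Submodule k R} (h1 : InL W J1)
    (hD : Good JD) (hle : JD ≤ J1) (hne : ¬ Wsub W J1 ⊆ Wsub W JD) :
    ∃ A ∈ Wsub W J1, A ∉ Wsub W JD ∧ ∀ a ∈ A, ∀ B ∈ Wsub W JD, conjBy B a ∈ Wsub W JD := by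
  classical
  set F := lowerFlag (UJ W J1) with hFdef
  have hF : Antitone F := lowerFlag_antitone _
  obtain ⟨N, hN⟩ := lowerFlag_of_isUnipotentOn h1.isUnipotentOn_UJ
  have h1n : J1 ≤ nilm F 1 := by
    conv_lhs => rw [← h1.Lsp_UJ]
    exact Lsp_le_nilm _
  have hm1 := h1.good.mul_mem
  have hmD := hD.mul_mem
  have hE1 : Em F JD J1 1 = J1 := by
    unfold Em
    rw [inf_eq_left.2 h1n, sup_eq_right.2 hle]
  have hElast : Em F JD J1 (N + 1) = JD := by
    unfold Em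
    have : nilm F (N + 1) = ⊥ := by
      apply nilm_eq_bot (lowerFlag_zero _)
      rw [eq_bot_iff, ← hN]
      exact hF (Nat.le_succ N)
    rw [this, inf_bot_eq, sup_bot_eq]
  have hex : ∃ m, 1 ≤ m ∧ Wsub W (Em F JD J1 m) ⊆ Wsub W JD :=
    ⟨N + 1, by omega, by rw [hElast]⟩
  obtain ⟨m₀, hspec, hmin⟩ : ∃ m₀, (1 ≤ m₀ ∧ Wsub W (Em F JD J1 m₀) ⊆ Wsub W JD) ∧
      ∀ m < m₀, ¬ (1 ≤ m ∧ Wsub W (Em F JD J1 m) ⊆ Wsub W JD) :=
    ⟨Nat.find hex, Nat.find_spec hex, fun m h => Nat.find_min hex h⟩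
  have hm₀1 : m₀ ≠ 1 := by
    intro h
    rw [h, hE1] at hspec
    exact hne hspec.2
  have hm₀2 : 2 ≤ m₀ := by omega
  obtain ⟨m, rfl⟩ : ∃ m, m₀ = m + 1 := ⟨m₀ - 1, by omega⟩
  have hm1' : 1 ≤ m := by omega
  have hnP : ¬ Wsub W (Em F JD J1 m) ⊆ Wsub W JD := by
    intro h
    exact hmin m (by omega) ⟨hm1', h⟩
  obtain ⟨A, hA, hAD⟩ := Set.not_subset.1 hnP
  have hEle : Em F JD J1 m ≤ J1 := sup_le hle inf_le_left
  refine ⟨A, Wsub_mono W hEle hA, hAD, ?_⟩
  intro a ha B hB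
  apply hspec.2
  refine ⟨hWconj B hB.1 a (hWG A hA.1 ha), ?_⟩
  rintro c ⟨b, hb, rfl⟩
  show aug (a * b * a⁻¹) ∈ _
  apply Em_conj hF hle h1n hmD hm1 (hA.2 a ha) (hA.2 _ (A.inv_mem ha))
  exact le_sup_left (a := JD) (hB.2 b hb)

/-! ### the key step -/

/-- the measure of a pair of maximal members -/
noncomputable def mu (W : Set (Subgroup Γ)) (Ja Jb : Submodule k R) : ℕ :=
  Module.finrank k (Lsp (sSup (Wsub W (Ja ⊓ Jb))))

theorem mu_lt [FiniteDimensional k M] {W : Set (Subgroup Γ)} {Ja Jb : Submodule k R}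
    {𝒟 : Set (Subgroup Γ)} (h𝒟 : 𝒟 ⊆ Wsub W (Ja ⊓ Jb)) {A : Subgroup Γ}
    (hA : A ∈ Wsub W (Ja ⊓ Jb)) (hAn : A ∉ Wsub W (Lsp (sSup 𝒟))) :
    Module.finrank k (Lsp (sSup 𝒟)) < mu W Ja Jb := by
  unfold mu
  apply Submodule.finrank_lt_finrank_of_lt
  refine lt_of_le_of_ne (Lsp_mono (sSup_le_sSup h𝒟)) ?_
  intro heq
  apply hAn
  refine ⟨hA.1, fun a ha => ?_⟩
  rw [heq]
  exact aug_mem_Lsp (mem_sSup_of_mem hA ha)

theorem conj_mem_sSup {𝒟 : Set (Subgroup Γ)} {A : Subgroup Γ}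
    (h : ∀ a ∈ A, ∀ B ∈ 𝒟, conjBy B a ∈ 𝒟) :
    ∀ a ∈ A, ∀ d ∈ sSup 𝒟, a * d * a⁻¹ ∈ sSup 𝒟 := by
  intro a ha d hd
  have hle : sSup 𝒟 ≤ (sSup 𝒟).comap (MulAut.conj a).toMonoidHom := by
    apply sSup_le
    intro B hB b hb
    rw [Subgroup.mem_comap]
    have : (MulAut.conj a).toMonoidHom b ∈ conjBy B a := Subgroup.mem_map_of_mem _ hb
    exact (le_sSup (h a ha B hB)) this
  have := hle hd
  rw [Subgroup.mem_comap] at this
  simpa [MulAut.conj_apply] using this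

theorem normalizes_sup {D A₁ A₂ : Subgroup Γ} (h1 : ∀ a ∈ A₁, ∀ d ∈ D, a * d * a⁻¹ ∈ D)
    (h2 : ∀ a ∈ A₂, ∀ d ∈ D, a * d * a⁻¹ ∈ D) :
    ∀ x ∈ A₁ ⊔ A₂, ∀ d ∈ D, x * d * x⁻¹ ∈ D := by
  have key : ∀ A : Subgroup Γ, (∀ a ∈ A, ∀ d ∈ D, a * d * a⁻¹ ∈ D) →
      A ≤ Subgroup.normalizer (D : Set Γ) := by
    intro A h a ha
    rw [Subgroup.mem_normalizer_iff]
    intro d
    constructor
    · exact h a ha d
    · intro hd
      have := h a⁻¹ (A.inv_mem ha) _ hd
      simpa [mul_assoc] using this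
  intro x hx d hd
  have := (sup_le (key A₁ h1) (key A₂ h2)) hx
  rw [Subgroup.mem_normalizer_iff] at this
  exact (this d).1 hd

theorem key_step [FiniteDimensional k M] {G : Subgroup Γ} {W : Set (Subgroup Γ)}
    (hWG : ∀ A ∈ W, A ≤ G) (hWW : ∀ A ∈ W, ∀ B ∈ W, IsUnipotentOn (A ⊔ B))
    (hWconj : ∀ A ∈ W, ∀ g ∈ G, conjBy A g ∈ W) {J₁ J₂ : Submodule k R}
    (h1 : IsMaxL W J₁) (h2 : IsMaxL W J₂) (hne : J₁ ≠ J₂) :
    ∃ J₃ J₄, IsMaxL W J₃ ∧ IsMaxL W J₄ ∧ J₃ ≠ J₄ ∧ mu W J₁ J₂ < mu W J₃ J₄ := by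
  have hmu : mu W J₁ J₂ = Module.finrank k (Lsp (sSup (Wsub W (J₁ ⊓ J₂)))) := rfl
  rw [hmu]
  generalize h𝒟 : Wsub W (J₁ ⊓ J₂) = 𝒟
  have h𝒟1 : 𝒟 ⊆ Wsub W J₁ := by rw [← h𝒟]; exact Wsub_mono W inf_le_left
  have h𝒟2 : 𝒟 ⊆ Wsub W J₂ := by rw [← h𝒟]; exact Wsub_mono W inf_le_right
  have hJD : InL W (Lsp (sSup 𝒟)) := h1.1.of_subset h𝒟1
  have hDu : IsUnipotentOn (sSup 𝒟) :=
    isUnipotentOn_mono (sSup_le_sSup h𝒟1) h1.1.isUnipotentOn_UJ
  have hle1 : Lsp (sSup 𝒟) ≤ J₁ := by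
    rw [Lsp_le_iff]
    intro g hg
    exact h1.1.good.aug_mem_sSup (fun A hA a ha => (h𝒟1 hA).2 a ha) hg
  have hle2 : Lsp (sSup 𝒟) ≤ J₂ := by
    rw [Lsp_le_iff]
    intro g hg
    exact h2.1.good.aug_mem_sSup (fun A hA a ha => (h𝒟2 hA).2 a ha) hg
  have hWD : Wsub W (Lsp (sSup 𝒟)) = 𝒟 := by
    apply Set.Subset.antisymm
    · intro A hA
      have := Wsub_mono W (le_inf hle1 hle2) hA
      rwa [h𝒟] at this
    · intro A hA
      exact ⟨(h𝒟1 hA).1, fun a ha => aug_mem_Lsp (mem_sSup_of_mem hA ha)⟩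
  have hn1 : ¬ Wsub W J₁ ⊆ Wsub W (Lsp (sSup 𝒟)) := by
    rw [hWD]
    intro hsub
    have hle : J₁ ≤ J₂ := by
      conv_lhs => rw [← h1.1.Lsp_UJ]
      conv_rhs => rw [← h2.1.Lsp_UJ]
      exact Lsp_mono (sSup_le_sSup (hsub.trans h𝒟2))
    exact hne (h1.2 J₂ h2.1 hle).symm
  have hn2 : ¬ Wsub W J₂ ⊆ Wsub W (Lsp (sSup 𝒟)) := by
    rw [hWD]
    intro hsub
    have hle : J₂ ≤ J₁ := by
      conv_lhs => rw [← h2.1.Lsp_UJ]
      conv_rhs => rw [← h1.1.Lsp_UJ]
      exact Lsp_mono (sSup_le_sSup (hsub.trans h𝒟1))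
    exact hne (h2.2 J₁ h1.1 hle)
  obtain ⟨A₁, hA₁, hA₁n, hA₁c⟩ := exists_normalizing hWG hWconj h1.1 hJD.good hle1 hn1
  obtain ⟨A₂, hA₂, hA₂n, hA₂c⟩ := exists_normalizing hWG hWconj h2.1 hJD.good hle2 hn2
  rw [hWD] at hA₁c hA₂c
  have hKu : IsUnipotentOn (A₁ ⊔ A₂) := hWW A₁ hA₁.1 A₂ hA₂.1
  have hnorm := normalizes_sup (conj_mem_sSup hA₁c) (conj_mem_sSup hA₂c)
  have hHu : IsUnipotentOn (sSup 𝒟 ⊔ (A₁ ⊔ A₂)) :=
    isUnipotentOn_sup_of_normalizes hDu hKu hnorm
  have hXs : sSup (𝒟 ∪ {A₁, A₂}) = sSup 𝒟 ⊔ (A₁ ⊔ A₂) := by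
    rw [sSup_union, sSup_pair]
  have hXW : 𝒟 ∪ {A₁, A₂} ⊆ W := by
    intro A hA
    rcases hA with hA | hA
    · exact (h𝒟1 hA).1
    · rcases hA with rfl | rfl
      · exact hA₁.1
      · exact hA₂.1
  have hHL : InL W (Lsp (sSup (𝒟 ∪ {A₁, A₂}))) :=
    ⟨𝒟 ∪ {A₁, A₂}, hXW, by rw [hXs]; exact hHu, rfl⟩
  obtain ⟨J₃, h3, hle3⟩ := exists_isMaxL hHL
  have hD3 : ∀ B ∈ 𝒟, ∀ b ∈ B, aug b ∈ J₃ := fun B hB b hb =>
    hle3 (aug_mem_Lsp (mem_sSup_of_mem (Or.inl hB) hb))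
  have hA₁3 : ∀ a ∈ A₁, aug a ∈ J₃ := fun a ha =>
    hle3 (aug_mem_Lsp (mem_sSup_of_mem (Or.inr (Or.inl rfl)) ha))
  have hA₂3 : ∀ a ∈ A₂, aug a ∈ J₃ := fun a ha =>
    hle3 (aug_mem_Lsp (mem_sSup_of_mem (Or.inr (Or.inr rfl)) ha))
  by_cases h32 : J₃ = J₂
  · have h31 : J₁ ≠ J₃ := by rw [h32]; exact hne
    refine ⟨J₁, J₃, h1, h3, h31, ?_⟩
    apply mu_lt (A := A₁)
    · intro B hB
      exact ⟨(h𝒟1 hB).1, fun b hb => ⟨(h𝒟1 hB).2 b hb, hD3 B hB b hb⟩⟩
    · exact ⟨hA₁.1, fun a ha => ⟨hA₁.2 a ha, hA₁3 a ha⟩⟩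
    · exact hA₁n
  · refine ⟨J₂, J₃, h2, h3, Ne.symm h32, ?_⟩
    apply mu_lt (A := A₂)
    · intro B hB
      exact ⟨(h𝒟2 hB).1, fun b hb => ⟨(h𝒟2 hB).2 b hb, hD3 B hB b hb⟩⟩
    · exact ⟨hA₂.1, fun a ha => ⟨hA₂.2 a ha, hA₂3 a ha⟩⟩
    · exact hA₂n

theorem no_two_max [FiniteDimensional k M] {G : Subgroup Γ} {W : Set (Subgroup Γ)}
    (hWG : ∀ A ∈ W, A ≤ G) (hWW : ∀ A ∈ W, ∀ B ∈ W, IsUnipotentOn (A ⊔ B))
    (hWconj : ∀ A ∈ W, ∀ g ∈ G, conjBy A g ∈ W) :
    ∀ J₁ J₂ : Submodule k R, IsMaxL W J₁ → IsMaxL W J₂ → J₁ = J₂ := by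
  have key : ∀ e : ℕ, ∀ J₁ J₂ : Submodule k R, IsMaxL W J₁ → IsMaxL W J₂ →
      Module.finrank k R - mu W J₁ J₂ = e → J₁ = J₂ := by
    intro e
    induction e using Nat.strong_induction_on with
    | _ e ih =>
      intro J₁ J₂ h1 h2 he
      by_contra hne
      obtain ⟨J₃, J₄, h3, h4, hne', hlt⟩ := key_step hWG hWW hWconj h1 h2 hne
      have hb : mu W J₃ J₄ ≤ Module.finrank k R := Submodule.finrank_le _
      exact hne' (ih (Module.finrank k R - mu W J₃ J₄) (by omega) J₃ J₄ h3 h4 rfl)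
  intro J₁ J₂ h1 h2
  exact key _ J₁ J₂ h1 h2 rfl

theorem isUnipotentOn_bot : IsUnipotentOn (⊥ : Subgroup Γ) := by
  rw [isUnipotentOn_def']
  refine ⟨1, fun l hl hlen => ?_⟩
  obtain ⟨g, rfl⟩ := List.length_eq_one_iff.1 hlen
  have : g = 1 := by
    have := hl g (by simp)
    rwa [Subgroup.mem_bot] at this
  subst this
  simp [aug_one]

theorem main [FiniteDimensional k M] {G : Subgroup Γ} {W : Set (Subgroup Γ)}
    (hWG : ∀ A ∈ W, A ≤ G) (hWW : ∀ A ∈ W, ∀ B ∈ W, IsUnipotentOn (A ⊔ B))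
    (hWconj : ∀ A ∈ W, ∀ g ∈ G, conjBy A g ∈ W) :
    IsUnipotentOn (⨆ A ∈ W, A) ∧ ∀ g ∈ G, conjBy (⨆ A ∈ W, A) g = ⨆ A ∈ W, A := by
  constructor
  · rcases W.eq_empty_or_nonempty with hW | ⟨A₀, hA₀⟩
    · apply isUnipotentOn_mono _ isUnipotentOn_bot
      apply iSup₂_le
      intro A hA
      rw [hW] at hA
      exact absurd hA (Set.notMem_empty A)
    · obtain ⟨J, hJ, hle⟩ := exists_isMaxL (inL_of_mem hWW hA₀)
      apply isUnipotentOn_mono _ hJ.1.isUnipotentOn_UJ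
      apply iSup₂_le
      intro A hA
      obtain ⟨J', hJ', hle'⟩ := exists_isMaxL (inL_of_mem hWW hA)
      have := no_two_max hWG hWW hWconj J' J hJ' hJ
      subst this
      apply le_sSup
      exact ⟨hA, fun a ha => hle' (aug_mem_Lsp ha)⟩
  · intro g hg
    apply le_antisymm
    · show Subgroup.map _ _ ≤ _
      rw [Subgroup.map_le_iff_le_comap]
      apply iSup₂_le
      intro A hA
      rw [← Subgroup.map_le_iff_le_comap]
      exact le_iSup₂_of_le (conjBy A g) (hWconj A hA g hg) le_rfl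
    · apply iSup₂_le
      intro A hA a ha
      show a ∈ Subgroup.map _ _
      rw [Subgroup.mem_map]
      refine ⟨g⁻¹ * a * g, ?_, ?_⟩
      · have hmem : g⁻¹ * a * g ∈ conjBy A g⁻¹ := ⟨a, ha, by simp [MulAut.conj_apply]⟩
        have hle : conjBy A g⁻¹ ≤ ⨆ B ∈ W, B :=
          le_iSup₂_of_le (conjBy A g⁻¹) (hWconj A hA g⁻¹ (G.inv_mem hg)) le_rfl
        exact hle hmem
      · simp [MulAut.conj_apply, mul_assoc]

end Cfsg.Agent.Lib.Helper17.UnipBS
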