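import Mathlib
import Cfsg.Prelude.Def_Transfer
import Cfsg.Agent.S3276
import Cfsg.Agent.S1229

/-! Groups with an involution whose centralizer is a four-group (helper17). -/

set_option autoImplicit false
set_option maxHeartbeats 400000

namespace Cfsg.Agent.Lib.Helper17.V4C

open Subgroup

variable {G : Type*} [Group G]

theorem four_elems [Finite G] (C : Subgroup G) (hC4 : Nat.card C = 4) {x x' : G} (hx : x ∈ C)
    (hx' : x' ∈ C) (hx1 : x ≠ 1) (hx'1 : x' ≠ 1) (hxx' : x' ≠ x) (hx2 : x * x = 1) :
    ∀ u ∈ C, u = 1 ∨ u = x ∨ u = x' ∨ u = x * x' := by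
  classical
  have hxinv : x⁻¹ = x := inv_eq_of_mul_eq_one_left hx2
  have h1 : x * x' ≠ 1 := by
    intro h
    apply hxx'
    have : x' = x⁻¹ := eq_inv_of_mul_eq_one_right h
    rw [this, hxinv]
  have h2 : x * x' ≠ x := by
    intro h
    apply hx'1
    exact mul_left_cancel (a := x) (by rw [h, mul_one])
  have h3 : x * x' ≠ x' := by
    intro h
    apply hx1
    exact mul_right_cancel (b := x') (by rw [h, one_mul])
  set s : Finset G := {1, x, x', x * x'} with hs
  have hcard : s.card = 4 := by
    rw [hs, Finset.card_insert_of_notMem, Finset.card_insert_of_notMem,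
      Finset.card_insert_of_notMem, Finset.card_singleton]
    · simp only [Finset.mem_singleton]; exact fun h => h3 h.symm
    · simp only [Finset.mem_insert, Finset.mem_singleton, not_or]
      exact ⟨fun h => hxx' h.symm, fun h => h2 h.symm⟩
    · simp only [Finset.mem_insert, Finset.mem_singleton, not_or]
      exact ⟨fun h => hx1 h.symm, fun h => hx'1 h.symm, fun h => h1 h.symm⟩
  have hsub : (s : Set G) ⊆ (C : Set G) := by
    intro u hu
    rw [hs] at hu
    simp only [Finset.coe_insert, Finset.coe_singleton, Set.mem_insert_iff,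
      Set.mem_singleton_iff] at hu
    rcases hu with rfl | rfl | rfl | rfl
    · exact C.one_mem
    · exact hx
    · exact hx'
    · exact C.mul_mem hx hx'
  have heq : (s : Set G) = (C : Set G) := by
    apply Set.eq_of_subset_of_ncard_le hsub _ (Set.toFinite _)
    rw [Set.ncard_coe_finset, hcard]
    have : (C : Set G).ncard = Nat.card C := (Nat.card_coe_set_eq _).symm
    rw [this, hC4]
  intro u hu
  have : u ∈ (s : Set G) := heq ▸ hu
  rw [hs] at this
  simpa using this

theorem comm_of_exp_two (C : Subgroup G) (hCe : ∀ c ∈ C, c ^ 2 = 1) {a b : G} (ha : a ∈ C)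
    (hb : b ∈ C) : a * b = b * a := by
  have h1 := hCe a ha
  have h2 := hCe b hb
  have h3 := hCe (a * b) (C.mul_mem ha hb)
  rw [pow_two] at h1 h2 h3
  have ha' : a⁻¹ = a := inv_eq_of_mul_eq_one_left h1
  have hb' : b⁻¹ = b := inv_eq_of_mul_eq_one_left h2
  have h4 : (a * b)⁻¹ = a * b := inv_eq_of_mul_eq_one_left h3
  rw [mul_inv_rev, ha', hb'] at h4
  exact h4.symm

theorem card_centralizer_conj [Finite G] (x h : G) :
    Nat.card (centralizer ({h * x * h⁻¹} : Set G)) = Nat.card (centralizer ({x} : Set G)) := by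
  have : centralizer ({h * x * h⁻¹} : Set G) =
      (centralizer ({x} : Set G)).map (MulAut.conj h).toMonoidHom := by
    ext w
    rw [Subgroup.mem_map, Subgroup.mem_centralizer_singleton_iff]
    constructor
    · intro hw
      refine ⟨h⁻¹ * w * h, ?_, ?_⟩
      · rw [Subgroup.mem_centralizer_singleton_iff]
        have : h⁻¹ * w * h * x = h⁻¹ * (w * (h * x * h⁻¹)) * h := by group
        rw [this, hw]; group
      · simp only [MulEquiv.coe_toMonoidHom, MulAut.conj_apply]; group
    · rintro ⟨c, hc, rfl⟩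
      rw [Subgroup.mem_centralizer_singleton_iff] at hc
      simp only [MulEquiv.coe_toMonoidHom, MulAut.conj_apply]
      have : h * c * h⁻¹ * (h * x * h⁻¹) = h * (c * x) * h⁻¹ := by group
      rw [this, hc]; group
  rw [this]
  exact Nat.card_congr ((centralizer ({x} : Set G)).equivMapOfInjective _
    (MulAut.conj h).injective).toEquiv.symm

/-- Case B: the centralizer is not a Sylow 2-subgroup. -/
theorem caseB [Finite G] (x : G) (hx : orderOf x = 2)
    (hC4 : Nat.card ↥(Subgroup.centralizer ({x} : Set G)) = 4)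
    (hCe : ∀ c ∈ Subgroup.centralizer ({x} : Set G), c ^ 2 = 1)
    (hne : ∀ E : Subgroup G, E.Normal → Cfsg.IsElementaryAbelian 2 E →
      Nat.card ↥E ≠ 2 ∧ Nat.card ↥E ≠ 4)
    (T : Sylow 2 G) (hCT : Subgroup.centralizer ({x} : Set G) ≤ T)
    (hTC : (T : Subgroup G) ≠ Subgroup.centralizer ({x} : Set G)) : False := by
  classical
  have : Fact (Nat.Prime 2) := ⟨Nat.prime_two⟩
  set C := Subgroup.centralizer ({x} : Set G) with hC
  have hx1 : x ≠ 1 := by
    intro h; rw [h, orderOf_one] at hx; norm_num at hx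
  have hx2 : x * x = 1 := by rw [← pow_two, ← hx]; exact pow_orderOf_eq_one x
  have hxC : x ∈ C := by rw [hC, Subgroup.mem_centralizer_singleton_iff]
  have hmemC : ∀ w : G, w ∈ C ↔ w * x = x * w := fun w => Subgroup.mem_centralizer_singleton_iff
  -- normalizer condition inside T
  have hnil : Group.IsNilpotent ↥(T : Subgroup G) := T.2.isNilpotent
  have hlt : C.subgroupOf (T : Subgroup G) < ⊤ := by
    rw [lt_top_iff_ne_top]
    intro h
    rw [Subgroup.subgroupOf_eq_top] at h
    exact hTC (le_antisymm h hCT)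
  have hnc := Group.normalizerCondition_of_isNilpotent (G := ↥(T : Subgroup G)) _ hlt
  obtain ⟨t', ht'N, ht'C⟩ := SetLike.exists_of_lt hnc
  set t : G := (t' : G) with ht
  have htC : t ∉ C := fun h => ht'C (Subgroup.mem_subgroupOf.mpr h)
  have htN : ∀ c ∈ C, t * c * t⁻¹ ∈ C := by
    intro c hc
    have hcT : c ∈ (T : Subgroup G) := hCT hc
    have h1 := (Subgroup.mem_normalizer_iff.mp ht'N ⟨c, hcT⟩).mp (Subgroup.mem_subgroupOf.mpr hc)
    exact Subgroup.mem_subgroupOf.mp h1
  have htN' : ∀ c ∈ C, t⁻¹ * c * t ∈ C := by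
    intro c hc
    have hcT : c ∈ (T : Subgroup G) := hCT hc
    have h0 : t'⁻¹ ∈ Subgroup.normalizer ((C.subgroupOf (T : Subgroup G) : Subgroup _) : Set _) :=
      Subgroup.inv_mem _ ht'N
    have h1 := (Subgroup.mem_normalizer_iff.mp h0 ⟨c, hcT⟩).mp (Subgroup.mem_subgroupOf.mpr hc)
    have h2 := Subgroup.mem_subgroupOf.mp h1
    simpa using h2
  set x' : G := t * x * t⁻¹ with hx'
  have hx'C : x' ∈ C := htN x hxC
  have hx'x : x' ≠ x := by
    intro h
    apply htC
    rw [hmemC]
    have : t * x = (t * x * t⁻¹) * t := by group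
    rw [this, ← hx', h]
  have hx'1 : x' ≠ 1 := by
    intro h
    apply hx1
    have : x = t⁻¹ * x' * t := by rw [hx']; group
    rw [this, h]; group
  have hfour := four_elems C hC4 hxC hx'C hx1 hx'1 hx'x hx2
  set z : G := x * x' with hz
  have hzC : z ∈ C := C.mul_mem hxC hx'C
  have hxinv : x⁻¹ = x := inv_eq_of_mul_eq_one_left hx2
  have hz1 : z ≠ 1 := by
    intro h
    apply hx'x
    have : x' = x⁻¹ := eq_inv_of_mul_eq_one_right h
    rw [this, hxinv]
  have hz2 : z ^ 2 = 1 := hCe z hzC
  have hzord : orderOf z = 2 := orderOf_eq_prime hz2 hz1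
  have hcomm : ∀ a ∈ C, ∀ b ∈ C, a * b = b * a := fun a ha b hb => comm_of_exp_two C hCe ha hb
  -- not conjugate
  have hnconj : ¬ IsConj x z := by
    intro hc
    obtain ⟨g, hg⟩ := isConj_iff.mp hc
    -- centre of T
    have hTnt : Nontrivial ↥(T : Subgroup G) := by
      refine ⟨⟨⟨x, hCT hxC⟩, 1, ?_⟩⟩
      intro h
      exact hx1 (congrArg Subtype.val h)
    have hcen := IsPGroup.center_nontrivial T.2
    obtain ⟨⟨w, hwZ⟩, hw1⟩ := exists_ne (1 : ↥(Subgroup.center ↥(T : Subgroup G)))
    have hw1' : (w : G) ≠ 1 := by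
      intro h
      apply hw1
      apply Subtype.ext
      apply Subtype.ext
      exact h
    have hwC : (w : G) ∈ C := by
      rw [hmemC]
      have := Subgroup.mem_center_iff.mp hwZ ⟨x, hCT hxC⟩
      exact (congrArg Subtype.val this).symm
    -- w is conjugate to x
    have hwconj : ∃ h : G, h * x * h⁻¹ = (w : G) := by
      rcases hfour w hwC with h | h | h | h
      · exact absurd h hw1'
      · exact ⟨1, by rw [h]; group⟩
      · exact ⟨t, by rw [h]⟩
      · exact ⟨g, by rw [h]; exact hg⟩
    obtain ⟨h, hh⟩ := hwconj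
    have hcard := card_centralizer_conj x h
    rw [hh] at hcard
    have hTle : (T : Subgroup G) ≤ centralizer ({(w : G)} : Set G) := by
      intro s hs
      rw [Subgroup.mem_centralizer_singleton_iff]
      have := Subgroup.mem_center_iff.mp hwZ ⟨s, hs⟩
      exact congrArg Subtype.val this
    have h1 := Subgroup.card_le_of_le hTle
    have h2 := Subgroup.card_le_of_le hCT
    apply hTC
    symm
    apply Subgroup.eq_of_le_of_card_ge hCT
    rw [hC4, ← hC4, ← hcard]
    exact h1
  -- hypothesis of S3276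
  have hstar : ∀ u : G, orderOf u = 2 → Commute u x → ∀ g : G,
      Commute (g * z * g⁻¹) u → Commute (g * z * g⁻¹) z := by
    intro u hu hux g hgu
    have huC : u ∈ C := (hmemC u).mpr hux.eq
    have hu1 : u ≠ 1 := by
      intro h; rw [h, orderOf_one] at hu; norm_num at hu
    rcases hfour u huC with h | h | h | h
    · exact absurd h hu1
    · -- u = x
      have hw : g * z * g⁻¹ ∈ C := (hmemC _).mpr (h ▸ hgu.eq)
      exact hcomm _ hw _ hzC
    · -- u = x'
      have hw : t⁻¹ * (g * z * g⁻¹) * t ∈ C := by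
        rw [hmemC]
        have e1 : (g * z * g⁻¹) * x' = x' * (g * z * g⁻¹) := h ▸ hgu.eq
        have : t⁻¹ * (g * z * g⁻¹) * t * x = t⁻¹ * ((g * z * g⁻¹) * x') * t := by
          rw [hx']; group
        rw [this, e1, hx']; group
      have hw' := htN _ hw
      have : t * (t⁻¹ * (g * z * g⁻¹) * t) * t⁻¹ = g * z * g⁻¹ := by group
      rw [this] at hw'
      exact hcomm _ hw' _ hzC
    · exact h ▸ hgu
  obtain ⟨hE1, hE2, hE3⟩ := Cfsg.Agent.S3276.result x z hx hzord
    (show Commute x z from (hcomm x hxC z hzC)) hnconj hstar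
  set E := Subgroup.normalClosure ({z} : Set G) with hE
  have hEn : E.Normal := Subgroup.normalClosure_normal
  have hzE : z ∈ E := Subgroup.subset_normalClosure (Set.mem_singleton z)
  have hcardE1 : Nat.card E ≠ 1 := by
    intro h
    rw [Subgroup.card_eq_one] at h
    rw [h, Subgroup.mem_bot] at hzE
    exact hz1 hzE
  have h2dvd : 2 ∣ Nat.card E := by
    rw [← hzord]
    have := orderOf_dvd_natCard (⟨z, hzE⟩ : E)
    rwa [Subgroup.orderOf_mk] at this
  obtain ⟨hne2, hne4⟩ := hne E hEn hE2
  by_cases hxE : x ∈ E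
  · have hEC : E ≤ C := by
      intro e he
      rw [hmemC]
      have := hE2.1.is_comm.comm ⟨e, he⟩ ⟨x, hxE⟩
      exact congrArg Subtype.val this
    have hd := Subgroup.card_dvd_of_le hEC
    rw [hC4] at hd
    have hle : Nat.card E ≤ 4 := Nat.le_of_dvd (by norm_num) hd
    have hpos : 0 < Nat.card E := Nat.card_pos
    omega
  · have hcond : ∀ u ∈ E, orderOf u = 2 → Commute u x → u = z := by
      intro u huE hu hux
      have huC : u ∈ C := (hmemC u).mpr hux.eq
      have hu1 : u ≠ 1 := by
        intro h; rw [h, orderOf_one] at hu; norm_num at hu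
      rcases hfour u huC with h | h | h | h
      · exact absurd h hu1
      · exact absurd (h ▸ huE) hxE
      · exfalso
        apply hxE
        have : x = z * x'⁻¹ := by rw [hz]; group
        rw [this]
        exact E.mul_mem hzE (E.inv_mem (h ▸ huE))
      · exact h
    have hle := hE3 hcond
    have hpos : 0 < Nat.card E := Nat.card_pos
    omega

/-- Case A: the centralizer is a Sylow 2-subgroup. -/
theorem caseA [Finite G] (x : G) (hx : orderOf x = 2)
    (hC4 : Nat.card ↥(Subgroup.centralizer ({x} : Set G)) = 4)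
    (hCe : ∀ c ∈ Subgroup.centralizer ({x} : Set G), c ^ 2 = 1)
    (hnc : ¬ Cfsg.HasNormalPComplement 2 G)
    (hne : ∀ E : Subgroup G, E.Normal → Cfsg.IsElementaryAbelian 2 E →
      Nat.card ↥E ≠ 2 ∧ Nat.card ↥E ≠ 4)
    (T : Sylow 2 G) (hTC : (T : Subgroup G) = Subgroup.centralizer ({x} : Set G)) :
    Nonempty (G ≃* ↥(alternatingGroup (Fin 5))) := by
  classical
  have : Fact (Nat.Prime 2) := ⟨Nat.prime_two⟩
  set C := Subgroup.centralizer ({x} : Set G) with hC
  have hx1 : x ≠ 1 := by
    intro h; rw [h, orderOf_one] at hx; norm_num at hx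
  have hx2 : x * x = 1 := by rw [← pow_two, ← hx]; exact pow_orderOf_eq_one x
  have hxC : x ∈ C := by rw [hC, Subgroup.mem_centralizer_singleton_iff]
  have hmemC : ∀ w : G, w ∈ C ↔ w * x = x * w := fun w => Subgroup.mem_centralizer_singleton_iff
  have hcomm : ∀ a ∈ C, ∀ b ∈ C, a * b = b * a := fun a ha b hb => comm_of_exp_two C hCe ha hb
  have hmemT : ∀ w, w ∈ (T : Subgroup G) ↔ w ∈ C := fun w => by rw [hTC]
  have hcardT : Nat.card (T : Subgroup G) = 4 := by rw [hTC]; exact hC4
  have hncyc : ¬ IsCyclic (T : Subgroup G) := by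
    intro h
    obtain ⟨g, hg⟩ := h.exists_generator
    have hord : orderOf g = 4 := by rw [orderOf_eq_card_of_forall_mem_zpowers hg, hcardT]
    have hg2 : (g : G) ^ 2 = 1 := hCe g ((hmemT g).mp g.2)
    have h2 : g ^ 2 = 1 := Subtype.ext (by simpa using hg2)
    have := orderOf_dvd_of_pow_eq_one h2
    rw [hord] at this; norm_num at this
  have hTel : Cfsg.IsElementaryAbelian 2 (T : Subgroup G) := by
    refine ⟨⟨⟨fun a b => Subtype.ext (hcomm a ((hmemT a).mp a.2) b ((hmemT b).mp b.2))⟩⟩,
      fun a ha => hCe a ((hmemT a).mp ha)⟩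
  have hnn : ¬ (T : Subgroup G).Normal := fun h => (hne T h hTel).2 hcardT
  have hNC : ¬ (Subgroup.normalizer ((T : Subgroup G) : Set G) ≤
      Subgroup.centralizer ((T : Subgroup G) : Set G)) := by
    intro h
    apply hnc
    exact ⟨T, (MonoidHom.transferSylow T h).ker, inferInstance,
      MonoidHom.ker_transferSylow_isComplement' T h⟩
  obtain ⟨n, hnN, hnC⟩ := SetLike.not_le_iff_exists.mp hNC
  have hnT : n ∉ (T : Subgroup G) := by
    intro h
    apply hnC
    rw [Subgroup.mem_centralizer_iff]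
    intro s hs
    exact hcomm s ((hmemT s).mp hs) n ((hmemT n).mp h)
  have hnorm : ∀ s, s ∈ C → n * s * n⁻¹ ∈ C := by
    intro s hs
    have := (Subgroup.mem_normalizer_iff.mp hnN s).mp ((hmemT s).mpr hs)
    exact (hmemT _).mp this
  set a : G := n * x * n⁻¹ with ha
  have haC : a ∈ C := hnorm x hxC
  have hax : a ≠ x := by
    intro h
    apply hnT
    rw [hmemT, hmemC]
    have : n * x = (n * x * n⁻¹) * n := by group
    rw [this, ← ha, h]
  have ha1 : a ≠ 1 := by
    intro h
    apply hx1
    have : x = n⁻¹ * a * n := by rw [ha]; group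
    rw [this, h]; group
  have hCa : ∀ w : G, w * a = a * w → w ∈ C := by
    intro w hw
    have h1 : n⁻¹ * w * n ∈ C := by
      rw [hmemC]
      have : n⁻¹ * w * n * x = n⁻¹ * (w * a) * n := by rw [ha]; group
      rw [this, hw, ha]; group
    have h2 := hnorm _ h1
    have : n * (n⁻¹ * w * n) * n⁻¹ = w := by group
    rwa [this] at h2
  set b : G := n * a * n⁻¹ with hb
  have hbC : b ∈ C := hnorm a haC
  have hba : b ≠ a := by
    intro h
    apply hnT
    rw [hmemT]
    apply hCa
    have : n * a = (n * a * n⁻¹) * n := by group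
    rw [this, ← hb, h]
  have hb1 : b ≠ 1 := by
    intro h
    apply ha1
    have : a = n⁻¹ * b * n := by rw [hb]; group
    rw [this, h]; group
  have hfour := four_elems C hC4 hxC haC hx1 ha1 hax hx2
  have hbxa : b = x * a := by
    rcases hfour b hbC with h | h | h | h
    · exact absurd h hb1
    · exfalso
      -- n² centralizes x
      have hn2 : n * n ∈ C := by
        rw [hmemC]
        have e1 : n * x = a * n := by rw [ha]; group
        have e2 : n * a = x * n := by rw [← h, hb]; group
        calc n * n * x = n * (n * x) := by group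
          _ = n * (a * n) := by rw [e1]
          _ = (n * a) * n := by group
          _ = x * n * n := by rw [e2]
          _ = x * (n * n) := by group
      have hn4 : n ^ 4 = 1 := by
        have := hCe _ hn2
        calc n ^ 4 = (n * n) ^ 2 := by rw [← pow_two, ← pow_mul]
          _ = 1 := this
      have hP : IsPGroup 2 (Subgroup.zpowers n) := by
        rintro ⟨g, hg⟩
        obtain ⟨i, rfl⟩ := Subgroup.mem_zpowers_iff.mp hg
        refine ⟨2, Subtype.ext ?_⟩
        simp only [Subgroup.coe_pow, Subgroup.coe_one]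
        norm_num
        rw [← zpow_natCast, ← zpow_mul, mul_comm, zpow_mul, zpow_natCast]
        norm_num
        rw [hn4, one_zpow]
      have h3 := IsPGroup.inf_normalizer_sylow hP T
      have h4 : n ∈ Subgroup.zpowers n ⊓ (T : Subgroup G) := by
        rw [← h3]
        exact ⟨Subgroup.mem_zpowers n, hnN⟩
      exact hnT h4.2
    · exact absurd h hba
    · exact h
  -- every nonidentity element of C is conjugate to x
  have hconjC : ∀ u ∈ C, u ≠ 1 → ∃ h : G, h * x * h⁻¹ = u := by
    intro u hu hu1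
    rcases hfour u hu with h | h | h | h
    · exact absurd h hu1
    · exact ⟨1, by rw [h]; group⟩
    · exact ⟨n, by rw [h]⟩
    · refine ⟨n * n, ?_⟩
      rw [h, ← hbxa, hb, ha]; group
  -- every involution is conjugate to x
  have hinv : ∀ t : G, orderOf t = 2 → ∃ h : G, h * x * h⁻¹ = t := by
    intro t ht
    have ht1 : t ≠ 1 := by
      intro h; rw [h, orderOf_one] at ht; norm_num at ht
    have hP : IsPGroup 2 (Subgroup.zpowers t) := by
      apply IsPGroup.of_card (n := 1)
      rw [Nat.card_zpowers, ht, pow_one]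
    obtain ⟨Q, hQ⟩ := hP.exists_le_sylow
    obtain ⟨g, hg⟩ := MulAction.exists_smul_eq G Q T
    have htQ : t ∈ (Q : Subgroup G) := hQ (Subgroup.mem_zpowers t)
    have hgt : g * t * g⁻¹ ∈ (T : Subgroup G) := by
      rw [← hg, Sylow.coe_subgroup_smul]
      exact ⟨t, htQ, by simp [MulAut.smul_def]⟩
    have hu1 : g * t * g⁻¹ ≠ 1 := by
      intro h
      apply ht1
      have : t = g⁻¹ * (g * t * g⁻¹) * g := by group
      rw [this, h]; group
    obtain ⟨h, hh⟩ := hconjC _ ((hmemT _).mp hgt) hu1
    refine ⟨g⁻¹ * h, ?_⟩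
    have : g⁻¹ * h * x * (g⁻¹ * h)⁻¹ = g⁻¹ * (h * x * h⁻¹) * g := by group
    rw [this, hh]; group
  have hCall : ∀ t : G, orderOf t = 2 →
      IsMulCommutative (Subgroup.centralizer ({t} : Set G)) ∧
        ∀ c ∈ Subgroup.centralizer ({t} : Set G), c ^ 2 = 1 := by
    intro t ht
    obtain ⟨h, hh⟩ := hinv t ht
    have hexp : ∀ c ∈ Subgroup.centralizer ({t} : Set G), c ^ 2 = 1 := by
      intro c hc
      rw [Subgroup.mem_centralizer_singleton_iff] at hc
      have h1 : h⁻¹ * c * h ∈ C := by
        rw [hmemC]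
        have : h⁻¹ * c * h * x = h⁻¹ * (c * (h * x * h⁻¹)) * h := by group
        rw [this, hh, hc, ← hh]; group
      have h2 := hCe _ h1
      have : c ^ 2 = h * (h⁻¹ * c * h) ^ 2 * h⁻¹ := by simp only [pow_two]; group
      rw [this, h2]; group
    refine ⟨⟨⟨fun a b => Subtype.ext ?_⟩⟩, hexp⟩
    exact comm_of_exp_two _ hexp a.2 b.2
  obtain ⟨h3t, hsharp, hreg⟩ := Cfsg.Agent.S1229.result T hncyc hnn hCall
  set N := Subgroup.normalizer ((T : Subgroup G) : Set G) with hN
  have hTN : (T : Subgroup G) ≤ N := Subgroup.le_normalizer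
  have hNtop : N ≠ ⊤ := fun h => hnn (Subgroup.normalizer_eq_top_iff.mp h)
  obtain ⟨g₀, hg₀⟩ : ∃ g₀ : G, g₀ ∉ N := by
    by_contra hcon
    push Not at hcon
    exact hNtop (eq_top_iff.mpr fun g _ => hcon g)
  set p₀ : G ⧸ N := QuotientGroup.mk 1 with hp₀
  set x₀ : G ⧸ N := QuotientGroup.mk g₀ with hx₀
  have hx₀p : x₀ ≠ p₀ := by
    intro h
    apply hg₀
    have := QuotientGroup.eq.mp h.symm
    simpa using this
  have hTfix : ∀ t ∈ (T : Subgroup G), t • p₀ = p₀ := by
    intro t ht
    rw [hp₀]
    change (QuotientGroup.mk (t * 1) : G ⧸ N) = QuotientGroup.mk 1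
    rw [QuotientGroup.eq]
    simpa using N.inv_mem (hTN ht)
  -- card X = 5
  have hcardX : Nat.card (G ⧸ N) = 5 := by
    have e : ↥(T : Subgroup G) ≃ {y : G ⧸ N // y ≠ p₀} := by
      refine Equiv.ofBijective (fun t => ⟨(t : G) • x₀, ?_⟩) ⟨?_, ?_⟩
      · intro h
        apply hx₀p
        have h1 : ((t : G)⁻¹) • ((t : G) • x₀) = ((t : G)⁻¹) • p₀ := by rw [h]
        rw [inv_smul_smul] at h1
        rw [h1]
        exact hTfix _ ((T : Subgroup G).inv_mem t.2)
      · intro t t' htt'
        have h1 : (t : G) • x₀ = (t' : G) • x₀ := congrArg Subtype.val htt'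
        have hy : (t' : G) • x₀ ≠ p₀ := by
          intro h
          apply hx₀p
          have h2 : ((t' : G)⁻¹) • ((t' : G) • x₀) = ((t' : G)⁻¹) • p₀ := by rw [h]
          rw [inv_smul_smul] at h2
          rw [h2]
          exact hTfix _ ((T : Subgroup G).inv_mem t'.2)
        obtain ⟨s, -, hs⟩ := hreg x₀ ((t' : G) • x₀) hx₀p hy
        have e1 := hs t ⟨t.2, h1⟩
        have e2 := hs t' ⟨t'.2, rfl⟩
        exact Subtype.ext (e1.trans e2.symm)
      · rintro ⟨y, hy⟩
        obtain ⟨s, ⟨hsT, hs⟩, -⟩ := hreg x₀ y hx₀p hy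
        exact ⟨⟨s, hsT⟩, Subtype.ext hs⟩
    have h1 : Nat.card {y : G ⧸ N // y ≠ p₀} = 4 := by rw [← Nat.card_congr e, hcardT]
    have h2 := Nat.card_congr (Equiv.optionSubtypeNe p₀)
    rw [Finite.card_option, h1] at h2
    exact h2.symm
  haveI : Fintype (G ⧸ N) := Fintype.ofFinite _
  have hcardX' : Fintype.card (G ⧸ N) = 5 := by rw [← Nat.card_eq_fintype_card, hcardX]
  obtain ⟨y₀⟩ : Nonempty (Fin 3 ↪ G ⧸ N) :=
    Function.Embedding.nonempty_of_card_le (by rw [hcardX', Fintype.card_fin]; norm_num)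
  have hd01 : y₀ 0 ≠ y₀ 1 := fun h => by simpa using y₀.injective h
  have hd02 : y₀ 0 ≠ y₀ 2 := fun h => by simpa using y₀.injective h
  have hd12 : y₀ 1 ≠ y₀ 2 := fun h => by simpa using y₀.injective h
  have hfree : ∀ g : G, (∀ i, g • y₀ i = y₀ i) → g = 1 := fun g hg =>
    hsharp g (y₀ 0) (y₀ 1) (y₀ 2) hd01 hd02 hd12 (hg 0) (hg 1) (hg 2)
  have hcardG : Nat.card G = 60 := by
    have e : G ≃ (Fin 3 ↪ G ⧸ N) := by
      refine Equiv.ofBijective (fun g => g • y₀) ⟨?_, ?_⟩
      · intro g g' hgg'
        have h1 : ∀ i, (g'⁻¹ * g) • y₀ i = y₀ i := by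
          intro i
          have : (g • y₀) i = (g' • y₀) i := by rw [show g • y₀ = g' • y₀ from hgg']
          rw [Function.Embedding.smul_apply, Function.Embedding.smul_apply] at this
          rw [mul_smul, this, inv_smul_smul]
        have := hfree _ h1
        have : g = g' * (g'⁻¹ * g) := by group
        rw [this, hfree _ h1, mul_one]
      · intro y
        have e01 : y 0 ≠ y 1 := fun h => by simpa using y.injective h
        have e02 : y 0 ≠ y 2 := fun h => by simpa using y.injective h
        have e12 : y 1 ≠ y 2 := fun h => by simpa using y.injective h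
        obtain ⟨g, h0, h1, h2⟩ := h3t (y₀ 0) (y₀ 1) (y₀ 2) (y 0) (y 1) (y 2) hd01 hd02 hd12
          e01 e02 e12
        refine ⟨g, ?_⟩
        ext i
        rw [Function.Embedding.smul_apply]
        fin_cases i
        · exact h0
        · exact h1
        · exact h2
    rw [Nat.card_congr e, Nat.card_eq_fintype_card, Fintype.card_embedding_eq, hcardX',
      Fintype.card_fin]
    decide
  -- the permutation representation
  set φ : G →* Equiv.Perm (G ⧸ N) := MulAction.toPermHom G (G ⧸ N) with hφ
  have hφinj : Function.Injective φ := by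
    rw [injective_iff_map_eq_one]
    intro g hg
    apply hfree
    intro i
    have : φ g (y₀ i) = y₀ i := by rw [hg]; rfl
    exact this
  let e : (G ⧸ N) ≃ Fin 5 := Fintype.equivFinOfCardEq hcardX'
  set ψ : G →* Equiv.Perm (Fin 5) := (Equiv.permCongrHom e).toMonoidHom.comp φ with hψ
  have hψinj : Function.Injective ψ := by
    rw [hψ]
    exact (Equiv.permCongrHom e).injective.comp hφinj
  have hrange : Nat.card ψ.range = 60 := by
    rw [← hcardG]
    exact (Nat.card_congr (MonoidHom.ofInjective hψinj).toEquiv).symm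
  have hidx : ψ.range.index = 2 := by
    have h1 := Subgroup.card_mul_index ψ.range
    rw [hrange, Nat.card_eq_fintype_card, Fintype.card_perm, Fintype.card_fin] at h1
    have : (5 : ℕ).factorial = 120 := by decide
    rw [this] at h1
    omega
  have heq := Equiv.Perm.eq_alternatingGroup_of_index_eq_two hidx
  exact ⟨(MonoidHom.ofInjective hψinj).trans (MulEquiv.subgroupCongr heq)⟩

end Cfsg.Agent.Lib.Helper17.V4C
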